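import Cfsg.Agent.KSG.SL2Prod
import Cfsg.Agent.INV.TwoInv
import Cfsg.Agent.S3742

/-!
# Quaternion subgroups and solvable subgroups of SL₂
-/

set_option autoImplicit false
set_option linter.unusedSectionVars false
set_option linter.unusedSimpArgs false

namespace CL.GL2

open Matrix Finset Cfsg
open scoped MatrixGroups commutatorElement

variable {F : Type*} [Field F] [Fintype F] [DecidableEq F]

theorem not_isScal_conj {d : SL(2, F)} (hd : ¬ IsScal (d : Matrix (Fin 2) (Fin 2) F)) (g : SL(2, F)) :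
    ¬ IsScal ((g * d * g⁻¹ : SL(2, F)) : Matrix (Fin 2) (Fin 2) F) :=
  (isScal_iff_of_isConj_SL (isConj_iff.2 ⟨g, rfl⟩)).not.2 hd

theorem conj_mem_centSL_conj {d z : SL(2, F)} (g : SL(2, F)) :
    g * z * g⁻¹ ∈ centSL ((g * d * g⁻¹ : SL(2, F)) : Matrix (Fin 2) (Fin 2) F) ↔
      z ∈ centSL (d : Matrix (Fin 2) (Fin 2) F) := by
  rw [mem_centSL_iff, mem_centSL_iff, conj_mul, conj_mul, mul_left_inj, mul_right_inj]

theorem mem_normalizer_centSL {d g : SL(2, F)} (hd : ¬ IsScal (d : Matrix (Fin 2) (Fin 2) F)) :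
    g ∈ Subgroup.normalizer (centSL (d : Matrix (Fin 2) (Fin 2) F) : Set SL(2, F)) ↔
      g * d * g⁻¹ ∈ centSL (d : Matrix (Fin 2) (Fin 2) F) := by
  refine ⟨fun h => (Subgroup.mem_normalizer_iff.1 h d).1 (self_mem_centSL d), fun h => ?_⟩
  rw [Subgroup.mem_normalizer_iff]
  intro z
  conv_rhs => rw [← centSL_eq_of_mem hd (not_isScal_conj hd g) (mem_centSL.1 h)]
  exact (conj_mem_centSL_conj g).symm

theorem commutator_mem_centSL {d g h : SL(2, F)} (hd : ¬ IsScal (d : Matrix (Fin 2) (Fin 2) F))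
    (hg : g ∈ Subgroup.normalizer (centSL (d : Matrix (Fin 2) (Fin 2) F) : Set SL(2, F)))
    (hh : h ∈ Subgroup.normalizer (centSL (d : Matrix (Fin 2) (Fin 2) F) : Set SL(2, F))) :
    ⁅g, h⁆ ∈ centSL (d : Matrix (Fin 2) (Fin 2) F) := by
  have key : ∀ g ∈ Subgroup.normalizer (centSL (d : Matrix (Fin 2) (Fin 2) F) : Set SL(2, F)),
      ∃ s t : F, (g : Matrix (Fin 2) (Fin 2) F) * d = (s • 1 + t • (d : Matrix (Fin 2) (Fin 2) F)) * g ∧
        2 * s + t * (d : Matrix (Fin 2) (Fin 2) F).trace = (d : Matrix (Fin 2) (Fin 2) F).trace ∧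
        s ^ 2 + s * t * (d : Matrix (Fin 2) (Fin 2) F).trace + t ^ 2 = 1 := fun g hg => by
    obtain ⟨s, t, e⟩ := (commute_iff hd _).1 (mem_centSL.1 ((mem_normalizer_centSL hd).1 hg))
    refine ⟨s, t, ?_, ?_, ?_⟩
    · rw [← e, ← Matrix.SpecialLinearGroup.coe_mul, ← Matrix.SpecialLinearGroup.coe_mul,
        inv_mul_cancel_right]
    · rw [← trace_smul_add_smul, ← e, trace_conj_SL]
    · have := (g * d * g⁻¹).2
      rwa [e, det_smul_add_smul, d.2, mul_one] at this
  obtain ⟨s, t, e1, e2, e3⟩ := key g hg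
  obtain ⟨s', t', e1', e2', e3'⟩ := key h hh
  have hc : s' + t' * s = s + t * s' := by
    by_cases h2 : (2 : F) = 0
    · by_cases h0 : (d : Matrix (Fin 2) (Fin 2) F).trace = 0
      · rw [h0] at e3 e3'
        have k1 : s = 1 + t := sub_eq_zero.1 (pow_eq_zero_iff two_ne_zero |>.1 (by
          linear_combination e3 + (1 - s - s * t + t) * h2))
        have k2 : s' = 1 + t' := sub_eq_zero.1 (pow_eq_zero_iff two_ne_zero |>.1 (by
          linear_combination e3' + (1 - s' - s' * t' + t') * h2))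
        rw [k1, k2]
        linear_combination (t' - t) * h2
      · have k1 : t = 1 := mul_right_cancel₀ h0 (by linear_combination e2 - s * h2)
        have k2 : t' = 1 := mul_right_cancel₀ h0 (by linear_combination e2' - s' * h2)
        rw [k1, k2]; ring
    · exact mul_left_cancel₀ h2 (by linear_combination (1 - t) * e2' - (1 - t') * e2)
  have f : ∀ (g h : Matrix (Fin 2) (Fin 2) F) (s t s' t' : F),
      g * d = (s • 1 + t • (d : Matrix (Fin 2) (Fin 2) F)) * g →
      h * d = (s' • 1 + t' • (d : Matrix (Fin 2) (Fin 2) F)) * h →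
      g * h * d = ((s' + t' * s) • 1 + (t * t') • (d : Matrix (Fin 2) (Fin 2) F)) * (g * h) := by
    intro g h s t s' t' e e'
    rw [mul_assoc, e', add_mul, mul_add, Matrix.smul_mul, Matrix.smul_mul, Matrix.mul_smul,
      Matrix.mul_smul, ← mul_assoc g d, e]
    simp only [add_mul, Matrix.smul_mul, one_mul, mul_assoc]
    module
  have k1 := f _ _ _ _ _ _ e1 e1'
  have k2 := f _ _ _ _ _ _ e1' e1
  rw [← hc, mul_comm t' t] at k2
  have k3 : (g * h) * d * (g * h)⁻¹ = (h * g) * d * (h * g)⁻¹ := by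
    have : ∀ (x : SL(2, F)) (m : Matrix (Fin 2) (Fin 2) F), (x : Matrix (Fin 2) (Fin 2) F) * d = m * x →
        ((x * d * x⁻¹ : SL(2, F)) : Matrix (Fin 2) (Fin 2) F) = m := fun x m e => by
      rw [Matrix.SpecialLinearGroup.coe_mul, Matrix.SpecialLinearGroup.coe_mul, e, mul_assoc,
        ← Matrix.SpecialLinearGroup.coe_mul, mul_inv_cancel, Matrix.SpecialLinearGroup.coe_one, mul_one]
    exact SL_ext_iff.2 ((this (g * h) _ k1).trans (this (h * g) _ k2).symm)
  have k4 : (h * g)⁻¹ * (g * h) ∈ centSL (d : Matrix (Fin 2) (Fin 2) F) := by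
    rw [mem_centSL_iff]
    calc _ = (h * g)⁻¹ * ((g * h) * d * (g * h)⁻¹) * (g * h) := by group
      _ = _ := by rw [k3]; group
  have := (Subgroup.mem_normalizer_iff.1 (mul_mem hh hg) _).1 k4
  rwa [show h * g * ((h * g)⁻¹ * (g * h)) * (h * g)⁻¹ = ⁅g, h⁆ by rw [commutatorElement_def]; group] at this

theorem isSolvable_normalizer_centSL {d : SL(2, F)} (hd : ¬ IsScal (d : Matrix (Fin 2) (Fin 2) F)) :
    Group.IsSolvable (Subgroup.normalizer (centSL (d : Matrix (Fin 2) (Fin 2) F) : Set SL(2, F))) := by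
  have : Group.IsSolvable (centSL (d : Matrix (Fin 2) (Fin 2) F)) :=
    Group.isSolvable_of_comm fun x y => Subtype.ext (centSL_comm hd x.2 y.2)
  refine Group.isSolvable_of_ker_le_range (Subgroup.inclusion Subgroup.le_normalizer)
    Abelianization.of ?_
  rw [Abelianization.ker_of, Subgroup.inclusion_range, commutator_def, Subgroup.commutator_le]
  exact fun g _ h _ => commutator_mem_centSL hd g.2 h.2

theorem isSolvable_closure_of_mem {G : Type*} [Group G] {K : Subgroup G} (hK : Group.IsSolvable K)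
    {x y : G} (hx : x ∈ K) (hy : y ∈ K) : Group.IsSolvable (Subgroup.closure ({x, y} : Set G)) :=
  Group.isSolvable_of_isSolvable_injective (Subgroup.inclusion_injective
    ((Subgroup.closure_le K).2 (Set.pair_subset hx hy)))

theorem isSolvable_map_pslMk_iff {H : Subgroup SL(2, F)} :
    Group.IsSolvable (H.map (pslMk F)) ↔ Group.IsSolvable H := by
  refine ⟨fun h => ?_, fun h => Group.isSolvable_of_surjective ((pslMk F).subgroupMap_surjective H)⟩
  have : Group.IsSolvable (Subgroup.center H) :=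
    Group.isSolvable_of_comm fun x y => Subtype.ext (Subgroup.mem_center_iff.1 y.2 x.1)
  refine Group.isSolvable_of_ker_le_range (Subgroup.center H).subtype ((pslMk F).subgroupMap H) ?_
  intro x hx
  rw [Subgroup.range_subtype, Subgroup.mem_center_iff]
  have : (x : SL(2, F)) ∈ Subgroup.center SL(2, F) :=
    mem_center_SL_iff.2 (pslMk_eq_one_iff.1 (congrArg Subtype.val hx))
  exact fun y => Subtype.ext (Subgroup.mem_center_iff.1 this _)

theorem isSolvable_closure_pslMk_iff {x y : SL(2, F)} :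
    Group.IsSolvable (Subgroup.closure ({pslMk F x, pslMk F y} : Set PSL(2, F))) ↔
      Group.IsSolvable (Subgroup.closure ({x, y} : Set SL(2, F))) := by
  rw [← isSolvable_map_pslMk_iff, MonoidHom.map_closure, Set.image_pair]

theorem card_subtype_pslMk (P : PSL(2, F) → Prop) :
    Nat.card {g : SL(2, F) // P (pslMk F g)} =
      Nat.gcd 2 (Fintype.card F - 1) * Nat.card {g : PSL(2, F) // P g} := by
  rw [← card_center_SL2]
  exact QuotientGroup.card_preimage_mk _ {g | P g}

theorem card_solubilizer_congr {G : Type*} [Group G] (e : G ≃* G) (x : G) :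
    Nat.card {y // Group.IsSolvable (Subgroup.closure ({e x, y} : Set G))} =
      Nat.card {y // Group.IsSolvable (Subgroup.closure ({x, y} : Set G))} := by
  refine (Nat.card_congr (e.toEquiv.subtypeEquiv fun y => ?_)).symm
  have h : Subgroup.closure ({e x, e y} : Set G) = (Subgroup.closure ({x, y} : Set G)).map e.toMonoidHom := by
    rw [MonoidHom.map_closure, Set.image_pair]; rfl
  show _ ↔ Group.IsSolvable (Subgroup.closure ({e x, e y} : Set G))
  rw [h]
  have e' := Subgroup.equivMapOfInjective (Subgroup.closure ({x, y} : Set G)) e.toMonoidHom e.injective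
  exact ⟨fun _ => Group.isSolvable_of_surjective (e.toMonoidHom.subgroupMap_surjective _), fun _ =>
    Group.isSolvable_of_isSolvable_injective (f := e'.toMonoidHom) e'.injective⟩

/-- An anticommuting pair of elements of order four. -/
structure QP (a w : SL(2, F)) : Prop where
  sq : a * a = -1
  wsq : w * w = -1
  anti : w * a = -(a * w)

namespace QP

variable {a w : SL(2, F)}

theorem conj (h : QP a w) : w * a * w⁻¹ = a⁻¹ := by
  rw [h.anti, inv_eq_neg_of_mul_self h.sq, neg_mul, mul_inv_cancel_right]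

theorem mul_sq (h : QP a w) : a * w * (a * w) = -1 := by
  rw [mul_assoc, ← mul_assoc w, h.anti, neg_mul, mul_neg, mul_assoc, h.wsq, ← mul_assoc, h.sq]
  simp

theorem not_mem (h : QP a w) (h2 : (2 : F) ≠ 0) : w ∉ centSL (a : Matrix (Fin 2) (Fin 2) F) :=
  Syl2.not_commute h2 h.anti

theorem orderOf_eq (h2 : (2 : F) ≠ 0) (h : a * a = -1) : orderOf a = 4 :=
  orderOf_eq_prime_pow (p := 2) (n := 1) (by rw [pow_one, pow_two, h]; exact neg_one_ne_one_SL h2)
    (by rw [pow_succ, pow_one, pow_mul, pow_two a, h]; simp)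

theorem equiv (h : QP a w) (h2 : (2 : F) ≠ 0) :
    Nonempty (Subgroup.closure ({a, w} : Set SL(2, F)) ≃* QuaternionGroup 2) :=
  CL.TwoInv.nonempty_closure_mulEquiv_quaternion (orderOf_eq h2 h.sq) (by rw [h.wsq, pow_two, h.sq])
    h.conj fun e => h.not_mem h2 ((Subgroup.zpowers_le).2 (self_mem_centSL a) e)

theorem card (h : QP a w) (h2 : (2 : F) ≠ 0) : Nat.card (Subgroup.closure ({a, w} : Set SL(2, F))) = 8 := by
  obtain ⟨e⟩ := h.equiv h2
  rw [Nat.card_congr e.toEquiv, Nat.card_eq_fintype_card, QuaternionGroup.card]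

theorem mem_center (h : QP a w) (h2 : (2 : F) ≠ 0) {x : SL(2, F)} (h1 : x * a = a * x)
    (h3 : x * w = w * x) : x ∈ Subgroup.center SL(2, F) := by
  have := conj_eq_inv_of_conj_eq_inv (not_isScal_of_mul_self h2 h.sq) h.conj (mem_centSL_iff.2 h1)
  rw [← h3, mul_inv_cancel_right] at this
  exact mem_center_SL_iff'.2 ((sq_eq_one_iff_SL h2).1 (by
    rw [pow_two]; exact eq_inv_iff_mul_eq_one.1 this))

theorem card_normalizer_dvd (h : QP a w) (h2 : (2 : F) ≠ 0) :
    Nat.card (Subgroup.normalizer (Subgroup.closure ({a, w} : Set SL(2, F)) : Set SL(2, F))) ∣ 48 := by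
  obtain ⟨e⟩ := h.equiv h2
  obtain ⟨e'⟩ := Cfsg.Agent.S3742.result
  let φ := (Subgroup.closure ({a, w} : Set SL(2, F))).normalizerMonoidHom
  rw [← φ.ker.card_mul_index, Subgroup.index_ker]
  refine mul_dvd_mul (a := Nat.card φ.ker) (b := 2) (d := 24) ?_ ?_
  · refine Dvd.dvd.trans ?_ (card_center_SL2.trans (gcd_odd h2)).dvd
    rw [← Subgroup.card_map_of_injective (Subgroup.subtype_injective _)]
    refine Subgroup.card_dvd_of_le ?_
    rintro _ ⟨x, hx, rfl⟩
    rw [SetLike.mem_coe, Subgroup.normalizerMonoidHom_ker, Subgroup.mem_subgroupOf,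
      Subgroup.mem_centralizer_iff] at hx
    exact h.mem_center h2 (hx a (Subgroup.subset_closure (by simp))).symm
      (hx w (Subgroup.subset_closure (by simp))).symm
  · refine (Subgroup.card_subgroup_dvd_card _).trans (dvd_of_eq ?_)
    rw [Nat.card_congr ((MulAut.congr e).trans e').toEquiv, Nat.card_eq_fintype_card, Fintype.card_perm]
    rfl

theorem exists_omega (h : QP a w) (h2 : (2 : F) ≠ 0) :
    ∃ o : SL(2, F), o * a * o⁻¹ = w ∧ o * w * o⁻¹ = a * w := by
  have ha := SL_ext_iff.1 h.sq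
  have hw := SL_ext_iff.1 h.wsq
  have hwa := SL_ext_iff.1 h.anti
  have ta := trace_eq_zero_of_mul_self h.sq (not_isScal_of_mul_self h2 h.sq)
  have tw := trace_eq_zero_of_mul_self h.wsq (not_isScal_of_mul_self h2 h.wsq)
  have taw := trace_eq_zero_of_mul_self h.mul_sq (not_isScal_of_mul_self h2 h.mul_sq)
  simp only [Matrix.SpecialLinearGroup.coe_mul, Matrix.SpecialLinearGroup.coe_neg,
    Matrix.SpecialLinearGroup.coe_one] at ha hw hwa taw
  set A := (a : Matrix (Fin 2) (Fin 2) F)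
  set W := (w : Matrix (Fin 2) (Fin 2) F)
  have e1 : ∀ X : Matrix (Fin 2) (Fin 2) F, A * (A * X) = -X := fun X => by
    rw [← mul_assoc, ha, neg_one_mul]
  have e2 : ∀ X : Matrix (Fin 2) (Fin 2) F, W * (W * X) = -X := fun X => by
    rw [← mul_assoc, hw, neg_one_mul]
  have e3 : ∀ X : Matrix (Fin 2) (Fin 2) F, W * (A * X) = -(A * (W * X)) := fun X => by
    rw [← mul_assoc, hwa, neg_mul, mul_assoc]
  let N : Matrix (Fin 2) (Fin 2) F := 1 + A + W + A * W
  have hN : N * N = (2 : F) • N - (4 : F) • 1 := by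
    simp only [N, add_mul, mul_add, mul_assoc, one_mul, mul_one, ha, hw, hwa, e1, e2, e3, mul_neg,
      neg_neg]
    module
  have tN : N.trace = 2 := by simp [N, ta, tw, taw]
  have dN : N.det = 4 := by
    have := sq_eq N
    rw [hN, tN, sub_right_inj] at this
    simpa using (congrFun (congrFun this 0) 0).symm
  refine ⟨mkSL ((2 : F)⁻¹ • N) (by rw [det_smul, dN, Fintype.card_fin]; field_simp; norm_num), ?_, ?_⟩
  all_goals
    rw [mul_inv_eq_iff_eq_mul]
    refine SL_ext_iff.2 ?_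
    simp only [Matrix.SpecialLinearGroup.coe_mul, coe_mkSL, Matrix.smul_mul, Matrix.mul_smul]
    congr 1
    first | change N * A = W * N | change N * W = A * W * N
    simp only [N, add_mul, mul_add, mul_assoc, one_mul, mul_one, ha, hw, hwa, e1, e2, e3, mul_neg,
      neg_neg]
    abel

end QP

theorem mem_normalizer_closure_pair {G : Type*} [Group G] [Finite G] {a w g : G}
    (h1 : g * a * g⁻¹ ∈ Subgroup.closure ({a, w} : Set G))
    (h2 : g * w * g⁻¹ ∈ Subgroup.closure ({a, w} : Set G)) :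
    g ∈ Subgroup.normalizer (Subgroup.closure ({a, w} : Set G) : Set G) := by
  refine Subgroup.mem_normalizer_fintype fun t ht => ?_
  have : (Subgroup.closure ({a, w} : Set G)).map (MulAut.conj g).toMonoidHom ≤
      Subgroup.closure ({a, w} : Set G) := by
    rw [MonoidHom.map_closure, Set.image_pair, Subgroup.closure_le]
    exact Set.pair_subset h1 h2
  exact this (Subgroup.mem_map_of_mem _ ht)

theorem QP.three_dvd {a w : SL(2, F)} (h : QP a w) (h2 : (2 : F) ≠ 0) :
    3 ∣ Nat.card (Subgroup.normalizer (Subgroup.closure ({a, w} : Set SL(2, F)) : Set SL(2, F))) := by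
  obtain ⟨o, h1, h3⟩ := h.exists_omega h2
  have ha : a ∈ Subgroup.closure ({a, w} : Set SL(2, F)) := Subgroup.subset_closure (by simp)
  have hw : w ∈ Subgroup.closure ({a, w} : Set SL(2, F)) := Subgroup.subset_closure (by simp)
  refine Dvd.dvd.trans ?_ (Subgroup.orderOf_dvd_natCard _
    (mem_normalizer_closure_pair (g := o) (h1 ▸ hw) (h3 ▸ mul_mem ha hw)))
  have h4 : o * (a * w) * o⁻¹ = a := by
    rw [← conj_mul, h1, h3, ← mul_assoc, h.anti, neg_mul, mul_assoc, h.wsq]; simp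
  have h5 : o ^ 3 ∈ centSL (a : Matrix (Fin 2) (Fin 2) F) := by
    rw [mem_centSL_iff, ← mul_inv_eq_iff_eq_mul]
    calc _ = o * (o * (o * a * o⁻¹) * o⁻¹) * o⁻¹ := by rw [pow_three]; group
      _ = _ := by rw [h1, h3, h4]
  by_contra hc
  have : o ∈ centSL (a : Matrix (Fin 2) (Fin 2) F) := (Subgroup.zpowers_le.2 h5)
    (mem_zpowers_pow_iff.2 ((Nat.Prime.coprime_iff_not_dvd Nat.prime_three).2 hc))
  exact h.not_mem h2 (h1 ▸ mul_mem (mul_mem this (self_mem_centSL a)) (inv_mem this))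

theorem QP.sixteen_dvd {a w : SL(2, F)} (h : QP a w) (h2 : (2 : F) ≠ 0)
    (h8 : 8 ∣ Nat.card (centSL (a : Matrix (Fin 2) (Fin 2) F))) :
    16 ∣ Nat.card (Subgroup.normalizer (Subgroup.closure ({a, w} : Set SL(2, F)) : Set SL(2, F))) := by
  have hr := reg_of_mul_self h2 h.sq
  have ha : a ∈ Subgroup.closure ({a, w} : Set SL(2, F)) := Subgroup.subset_closure (by simp)
  have hw : w ∈ Subgroup.closure ({a, w} : Set SL(2, F)) := Subgroup.subset_closure (by simp)
  obtain ⟨t, ht, ho⟩ := hr.exists_orderOf_pslMk (m := 4) (by rwa [gcd_odd h2])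
  have h1 : orderOf (pslMk F (t ^ 2)) = 2 := by
    rw [map_pow, orderOf_pow_of_dvd two_ne_zero (by rw [ho]; decide), ho]
  have h3 := (orderOf_pslMk_eq_two_iff h2).1 h1
  have h4 : t ^ 2 ∈ Subgroup.closure ({a, w} : Set SL(2, F)) := by
    rcases hr.eq_or_eq_inv (pow_mem ht 2) (h3.trans
      (trace_eq_zero_of_mul_self h.sq hr.not_isScal).symm) with e | e <;> rw [e]
    exacts [ha, inv_mem ha]
  have h5 := conj_eq_inv_of_conj_eq_inv hr.not_isScal h.conj ht
  have h6 : t ^ 4 = -1 := by rw [← sq_eq_neg_one_of_trace h3, ← pow_add]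
  have h7 : orderOf t = 8 := orderOf_eq_prime_pow (p := 2) (n := 2)
    (by rw [show 2 ^ 2 = 4 by rfl, h6]; exact neg_one_ne_one_SL h2)
    (by rw [show 2 ^ (2 + 1) = 4 * 2 by rfl, pow_mul, h6]; simp)
  obtain ⟨e⟩ := CL.TwoInv.nonempty_closure_mulEquiv_quaternion (n := 4) h7 (h.wsq.trans h6.symm) h5
    fun e => h.not_mem h2 ((Subgroup.zpowers_le).2 ht e)
  have hc : Nat.card (Subgroup.closure ({t, w} : Set SL(2, F))) = 16 := by
    rw [Nat.card_congr e.toEquiv, Nat.card_eq_fintype_card, QuaternionGroup.card]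
  rw [← hc]
  refine Subgroup.card_dvd_of_le ((Subgroup.closure_le _).2 (Set.pair_subset ?_ (Subgroup.le_normalizer hw)))
  refine mem_normalizer_closure_pair (by rwa [mem_centSL_iff.1 ht, mul_inv_cancel_right]) ?_
  rw [show t * w * t⁻¹ = t * (w * t * w⁻¹)⁻¹ * w by group, h5, inv_inv, ← pow_two]
  exact mul_mem h4 hw

theorem exists_QP (h2 : (2 : F) ≠ 0) : ∃ a w : SL(2, F), QP a w := by
  obtain ⟨a, w, h⟩ := exists_syl2 (odd_of_two_ne_zero h2) (default : Sylow 2 SL(2, F))
  exact ⟨a, w, h.sq, h.wsq h2, h.anti h2⟩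

/-- Subgroups all of whose elements commute with `a` up to sign and have trace zero or are scalar. -/
theorem quat_cases (h2 : (2 : F) ≠ 0) {A : Subgroup SL(2, F)}
    (hA : ∀ t ∈ A, ¬ IsScal (t : Matrix (Fin 2) (Fin 2) F) → (t : Matrix (Fin 2) (Fin 2) F).trace = 0)
    {a : SL(2, F)} (ha : a ∈ A) (hs : ¬ IsScal (a : Matrix (Fin 2) (Fin 2) F)) :
    A ≤ centSL (a : Matrix (Fin 2) (Fin 2) F) ∨ ∃ w, QP a w ∧ A = Subgroup.closure {a, w} ∧
      ∀ t ∈ A, (t = 1 ∨ t = -1 ∨ t = a ∨ t = -a) ∨ (t = w ∨ t = -w ∨ t = a * w ∨ t = -(a * w)) := by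
  have haa := sq_eq_neg_one_of_trace (hA a ha hs)
  have hr := reg_of_mul_self h2 haa
  have hc : ∀ t, IsScal ((t : SL(2, F)) : Matrix (Fin 2) (Fin 2) F) →
      t ∈ centSL (a : Matrix (Fin 2) (Fin 2) F) := fun t ht => center_le_centSL _ (mem_center_SL_iff.2 ht)
  have anti : ∀ t ∈ A, t ∉ centSL (a : Matrix (Fin 2) (Fin 2) F) → t * t = -1 ∧ t * a = -(a * t) := by
    intro t ht h
    have h1 := sq_eq_neg_one_of_trace (hA t ht fun e => h (hc t e))
    have h3 := sq_eq_neg_one_of_trace (hA _ (mul_mem ha ht) fun e => h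
      ((Subgroup.mul_mem_cancel_left _ (self_mem_centSL a)).1 (hc _ e)))
    refine ⟨h1, ?_⟩
    rw [← inv_eq_neg_of_mul_self h3, _root_.mul_inv_rev, inv_eq_neg_of_mul_self h1,
      inv_eq_neg_of_mul_self haa, neg_mul_neg]
  have cent : ∀ t ∈ A, t ∈ centSL (a : Matrix (Fin 2) (Fin 2) F) → t = 1 ∨ t = -1 ∨ t = a ∨ t = -a := by
    intro t ht h
    by_cases e : IsScal (t : Matrix (Fin 2) (Fin 2) F)
    · have := isScal_SL_iff.1 e
      tauto
    · have := hr.eq_or_eq_inv h ((hA t ht e).trans (hA a ha hs).symm)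
      rw [inv_eq_neg_of_mul_self haa] at this
      tauto
  by_cases hle : A ≤ centSL (a : Matrix (Fin 2) (Fin 2) F)
  · exact Or.inl hle
  obtain ⟨w, hw, hw'⟩ := SetLike.not_le_iff_exists.1 hle
  obtain ⟨w1, w2⟩ := anti w hw hw'
  have key : ∀ t ∈ A, (t = 1 ∨ t = -1 ∨ t = a ∨ t = -a) ∨ (t = w ∨ t = -w ∨ t = a * w ∨ t = -(a * w)) := by
    intro t ht
    by_cases h : t ∈ centSL (a : Matrix (Fin 2) (Fin 2) F)
    · exact Or.inl (cent t ht h)
    · right
      have e : t = -(t * w * w) := by rw [mul_assoc, w1]; simp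
      have := cent _ (mul_mem ht hw) (mem_centSL_iff.2 (by
        rw [mul_assoc, w2, mul_neg, ← mul_assoc, (anti t ht h).2, neg_mul, neg_neg, mul_assoc]))
      rcases this with e' | e' | e' | e' <;> rw [e'] at e <;> simp [e]
  refine Or.inr ⟨w, ⟨haa, w1, w2⟩, le_antisymm (fun t ht => ?_)
    ((Subgroup.closure_le _).2 (Set.pair_subset ha hw)), key⟩
  have ma : a ∈ Subgroup.closure ({a, w} : Set SL(2, F)) := Subgroup.subset_closure (by simp)
  have mw : w ∈ Subgroup.closure ({a, w} : Set SL(2, F)) := Subgroup.subset_closure (by simp)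
  have mn : ∀ x ∈ Subgroup.closure ({a, w} : Set SL(2, F)), -x ∈ Subgroup.closure ({a, w} : Set SL(2, F)) :=
    fun x hx => by rw [← neg_one_mul, ← haa]; exact mul_mem (mul_mem ma ma) hx
  rcases key t ht with (e | e | e | e) | (e | e | e | e) <;> rw [e]
  exacts [one_mem _, mn _ (one_mem _), ma, mn _ ma, mw, mn _ mw, mul_mem ma mw, mn _ (mul_mem ma mw)]

theorem le_normalizer_centSL {H A : Subgroup SL(2, F)} (hH : H ≤ Subgroup.normalizer (A : Set SL(2, F)))
    {a : SL(2, F)} (ha : a ∈ A) (hs : ¬ IsScal (a : Matrix (Fin 2) (Fin 2) F))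
    (hA : A ≤ centSL (a : Matrix (Fin 2) (Fin 2) F)) :
    H ≤ Subgroup.normalizer (centSL (a : Matrix (Fin 2) (Fin 2) F) : Set SL(2, F)) := fun _ hh =>
  (mem_normalizer_centSL hs).2 (hA ((Subgroup.mem_normalizer_iff.1 (hH hh) a).1 ha))

/-- Solvable subgroups of SL₂. -/
theorem solvable_cases {H : Subgroup SL(2, F)} (hH : Group.IsSolvable H) :
    H ≤ Subgroup.center SL(2, F) ∨
      (∃ d ∈ H, ¬ IsScal (d : Matrix (Fin 2) (Fin 2) F) ∧
        H ≤ Subgroup.normalizer (centSL (d : Matrix (Fin 2) (Fin 2) F) : Set SL(2, F))) ∨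
      ((2 : F) ≠ 0 ∧ ∃ a ∈ H, ∃ w ∈ H, QP a w ∧
        H ≤ Subgroup.normalizer (Subgroup.closure ({a, w} : Set SL(2, F)) : Set SL(2, F))) := by
  classical
  have hex : ∃ n, (derivedSeries H n).map H.subtype ≤ Subgroup.center SL(2, F) := by
    obtain ⟨n, hn⟩ := hH.solvable
    exact ⟨n, by rw [hn, Subgroup.map_bot]; exact bot_le⟩
  obtain h0 | ⟨n, hn⟩ : Nat.find hex = 0 ∨ ∃ n, Nat.find hex = n + 1 :=
    (Nat.eq_zero_or_pos _).imp_right fun h => ⟨_, (Nat.succ_pred_eq_of_pos h).symm⟩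
  · have := Nat.find_spec hex
    rw [h0, derivedSeries_zero, ← MonoidHom.range_eq_map, Subgroup.range_subtype] at this
    exact Or.inl this
  have h1 := Nat.find_spec hex
  have h3 := Nat.find_min hex (m := n) (by omega)
  rw [hn, derivedSeries_succ, Subgroup.map_commutator, Subgroup.commutator_le] at h1
  have hN : H ≤ Subgroup.normalizer (((derivedSeries H n).map H.subtype : Subgroup SL(2, F)) : Set SL(2, F)) := by
    have := derivedSeries_normal H n
    intro h hh
    refine Subgroup.mem_normalizer_fintype ?_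
    rintro _ ⟨x, hx, rfl⟩
    exact ⟨_, this.conj_mem x hx ⟨h, hh⟩, rfl⟩
  have hle : (derivedSeries H n).map H.subtype ≤ H := Subgroup.map_subtype_le _
  generalize (derivedSeries H n).map H.subtype = A at h1 h3 hN hle
  have hp : ∀ a ∈ A, A ≤ pcent a := fun a ha t ht => by
    rw [mem_pcent, ← pslMk_eq_iff, ← mul_inv_eq_one, ← map_inv, ← map_mul, pslMk_eq_one_iff,
      ← mem_center_SL_iff, _root_.mul_inv_rev, ← mul_assoc]
    exact h1 t ht a ha
  right
  obtain ⟨a, ha, hs⟩ := SetLike.not_le_iff_exists.1 h3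
  rw [mem_center_SL_iff] at hs
  by_cases h2 : (2 : F) = 0
  · exact Or.inl ⟨a, hle ha, hs, le_normalizer_centSL hN ha hs (pcent_eq_centSL_even h2 a ▸ hp a ha)⟩
  by_cases hA : ∀ t ∈ A, ¬ IsScal (t : Matrix (Fin 2) (Fin 2) F) → (t : Matrix (Fin 2) (Fin 2) F).trace = 0
  · rcases quat_cases h2 hA ha hs with h | ⟨w, h, e, -⟩
    · exact Or.inl ⟨a, hle ha, hs, le_normalizer_centSL hN ha hs h⟩
    · exact Or.inr ⟨h2, a, hle ha, w, hle (e ▸ Subgroup.subset_closure (by simp)), h, e ▸ hN⟩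
  · push Not at hA
    obtain ⟨t, ht, hs, h0⟩ := hA
    exact Or.inl ⟨t, hle ht, hs, le_normalizer_centSL hN ht hs (pcent_eq_centSL h2 h0 ▸ hp t ht)⟩

end CL.GL2
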