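import Mathlib

/-!
# Linear algebra for lower bounds on degrees: Clifford relations and weight vectors
-/

set_option autoImplicit false

namespace CL.Wag

open Module

universe v w

variable {K : Type w} [Field K]

section Basic

variable {V : Type*} [AddCommGroup V] [Module K V] [FiniteDimensional K V]

theorem half {e f : End K V} (h1 : e * e = 0) (h2 : e * f + f * e = 1) :
    finrank K V = 2 * finrank K (LinearMap.ker e) := by
  have : LinearMap.range e = LinearMap.ker e := by
    refine le_antisymm ?_ fun v hv => ⟨f v, ?_⟩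
    · rintro _ ⟨v, rfl⟩
      exact LinearMap.congr_fun h1 v
    · have := LinearMap.congr_fun h2 v
      rwa [LinearMap.add_apply, End.mul_apply, End.mul_apply, LinearMap.mem_ker.1 hv, map_zero,
        add_zero] at this
  rw [← LinearMap.finrank_range_add_finrank_ker e, this, two_mul]

theorem quat [IsAlgClosed K] (h2 : (2 : K) ≠ 0) {a b : End K V} (ha : a * a = -1) (hb : b * b = -1)
    (hab : a * b = -(b * a)) : ∃ t : K, finrank K V = 2 * finrank K (LinearMap.ker (a + t • b)) := by
  obtain ⟨t, ht⟩ := IsAlgClosed.exists_eq_mul_self (-1 : K)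
  refine ⟨t, half (f := (-(2 : K)⁻¹) • a) ?_ ?_⟩
  · simp only [add_mul, mul_add, smul_mul_assoc, mul_smul_comm, smul_smul, ha, hb, hab]
    linear_combination (norm := module) ht • (1 : End K V)
  · simp only [add_mul, mul_add, smul_mul_assoc, mul_smul_comm, smul_smul, ha, hab]
    linear_combination (norm := module) (mul_inv_cancel₀ h2) • (1 : End K V)

theorem four_dvd [IsAlgClosed K] (h2 : (2 : K) ≠ 0) {a b c d : End K V} (ha : a * a = -1)
    (hb : b * b = -1) (hab : a * b = -(b * a)) (hc : c * c = -1) (hd : d * d = -1)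
    (hcd : c * d = -(d * c)) (h1 : Commute a c) (h3 : Commute b c) (h4 : Commute a d)
    (h5 : Commute b d) : 4 ∣ finrank K V := by
  obtain ⟨t, ht⟩ := quat h2 ha hb hab
  have key : ∀ {x : End K V}, Commute a x → Commute b x →
      ∀ v ∈ LinearMap.ker (a + t • b), x v ∈ LinearMap.ker (a + t • b) := fun {x} h h' v hv => by
    rw [LinearMap.mem_ker, ← End.mul_apply, (h.add_left (h'.smul_left t)).eq, End.mul_apply,
      LinearMap.mem_ker.1 hv, map_zero]
  obtain ⟨s, hs⟩ := quat h2 (a := c.restrict (key h1 h3)) (b := d.restrict (key h4 h5))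
    (LinearMap.ext fun v => Subtype.ext (LinearMap.congr_fun hc v))
    (LinearMap.ext fun v => Subtype.ext (LinearMap.congr_fun hd v))
    (LinearMap.ext fun v => Subtype.ext (LinearMap.congr_fun hcd v))
  rw [ht, hs, ← mul_assoc]
  exact dvd_mul_right _ _

/-- nonzero common eigenvectors with distinct weights -/
theorem card_le_of_weights {A ι : Type*} [Monoid A] [Fintype ι] (τ : A →* End K V) (v : ι → V)
    (h0 : ∀ i, v i ≠ 0) (h1 : ∀ i a, ∃ c : K, τ a (v i) = c • v i)
    (h2 : ∀ i j, (∀ a (c : K), τ a (v i) = c • v i → τ a (v j) = c • v j) → i = j) :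
    Fintype.card ι ≤ finrank K V := by
  choose c hc using h1
  let χ : ι → A →* K := fun i =>
    { toFun := c i
      map_one' := smul_left_injective K (h0 i) (by simp only [← hc, map_one, End.one_apply, one_smul])
      map_mul' := fun a b => smul_left_injective K (h0 i) (by
        simp only [← hc, map_mul, End.mul_apply]
        rw [hc i b, map_smul, hc i a, smul_smul, mul_comm]) }
  have hχ : Function.Injective χ := fun i j h => h2 i j fun a d hd => by
    rw [hc, ← smul_left_injective K (h0 i) ((hc i a).symm.trans hd)]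
    exact congrArg (· • v j) (DFunLike.congr_fun h a).symm
  refine LinearIndependent.fintype_card_le_finrank (b := v) (Fintype.linearIndependent_iff.2
    fun g hg i => ?_)
  refine (smul_eq_zero.1 ((forall_dual_apply_eq_zero_iff K _).1 fun f => ?_)).resolve_right (h0 i)
  refine Fintype.linearIndependent_iff.1 ((linearIndependent_monoidHom A K).comp χ hχ)
    (fun i => f (g i • v i)) (funext fun a => ?_) i
  have := congrArg (fun w => f (τ a w)) hg
  simp only [map_sum, map_smul, hc, map_zero, smul_eq_mul] at this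
  simp only [Finset.sum_apply, Pi.smul_apply, Function.comp_apply, map_smul, smul_eq_mul,
    Pi.zero_apply, ← this]
  exact Finset.sum_congr rfl fun j _ => by change _ * c j a = _; ring

theorem exists_eigenvector [IsAlgClosed K] [Nontrivial V] {ι : Type*} (M : ι → End K V)
    (h : ∀ i j, Commute (M i) (M j)) : ∃ v ≠ 0, ∀ i, ∃ c : K, M i v = c • v := by
  obtain ⟨W, ⟨hW, hW0⟩, hmin⟩ := exists_minimal_of_wellFoundedLT
    (fun W : Submodule K V => (∀ i, ∀ v ∈ W, M i v ∈ W) ∧ W ≠ ⊥) ⟨⊤, by simp, top_ne_bot⟩
  obtain ⟨v, hv, hv0⟩ := (Submodule.ne_bot_iff W).1 hW0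
  refine ⟨v, hv0, fun i => ?_⟩
  have : Nontrivial W := Submodule.nontrivial_iff_ne_bot.2 hW0
  obtain ⟨c, hc⟩ := End.exists_eigenvalue ((M i).restrict (hW i))
  obtain ⟨w, hw⟩ := hc.exists_hasEigenvector
  refine ⟨c, End.mem_eigenspace_iff.1 (hmin (y := W ⊓ (M i).eigenspace c) ⟨fun j u hu =>
    ⟨hW j u hu.1, End.mem_eigenspace_iff.2 ?_⟩, (Submodule.ne_bot_iff _).2 ⟨w, ⟨w.2,
      End.mem_eigenspace_iff.2 (congrArg Subtype.val hw.apply_eq_smul)⟩,
      fun h => hw.2 (Subtype.ext h)⟩⟩ inf_le_left hv).2⟩
  rw [← End.mul_apply, (h i j).eq, End.mul_apply, End.mem_eigenspace_iff.1 hu.2, map_smul]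

theorem exists_ext {L H : Type*} [Field L] [Monoid H] (f : K →+* L) (τ : H →* End K V) :
    ∃ ρ : H →* End L (Fin (finrank K V) → L), ∀ h, ρ h = 1 ↔ τ h = 1 := by
  let b := Module.finBasis K V
  refine ⟨((Matrix.toLinAlgEquiv' (R := L)).toRingEquiv.toRingHom.comp (f.mapMatrix.comp
    (LinearMap.toMatrixAlgEquiv b).toRingEquiv.toRingHom)).toMonoidHom.comp τ, fun h => ?_⟩
  have hi : Function.Injective ((Matrix.toLinAlgEquiv' (R := L)).toRingEquiv.toRingHom.comp
      (f.mapMatrix.comp (LinearMap.toMatrixAlgEquiv b).toRingEquiv.toRingHom)) :=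
    (Matrix.toLinAlgEquiv' (R := L)).injective.comp ((Matrix.map_injective f.injective).comp
      (LinearMap.toMatrixAlgEquiv b).injective)
  exact map_eq_one_iff _ hi

end Basic

theorem clif [IsAlgClosed K] (k : ℕ) : ∀ {M : Type w} [AddCommGroup M] [Module K M]
    [FiniteDimensional K M] {V : Type v} [AddCommGroup V] [Module K V] [FiniteDimensional K V]
    [Nontrivial V] (γ : M →ₗ[K] End K V) (B : M →ₗ[K] M →ₗ[K] K),
    (∀ m m', γ m * γ m' + γ m' * γ m = B m m' • (1 : End K V)) →
    (∀ m, ∃ c : K, γ m * γ m = c • (1 : End K V)) → (∀ m, (∀ m', B m m' = 0) → m = 0) →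
    2 * k ≤ finrank K M → 2 ^ k ≤ finrank K V := by
  induction k with
  | zero => intros; exact finrank_pos
  | succ k ih =>
  intro M _ _ _ V _ _ _ _ γ B h1 h2 h3 h4
  have hs : ∀ m m', B m m' = B m' m := fun m m' =>
    smul_left_injective K (one_ne_zero (α := End K V)) (by simp only [← h1, add_comm])
  obtain ⟨e, he0, he⟩ : ∃ e ≠ 0, γ e * γ e = 0 := by
    obtain ⟨u, hu⟩ := exists_linearIndependent_of_le_finrank (R := K) (M := M) (n := 2) (by omega)
    obtain ⟨a, ha⟩ := h2 (u 0)
    obtain ⟨b, hb⟩ := h2 (u 1)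
    by_cases hb0 : b = 0
    · exact ⟨u 1, hu.ne_zero 1, by rw [hb, hb0, zero_smul]⟩
    obtain ⟨t, ht⟩ := IsAlgClosed.exists_root (Polynomial.C b * Polynomial.X ^ 2 +
      Polynomial.C (B (u 0) (u 1)) * Polynomial.X + Polynomial.C a) (by
        rw [Polynomial.degree_quadratic hb0]; decide)
    simp only [Polynomial.IsRoot.def, Polynomial.eval_add, Polynomial.eval_mul, Polynomial.eval_C,
      Polynomial.eval_pow, Polynomial.eval_X] at ht
    refine ⟨u 0 + t • u 1, fun h => one_ne_zero (Fintype.linearIndependent_iff.1 hu ![1, t]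
      (by simpa using h) 0), ?_⟩
    simp only [map_add, map_smul, add_mul, mul_add, smul_mul_assoc, mul_smul_comm, ha, hb]
    linear_combination (norm := module) t • h1 (u 0) (u 1) + ht • (1 : End K V)
  obtain ⟨f, hf⟩ : ∃ f, B e f = 1 := by
    by_contra! h
    refine he0 (h3 e fun m => by_contra fun hm => h ((B e m)⁻¹ • m) ?_)
    rw [map_smul, smul_eq_mul, inv_mul_cancel₀ hm]
  have hee : B e e = 0 :=
    smul_left_injective K (one_ne_zero (α := End K V)) (by simp only [← h1, he, add_zero, zero_smul])
  have h5 := half he ((h1 e f).trans (by rw [hf, one_smul]))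
  let M' := LinearMap.ker ((B e).prod (B f))
  have hM : ∀ m, m ∈ M' ↔ B e m = 0 ∧ B f m = 0 := fun m => Prod.ext_iff
  have h6 : ∀ m : M', ∀ v ∈ LinearMap.ker (γ e), γ m v ∈ LinearMap.ker (γ e) := fun m v hv => by
    have := LinearMap.congr_fun (h1 e m) v
    rwa [((hM _).1 m.2).1, zero_smul, LinearMap.add_apply, End.mul_apply, End.mul_apply,
      LinearMap.mem_ker.1 hv, map_zero, add_zero] at this
  have : Nontrivial (LinearMap.ker (γ e)) := (finrank_pos_iff (R := K)).1 (by
    have := finrank_pos (R := K) (M := V); omega)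
  have h7 := ih (M := M') (V := LinearMap.ker (γ e))
    { toFun := fun m => (γ m).restrict (h6 m)
      map_add' := fun m m' => by ext; simp
      map_smul' := fun c m => by ext; simp }
    (B.domRestrict₁₂ M' M')
    (fun m m' => LinearMap.ext fun v => Subtype.ext (LinearMap.congr_fun (h1 m m') v))
    (fun m => by
      obtain ⟨c, hc⟩ := h2 m
      exact ⟨c, LinearMap.ext fun v => Subtype.ext (LinearMap.congr_fun hc v)⟩)
    (fun m hm => Subtype.ext (h3 _ fun m' => by
      have := hm ⟨m' - B e m' • f - (B f m' - B e m' * B f f) • e, (hM _).2 (by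
        simp [hf, hee, hs f e])⟩
      rw [LinearMap.domRestrict₁₂_apply] at this
      simpa [hs m e, hs m f, ((hM _).1 m.2).1, ((hM _).1 m.2).2] using this)) (by
      have h8 := LinearMap.finrank_range_add_finrank_ker ((B e).prod (B f))
      have h9 := (LinearMap.range ((B e).prod (B f))).finrank_le
      simp only [finrank_prod, finrank_self] at h9
      change 2 * k ≤ finrank K (LinearMap.ker _)
      omega)
  omega

theorem clif_fam [IsAlgClosed K] {V : Type*} [AddCommGroup V] [Module K V] [FiniteDimensional K V]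
    [Nontrivial V] {m k : ℕ} (y : Fin m → End K V) {a b : K} (ha : ∀ i, y i * y i = a • 1)
    (hb : ∀ i j, i ≠ j → y i * y j + y j * y i = b • 1) (h1 : 2 * a - b ≠ 0)
    (h2 : 2 * a - b + m * b ≠ 0) (hk : 2 * k ≤ m) : 2 ^ k ≤ finrank K V := by
  let G : Matrix (Fin m) (Fin m) K := fun i j => if i = j then 2 * a else b
  have hG : ∀ i j, y i * y j + y j * y i = G i j • 1 := fun i j => by
    by_cases h : i = j
    · simp only [G, h, ha, if_true]; module
    · simp only [G, h, hb i j h, if_false]
  have h3 : ∀ u w : Fin m → K, Fintype.linearCombination K y u * Fintype.linearCombination K y w +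
      Fintype.linearCombination K y w * Fintype.linearCombination K y u =
        Matrix.toLinearMap₂' K G u w • 1 := fun u w => by
    simp only [Fintype.linearCombination_apply, Matrix.toLinearMap₂'_apply, Finset.sum_mul_sum,
      Finset.sum_smul]
    rw [Finset.sum_comm (f := fun i j => w i • y i * u j • y j), ← Finset.sum_add_distrib]
    refine Finset.sum_congr rfl fun i _ => ?_
    rw [← Finset.sum_add_distrib]
    refine Finset.sum_congr rfl fun j _ => ?_
    simp only [smul_mul_assoc, mul_smul_comm, smul_eq_mul]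
    linear_combination (norm := module) (u i * w j) • hG i j
  refine clif k (Fintype.linearCombination K y) (Matrix.toLinearMap₂' K G) h3 (fun u => ?_)
    (fun u hu => ?_) (by simpa using hk)
  · induction u using Pi.single_induction with
    | zero => exact ⟨0, by simp⟩
    | add u w hu hw =>
      obtain ⟨c, hc⟩ := hu
      obtain ⟨d, hd⟩ := hw
      refine ⟨c + d + Matrix.toLinearMap₂' K G u w, ?_⟩
      simp only [map_add, add_mul, mul_add, hc, hd]
      linear_combination (norm := module) h3 u w
    | single i c => exact ⟨c * c * a, by simp [ha, smul_smul, mul_assoc]⟩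
  · have h4 : ∀ j, (2 * a - b) * u j + b * ∑ i, u i = 0 := fun j => by
      have := hu (Pi.single j 1)
      simp only [Matrix.toLinearMap₂'_apply, Pi.single_apply, smul_eq_mul, ite_mul, one_mul, zero_mul,
        Finset.sum_ite_eq', Finset.mem_univ, if_true, mul_ite, mul_zero] at this
      rw [← this, Finset.mul_sum, ← Finset.add_sum_erase _ _ (Finset.mem_univ j),
        ← Finset.add_sum_erase _ _ (Finset.mem_univ j), Finset.sum_congr rfl (g := fun i => u i * G i j)
        fun i hi => by simp only [G, Finset.ne_of_mem_erase hi, if_false, mul_comm]]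
      simp only [G, if_true]
      ring
    have h5 := Finset.sum_congr (s₁ := Finset.univ) rfl fun j _ => h4 j
    simp only [Finset.sum_add_distrib, ← Finset.mul_sum, Finset.sum_const, Finset.card_univ,
      Fintype.card_fin, nsmul_eq_mul, mul_zero] at h5
    have h6 : ∑ i, u i = 0 := (mul_eq_zero.1 (by linear_combination h5)).resolve_left h2
    exact funext fun j => (mul_eq_zero.1 (by simpa [h6] using h4 j)).resolve_left h1

end CL.Wag
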