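/-
The weights of the modules of `SL₂(q)` in the defining characteristic.
-/
import Cfsg.Agent.BLK.Brauer

set_option autoImplicit false

namespace CL.SL2Wt
open Module Finset Matrix
open scoped MatrixGroups

variable {F K V : Type*} [Field F] [Fintype F] [Field K] [AddCommGroup V] [Module K V]
  (f : F →+* K)

include f in
theorem exists_fix [Nontrivial V] (a : F → End K V) (h0 : a 0 = 1) (h : ∀ s t, a (s + t) = a s * a t) :
    ∃ v : V, v ≠ 0 ∧ ∀ t, a t v = v := by
  obtain ⟨p, hp⟩ := CharP.exists F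
  obtain ⟨n, hp', hn⟩ := FiniteField.card F p
  let b : Multiplicative F →* End K V := ⟨⟨fun t => a t.toAdd, h0⟩, fun s t => h _ _⟩
  let _ := DistribMulAction.compHom V b
  obtain ⟨v, hv⟩ := exists_ne (0 : V)
  obtain ⟨w, h1, h2⟩ := Blk.exists_fixed_ne_zero (P := Multiplicative F) hp'
    (IsPGroup.of_card (n := n) (by rw [Nat.card_eq_fintype_card, Fintype.card_multiplicative, hn]))
    (fun v => by rw [← Nat.cast_smul_eq_nsmul K, ← map_natCast f, CharP.cast_eq_zero, map_zero, zero_smul]) hv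
  exact ⟨w, h1, fun t => h2 (Multiplicative.ofAdd t)⟩

section
omit [Fintype F]

theorem mul_ap (a b : SL(2, F)) (i j : Fin 2) : (a * b) i j = a i 0 * b 0 j + a i 1 * b 1 j := by
  change (a.1 * b.1) i j = _
  rw [mul_apply, Fin.sum_univ_two]

theorem ext4 {a b : SL(2, F)} (h : a 0 0 = b 0 0 ∧ a 0 1 = b 0 1 ∧ a 1 0 = b 1 0 ∧ a 1 1 = b 1 1) : a = b := by
  ext i j; fin_cases i <;> fin_cases j
  exacts [h.1, h.2.1, h.2.2.1, h.2.2.2]

/-- a matrix of determinant one -/
def mk (a b c d : F) (h : a * d - b * c = 1) : SL(2, F) := ⟨!![a, b; c, d], by rwa [det_fin_two_of]⟩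

variable {a b c d : F} {h : a * d - b * c = 1}
@[simp] theorem mk00 : mk a b c d h 0 0 = a := rfl
@[simp] theorem mk01 : mk a b c d h 0 1 = b := rfl
@[simp] theorem mk10 : mk a b c d h 1 0 = c := rfl
@[simp] theorem mk11 : mk a b c d h 1 1 = d := rfl

/-- upper unitriangular matrices -/
def up (t : F) : SL(2, F) := mk 1 t 0 1 (by simp)

theorem up_add (s t : F) : up (s + t) = up s * up t := ext4 (by simp [up, mul_ap, add_comm])

theorem up_zero : up (0 : F) = 1 := ext4 (by simp [up])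

/-- diagonal matrices -/
def dg (a : Fˣ) : SL(2, F) := mk (a : F)⁻¹ 0 0 a (by simp)

theorem dg_pow (a : Fˣ) (k : ℕ) : dg a ^ k = dg (a ^ k) := by
  induction k with
  | zero => exact ext4 (by simp [dg])
  | succ k ih => rw [pow_succ, ih]; exact ext4 (by simp [dg, mul_ap, pow_succ, mul_comm])

end

variable (ρ : SL(2, F) →* End K V)

theorem exists_functional [IsAlgClosed K] [FiniteDimensional K V] [Nontrivial V] :
    ∃ φ : Dual K V, φ ≠ 0 ∧ ∃ s, 0 < s ∧ s < Fintype.card F ∧
      ∀ b : SL(2, F), b 1 0 = 0 → ∀ x, φ (ρ b x) = f (b 1 1) ^ s * φ x := by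
  obtain ⟨φ1, h1, h2⟩ := exists_fix f (fun t => (ρ (up t)).dualMap) (by rw [up_zero, map_one]; rfl)
    fun s t => by rw [add_comm, up_add, map_mul]; rfl
  let W : Submodule K (Dual K V) := ⨅ t, End.eigenspace (ρ (up t)).dualMap 1
  have hW : ∀ φ, φ ∈ W ↔ ∀ t x, φ (ρ (up t) x) = φ x := fun φ => by
    simp [W, End.mem_eigenspace_iff, LinearMap.ext_iff]
  have : Nontrivial W := ⟨⟨⟨φ1, (hW _).2 fun t x => congrArg (· x) (h2 t)⟩, 0, fun e => h1 (congrArg Subtype.val e)⟩⟩
  obtain ⟨ω, hω⟩ := IsCyclic.exists_generator (α := Fˣ)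
  have hc : ∀ (a : Fˣ) (t : F), up ((a : F)⁻¹ * (a : F)⁻¹ * t) * dg a = dg a * up t := fun a t =>
    ext4 (by simp [up, dg, mul_ap]; field_simp)
  have hi : ∀ φ ∈ W, (ρ (dg ω)).dualMap φ ∈ W := fun φ hφ => (hW _).2 fun t x => by
    change φ ((ρ (dg ω) * ρ (up t)) x) = φ _
    rw [← map_mul, ← hc, map_mul]
    exact (hW _).1 hφ _ _
  obtain ⟨c, hc'⟩ := End.exists_eigenvalue (K := K) (V := W) ((ρ (dg ω)).dualMap.restrict hi)
  obtain ⟨⟨φ, hφ⟩, hv⟩ := hc'.exists_hasEigenvector
  have h0 : φ ≠ 0 := fun e => hv.2 (Subtype.ext e)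
  have h3 : ∀ x, φ (ρ (dg ω) x) = c * φ x := fun x => congrArg (fun a : W => a.1 x) hv.apply_eq_smul
  have h4 : ∀ k x, φ (ρ (dg (ω ^ k)) x) = c ^ k * φ x := fun k => by
    induction k with
    | zero => intro x; rw [← dg_pow, pow_zero, map_one, pow_zero, one_mul]; rfl
    | succ k ih => intro x; rw [← dg_pow, pow_succ, map_mul, End.mul_apply, dg_pow, ih, h3]; ring
  have ho : orderOf ω = Fintype.card F - 1 := by
    rw [orderOf_eq_card_of_forall_mem_zpowers hω, Nat.card_units, Nat.card_eq_fintype_card]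
  have hq : 1 < Fintype.card F := Fintype.one_lt_card
  have hp : IsPrimitiveRoot (f ω) (Fintype.card F - 1) :=
    (IsPrimitiveRoot.coe_units_iff.2 (ho ▸ IsPrimitiveRoot.orderOf ω)).map_of_injective f.injective
  have h5 : c ^ (Fintype.card F - 1) = 1 := by
    obtain ⟨x, hx⟩ := DFunLike.ne_iff.1 h0
    have := h4 (orderOf ω) x
    rw [← dg_pow, dg_pow, pow_orderOf_eq_one, ← pow_zero ω, h4, pow_zero, ho] at this
    exact (mul_right_cancel₀ hx this).symm
  have : NeZero (Fintype.card F - 1) := ⟨by omega⟩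
  obtain ⟨i, hi1, hi2⟩ := hp.eq_pow_of_pow_eq_one h5
  obtain ⟨s, hs0, hs1, hs2⟩ : ∃ s, 0 < s ∧ s < Fintype.card F ∧ f ω ^ s = c := by
    rcases i.eq_zero_or_pos with rfl | h
    · exact ⟨_, by omega, by omega, hp.pow_eq_one.trans (by rw [← hi2, pow_zero])⟩
    · exact ⟨i, h, by omega, hi2⟩
  refine ⟨φ, h0, s, hs0, hs1, fun b hb x => ?_⟩
  have hd : b 0 0 * b 1 1 = 1 := by
    have := b.det_coe
    rwa [det_fin_two, hb, mul_zero, sub_zero] at this
  obtain ⟨k, hk⟩ := (mem_powers_iff_mem_zpowers.2 (hω (Units.mk0 (b 1 1) (right_ne_zero_of_mul_eq_one hd))))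
  have hk' : (ω : F) ^ k = b 1 1 := congrArg Units.val hk
  have e : b = up (b 0 1 * b 0 0) * dg (ω ^ k) := by
    refine ext4 ?_
    simp [up, dg, mul_ap, hk', hb, mul_assoc, hd, ← eq_inv_of_mul_eq_one_left hd]
  rw [← hk', map_pow, ← pow_mul, mul_comm k, pow_mul, hs2, ← h4, ← (hW _).1 hφ (b 0 1 * b 0 0) (ρ (dg _) x)]
  exact (congrArg (fun g => φ (ρ g x)) e).trans (by rw [map_mul]; rfl)

theorem exists_top {φ : Dual K V} {s : ℕ} (s0 : 0 < s) (s1 : s < Fintype.card F)
    (h : ∀ b : SL(2, F), b 1 0 = 0 → ∀ x, φ (ρ b x) = f (b 1 1) ^ s * φ x) {y : V} (hy : ∀ t, ρ (up t) y = y)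
    (y0 : ∃ g, φ (ρ g y) ≠ 0) : ∃ r < Fintype.card F, ∃ z : V, ∀ g, φ (ρ g z) = f (g 1 0) ^ r := by
  classical
  have H : ∀ (g g' : SL(2, F)) (a : F), g' 1 0 = a * g 1 0 → g' 1 1 = a * g 1 1 →
      φ (ρ g' y) = f a ^ s * φ (ρ g y) := fun g g' a h0 h1 => by
    have hd := g.det_coe
    rw [det_fin_two] at hd
    have e1 : (g' * g⁻¹) 1 0 = 0 := by
      rw [mul_ap, SpecialLinearGroup.SL2_inv_expl, h0, h1]; simp; ring
    have e2 : (g' * g⁻¹) 1 1 = a := by
      rw [mul_ap, SpecialLinearGroup.SL2_inv_expl, h0, h1]; simp; linear_combination a * hd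
    rw [← e2, ← h _ e1, ← End.mul_apply, ← map_mul, inv_mul_cancel_right]
  let w : SL(2, F) := mk 0 (-1) 1 0 (by simp)
  obtain ⟨α, hα⟩ : ∃ α, α = φ (ρ w y) := ⟨_, rfl⟩
  obtain ⟨β, hβ⟩ : ∃ β, β = φ (ρ 1 y) := ⟨_, rfl⟩
  have Φ : ∀ g : SL(2, F), φ (ρ g y) = f (g 1 0) ^ s * α + if g 1 0 = 0 then f (g 1 1) ^ s * β else 0 := fun g => by
    split_ifs with c
    · rw [H 1 g (g 1 1) (by simp [c]) (by simp), c, map_zero, zero_pow s0.ne', hβ]; ring
    · rw [H (w * up (g 1 1 / g 1 0)) g (g 1 0) (by simp [w, up, mul_ap]) (by simp [w, up, mul_ap]; field_simp),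
        map_mul, End.mul_apply, hy, hα, add_zero]
  have fin : ∀ (c : K) (z : V), c ≠ 0 → (∀ g, φ (ρ g z) = f (g 1 0) ^ s * c) →
      ∃ r < Fintype.card F, ∃ z : V, ∀ g, φ (ρ g z) = f (g 1 0) ^ r := fun c z c0 hz =>
    ⟨s, s1, c⁻¹ • z, fun g => by rw [map_smul, map_smul, hz, smul_eq_mul]; field_simp⟩
  by_cases b0 : β = 0
  · obtain ⟨g, hg⟩ := y0
    refine fin α y (fun a0 => hg ?_) fun g => by simp [Φ, b0]
    simp [Φ, b0, a0]
  have hq : ∀ c : F, c ≠ 0 → s = Fintype.card F - 1 → f c ^ s = 1 := fun c c0 e => by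
    rw [← map_pow, e, FiniteField.pow_card_sub_one_eq_one c c0, map_one]
  by_cases ab : α = β ∧ s = Fintype.card F - 1
  · refine ⟨0, by omega, β⁻¹ • y, fun g => ?_⟩
    rw [map_smul, map_smul, Φ, smul_eq_mul, pow_zero, ab.1]
    split_ifs with c
    · have hd := g.det_coe
      rw [det_fin_two, c, mul_zero, sub_zero] at hd
      rw [c, hq _ (right_ne_zero_of_mul_eq_one hd) ab.2, map_zero, zero_pow s0.ne']; field_simp; simp
    · rw [hq _ c ab.2]; field_simp; simp
  obtain ⟨σ, hσ⟩ : ∃ σ, σ = ∑ e : F, f e ^ s := ⟨_, rfl⟩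
  have h1 : s < Fintype.card F - 1 → σ = 0 := fun e => by
    simp only [hσ, ← map_pow, ← map_sum, FiniteField.sum_pow_lt_card_sub_one F s e, map_zero]
  have h2 : s = Fintype.card F - 1 → σ = -1 := fun e => by
    rw [hσ, ← Finset.add_sum_erase _ _ (mem_univ 0), sum_congr rfl fun c hc => hq c (ne_of_mem_erase hc) e,
      map_zero, zero_pow s0.ne', sum_const, card_erase_of_mem (mem_univ _), card_univ, nsmul_eq_mul,
      Nat.cast_sub (by omega), ← map_natCast f, FiniteField.cast_card_eq_zero]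
    simp
  let w' : SL(2, F) := mk 0 1 (-1) 0 (by simp)
  refine fin (β + α * σ) (∑ t, ρ (up t * w') y) (fun e => ?_) fun g => ?_
  · by_cases c : s = Fintype.card F - 1
    · exact ab ⟨by rw [h2 c] at e; linear_combination -e, c⟩
    · exact b0 (by rw [h1 (by omega)] at e; linear_combination e)
  have e1 : ∀ t : F, (g * (up t * w')) 1 0 = -(g 1 0 * t + g 1 1) := fun t => by simp [w', up, mul_ap]; ring
  have e2 : ∀ t : F, (g * (up t * w')) 1 1 = g 1 0 := fun t => by simp [w', up, mul_ap]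
  simp only [map_sum, ← End.mul_apply, ← map_mul, Φ, e1, e2]
  by_cases c : g 1 0 = 0
  · simp only [c, zero_mul, sum_const, card_univ, map_zero, zero_pow s0.ne', nsmul_eq_mul, ← map_natCast f,
      FiniteField.cast_card_eq_zero]
  · rw [Fintype.sum_bijective (fun t => -(g 1 0 * t + g 1 1)) (Finite.injective_iff_bijective.1 fun a b e =>
      mul_left_cancel₀ c (add_right_cancel (neg_injective e))) _
      (fun e => f e ^ s * α + if e = 0 then f (g 1 0) ^ s * β else 0) fun _ => rfl, sum_add_distrib, ← sum_mul, ← hσ]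
    by_cases c' : s = Fintype.card F - 1
    · simp [hq _ c c']; ring
    · simp [h1 (by omega)]

/-- `E` is the multiset of eigenvalues of `A` -/
def IsEig (A : End K V) (E : Multiset K) : Prop :=
  ∀ t : K, LinearMap.det (t • (1 : End K V) - A) = (E.map (t - ·)).prod

open Classical in
/-- the eigenvalues on the simple module of highest weight `r` -/
noncomputable def wts (r : ℕ) (μ : K) : Multiset K :=
  (univ.filter fun j : Fin (r + 1) => (r.choose j : K) ≠ 0).val.map fun j => μ⁻¹ ^ j.1 * μ ^ j.rev.1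

/-- `g` is diagonalisable over `K` with eigenvalues `μ, μ⁻¹` -/
def Ev (g : SL(2, F)) (μ : K) : Prop :=
  ∃ c d : Fin 2 → K, c 0 * d 1 - c 1 * d 0 ≠ 0 ∧ (∀ i, f (g i 0) * c 0 + f (g i 1) * c 1 = μ * c i) ∧
    ∀ i, f (g i 0) * d 0 + f (g i 1) * d 1 = μ⁻¹ * d i

theorem isEig_of_basis {ι : Type*} [Fintype ι] (b : Basis ι K V) {A : End K V} (e : ι → K)
    (h : ∀ i, A (b i) = e i • b i) : IsEig A (univ.val.map e) := fun t => by
  classical
  have : LinearMap.toMatrix b b (t • (1 : End K V) - A) = diagonal fun i => t - e i := by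
    ext i j
    rw [LinearMap.toMatrix_apply, LinearMap.sub_apply, h, LinearMap.smul_apply, End.one_apply, ← sub_smul,
      map_smul, b.repr_self, diagonal_apply, Finsupp.smul_apply, Finsupp.single_apply]
    split_ifs with h1 h2 h2 <;> simp_all
  rw [← LinearMap.det_toMatrix b, this, det_diagonal, Multiset.map_map]
  rfl

theorem IsEig.unique [Infinite K] {A : End K V} {E E' : Multiset K} (h : IsEig A E) (h' : IsEig A E') : E = E' := by
  rw [← Polynomial.roots_multiset_prod_X_sub_C E, ← Polynomial.roots_multiset_prod_X_sub_C E']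
  congr 1
  refine Polynomial.funext fun t => ?_
  simpa [Polynomial.eval_multiset_prod, Multiset.map_map] using (h t).symm.trans (h' t)

theorem vdm_ne {n : ℕ} (v w : Fin n → K) (h : ∀ i j, i ≠ j → v j * w i - v i * w j ≠ 0) :
    (projVandermonde v w).det ≠ 0 := by
  rw [det_projVandermonde]
  exact prod_ne_zero_iff.2 fun i _ => prod_ne_zero_iff.2 fun j hj => h i j (mem_Ioi.1 hj).ne

theorem of_simple [IsAlgClosed K] [FiniteDimensional K V] [Nontrivial V]
    (hs : ∀ W : Submodule K V, (∀ g, ∀ x ∈ W, ρ g x ∈ W) → W = ⊥ ∨ W = ⊤) :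
    ∃ r < Fintype.card F, ∀ g μ, Ev f g μ → IsEig (ρ g) (wts r μ) := by
  classical
  obtain ⟨φ, φ0, s, s0, s1, h⟩ := exists_functional f ρ
  have mul : ∀ g g' x, ρ g (ρ g' x) = ρ (g * g') x := fun g g' x => by rw [map_mul]; rfl
  have inj : ∀ x, (∀ g, φ (ρ g x) = 0) → x = 0 := fun x hx => by
    rcases hs (⨅ g, LinearMap.ker (φ ∘ₗ ρ g)) (fun g x hx => by
      simp only [Submodule.mem_iInf, LinearMap.mem_ker, LinearMap.comp_apply, mul] at hx ⊢
      exact fun _ => hx _) with e | e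
    · exact (Submodule.eq_bot_iff _).1 e x (by simpa [Submodule.mem_iInf] using hx)
    · refine (φ0 (LinearMap.ext fun x => ?_)).elim
      simpa using (Submodule.mem_iInf _).1 (e.ge (Submodule.mem_top (x := x))) 1
  have inj' : ∀ x x', (∀ g, φ (ρ g x) = φ (ρ g x')) → x = x' := fun x x' e =>
    sub_eq_zero.1 (inj _ fun g => by rw [map_sub, map_sub, e, sub_self])
  obtain ⟨y, y0, hy⟩ := exists_fix f (fun t => ρ (up t)) (by rw [up_zero, map_one]) fun s t => by rw [up_add, map_mul]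
  obtain ⟨r, hr, z, hz⟩ := exists_top f ρ s0 s1 h hy (by by_contra! hc; exact y0 (inj y hc))
  refine ⟨r, hr, fun g μ ⟨c, d, D, hc, hd⟩ => ?_⟩
  obtain ⟨e⟩ : Nonempty (Fin (r + 1) ↪ F) := Function.Embedding.nonempty_of_card_le (by simpa using hr)
  let lo : Fin (r + 1) → SL(2, F) := fun i => mk 1 0 (e i) 1 (by simp)
  have he : ∀ i j, i ≠ j → f (e i) - f (e j) ≠ 0 := fun i j ne => sub_ne_zero.2 fun e' =>
    ne (e.injective (f.injective e'))
  let l : (Fin 2 → K) → SL(2, F) → K := fun c g => f (g 1 0) * c 0 + f (g 1 1) * c 1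
  let a : SL(2, F) → K := fun h => (f (h 0 0) * d 1 - f (h 1 0) * d 0) / (c 0 * d 1 - c 1 * d 0)
  let b : SL(2, F) → K := fun h => (c 0 * f (h 1 0) - c 1 * f (h 0 0)) / (c 0 * d 1 - c 1 * d 0)
  let m : Fin (r + 1) → SL(2, F) → K := fun j g => l d g ^ j.1 * l c g ^ j.rev.1 * r.choose j
  have h1 : ∀ h g, φ (ρ g (ρ h z)) = ∑ j : Fin (r + 1), b h ^ j.1 * a h ^ j.rev.1 * m j g := fun h g => by
    have : f ((g * h) 1 0) = b h * l d g + a h * l c g := by
      simp only [mul_ap, map_add, map_mul, a, b, l]; field_simp; ring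
    rw [mul, hz, this, add_pow, ← Fin.sum_univ_eq_sum_range
      (fun j => (b h * l d g) ^ j * (a h * l c g) ^ (r - j) * r.choose j)]
    exact sum_congr rfl fun j _ => by simp only [m, Fin.val_rev, Nat.add_sub_add_right]; ring
  let M := projVandermonde (b ∘ lo) (a ∘ lo)
  have hM : IsUnit M.det := Ne.isUnit <| vdm_ne _ _ fun i j ne e' => by
    apply he i j ne
    simp only [a, b, lo, Function.comp, mk00, mk10, map_one] at e'
    field_simp at e'
    exact mul_left_cancel₀ D (by linear_combination -e')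
  let v : Fin (r + 1) → V := fun j => ∑ i, M⁻¹ j i • ρ (lo i) z
  have hv : ∀ j g, φ (ρ g (v j)) = m j g := fun j g => by
    have : ∀ i, φ (ρ g (ρ (lo i) z)) = (M *ᵥ fun k => m k g) i := fun i => h1 _ _
    simp only [v, map_sum, map_smul, this, smul_eq_mul]
    change (M⁻¹ *ᵥ (M *ᵥ fun k => m k g)) j = _
    rw [mulVec_mulVec, nonsing_inv_mul _ hM, one_mulVec]
  let J := {j : Fin (r + 1) // (r.choose j : K) ≠ 0}
  have li : LinearIndependent K fun j : J => v j := Fintype.linearIndependent_iff.2 fun u hu => by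
    let u' : Fin (r + 1) → K := fun j => if h : (r.choose j : K) ≠ 0 then u ⟨j, h⟩ * r.choose j else 0
    have := eq_zero_of_mulVec_eq_zero (vdm_ne (l d ∘ lo) (l c ∘ lo) fun i j ne e' => by
      apply he i j ne
      simp only [l, lo, Function.comp, mk11, mk10, map_one] at e'
      exact mul_left_cancel₀ D (by linear_combination e')) (v := u') (funext fun i => by
      have := congrArg (fun x => φ (ρ (lo i) x)) hu
      simp only [map_sum, map_smul, hv, map_zero, smul_eq_mul] at this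
      rw [Pi.zero_apply, ← this, mulVec, dotProduct, ← Fintype.sum_subtype_add_sum_subtype
        (fun j : Fin (r + 1) => (r.choose j : K) ≠ 0), sum_eq_zero (s := (univ : Finset {j : Fin (r + 1) // ¬ (r.choose j : K) ≠ 0}))
        fun j _ => by simp only [u', dif_neg j.2, mul_zero], add_zero]
      exact sum_congr rfl fun j _ => by simp only [u', dif_pos j.2, projVandermonde_apply, m, Function.comp]; ring)
    intro j
    have := congrFun this j
    simp only [u', dif_pos j.2, Pi.zero_apply] at this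
    exact (mul_eq_zero.1 this).resolve_right j.2
  have sp : ⊤ ≤ Submodule.span K (Set.range fun j : J => v j) := by
    rcases hs (Submodule.span K (Set.range fun h => ρ h z)) (fun g x hx => by
      refine Submodule.mem_comap.1 (Submodule.span_le.2 ?_ hx)
      rintro _ ⟨h, rfl⟩
      exact Submodule.subset_span ⟨g * h, (mul _ _ _).symm⟩) with e | e
    · have := hz (mk 0 (-1) 1 0 (by simp))
      rw [(Submodule.eq_bot_iff _).1 e (ρ _ z) (Submodule.subset_span ⟨_, rfl⟩)] at this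
      simp at this
    rw [← e, Submodule.span_le]
    rintro _ ⟨h, rfl⟩
    change ρ h z ∈ Submodule.span _ _
    rw [inj' (ρ h z) (∑ j : Fin (r + 1), (b h ^ j.1 * a h ^ j.rev.1) • v j) fun g => by
      simp only [h1, map_sum, map_smul, hv, smul_eq_mul]]
    refine Submodule.sum_mem _ fun j _ => Submodule.smul_mem _ _ ?_
    by_cases c : (r.choose j : K) ≠ 0
    · exact Submodule.subset_span ⟨⟨j, c⟩, rfl⟩
    · rw [inj (v j) fun g => by rw [hv]; simp only [m, not_not.1 c, mul_zero]]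
      exact Submodule.zero_mem _
  have l1 : ∀ g', l c (g' * g) = μ * l c g' := fun g' => by
    simp only [l, mul_ap, map_add, map_mul]; linear_combination f (g' 1 0) * hc 0 + f (g' 1 1) * hc 1
  have l2 : ∀ g', l d (g' * g) = μ⁻¹ * l d g' := fun g' => by
    simp only [l, mul_ap, map_add, map_mul]; linear_combination f (g' 1 0) * hd 0 + f (g' 1 1) * hd 1
  have := isEig_of_basis (Basis.mk li sp) (A := ρ g) (fun j => μ⁻¹ ^ j.1.1 * μ ^ j.1.rev.1) fun j => by
    rw [Basis.mk_apply]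
    refine inj' _ _ fun g' => ?_
    rw [mul, map_smul, map_smul, hv, hv, smul_eq_mul]
    simp only [m, l1, l2]; ring
  convert this using 1
  rw [wts, ← Finset.univ_map_subtype, map_val, Multiset.map_map]
  rfl

theorem IsEig.add [FiniteDimensional K V] {A : End K V} (W : Submodule K V) (hW : W ≤ W.comap A) {E E' : Multiset K}
    (h : IsEig (A.restrict hW) E) (h' : IsEig (W.mapQ W A hW) E') : IsEig A (E + E') := fun t => by
  have hW' : W ≤ W.comap (t • (1 : End K V) - A) := fun x hx => W.sub_mem (W.smul_mem t hx) (hW hx)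
  rw [LinearMap.det_eq_det_mul_det W _ hW', Multiset.map_add, Multiset.prod_add, ← h t, ← h' t]
  congr 2
  ext x
  simp [← Submodule.Quotient.mk_smul, ← Submodule.Quotient.mk_sub]

/-- The eigenvalues of the semisimple elements of `SL₂(q)` on a module in the defining characteristic. -/
theorem exists_wts [IsAlgClosed K] [FiniteDimensional K V] :
    ∃ R : Multiset ℕ, (∀ r ∈ R, r < Fintype.card F) ∧ ∀ g μ, Ev f g μ → IsEig (ρ g) (R.bind (wts · μ)) := by
  induction hn : finrank K V using Nat.strong_induction_on generalizing V with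
  | _ n ih =>
  rcases subsingleton_or_nontrivial V with h0 | h0
  · exact ⟨0, by simp, fun g μ _ t => by simp [LinearMap.det_eq_one_of_subsingleton]⟩
  by_cases hs : ∀ W : Submodule K V, (∀ g, ∀ x ∈ W, ρ g x ∈ W) → W = ⊥ ∨ W = ⊤
  · obtain ⟨r, hr, h⟩ := of_simple f ρ hs
    exact ⟨{r}, by simpa using hr, by simpa using h⟩
  push Not at hs
  obtain ⟨W, hW, h1, h2⟩ := hs
  let ρ1 : SL(2, F) →* End K W := ⟨⟨fun g => (ρ g).restrict (hW g), by ext; simp⟩, fun g h => by ext; simp⟩
  let ρ2 : SL(2, F) →* End K (V ⧸ W) := ⟨⟨fun g => W.mapQ W (ρ g) (hW g), by ext; simp⟩, fun g h => by ext; simp⟩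
  obtain ⟨R1, a1, b1⟩ := ih _ (hn ▸ Submodule.finrank_lt h2) ρ1 rfl
  obtain ⟨R2, a2, b2⟩ := ih _ (by
    have := W.finrank_quotient_add_finrank
    have := Submodule.finrank_eq_zero.not.2 h1
    omega) ρ2 rfl
  refine ⟨R1 + R2, fun r hr => (Multiset.mem_add.1 hr).elim (a1 r) (a2 r), fun g μ h => ?_⟩
  rw [Multiset.add_bind]
  exact IsEig.add W (hW g) (b1 g μ h) (b2 g μ h)

end CL.SL2Wt
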