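import Mathlib
import Cfsg.Agent.KSG.ThV1

set_option autoImplicit false
set_option Elab.async false
set_option maxRecDepth 100000

namespace CL.ThV
open CL.SchurC CL.Net CL.K CL.ThG

theorem vu2_6 : VUp mulM (PM.isCodeR 3 683 11 cQM) 248 4960 cRM 7440 2 (fun i => nlk 8192 13 63 nets2 (Nat.add 19 i)) Bs2 Ms2 6 :=
  VUp.step (c := 6) VUp.zero (by decide +kernel) rfl
theorem vu2_12 : VUp mulM (PM.isCodeR 3 683 11 cQM) 248 4960 cRM 7440 2 (fun i => nlk 8192 13 63 nets2 (Nat.add 19 i)) Bs2 Ms2 12 :=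
  VUp.step (c := 6) vu2_6 (by decide +kernel) rfl
theorem vu2_18 : VUp mulM (PM.isCodeR 3 683 11 cQM) 248 4960 cRM 7440 2 (fun i => nlk 8192 13 63 nets2 (Nat.add 19 i)) Bs2 Ms2 18 :=
  VUp.step (c := 6) vu2_12 (by decide +kernel) rfl
theorem vu2_24 : VUp mulM (PM.isCodeR 3 683 11 cQM) 248 4960 cRM 7440 2 (fun i => nlk 8192 13 63 nets2 (Nat.add 19 i)) Bs2 Ms2 24 :=
  VUp.step (c := 6) vu2_18 (by decide +kernel) rfl
theorem vu2_30 : VUp mulM (PM.isCodeR 3 683 11 cQM) 248 4960 cRM 7440 2 (fun i => nlk 8192 13 63 nets2 (Nat.add 19 i)) Bs2 Ms2 30 :=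
  VUp.step (c := 6) vu2_24 (by decide +kernel) rfl
theorem vu2_36 : VUp mulM (PM.isCodeR 3 683 11 cQM) 248 4960 cRM 7440 2 (fun i => nlk 8192 13 63 nets2 (Nat.add 19 i)) Bs2 Ms2 36 :=
  VUp.step (c := 6) vu2_30 (by decide +kernel) rfl
theorem vu2_42 : VUp mulM (PM.isCodeR 3 683 11 cQM) 248 4960 cRM 7440 2 (fun i => nlk 8192 13 63 nets2 (Nat.add 19 i)) Bs2 Ms2 42 :=
  VUp.step (c := 6) vu2_36 (by decide +kernel) rfl
theorem vu2_48 : VUp mulM (PM.isCodeR 3 683 11 cQM) 248 4960 cRM 7440 2 (fun i => nlk 8192 13 63 nets2 (Nat.add 19 i)) Bs2 Ms2 48 :=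
  VUp.step (c := 6) vu2_42 (by decide +kernel) rfl
theorem vu2_54 : VUp mulM (PM.isCodeR 3 683 11 cQM) 248 4960 cRM 7440 2 (fun i => nlk 8192 13 63 nets2 (Nat.add 19 i)) Bs2 Ms2 54 :=
  VUp.step (c := 6) vu2_48 (by decide +kernel) rfl
theorem vu2_60 : VUp mulM (PM.isCodeR 3 683 11 cQM) 248 4960 cRM 7440 2 (fun i => nlk 8192 13 63 nets2 (Nat.add 19 i)) Bs2 Ms2 60 :=
  VUp.step (c := 6) vu2_54 (by decide +kernel) rfl
theorem pb2 : PBound Cfsg.Spor.Th 2 0 1 := by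
  obtain ⟨g, D, M⟩ := vec_mdl okM hX (nb := 30) cdMs2 (by decide) vu2_60
  exact M.pbound_net valid2 c2 Nat.prime_two (ws := ws2) (by decide) (by rw [card]; decide +kernel)
    nchk2 pl2_13 chk2


end CL.ThV
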