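import Mathlib
import Cfsg.Agent.KSG.GLnClsNum

/-!
# Abstract class counting with a determinant; truncated evaluation of power series
-/

set_option autoImplicit false

namespace CL.GLn

open Finset

/-! ### Truncated evaluation -/

section TW

/-- Truncated evaluation of a power series. -/
noncomputable def TW (x : ℝ) (m : ℕ) (f : PowerSeries ℤ) : ℝ :=
  ∑ k ∈ range (m + 1), (PowerSeries.coeff k f : ℤ) * x ^ k

variable {x : ℝ} {m : ℕ}

theorem TW_add (f g : PowerSeries ℤ) : TW x m (f + g) = TW x m f + TW x m g := by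
  simp [TW, add_mul, sum_add_distrib]

theorem TW_one : TW x m 1 = 1 := by
  rw [TW, sum_range_succ']
  simp [PowerSeries.coeff_one]

theorem TW_nonneg (hx : 0 ≤ x) {f : PowerSeries ℤ} (hf : NNeg f) : 0 ≤ TW x m f :=
  sum_nonneg fun k _ => mul_nonneg (by exact_mod_cast hf k) (by positivity)

theorem TW_X_pow_le (hx : 0 ≤ x) (i : ℕ) : TW x m (PowerSeries.X ^ i) ≤ x ^ i := by
  simp only [TW, PowerSeries.coeff_X_pow, Int.cast_ite, Int.cast_one, Int.cast_zero, ite_mul,
    one_mul, zero_mul, sum_ite_eq']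
  split_ifs
  · rfl
  · positivity

theorem TW_natCast_mul (c : ℕ) (f : PowerSeries ℤ) :
    TW x m ((c : PowerSeries ℤ) * f) = c * TW x m f := by
  have h1 : (c : PowerSeries ℤ) = PowerSeries.C (c : ℤ) := by simp
  simp only [TW, h1, PowerSeries.coeff_C_mul, mul_sum, Int.cast_mul, Int.cast_natCast, mul_assoc]

theorem TW_mul_le (hx : 0 ≤ x) {f g : PowerSeries ℤ} (hf : NNeg f) (hg : NNeg g) :
    TW x m (f * g) ≤ TW x m f * TW x m g := by
  classical
  simp only [TW, PowerSeries.coeff_mul, Int.cast_sum, Int.cast_mul, sum_mul]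
  simp only [mul_sum]
  rw [← sum_product', sum_sigma']
  have h1 : ∀ p : ℕ × ℕ, (0 : ℝ) ≤ (PowerSeries.coeff p.1 f : ℤ) * x ^ p.1 *
      ((PowerSeries.coeff p.2 g : ℤ) * x ^ p.2) := fun p =>
    mul_nonneg (mul_nonneg (by exact_mod_cast hf _) (by positivity))
      (mul_nonneg (by exact_mod_cast hg _) (by positivity))
  calc _ = ∑ p ∈ ((range (m + 1)).sigma antidiagonal).image (fun s => s.2),
        ((PowerSeries.coeff p.1 f : ℤ) * x ^ p.1 * ((PowerSeries.coeff p.2 g : ℤ) * x ^ p.2) : ℝ) := by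
        rw [sum_image]
        · refine sum_congr rfl fun s hs => ?_
          rw [← mem_antidiagonal.1 (mem_sigma.1 hs).2, pow_add]
          ring
        · rintro ⟨a, p⟩ hp ⟨b, r⟩ hr h
          obtain rfl : p = r := h
          obtain rfl : a = b :=
            (mem_antidiagonal.1 (mem_sigma.1 hp).2).symm.trans (mem_antidiagonal.1 (mem_sigma.1 hr).2)
          rfl
    _ ≤ _ := by
        refine sum_le_sum_of_subset_of_nonneg (fun p hp => ?_) fun p _ _ => h1 p
        obtain ⟨s, hs, rfl⟩ := mem_image.1 hp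
        have h2 := mem_antidiagonal.1 (mem_sigma.1 hs).2
        have h3 := mem_range.1 (mem_sigma.1 hs).1
        simp only [mem_product, mem_range]
        omega

theorem TW_prod_le (hx : 0 ≤ x) {ι : Type*} {s : Finset ι} {f : ι → PowerSeries ℤ}
    (hf : ∀ i ∈ s, NNeg (f i)) {b : ι → ℝ} (hb : ∀ i ∈ s, TW x m (f i) ≤ b i) :
    TW x m (∏ i ∈ s, f i) ≤ ∏ i ∈ s, b i := by
  classical
  induction s using Finset.induction_on with
  | empty => simp [TW_one]
  | insert a s ha ih =>
    rw [prod_insert ha, prod_insert ha]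
    have h1 := NNeg.prod fun i hi => hf i (mem_insert_of_mem hi)
    refine (TW_mul_le hx (hf a (mem_insert_self _ _)) h1).trans ?_
    exact mul_le_mul (hb a (mem_insert_self _ _)) (ih (fun i hi => hf i (mem_insert_of_mem hi))
      fun i hi => hb i (mem_insert_of_mem hi)) (TW_nonneg hx h1)
      ((TW_nonneg hx (hf a (mem_insert_self _ _))).trans (hb a (mem_insert_self _ _)))

theorem TW_eq_one {f : PowerSeries ℤ} (h0 : PowerSeries.coeff 0 f = 1)
    (h : ∀ k, 0 < k → k ≤ m → PowerSeries.coeff k f = 0) : TW x m f = 1 := by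
  rw [TW, sum_range_succ', h0, sum_eq_zero fun k hk => by
    rw [h _ k.succ_pos (mem_range.1 hk)]; simp]
  simp

/-- A series `A` with `(1 - q X ^ i) A = P`. -/
theorem TW_le_div (hx : 0 ≤ x) {A P : PowerSeries ℤ} (hA : NNeg A) {q i : ℕ}
    (h : (1 - (q : PowerSeries ℤ) * PowerSeries.X ^ i) * A = P) (hy : q * x ^ i < 1) {b : ℝ}
    (hb : TW x m P ≤ b) : TW x m A ≤ b / (1 - q * x ^ i) := by
  have h1 : A = P + (q : PowerSeries ℤ) * (PowerSeries.X ^ i * A) := by rw [← h]; ring
  have h2 := congrArg (TW x m) h1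
  rw [TW_add, TW_natCast_mul] at h2
  have h3 := (TW_mul_le (m := m) hx (nneg_X_pow i) hA).trans
    (mul_le_mul_of_nonneg_right (TW_X_pow_le hx i) (TW_nonneg hx hA))
  have h4 := mul_le_mul_of_nonneg_left h3 (Nat.cast_nonneg (α := ℝ) q)
  rw [le_div_iff₀ (by linarith)]
  nlinarith

/-- The geometric series. -/
noncomputable def geoS (q : ℕ) : PowerSeries ℤ := PowerSeries.mk fun k => (q : ℤ) ^ k

theorem nneg_geoS (q : ℕ) : NNeg (geoS q) := fun k => by simp [geoS]

theorem geoS_eq (q : ℕ) : (1 - (q : PowerSeries ℤ) * PowerSeries.X) * geoS q = 1 := by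
  ext k
  have h1 : (q : PowerSeries ℤ) = PowerSeries.C (q : ℤ) := by simp
  rw [sub_mul, one_mul, mul_assoc, h1, map_sub, PowerSeries.coeff_C_mul]
  rcases k with _ | k
  · simp [geoS]
  · simp [geoS, PowerSeries.coeff_succ_X_mul, PowerSeries.coeff_one, pow_succ']

theorem coeff_geoS_mul {q : ℕ} (hq : 0 < q) (f : PowerSeries ℤ) (m : ℕ) :
    ((PowerSeries.coeff m (geoS q * f) : ℤ) : ℝ) = q ^ m * TW (q : ℝ)⁻¹ m f := by
  rw [mul_comm, PowerSeries.coeff_mul, Nat.sum_antidiagonal_eq_sum_range_succ_mk, TW, mul_sum,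
    Int.cast_sum]
  refine sum_congr rfl fun k hk => ?_
  have h1 : k ≤ m := Nat.lt_succ_iff.1 (mem_range.1 hk)
  have h2 : (q : ℝ) ≠ 0 := by positivity
  simp only [geoS, PowerSeries.coeff_mk, Int.cast_mul, Int.cast_pow, Int.cast_natCast]
  rw [pow_sub₀ _ h2 h1, inv_pow]
  ring

end TW

/-! ### Twisting data -/

/-- A graded set with a norm map to a commutative group on which the group acts by twists. -/
structure TwD (X M : Type*) [CommGroup M] where
  /-- degree -/
  dg : X → ℕ
  fin : ∀ d, Finite {x // dg x = d}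
  /-- the element of degree zero -/
  one : X
  dg_one : dg one = 0
  eq_one : ∀ x, dg x = 0 → x = one
  /-- norm -/
  nrm : X → M
  nrm_one : nrm one = 1
  /-- twist -/
  tw : M → X ≃ X
  dg_tw : ∀ c x, dg (tw c x) = dg x
  nrm_tw : ∀ c x, nrm (tw c x) = (if dg x = 0 then 1 else c) * nrm x

namespace TwD

variable {X M : Type*} [CommGroup M] (D : TwD X M) {N : ℕ}

/-- The weight of a sequence. -/
def wt (u : Ix N → X) : ℕ := ∑ i : Ix N, (i : ℕ) * D.dg (u i)

/-- Sequences of weight `m`. -/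
abbrev US (N m : ℕ) := {u : Ix N → X // D.wt u = m}

theorem finite_mul {i : ℕ} (hi : 0 < i) (k : ℕ) : Finite {f : X // i * D.dg f = k} := by
  have := D.fin (k / i)
  exact Finite.of_injective (β := {f : X // D.dg f = k / i})
    (fun f => ⟨f.1, (Nat.div_eq_of_eq_mul_right hi f.2.symm).symm⟩) fun f g h =>
      Subtype.ext (congrArg (·.1) h)

instance finite_US (N m : ℕ) : Finite (D.US N m) :=
  finite_pi_weight (fun (i : Ix N) (f : X) => (i : ℕ) * D.dg f)
    (fun i => D.finite_mul (ix_pos i)) m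

noncomputable instance fintypeUS (N m : ℕ) : Fintype (D.US N m) := Fintype.ofFinite _

/-- The generating function of the elements in position `i`. -/
noncomputable def serA (i : ℕ) : PowerSeries ℤ :=
  PowerSeries.mk fun k => (Nat.card {f : X // i * D.dg f = k} : ℤ)

theorem nneg_serA (i : ℕ) : NNeg (D.serA i) := fun n => by simp [serA]

theorem coeff_serA_mul {i : ℕ} (hi : 0 < i) (d : ℕ) :
    PowerSeries.coeff (i * d) (D.serA i) = Nat.card {f : X // D.dg f = d} := by
  rw [serA, PowerSeries.coeff_mk]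
  simp only [Nat.mul_right_inj hi.ne']

theorem coeff_serA_of_not_dvd {i k : ℕ} (h : ¬ i ∣ k) : PowerSeries.coeff k (D.serA i) = 0 := by
  rw [serA, PowerSeries.coeff_mk, Nat.cast_eq_zero, Nat.card_eq_zero]
  exact Or.inl ⟨fun f => h ⟨_, f.2.symm⟩⟩

theorem card_dg_zero : Nat.card {f : X // D.dg f = 0} = 1 :=
  Nat.card_eq_one_iff_exists.2 ⟨⟨D.one, D.dg_one⟩, fun f => Subtype.ext (D.eq_one _ f.2)⟩

theorem coeff_zero_serA {i : ℕ} (hi : 0 < i) : PowerSeries.coeff 0 (D.serA i) = 1 := by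
  simpa [card_dg_zero] using D.coeff_serA_mul hi 0

theorem card_US (N m : ℕ) :
    (Nat.card (D.US N m) : ℤ) = PowerSeries.coeff m (∏ i ∈ Ioc 0 N, D.serA i) := by
  rw [← Finset.prod_coe_sort]
  exact card_pi_weight (fun (i : Ix N) (f : X) => (i : ℕ) * D.dg f)
    (fun i => D.finite_mul (ix_pos i)) m

theorem card_dg_le_card_US (hN : 0 < N) (m : ℕ) :
    Nat.card {f : X // D.dg f = m} ≤ Nat.card (D.US N m) := by
  classical
  let i₀ : Ix N := ⟨1, mem_Ioc.2 ⟨one_pos, hN⟩⟩
  refine Nat.card_le_card_of_injective (fun f => ⟨Function.update (fun _ => D.one) i₀ f.1, ?_⟩)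
    fun f g h => Subtype.ext ?_
  · rw [wt, Finset.sum_eq_single i₀]
    · simpa [i₀] using f.2
    · intro j _ hj
      simp [hj, D.dg_one]
    · simp
  · simpa using congrFun (congrArg Subtype.val h) i₀

/-- The determinant of a sequence. -/
def det (u : Ix N → X) : M := ∏ i : Ix N, D.nrm (u i) ^ (i : ℕ)

/-- The change of the determinant under twisting. -/
def chi (u : Ix N → X) : (Ix N → M) →* M where
  toFun l := ∏ i : Ix N, (if D.dg (u i) = 0 then 1 else l i) ^ (i : ℕ)
  map_one' := by simp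
  map_mul' a b := by
    rw [← Finset.prod_mul_distrib]
    refine Finset.prod_congr rfl fun i _ => ?_
    split_ifs <;> simp [mul_pow]

theorem chi_apply (u : Ix N → X) (l : Ix N → M) :
    D.chi u l = ∏ i : Ix N, (if D.dg (u i) = 0 then 1 else l i) ^ (i : ℕ) := rfl

theorem det_tw (u : Ix N → X) (l : Ix N → M) :
    D.det (fun i => D.tw (l i) (u i)) = D.chi u l * D.det u := by
  simp only [det, chi_apply, D.nrm_tw, mul_pow, Finset.prod_mul_distrib]

theorem det_mem_range (u : Ix N → X) : D.det u ∈ (D.chi u).range := by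
  refine ⟨fun i => D.nrm (u i), ?_⟩
  rw [chi_apply, det]
  refine Finset.prod_congr rfl fun i _ => ?_
  split_ifs with h
  · rw [D.eq_one _ h, D.nrm_one]
  · rfl

theorem pow_mem_range_chi (u : Ix N → X) {i : Ix N} (hi : D.dg (u i) ≠ 0) (c : M) :
    c ^ (i : ℕ) ∈ (D.chi u).range := by
  classical
  refine ⟨Pi.mulSingle i c, ?_⟩
  rw [chi_apply, Finset.prod_eq_single i]
  · simp [hi]
  · intro j _ hj
    simp [hj]
  · simp

theorem range_chi_le (u : Ix N → X) {H : Subgroup M}
    (h : ∀ i : Ix N, D.dg (u i) ≠ 0 → ∀ c : M, c ^ (i : ℕ) ∈ H) : (D.chi u).range ≤ H := by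
  rintro _ ⟨l, rfl⟩
  rw [chi_apply]
  refine H.prod_mem fun i _ => ?_
  split_ifs with hi
  · simp
  · exact h i hi _

/-- The number of scalars killed by all exponents that occur. -/
noncomputable def g (u : Ix N → X) : ℕ :=
  Nat.card {a : M // ∀ i : Ix N, D.dg (u i) ≠ 0 → a ^ (i : ℕ) = 1}

theorem g_congr {u v : Ix N → X} (h : ∀ i, D.dg (u i) = 0 ↔ D.dg (v i) = 0) : D.g u = D.g v := by
  simp only [g, ne_eq, h]

theorem card_range_chi_mul (u : Ix N → X) : Nat.card (D.chi u).range * D.g u = Nat.card M := by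
  classical
  set h := (univ.filter fun i : Ix N => D.dg (u i) ≠ 0).gcd fun i => (i : ℕ) with hh
  have h1 : (D.chi u).range = (powMonoidHom h : M →* M).range := by
    refine le_antisymm (D.range_chi_le u fun i hi c => ?_) ?_
    · obtain ⟨k, hk⟩ : h ∣ (i : ℕ) := Finset.gcd_dvd (by simpa using hi)
      exact ⟨c ^ k, by rw [hk, powMonoidHom_apply, ← pow_mul, mul_comm]⟩
    · rintro _ ⟨c, rfl⟩
      rw [powMonoidHom_apply, ← QuotientGroup.eq_one_iff, QuotientGroup.mk_pow,
        ← orderOf_dvd_iff_pow_eq_one]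
      refine Finset.dvd_gcd fun i hi => ?_
      rw [orderOf_dvd_iff_pow_eq_one, ← QuotientGroup.mk_pow, QuotientGroup.eq_one_iff]
      exact D.pow_mem_range_chi u (by simpa using hi) c
  have h2 : D.g u = Nat.card (powMonoidHom h : M →* M).ker := by
    refine Nat.card_congr (Equiv.subtypeEquivRight fun a => ?_)
    rw [MonoidHom.mem_ker, powMonoidHom_apply, ← orderOf_dvd_iff_pow_eq_one, hh,
      Finset.dvd_gcd_iff]
    simp [orderOf_dvd_iff_pow_eq_one]
  rw [h1, h2, Subgroup.card_eq_card_quotient_mul_card_subgroup (powMonoidHom h : M →* M).ker,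
    Nat.card_congr (QuotientGroup.quotientKerEquivRange _).toEquiv]

/-- Twisting of sequences. -/
def twUS {m : ℕ} (l : Ix N → M) : D.US N m ≃ D.US N m :=
  (Equiv.piCongrRight fun i => D.tw (l i)).subtypeEquiv fun u => by
    simp only [wt, Equiv.piCongrRight_apply, Pi.map_apply, D.dg_tw]

theorem wt_div {e : ℕ} (he : 0 < e) (u : Ix N → X) (hu : ∀ i : Ix N, D.dg (u i) ≠ 0 → e ∣ i) :
    e * D.wt (fun i : Ix N => if h : e * i ∈ Ioc 0 N then u ⟨e * i, h⟩ else D.one) = D.wt u := by
  classical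
  rw [wt, wt, Finset.mul_sum]
  let f : ℕ → ℕ := fun k => if h : k ∈ Ioc 0 N then k * D.dg (u ⟨k, h⟩) else 0
  have h1 : ∑ i : Ix N, (i : ℕ) * D.dg (u i) = ∑ k ∈ Ioc 0 N, f k := by
    rw [← Finset.sum_coe_sort (Ioc 0 N)]
    exact Finset.sum_congr rfl fun i _ => by simp only [f, dif_pos i.2]
  have h2 : ∑ i : Ix N, e * ((i : ℕ) *
      D.dg (if h : e * i ∈ Ioc 0 N then u ⟨e * i, h⟩ else D.one)) =
      ∑ k ∈ Ioc 0 N, f (e * k) := by
    rw [← Finset.sum_coe_sort (Ioc 0 N)]
    refine Finset.sum_congr rfl fun i _ => ?_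
    simp only [f]
    split_ifs
    · rw [mul_assoc]
    · simp [D.dg_one]
  rw [h1, h2]
  refine Finset.sum_bij_ne_zero (fun k _ _ => e * k) ?_ ?_ ?_ fun _ _ _ => rfl
  · intro k _ hk
    by_contra h
    exact hk (dif_neg h)
  · intro a _ _ b _ _ h
    exact Nat.eq_of_mul_eq_mul_left he h
  · intro k hk h
    simp only [f, dif_pos hk] at h
    obtain ⟨j, rfl⟩ := hu ⟨k, hk⟩ (right_ne_zero_of_mul h)
    rw [mem_Ioc] at hk
    refine ⟨j, mem_Ioc.2 ⟨Nat.pos_of_mul_pos_left hk.1, (Nat.le_mul_of_pos_left _ he).trans hk.2⟩,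
      by simpa only [f, dif_pos (mem_Ioc.2 hk)] using h, rfl⟩

open Classical in
theorem card_filter_dvd_le {e m : ℕ} (he : 0 < e) :
    #{u : D.US N m | ∀ i : Ix N, D.dg (u.1 i) ≠ 0 → e ∣ i} ≤
      if e ∣ m then Nat.card (D.US N (m / e)) else 0 := by
  split_ifs with h
  · rw [← Fintype.card_subtype, Nat.card_eq_fintype_card]
    refine Fintype.card_le_of_injective (fun u => ⟨fun i : Ix N =>
      if h : e * i ∈ Ioc 0 N then u.1.1 ⟨e * i, h⟩ else D.one,
      (Nat.div_eq_of_eq_mul_right he ((D.wt_div he u.1.1 u.2).trans u.1.2).symm).symm⟩) ?_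
    intro u v huv
    refine Subtype.ext (Subtype.ext (funext fun ⟨i, hi⟩ => ?_))
    by_cases hd : e ∣ i
    · obtain ⟨j, rfl⟩ := hd
      have hj : j ∈ Ioc 0 N := mem_Ioc.2 ⟨Nat.pos_of_mul_pos_left (mem_Ioc.1 hi).1,
        (Nat.le_mul_of_pos_left _ he).trans (mem_Ioc.1 hi).2⟩
      have := congrFun (congrArg Subtype.val huv) ⟨j, hj⟩
      simpa only [dif_pos hi] using this
    · rw [D.eq_one _ (not_not.1 fun h => hd (u.2 ⟨i, hi⟩ h)),
        D.eq_one _ (not_not.1 fun h => hd (v.2 ⟨i, hi⟩ h))]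
  · rw [Nat.le_zero, Finset.card_eq_zero, Finset.filter_eq_empty_iff]
    intro u _ hu
    exact h ⟨_, ((D.wt_div he u.1 hu).trans u.2).symm⟩

variable [Fintype M]

theorem g_pos (u : Ix N → X) : 0 < D.g u :=
  have : Nonempty {a : M // ∀ i : Ix N, D.dg (u i) ≠ 0 → a ^ (i : ℕ) = 1} := ⟨⟨1, by simp⟩⟩
  Nat.card_pos

open Classical in
theorem sum_det_eq_one {m : ℕ} (w : (Ix N → X) → ℕ)
    (hw : ∀ (l : Ix N → M) (u : Ix N → X), w (fun i => D.tw (l i) (u i)) = w u) :
    Nat.card M * ∑ u : D.US N m, (if D.det u.1 = 1 then w u.1 else 0) =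
      ∑ u : D.US N m, w u.1 * D.g u.1 := by
  apply Nat.eq_of_mul_eq_mul_left (Fintype.card_pos (α := Ix N → M))
  have h1 : Fintype.card (Ix N → M) * ∑ u : D.US N m, (if D.det u.1 = 1 then w u.1 else 0) =
      ∑ l : Ix N → M, ∑ u : D.US N m, (if D.chi u.1 l = (D.det u.1)⁻¹ then w u.1 else 0) := by
    rw [← Finset.card_univ, ← smul_eq_mul, ← Finset.sum_const]
    refine Finset.sum_congr rfl fun l _ => ?_
    rw [← Equiv.sum_comp (D.twUS l)]
    refine Finset.sum_congr rfl fun u _ => ?_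
    change (if D.det (fun i => D.tw (l i) (u.1 i)) = 1 then w (fun i => D.tw (l i) (u.1 i))
      else 0) = _
    simp only [det_tw, hw, mul_eq_one_iff_eq_inv]
  rw [mul_left_comm, h1, Finset.sum_comm, Finset.mul_sum, Finset.mul_sum]
  refine Finset.sum_congr rfl fun u _ => ?_
  rw [← Finset.sum_filter, Finset.sum_const, smul_eq_mul,
    MonoidHom.card_fiber_eq_of_mem_range (D.chi u.1)
      ((D.chi u.1).range.inv_mem (D.det_mem_range u.1)) (D.chi u.1).range.one_mem,
    ← D.card_range_chi_mul u.1, ← Nat.card_eq_fintype_card,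
    Subgroup.card_eq_card_quotient_mul_card_subgroup (D.chi u.1).ker,
    Nat.card_congr (QuotientGroup.quotientKerEquivRange _).toEquiv]
  have : #{g | D.chi u.1 g = 1} = Nat.card (D.chi u.1).ker := by
    rw [Nat.card_eq_fintype_card, Fintype.card_subtype]
    simp
  rw [this]
  ring

/-- The sum that counts the classes of the determinant-one subgroup. -/
noncomputable def sumU (N m : ℕ) : ℕ := ∑ u : D.US N m, D.g u.1 ^ 2

open Classical in
theorem sumU_le_sum (m : ℕ) : D.sumU N m ≤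
    ∑ x : M × M, if orderOf x ∣ m then Nat.card (D.US N (m / orderOf x)) else 0 := by
  refine le_trans (le_of_eq ?_) (Finset.sum_le_sum fun x _ => D.card_filter_dvd_le (orderOf_pos x))
  simp only [Finset.card_filter]
  rw [Finset.sum_comm]
  refine Finset.sum_congr rfl fun u _ => ?_
  rw [← Finset.card_filter, sq, g, ← Nat.card_prod, ← Fintype.card_subtype,
    ← Nat.card_eq_fintype_card]
  refine Nat.card_congr ⟨fun a => ⟨(a.1.1, a.2.1), fun i hi => orderOf_dvd_iff_pow_eq_one.2
    (Prod.ext (a.1.2 i hi) (a.2.2 i hi))⟩, fun x => (⟨x.1.1, fun i hi =>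
      congrArg Prod.fst (orderOf_dvd_iff_pow_eq_one.1 (x.2 i hi))⟩, ⟨x.1.2, fun i hi =>
      congrArg Prod.snd (orderOf_dvd_iff_pow_eq_one.1 (x.2 i hi))⟩), fun _ => rfl, fun _ => rfl⟩

open Classical in
theorem sumU_le_add (m : ℕ) : D.sumU N m ≤ Nat.card (D.US N m) +
    ∑ x : M × M with x ≠ 1 ∧ x ^ m = 1, Nat.card (D.US N (m / orderOf x)) := by
  refine (D.sumU_le_sum m).trans (le_of_eq ?_)
  rw [← Finset.add_sum_erase _ _ (mem_univ 1), orderOf_one, if_pos (one_dvd _), Nat.div_one,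
    ← Finset.sum_filter]
  congr 2
  ext x
  simp [← orderOf_dvd_iff_pow_eq_one]

variable {G S : Type*} [Group G] [Group S] [Finite G] (j : S →* G) (hj : Function.Injective j)
  (φ : G →* M) (hφ : Function.Surjective φ) (hker : j.range = φ.ker) {m : ℕ} (inv : G → D.US N m)
  (hdet : ∀ y, D.det (inv y).1 = φ y)

include hj hφ hker hdet in
theorem card_conjClasses_le (h1 : ∀ x y, inv x = inv y → IsConj x y)
    (h2 : ∀ y, (D.chi (inv y).1).range ≤ (Subgroup.centralizer {y}).map φ) :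
    Nat.card M * Nat.card (ConjClasses S) ≤ D.sumU N m := by
  classical
  have := Finite.of_injective j hj
  have := Fintype.ofFinite G
  have := Fintype.ofFinite S
  have hGS : Nat.card M * Nat.card S = Nat.card G := by
    rw [Nat.card_congr (MonoidHom.ofInjective hj).toEquiv, hker, ← Subgroup.card_mul_index φ.ker,
      Subgroup.index_ker, MonoidHom.range_eq_top.2 hφ, Subgroup.card_top, mul_comm]
  have hφj : ∀ y, φ (j y) = 1 := fun y => by rw [← MonoidHom.mem_ker, ← hker]; exact ⟨y, rfl⟩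
  have hc : ∀ y : S, Nat.card M * Nat.card (Subgroup.centralizer {y}) ≤
      D.g (inv (j y)).1 * Nat.card (Subgroup.centralizer {j y}) := by
    intro y
    let ψ := φ.comp (Subgroup.centralizer {j y}).subtype
    have h3 : Nat.card (Subgroup.centralizer {y}) ≤ Nat.card ψ.ker :=
      Nat.card_le_card_of_injective (fun x => ⟨⟨j x.1, Subgroup.mem_centralizer_singleton_iff.2
        (by rw [← map_mul, ← map_mul, Subgroup.mem_centralizer_singleton_iff.1 x.2])⟩,
        hφj _⟩) fun x y h => Subtype.ext (hj (congrArg (fun z => z.1.1) h))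
    have h4 : Nat.card (D.chi (inv (j y)).1).range ≤ Nat.card ψ.range := by
      rw [MonoidHom.range_comp, Subgroup.range_subtype]
      exact Subgroup.card_le_of_le (h2 _)
    rw [Subgroup.card_eq_card_quotient_mul_card_subgroup ψ.ker,
      Nat.card_congr (QuotientGroup.quotientKerEquivRange ψ).toEquiv,
      ← D.card_range_chi_mul (inv (j y)).1, mul_comm (Nat.card _), mul_assoc]
    exact Nat.mul_le_mul_left _ (Nat.mul_le_mul h4 h3)
  have h3 := D.sum_det_eq_one (N := N) (m := m) D.g fun l u => D.g_congr fun i => by rw [D.dg_tw]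
  simp only [← sq] at h3
  rw [sumU, ← h3]
  refine Nat.mul_le_mul_left _ ?_
  apply Nat.le_of_mul_le_mul_right (c := Nat.card G) _ Nat.card_pos
  have h4 : Nat.card (ConjClasses S) * Nat.card S = ∑ y : S, Nat.card (Subgroup.centralizer {y}) := by
    rw [← card_comm_eq_card_conjClasses_mul_card, ← Nat.card_sigma]
    exact Nat.card_congr ⟨fun p => ⟨p.1.2, p.1.1, Subgroup.mem_centralizer_singleton_iff.2 p.2⟩,
      fun p => ⟨(p.2.1, p.1), Subgroup.mem_centralizer_singleton_iff.1 p.2.2⟩,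
      fun _ => rfl, fun _ => rfl⟩
  conv_lhs => rw [← hGS, mul_left_comm, h4, Finset.mul_sum]
  rw [Finset.sum_mul, ← Finset.sum_fiberwise (s := univ) (g := fun y => inv (j y))]
  refine Finset.sum_le_sum fun u _ => ?_
  refine le_trans (Finset.sum_le_sum (g := fun y => (if D.det u.1 = 1 then D.g u.1 else 0) *
    Nat.card (Subgroup.centralizer {j y})) fun y hy => ?_) ?_
  · obtain rfl := (mem_filter.1 hy).2
    rw [if_pos (by rw [hdet, hφj])]
    exact hc y
  · rw [← Finset.mul_sum]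
    refine Nat.mul_le_mul_left _ (sum_card_centralizer_le j hj _ fun x hx y hy => ?_)
    exact h1 _ _ ((mem_filter.1 hx).2.trans (mem_filter.1 hy).2.symm)

include hj hker hdet in
theorem card_US_le_mul (h1 : ∀ x y, IsConj x y → inv x = inv y) (h2 : Function.Surjective inv) :
    Nat.card (D.US N m) ≤ Nat.card M * Nat.card (ConjClasses S) := by
  classical
  have := Finite.of_injective j hj
  have h3 := D.sum_det_eq_one (N := N) (m := m) (fun _ => 1) fun _ _ => rfl
  have h4 : Nat.card (D.US N m) ≤ ∑ u : D.US N m, 1 * D.g u.1 := by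
    rw [Nat.card_eq_fintype_card, ← Finset.card_univ, Finset.card_eq_sum_ones]
    exact Finset.sum_le_sum fun u _ => by rw [one_mul]; exact D.g_pos u.1
  rw [← h3, ← Finset.card_filter] at h4
  refine h4.trans (Nat.mul_le_mul_left _ ?_)
  rw [← Fintype.card_subtype, ← Nat.card_eq_fintype_card]
  have hφj : ∀ y, φ (j y) = 1 := fun y => by rw [← MonoidHom.mem_ker, ← hker]; exact ⟨y, rfl⟩
  refine Nat.card_le_card_of_surjective (fun C => Quotient.liftOn C
    (fun y => (⟨inv (j y), by rw [hdet, hφj]⟩ : {u : D.US N m // D.det u.1 = 1}))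
    fun x y h => Subtype.ext (h1 _ _ (j.map_isConj h))) ?_
  rintro ⟨u, hu⟩
  obtain ⟨A, rfl⟩ := h2 u
  rw [hdet, ← MonoidHom.mem_ker, ← hker] at hu
  obtain ⟨y, rfl⟩ := hu
  exact ⟨ConjClasses.mk y, rfl⟩

end TwD

end CL.GLn
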