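import Mathlib
import Cfsg.Agent.KSG.GLnClsAbs
import Cfsg.Agent.CLAS.UniED
import Cfsg.Agent.CLAS.LangSU

/-!
# The number of conjugacy classes of `SU_n(q)`
-/

set_option autoImplicit false

namespace CL.GLn

open Polynomial Finset CL.SqField CL.UniED CL.SpU

theorem TwD.card_dg_eq {X M : Type*} [CommGroup M] [Finite M] (D : TwD X M) {d : ℕ} (hd : d ≠ 0)
    (c : M) :
    Nat.card {f : X // D.dg f = d} = Nat.card M * Nat.card {f : X // D.dg f = d ∧ D.nrm f = c} := by
  rw [← Nat.card_prod]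
  refine (Nat.card_eq_of_bijective (fun p => ⟨D.tw p.1 p.2.1, (D.dg_tw _ _).trans p.2.2.1⟩)
    ⟨?_, ?_⟩).symm
  · rintro ⟨a, f, hf, hf'⟩ ⟨b, g, hg, hg'⟩ h
    have h1 : D.tw a f = D.tw b g := congrArg Subtype.val h
    have h2 := congrArg D.nrm h1
    rw [D.nrm_tw, D.nrm_tw, hf, hg, if_neg hd, if_neg hd, hf', hg'] at h2
    obtain rfl := mul_right_cancel h2
    obtain rfl := (D.tw a).injective h1
    rfl
  · rintro ⟨f, hf⟩
    obtain ⟨g, hg⟩ := (D.tw (D.nrm f * c⁻¹)).surjective f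
    have h1 : D.dg g = d := by rw [← hf, ← hg, D.dg_tw]
    have h2 := congrArg D.nrm hg
    rw [D.nrm_tw, h1, if_neg hd, mul_assoc, mul_eq_left, inv_mul_eq_one] at h2
    exact ⟨⟨_, g, h1, h2.symm⟩, Subtype.ext hg⟩

section Scale

variable {F : Type*} [Field F]

/-- Coefficientwise scaling. -/
noncomputable def scC (w : ℕ → F) (f : F[X]) : F[X] := ∑ k ∈ f.support, monomial k (w k * f.coeff k)

theorem coeff_scC (w : ℕ → F) (f : F[X]) (k : ℕ) : (scC w f).coeff k = w k * f.coeff k := by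
  simp only [scC, finsetSum_coeff, coeff_monomial, sum_ite_eq']
  split_ifs with h
  · rfl
  · rw [notMem_support_iff.1 h, mul_zero]

theorem natDegree_scC {w : ℕ → F} (hw : ∀ k, w k ≠ 0) (f : F[X]) :
    (scC w f).natDegree = f.natDegree := by
  refine le_antisymm (natDegree_le_iff_coeff_eq_zero.2 fun k hk => ?_)
    (natDegree_le_iff_coeff_eq_zero.2 fun k hk => ?_)
  · rw [coeff_scC, coeff_eq_zero_of_natDegree_lt hk, mul_zero]
  · have := coeff_eq_zero_of_natDegree_lt hk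
    rw [coeff_scC] at this
    exact (mul_eq_zero.1 this).resolve_left (hw k)

/-- The weights of the unitary twist. -/
def wU (d : ℕ) (c v : F) (k : ℕ) : F := if k = d then 1 else if k = 0 then c else v

theorem wU_ne {d : ℕ} {c v : F} (hc : c ≠ 0) (hv : v ≠ 0) (k : ℕ) : wU d c v k ≠ 0 := by
  unfold wU; split_ifs <;> simp [hc, hv]

theorem wU_inv (d : ℕ) {c v : F} (hc : c ≠ 0) (hv : v ≠ 0) (k : ℕ) :
    wU d c⁻¹ v⁻¹ k * wU d c v k = 1 := by
  unfold wU; split_ifs <;> simp [hc, hv]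

end Scale

variable {K : Type*} [Field K] [Fintype K] {q : ℕ} (hK : Fintype.card K = q ^ 2)

/-- Self-conjugate monic polynomials. -/
abbrev UP := {f : MP K // dl hK f.1 = f.1}

variable (K q) in
/-- The norm-one group. -/
abbrev MuU : Subgroup Kˣ := (powMonoidHom (q + 1) : Kˣ →* Kˣ).ker

omit [Fintype K] in
theorem muU_pow (c : MuU K q) : ((c : Kˣ) : K) ^ (q + 1) = 1 := congrArg Units.val c.2

theorem UP.coeff_zero_pow (f : UP hK) : f.1.1.coeff 0 ^ (q + 1) = 1 := by
  have := coeff_zero_dl hK f.1.2.1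
  rw [f.2] at this
  exact (inv_pow_eq_iff f.1.2.2).1 this.symm

/-- The twist of a self-conjugate polynomial. -/
noncomputable def twUP {c v : K} (hc : c ^ (q + 1) = 1) (hv : v ≠ 0) (h : c * v ^ q = v)
    (f : UP hK) : UP hK :=
  have hc0 : c ≠ 0 := by rintro rfl; simp at hc
  ⟨⟨scC (wU f.1.1.natDegree c v) f.1.1, by
      rw [Monic, leadingCoeff, natDegree_scC (wU_ne hc0 hv), coeff_scC, wU, if_pos rfl, one_mul]
      exact f.1.2.1,
    by rw [coeff_scC]; exact mul_ne_zero (wU_ne hc0 hv 0) f.1.2.2⟩, by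
    ext i
    have h1 := coeff_dl hK f.1.1 i
    rw [f.2] at h1
    dsimp only
    rw [coeff_dl, natDegree_scC (wU_ne hc0 hv), coeff_scC, coeff_scC, coeff_scC]
    by_cases hi : i ≤ f.1.1.natDegree
    · rw [h1, mul_pow, mul_pow, mul_inv, mul_mul_mul_comm, revAt_le hi]
      congr 1
      have h2 := (inv_pow_eq_iff (q := q) hc0).2 hc
      have h3 : c * c ^ q = 1 := by rw [← pow_succ', hc]
      generalize f.1.1.natDegree = d at hi ⊢
      unfold wU
      split_ifs <;> first | omega | simp [h2, h, h3]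
    · rw [revAt_eq_self_of_lt (not_le.1 hi), coeff_eq_zero_of_natDegree_lt (not_le.1 hi)]
      simp [zero_pow_q hK]⟩

theorem natDegree_twUP {c v : K} (hc : c ^ (q + 1) = 1) (hv : v ≠ 0) (h : c * v ^ q = v)
    (f : UP hK) : (twUP hK hc hv h f).1.1.natDegree = f.1.1.natDegree :=
  natDegree_scC (wU_ne (by rintro rfl; simp at hc) hv) _

theorem coeff_twUP {c v : K} (hc : c ^ (q + 1) = 1) (hv : v ≠ 0) (h : c * v ^ q = v)
    (f : UP hK) (k : ℕ) :
    (twUP hK hc hv h f).1.1.coeff k = wU f.1.1.natDegree c v k * f.1.1.coeff k := coeff_scC _ _ _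

/-- The twist as a permutation. -/
noncomputable def twUPEquiv {c v : K} (hc : c ^ (q + 1) = 1) (hv : v ≠ 0) (h : c * v ^ q = v) :
    UP hK ≃ UP hK :=
  have hc0 : c ≠ 0 := by rintro rfl; simp at hc
  { toFun := twUP hK hc hv h
    invFun := twUP hK (c := c⁻¹) (by rw [inv_pow, hc, inv_one]) (inv_ne_zero hv)
      (by rw [inv_pow, ← mul_inv, h])
    left_inv := fun f => Subtype.ext (Subtype.ext (Polynomial.ext fun k => by
      rw [coeff_twUP, coeff_twUP, natDegree_twUP, ← mul_assoc, wU_inv _ hc0 hv, one_mul]))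
    right_inv := fun f => Subtype.ext (Subtype.ext (Polynomial.ext fun k => by
      rw [coeff_twUP, coeff_twUP, natDegree_twUP, ← mul_assoc, mul_comm (wU _ c v k),
        wU_inv _ hc0 hv, one_mul])) }

/-- The twisting data of the unitary group. -/
noncomputable def uniD : TwD (UP hK) (MuU K q) where
  dg f := f.1.1.natDegree
  fin d := by
    have := finite_MP (F := K) d
    exact Finite.of_injective (β := {f : MP K // f.1.natDegree = d}) (fun f => ⟨f.1.1, f.2⟩)
      fun f g h => Subtype.ext (Subtype.ext (congrArg (·.1) h))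
  one := ⟨oneMP, dl_one hK⟩
  dg_one := natDegree_one
  eq_one f h := Subtype.ext (eq_oneMP h)
  nrm f := ⟨nrmMP f.1, Units.ext (by
    have h1 : (-1 : K) ^ (q + 1) = 1 := by rw [pow_succ, neg_pow_q hK]; simp
    simp only [nrmMP, powMonoidHom_apply, Units.val_pow_eq_pow_val, Units.val_mk0, mul_pow,
      UP.coeff_zero_pow, mul_one, Units.val_one]
    rw [← pow_mul, mul_comm, pow_mul, h1, one_pow])⟩
  nrm_one := Subtype.ext nrmMP_oneMP
  tw c := twUPEquiv hK (muU_pow c) (exists_div_of_norm_one hK (muU_pow c)).choose_spec.1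
    (exists_div_of_norm_one hK (muU_pow c)).choose_spec.2
  dg_tw c f := natDegree_twUP hK (muU_pow c) (exists_div_of_norm_one hK (muU_pow c)).choose_spec.1
    (exists_div_of_norm_one hK (muU_pow c)).choose_spec.2 f
  nrm_tw c f := Subtype.ext (Units.ext (by
    obtain ⟨h1, h2⟩ := (exists_div_of_norm_one hK (muU_pow c)).choose_spec
    refine (congrArg₂ (fun a b => (-1 : K) ^ a * b) (natDegree_twUP hK (muU_pow c) h1 h2 f)
      (coeff_twUP hK (muU_pow c) h1 h2 f 0)).trans ?_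
    rw [wU]
    by_cases h : f.1.1.natDegree = 0
    · simp [h, nrmMP]
    · simp only [h, Ne.symm h, if_false, if_true, Subgroup.coe_mul, Units.val_mul, nrmMP,
        Units.val_mk0]
      ring))

theorem uniD_dg (f : UP hK) : (uniD hK).dg f = f.1.1.natDegree := rfl

theorem uniD_nrm (f : UP hK) : (((uniD hK).nrm f : Kˣ) : K) =
    (-1) ^ f.1.1.natDegree * f.1.1.coeff 0 := rfl

theorem card_uniD_dg (d : ℕ) :
    Nat.card {f : UP hK // (uniD hK).dg f = d + 1} = (q + 1) * q ^ d := by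
  have h1 : (-1 : K) ^ (q + 1) = 1 := by rw [pow_succ, neg_pow_q hK]; simp
  rw [(uniD hK).card_dg_eq d.succ_ne_zero ⟨(-1) ^ (d + 1), Units.ext (by
    simp only [powMonoidHom_apply, Units.val_pow_eq_pow_val, Units.val_neg, Units.val_one]
    rw [← pow_mul, mul_comm, pow_mul, h1, one_pow])⟩, card_ker_norm hK,
    ← card_unitary_poly hK d (ε := 1) (mul_one 1) (one_pow q)]
  congr 1
  have key : ∀ f : K[X], f.coeff 0 = 1 →
      (dl hK f = f ↔ f.map (SqField.conj hK : K →+* K) = C 1 * f.reverse) := by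
    intro f h0
    rw [dl, h0, one_pow, inv_one, C_1, one_mul, one_mul, rv]
    constructor
    · intro h
      conv_lhs => rw [← h, Polynomial.map_map]
      ext k
      simp [conj_conj]
    · intro h
      rw [← h, Polynomial.map_map]
      ext k
      simp [conj_conj]
  refine Nat.card_congr ⟨fun f => ⟨f.1.1.1, f.1.1.2.1, f.2.1, (key _ ?_).1 f.1.2⟩,
    fun f => ?_, fun _ => ?_, fun _ => ?_⟩
  · have := congrArg (fun c : MuU K q => ((c : Kˣ) : K)) f.2.2
    rw [uniD_nrm, ← uniD_dg, f.2.1] at this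
    simpa using this
  · have h0 : f.1.coeff 0 = 1 := by
      have := congrArg (fun p => coeff p 0) f.2.2.2
      simp only [coeff_map, C_1, one_mul, coeff_zero_reverse, f.2.1.leadingCoeff,
        RingHom.coe_coe] at this
      exact (SqField.conj hK).injective (this.trans (map_one _).symm)
    exact ⟨⟨⟨f.1, f.2.1, by simp [h0]⟩, (key _ h0).2 f.2.2.2⟩, f.2.2.1, Subtype.ext (Units.ext (by
      rw [uniD_nrm]; simp [h0, f.2.2.1]))⟩
  · rfl
  · rfl

theorem uniD_serA_eq {i : ℕ} (hi : 0 < i) :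
    (1 - (q : PowerSeries ℤ) * PowerSeries.X ^ i) * (uniD hK).serA i = 1 + PowerSeries.X ^ i := by
  ext k
  have h1 : (q : PowerSeries ℤ) = PowerSeries.C (q : ℤ) := by simp
  rw [sub_mul, one_mul, mul_assoc, h1, map_sub, PowerSeries.coeff_C_mul,
    PowerSeries.coeff_X_pow_mul', map_add, PowerSeries.coeff_one, PowerSeries.coeff_X_pow]
  by_cases h : i ∣ k
  · obtain ⟨d, rfl⟩ := h
    rcases d with _ | _ | d
    · simp [TwD.coeff_zero_serA _ hi, hi.ne', hi.ne]
    · have := (uniD hK).coeff_serA_mul hi (0 + 1)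
      rw [card_uniD_dg] at this
      simp only [zero_add, mul_one] at this ⊢
      simp [this, TwD.coeff_zero_serA _ hi, hi.ne']
    · have h2 : i * (d + 1 + 1) - i = i * (d + 1) := by rw [mul_add, mul_one, Nat.add_sub_cancel]
      have h3 : i * (d + 1 + 1) ≠ i := by nlinarith
      rw [if_pos (by nlinarith), h2, TwD.coeff_serA_mul _ hi, TwD.coeff_serA_mul _ hi, if_neg h3,
        card_uniD_dg, card_uniD_dg]
      simp [hi.ne']
      ring
  · have h2 : k ≠ 0 := by rintro rfl; exact h (dvd_zero _)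
    have h3 : k ≠ i := by rintro rfl; exact h dvd_rfl
    rw [TwD.coeff_serA_of_not_dvd _ h, if_neg h2, if_neg h3]
    split_ifs with h4
    · rw [TwD.coeff_serA_of_not_dvd _ fun h5 => h ((Nat.dvd_sub_iff_left h4 dvd_rfl).1 h5)]
      simp
    · simp

theorem card_uniUS_le {N : ℕ} (hN : 0 < N) (m : ℕ) :
    (Nat.card ((uniD hK).US N m) : ℝ) ≤ q ^ m * ((1 + (q : ℝ)⁻¹) *
      ∏ i ∈ Ioc 1 N, if i ≤ m then (1 + (q : ℝ)⁻¹ ^ i) / (1 - (q : ℝ)⁻¹ ^ (i - 1)) else 1) := by
  have hq := two_le hK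
  have hx : (0 : ℝ) ≤ (q : ℝ)⁻¹ := by positivity
  have h1 := (uniD hK).card_US N m
  have h2 : (uniD hK).serA 1 = geoS q * (1 + PowerSeries.X ^ 1) := by
    rw [← uniD_serA_eq hK one_pos, ← mul_assoc, pow_one, mul_comm (geoS q), geoS_eq, one_mul]
  rw [← Finset.prod_Ioc_consecutive _ zero_le_one hN, show Ioc 0 1 = {1} from rfl, prod_singleton,
    h2, mul_assoc] at h1
  have h3 := coeff_geoS_mul (by omega : 0 < q)
    ((1 + PowerSeries.X ^ 1) * ∏ i ∈ Ioc 1 N, (uniD hK).serA i) m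
  rw [← h1, Int.cast_natCast] at h3
  rw [h3]
  have h4 : ∀ i, NNeg (1 + PowerSeries.X ^ i) := fun i k => by
    rw [map_add]; exact add_nonneg (nneg_one k) (nneg_X_pow i k)
  have h5 : ∀ i, TW (q : ℝ)⁻¹ m (1 + PowerSeries.X ^ i) ≤ 1 + (q : ℝ)⁻¹ ^ i := fun i => by
    rw [TW_add, TW_one]; exact add_le_add_right (TW_X_pow_le hx i) _
  have h6 := NNeg.prod (s := Ioc 1 N) fun i _ => (uniD hK).nneg_serA i
  refine mul_le_mul_of_nonneg_left ((TW_mul_le hx (h4 1) h6).trans ?_) (by positivity)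
  refine mul_le_mul (by simpa using h5 1) (TW_prod_le hx (fun i _ => (uniD hK).nneg_serA i)
    fun i hi => ?_) (TW_nonneg hx h6) (by positivity)
  have hi1 := (mem_Ioc.1 hi).1
  split_ifs with h
  · have h7 : (q : ℝ) * (q : ℝ)⁻¹ ^ i = (q : ℝ)⁻¹ ^ (i - 1) := by
      obtain ⟨j, rfl⟩ : ∃ j, i = j + 1 := ⟨i - 1, by omega⟩
      rw [pow_succ', ← mul_assoc, mul_inv_cancel₀ (by positivity), one_mul, Nat.add_sub_cancel]
    rw [← h7]
    refine TW_le_div hx ((uniD hK).nneg_serA i) (uniD_serA_eq hK (by omega)) ?_ (h5 i)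
    rw [h7]
    exact pow_lt_one₀ hx (inv_lt_one_of_one_lt₀ (by exact_mod_cast hq)) (by omega)
  · refine (TW_eq_one (TwD.coeff_zero_serA _ (by omega)) fun k hk hk' =>
      TwD.coeff_serA_of_not_dvd _ fun h' => ?_).le
    have := Nat.le_of_dvd hk h'
    omega

/-- The partial products bounding the class numbers of unitary groups. -/
noncomputable def uniR (x : ℝ) (N : ℕ) : ℝ :=
  (1 + x) * ∏ i ∈ Ioc 1 N, (1 + x ^ i) / (1 - x ^ (i - 1))

theorem card_uniUS_le' {N m : ℕ} (hN : 0 < N) (h : m ≤ N) :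
    (Nat.card ((uniD hK).US N m) : ℝ) ≤ q ^ m * uniR (q : ℝ)⁻¹ m := by
  refine (card_uniUS_le hK hN m).trans (le_of_eq ?_)
  rw [← Finset.prod_filter, uniR]
  congr 3
  ext i
  simp only [mem_filter, mem_Ioc]
  omega

theorem uniR_le {x a C : ℝ} (hx : 0 ≤ x) (hx1 : x < 1) (ha : x + 1 + a * x ≤ a) (ha0 : 0 ≤ a)
    (hC : 0 ≤ C) {N₀ : ℕ} (hN₀ : 1 ≤ N₀) (h0 : uniR x N₀ ≤ C * (1 - a * x ^ N₀)) {N : ℕ}
    (hN : N₀ ≤ N) : uniR x N ≤ C := by
  have h1 : uniR x N ≤ C * (1 - a * x ^ N) := by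
    induction N, hN using Nat.le_induction with
    | base => exact h0
    | succ N hN ih =>
      have h2 : x ^ N < 1 := pow_lt_one₀ hx hx1 (by omega)
      have h3 : 0 ≤ x ^ N := by positivity
      rw [uniR, Finset.prod_Ioc_succ_top (by omega), ← mul_assoc, ← uniR, Nat.add_sub_cancel,
        pow_succ']
      refine (mul_le_mul_of_nonneg_right ih (div_nonneg (by positivity) (by linarith))).trans ?_
      rw [mul_assoc, ← mul_div_assoc]
      refine mul_le_mul_of_nonneg_left ((div_le_iff₀ (by linarith)).2 ?_) hC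
      have h4 := mul_le_mul_of_nonneg_right ha h3
      have h5 : 0 ≤ a * x * (x ^ N * x ^ N) := by positivity
      nlinarith
  exact h1.trans (mul_le_of_le_one_right hC (sub_le_self _ (by positivity)))

theorem uniR_two (m : ℕ) : uniR ((2 : ℕ) : ℝ)⁻¹ m ≤ 9 := by
  rcases (by omega : m = 0 ∨ m = 1 ∨ m = 2 ∨ 3 ≤ m) with rfl | rfl | rfl | h
  · norm_num [uniR]
  · norm_num [uniR]
  · norm_num [uniR, show Ioc 1 2 = {2} from rfl]
  · refine uniR_le (a := 3) (by norm_num) (by norm_num) (by norm_num) (by norm_num) (by norm_num)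
      (by norm_num) ?_ h
    norm_num [uniR, show Ioc 1 3 = {2, 3} from rfl]

theorem uniR_three {q : ℕ} (hq : 3 ≤ q) (m : ℕ) : uniR (q : ℝ)⁻¹ m ≤ 4 := by
  have h1 : (q : ℝ)⁻¹ ≤ 3⁻¹ := inv_anti₀ (by norm_num) (by exact_mod_cast hq)
  have h2 : (0 : ℝ) ≤ (q : ℝ)⁻¹ := by positivity
  rcases m.eq_zero_or_pos with rfl | h
  · simp [uniR]; linarith
  · refine uniR_le (a := 2) h2 (by linarith) (by linarith) (by norm_num) (by norm_num)
      le_rfl ?_ h
    simp [uniR]; linarith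

open Classical in
theorem card_pair_le {M : Type*} [CommGroup M] [Fintype M] [IsCyclic M] {e : ℕ} (he : 0 < e) :
    #{x : M × M | x ≠ 1 ∧ x ^ e = 1} + 1 ≤ e ^ 2 := by
  have h1 : #{x : M × M | x ^ e = 1} ≤ e ^ 2 := by
    have h2 : (univ.filter fun x : M × M => x ^ e = 1) =
        (univ.filter fun x : M => x ^ e = 1) ×ˢ (univ.filter fun x : M => x ^ e = 1) := by
      ext x; simp [Prod.ext_iff]
    rw [h2, card_product, sq]
    exact Nat.mul_le_mul (IsCyclic.card_pow_eq_one_le he) (IsCyclic.card_pow_eq_one_le he)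
  refine le_trans (le_of_eq ?_) h1
  rw [← Finset.card_insert_of_notMem (a := (1 : M × M)) (by simp)]
  congr 1
  ext x
  by_cases hx : x = 1 <;> simp [hx]

noncomputable instance fintypeMuU : Fintype (MuU K q) := Fintype.ofFinite _

theorem uni_sumU_le {n : ℕ} (hn : 2 ≤ n) :
    100 * (uniD hK).sumU n n ≤ (q + 1) * (826 * q ^ (n - 1)) := by
  classical
  have hq := two_le hK
  obtain ⟨S, hS, h1⟩ : ∃ S : Finset (MuU K q × MuU K q), (∀ x ∈ S, x ≠ 1 ∧ x ^ n = 1) ∧
      (uniD hK).sumU n n ≤ Nat.card ((uniD hK).US n n) +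
        ∑ x ∈ S, Nat.card ((uniD hK).US n (n / orderOf x)) :=
    ⟨_, fun x hx => by simpa using hx, (uniD hK).sumU_le_add (N := n) n⟩
  have hS1 : #S + 1 ≤ n ^ 2 :=
    le_trans (Nat.succ_le_succ (Finset.card_le_card fun x hx => by simpa using hS x hx))
      (card_pair_le (M := MuU K q) (by omega : 0 < n))
  have hmem : ∀ x ∈ S, 2 ≤ orderOf x ∧ orderOf x ∣ n ∧ orderOf x ∣ q + 1 := fun x hx => by
    replace hx := hS x hx
    refine ⟨two_le_orderOf hx.1, orderOf_dvd_of_pow_eq_one hx.2, orderOf_dvd_of_pow_eq_one ?_⟩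
    rw [← card_ker_norm hK]
    exact Prod.ext pow_card_eq_one' pow_card_eq_one'
  have hS2 : #S + 1 ≤ (q + 1) ^ 2 := by
    refine le_trans (Nat.succ_le_succ (Finset.card_le_card fun x hx => ?_))
      (card_pair_le (M := MuU K q) q.succ_pos)
    simp only [mem_filter, mem_univ, true_and]
    exact ⟨(hS x hx).1, orderOf_dvd_iff_pow_eq_one.1 (hmem x hx).2.2⟩
  obtain ⟨k, rfl⟩ : ∃ k, n = k + 2 := ⟨n - 2, by omega⟩
  rw [show k + 2 - 1 = k + 1 from rfl]
  rcases (by omega : q = 2 ∨ 3 ≤ q) with rfl | hq3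
  · have h2 : ∀ m ≤ k + 2, Nat.card ((uniD hK).US (k + 2) m) ≤ 9 * 2 ^ m := fun m hm => by
      have := (card_uniUS_le' hK (by omega) hm).trans
        (mul_le_mul_of_nonneg_left (uniR_two m) (by positivity))
      rw [mul_comm] at this
      exact_mod_cast this
    have h3 : ∀ x ∈ S, 800 * Nat.card ((uniD hK).US (k + 2) ((k + 2) / orderOf x)) ≤
        339 * 2 ^ (k + 2) := by
      intro x hx
      obtain ⟨h4, h5, h6⟩ := hmem x hx
      rw [((Nat.dvd_prime Nat.prime_three).1 h6).resolve_left (by omega)] at h5 ⊢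
      obtain ⟨j, hj⟩ := h5
      rw [hj, Nat.mul_div_cancel_left _ three_pos]
      rcases (by omega : j = 1 ∨ j = 2 ∨ 3 ≤ j) with rfl | rfl | hj3
      · have := card_uniUS_le' hK (by omega : 0 < 3 * 1) (by omega : 1 ≤ 3 * 1)
        norm_num [uniR, -Nat.card_eq_fintype_card] at this
        have h7 : Nat.card ((uniD hK).US 3 1) ≤ 3 := by exact_mod_cast this
        norm_num [-Nat.card_eq_fintype_card]; omega
      · have := card_uniUS_le' hK (by omega : 0 < 3 * 2) (by omega : 2 ≤ 3 * 2)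
        norm_num [uniR, show Ioc 1 2 = {2} from rfl, -Nat.card_eq_fintype_card] at this
        have h7 : Nat.card ((uniD hK).US 6 2) ≤ 15 := by exact_mod_cast this
        norm_num [-Nat.card_eq_fintype_card]; omega
      · have h7 := h2 j (by omega)
        rw [hj] at h7
        have h8 : 2 ^ 6 * 2 ^ j ≤ 2 ^ (3 * j) := by
          rw [← pow_add]; exact Nat.pow_le_pow_right two_pos (by omega)
        omega
    have h4 := Finset.sum_le_card_nsmul _ _ _ h3
    rw [← Finset.mul_sum, smul_eq_mul] at h4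
    have h5 := h2 _ le_rfl
    have h6 := Nat.mul_le_mul_right (339 * 2 ^ (k + 2)) (show #S ≤ 8 by omega)
    rw [pow_succ] at h4 h5 h6
    omega
  · have h2 : ∀ m ≤ k + 2, Nat.card ((uniD hK).US (k + 2) m) ≤ 4 * q ^ m := fun m hm => by
      have := (card_uniUS_le' hK (by omega) hm).trans
        (mul_le_mul_of_nonneg_left (uniR_three hq3 m) (by positivity))
      rw [mul_comm] at this
      exact_mod_cast this
    have h3 : ∀ x ∈ S, Nat.card ((uniD hK).US (k + 2) ((k + 2) / orderOf x)) ≤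
        4 * q ^ ((k + 2) / 2) := fun x hx =>
      (h2 _ (Nat.div_le_self _ _)).trans (Nat.mul_le_mul_left _ (Nat.pow_le_pow_right (by omega)
        (Nat.div_le_div_left (hmem x hx).1 two_pos)))
    have h4 := Finset.sum_le_card_nsmul _ _ _ h3
    rw [smul_eq_mul] at h4
    have h5 := h2 _ le_rfl
    have h6 : #S * (4 * q ^ ((k + 2) / 2)) ≤ 4 * q ^ (k + 2) + 8 * q ^ (k + 1) := by
      rcases (by omega : k = 0 ∨ k = 1 ∨ 2 ≤ k) with rfl | rfl | hk
      · norm_num at hS1 ⊢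
        nlinarith
      · norm_num at hS1 ⊢
        have : 3 * q ≤ q ^ 2 := by nlinarith
        have : 3 * q ^ 2 ≤ q ^ 3 := by nlinarith
        nlinarith
      · have h7 : q ^ ((k + 2) / 2) ≤ q ^ k := Nat.pow_le_pow_right (by omega) (by omega)
        have h8 : #S ≤ q * q + 2 * q := by nlinarith
        calc _ ≤ (q * q + 2 * q) * (4 * q ^ k) := Nat.mul_le_mul h8 (Nat.mul_le_mul_left _ h7)
          _ = _ := by ring
    rw [pow_succ q (k + 1)] at h5 h6
    nlinarith [Nat.zero_le (q ^ (k + 1))]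

theorem seqOf_map_DD (s : Multiset (K[X] × ℕ)) (i : ℕ) :
    seqOf (s.map (DD hK)) i = dl hK (seqOf s i) := by
  let δ : K[X] →* K[X] := ⟨⟨dl hK, dl_one hK⟩, dl_mul hK⟩
  rw [seqOf, seqOf, show ∀ f, dl hK f = δ f from fun _ => rfl, map_multiset_prod,
    Multiset.filter_map, Multiset.map_map, Multiset.map_map]
  rfl

variable {n : ℕ}

/-- The invariants of an element of the unitary group. -/
noncomputable def uOfU (A : Cfsg.GU n K q) : (uniD hK).US n n :=
  ⟨fun i => ⟨(uOf A.1).1 i, by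
    rw [uOf_apply, ← seqOf_map_DD, (ued_of_unitary hK (ct_mul_GU hK A) (hasED_edGL A.1)).2.2]⟩,
    (uOf A.1).2⟩

theorem uOfU_eq_iff (A B : Cfsg.GU n K q) : uOfU hK A = uOfU hK B ↔ IsConj A B := by
  rw [isConj_GU_iff' hK, ← uOf_eq_iff]
  exact ⟨fun h => Subtype.ext (funext fun i => congrArg (fun u => (u.1 i).1) h),
    fun h => Subtype.ext (funext fun i => Subtype.ext (congrArg (fun u => u.1 i) h))⟩

theorem uOfU_surjective : Function.Surjective (uOfU hK : Cfsg.GU n K q → _) := by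
  intro u
  obtain ⟨A, hA⟩ := uOf_surjective (⟨fun i => (u.1 i).1, u.2⟩ : US K n n)
  have h1 : UED hK (edGL A) := by
    refine ⟨(hasED_edGL A).1, edGL_coeff_zero A, eq_of_seqOf_eq
      (isED_map_DD hK (hasED_edGL A).1 (edGL_coeff_zero A)) (hasED_edGL A).1 (N := n)
      (fun x hx => ?_) (edGL_mem_Ioc A) fun i => ?_⟩
    · obtain ⟨y, hy, rfl⟩ := Multiset.mem_map.1 hx
      exact edGL_mem_Ioc A y hy
    · rw [seqOf_map_DD, ← uOf_apply, hA]
      exact (u.1 i).2
  obtain ⟨B, hB⟩ := (exists_GU_isConj_iff hK A).2 (isConj_of_ued hK (hasED_edGL A) h1)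
  refine ⟨B, Subtype.ext (funext fun i => Subtype.ext ?_)⟩
  change (uOf B.1).1 i = _
  rw [← (uOf_eq_iff _ _).2 hB, hA]

theorem det_uOfU (A : Cfsg.GU n K q) : (uniD hK).det (uOfU hK A).1 = CL.Lang.detU hK n A := by
  refine Subtype.ext ?_
  rw [CL.Lang.coe_detU, ← detU_uOf, TwD.det, detU, SubmonoidClass.coe_finsetProd]
  rfl

theorem range_chi_uOfU_le (A : Cfsg.GU n K q) : ((uniD hK).chi (uOfU hK A).1).range ≤
    (Subgroup.centralizer {A}).map (CL.Lang.detU hK n) := by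
  refine (uniD hK).range_chi_le _ fun i hi c => ?_
  obtain ⟨v, hv, hcv⟩ := exists_div_of_norm_one hK (muU_pow c)
  obtain ⟨g, hg, hgv⟩ := range_chiU_uOf_le A.1 (pow_mem_range_chiU (uOf A.1).1 hi (Units.mk0 v hv))
  obtain ⟨w, h1, h2, h3⟩ := exists_unitary_commute_det hK (ct_mul_GU hK A) g.isUnit
    (congrArg Units.val (Subgroup.mem_centralizer_singleton_iff.1 hg))
  refine ⟨mkGU hK w h1, Subgroup.mem_centralizer_singleton_iff.2 (Subtype.ext (Units.ext h2)),
    Subtype.ext (Units.ext ?_)⟩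
  have h4 : (g : Matrix (Fin n) (Fin n) K).det = v ^ (i : ℕ) := congrArg Units.val hgv
  rw [h4, ← pow_mul, mul_comm (i : ℕ), pow_mul] at h3
  change w.det = ((c : Kˣ) : K) ^ (i : ℕ)
  apply mul_right_cancel₀ (pow_ne_zero (i : ℕ) (pow_ne_zero q hv))
  rw [h3, ← mul_pow, hcv]

include hK in
theorem card_conjClasses_SU (hn : 2 ≤ n) :
    q ^ (n - 1) ≤ Nat.card (ConjClasses (Cfsg.SU n K q)) ∧
      100 * Nat.card (ConjClasses (Cfsg.SU n K q)) ≤ 826 * q ^ (n - 1) := by
  let j : Cfsg.SU n K q →* Cfsg.GU n K q :=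
    (Matrix.SpecialLinearGroup.toGL.comp (Cfsg.SU n K q).subtype).codRestrict _ fun g => g.2
  have hj : Function.Injective j := fun a b h =>
    Subtype.ext (Matrix.SpecialLinearGroup.toGL_injective (congrArg Subtype.val h))
  have hker : j.range = (CL.Lang.detU hK n).ker := by
    ext g
    constructor
    · rintro ⟨s, rfl⟩
      exact Subtype.ext (Units.ext s.1.2)
    · intro h
      exact ⟨⟨⟨g.1, congrArg (fun c : MuU K q => ((c : Kˣ) : K)) h⟩, g.2⟩,
        Subtype.ext (Units.ext rfl)⟩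
  have h1 := (uniD hK).card_conjClasses_le j hj _ (CL.Lang.detU_surjective hK (by omega)) hker
    (uOfU hK) (det_uOfU hK) (fun x y => (uOfU_eq_iff hK x y).1) (range_chi_uOfU_le hK)
  have h2 := (uniD hK).card_US_le_mul j hj _ hker (uOfU hK) (det_uOfU hK)
    (fun x y => (uOfU_eq_iff hK x y).2) (uOfU_surjective hK)
  rw [card_ker_norm hK] at h1 h2
  have h3 := (uniD hK).card_dg_le_card_US (by omega : 0 < n) n
  have h4 := card_uniD_dg hK (n - 1)
  rw [Nat.sub_add_cancel (by omega)] at h4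
  refine ⟨Nat.le_of_mul_le_mul_left (h4.ge.trans (h3.trans h2)) q.succ_pos,
    Nat.le_of_mul_le_mul_left ?_ q.succ_pos⟩
  rw [mul_left_comm]
  exact (Nat.mul_le_mul_left _ h1).trans (uni_sumU_le hK hn)

end CL.GLn
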