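/-
Lifting power-conjugacy `x ~ x ^ k` from sections, and its control by the Weyl group in groups of Lie type.
-/
import Mathlib
import Cfsg.Agent.FUS.SylIn
import Cfsg.Agent.SOLV.Basic
import Cfsg.Agent.KSG.AltBasic
import Cfsg.Agent.CHEV.ToriAbs
import Cfsg.Agent.CHEV.TwTorus
import Cfsg.Agent.CHEV.TorHom
import Cfsg.Agent.CHEV.CoreCert

set_option autoImplicit false

namespace CL.SecL

open CL.Fus Subgroup

section Abstract

variable {L A : Type*} [Group L] [Group A]

/-- Frattini step: an `r`-subgroup `Z` of the image is covered by an `r`-subgroup whose normaliser still covers. -/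
theorem exists_syl [Finite L] {r : ℕ} [Fact r.Prime] (f : L →* A) (E : Subgroup L) {Z : Subgroup A}
    (hZ : IsPGroup r Z) (hZE : Z ≤ E.map f) (hn : E.map f ≤ normalizer (Z : Set A)) :
    ∃ P ≤ E, IsPGroup r P ∧ P.map f = Z ∧ (E ⊓ normalizer (P : Set L)).map f = E.map f := by
  obtain ⟨P, hP, -⟩ := exists_sylIn_ge (p := r) (C := ⊥) (B := E ⊓ Z.comap f) bot_le IsPGroup.of_bot
  have hC : (E ⊓ Z.comap f).map f = Z := by
    apply le_antisymm
    · rintro _ ⟨x, hx, rfl⟩; exact hx.2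
    · intro z hz
      obtain ⟨x, hx, rfl⟩ := hZE hz
      exact ⟨x, ⟨hx, hz⟩, rfl⟩
  have h1 := hP.map f
  rw [hC] at h1
  have h2 : P.map f = Z := (h1.eq_of_le le_rfl hZ h1.le).symm
  refine ⟨P, hP.le.trans inf_le_left, hP.isPGroup, h2, le_antisymm (map_mono inf_le_left) ?_⟩
  rintro _ ⟨b, hb, rfl⟩
  have hb' : b ∈ normalizer ((E ⊓ Z.comap f : Subgroup L) : Set L) := by
    intro x
    have h3 := hn ⟨b, hb, rfl⟩ (f x)
    simp only [SetLike.mem_coe, mem_inf, mem_comap, map_mul, map_inv] at h3 ⊢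
    refine and_congr ⟨fun h => mul_mem (mul_mem hb h) (inv_mem hb), fun h => ?_⟩ h3
    simpa [mul_assoc] using mul_mem (mul_mem (inv_mem hb) h) hb
  obtain ⟨c, hc, hcb⟩ := hP.frattini hb'
  have : f c ∈ P.map f := h2 ▸ hc.2
  obtain ⟨x, hx, hxc⟩ := this
  refine ⟨x⁻¹ * (c * b), ⟨E.mul_mem (E.inv_mem (hP.le hx).1) (E.mul_mem hc.1 hb),
    (normalizer (P : Set L)).mul_mem ((normalizer (P : Set L)).inv_mem (le_normalizer hx)) hcb⟩, ?_⟩
  simp [hxc]

/-- an eigenvector for conjugation on an abelian subgroup -/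
theorem exists_eig [Finite L] (f : L →* A) {P : Subgroup L} (hc : ∀ x ∈ P, ∀ y ∈ P, x * y = y * x) {g : L}
    (hg : ∀ x ∈ P, g * x * g⁻¹ ∈ P) {k : ℕ} (h : ∀ x ∈ P, f (g * x * g⁻¹) = f x ^ k) {x0 : L} (h0 : x0 ∈ P)
    (h1 : f x0 ≠ 1) : ∃ x ∈ P, x ≠ 1 ∧ g * x * g⁻¹ = x ^ k := by
  by_contra hn
  push Not at hn
  let φ : P → P := fun y => ⟨g * y * g⁻¹ * ((y : L) ^ k)⁻¹, mul_mem (hg _ y.2) (inv_mem (pow_mem y.2 k))⟩
  have hφ : Function.Injective φ := by
    intro y z e
    have e' : g * y * g⁻¹ * ((y : L) ^ k)⁻¹ = g * z * g⁻¹ * ((z : L) ^ k)⁻¹ := congrArg Subtype.val e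
    by_contra hne
    refine hn ((z : L)⁻¹ * y) (mul_mem (inv_mem z.2) y.2) (fun h => hne (Subtype.ext ?_)) ?_
    · rw [inv_mul_eq_one] at h; exact h.symm
    · have c1 : Commute (z : L)⁻¹ y := hc _ (inv_mem z.2) _ y.2
      rw [c1.mul_pow, inv_pow]
      calc g * ((z : L)⁻¹ * y) * g⁻¹ = (g * z * g⁻¹)⁻¹ * (g * y * g⁻¹ * ((y : L) ^ k)⁻¹) * (y : L) ^ k := by group
        _ = _ := by rw [e']; group
  obtain ⟨y, hy⟩ := Finite.injective_iff_surjective.1 hφ ⟨x0, h0⟩
  apply h1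
  have : x0 = g * y * g⁻¹ * ((y : L) ^ k)⁻¹ := (congrArg Subtype.val hy).symm
  rw [this, map_mul, h _ y.2, map_inv, map_pow, mul_inv_cancel]

theorem exists_conj_le {r : ℕ} [Fact r.Prime] {M T P : Subgroup L} [Finite M] (hi : ¬ r ∣ T.relIndex M) (hP : P ≤ M)
    (hp : IsPGroup r P) : ∃ y ∈ M, ∀ x ∈ P, y * x * y⁻¹ ∈ T := by
  have : Finite (T ⊓ M : Subgroup L) := Finite.of_injective _ (inclusion_injective (inf_le_right : T ⊓ M ≤ M))
  obtain ⟨Q, hQ, -⟩ := exists_sylIn_ge (p := r) (C := ⊥) (B := T ⊓ M) bot_le IsPGroup.of_bot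
  have h1 : SylIn r Q M := by
    refine sylIn_of_not_dvd_relIndex (hQ.le.trans inf_le_right) hQ.isPGroup ?_
    rw [← relIndex_mul_relIndex Q (T ⊓ M) M hQ.le inf_le_right, inf_relIndex_right]
    intro h
    rcases (Fact.out : r.Prime).dvd_mul.1 h with h | h
    · exact hQ.not_dvd_relIndex h
    · exact hi h
  obtain ⟨y, hy, h⟩ := h1.exists_conj_le hP hp
  exact ⟨y, hy, fun x hx => (hQ.le (h x hx)).1⟩

theorem conj_pow_pow {g h : L} {k : ℕ} (e : g * h * g⁻¹ = h ^ k) (n : ℕ) : g ^ n * h * (g ^ n)⁻¹ = h ^ k ^ n := by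
  induction n with
  | zero => simp
  | succ n ih =>
    calc g ^ (n + 1) * h * (g ^ (n + 1))⁻¹ = g ^ n * (g * h * g⁻¹) * (g ^ n)⁻¹ := by rw [pow_succ]; group
      _ = (g ^ n * h * (g ^ n)⁻¹) ^ k := by rw [e, conj_pow]
      _ = _ := by rw [ih, ← pow_mul, pow_succ]

theorem eq_one_of_pow {r : ℕ} [Fact r.Prime] {P : Subgroup L} (hp : IsPGroup r P) {x : L} (hx : x ∈ P) {n : ℕ}
    (hn : ¬ r ∣ n) (e : x ^ n = 1) : x = 1 := by
  obtain ⟨k, hk⟩ := hp ⟨x, hx⟩
  have hk' : x ^ r ^ k = 1 := congrArg Subtype.val hk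
  have := (orderOf_dvd_of_pow_eq_one e)
  have h2 := orderOf_dvd_of_pow_eq_one hk'
  have h3 : Nat.Coprime (r ^ k) n := Nat.Coprime.pow_left _ ((Nat.Prime.coprime_iff_not_dvd Fact.out).2 hn)
  exact orderOf_eq_one_iff.1 (Nat.eq_one_of_dvd_coprimes h3 h2 this)

theorem le_normalizer_zpowers {a : A} {E : Subgroup A} (s : Set A) (hE : E = closure s)
    (h : ∀ c ∈ s, ∃ k : ℕ, c * a * c⁻¹ = a ^ k) [Finite A] : E ≤ normalizer (zpowers a : Set A) := by
  rw [hE, closure_le]
  intro c hc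
  obtain ⟨k, hk⟩ := h c hc
  refine mem_normalizer_fintype fun x hx => ?_
  obtain ⟨n, rfl⟩ := mem_zpowers_iff.1 hx
  rw [← conj_zpow, hk]
  exact zpow_mem (pow_mem (mem_zpowers a) k) n

/-- words in two involutions -/
theorem dih_pow {s : Fin 2 → L} (hs : ∀ i, s i * s i = 1) {n : ℕ} (hn : Even n) (h : (s 0 * s 1) ^ n = 1)
    (l : List (Fin 2)) : (l.map s).prod ^ n = 1 := by
  have i0 : (s 0)⁻¹ = s 0 := inv_eq_of_mul_eq_one_right (hs 0)
  have i1 : (s 1)⁻¹ = s 1 := inv_eq_of_mul_eq_one_right (hs 1)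
  have hc : ∀ k : ℤ, s 0 * (s 0 * s 1) ^ k = (s 0 * s 1) ^ (-k) * s 0 := by
    intro k
    have : s 0 * (s 0 * s 1) * (s 0)⁻¹ = (s 0 * s 1)⁻¹ := by
      rw [mul_inv_rev, i0, i1, ← mul_assoc, hs 0, one_mul]
    rw [zpow_neg, ← inv_zpow, ← this, conj_zpow]
    group
  have h0 : ∀ w, (∃ k : ℤ, w = (s 0 * s 1) ^ k ∨ w = (s 0 * s 1) ^ k * s 0) →
      ∃ k : ℤ, s 0 * w = (s 0 * s 1) ^ k ∨ s 0 * w = (s 0 * s 1) ^ k * s 0 := by
    rintro w ⟨k, rfl | rfl⟩
    · exact ⟨-k, Or.inr (hc k)⟩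
    · exact ⟨-k, Or.inl (by rw [← mul_assoc, hc, mul_assoc, hs 0, mul_one])⟩
  have key : ∃ k : ℤ, (l.map s).prod = (s 0 * s 1) ^ k ∨ (l.map s).prod = (s 0 * s 1) ^ k * s 0 := by
    induction l with
    | nil => exact ⟨0, Or.inl (by simp)⟩
    | cons i l ih =>
      rw [List.map_cons, List.prod_cons]
      fin_cases i
      · exact h0 _ ih
      · obtain ⟨k, hk⟩ := h0 _ ih
        have e : ∀ w, s 1 * w = (s 0 * s 1) ^ (-1 : ℤ) * (s 0 * w) := by
          intro w
          rw [zpow_neg_one, mul_inv_rev, i0, i1, mul_assoc, ← mul_assoc (s 0), hs 0, one_mul]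
        refine ⟨-1 + k, ?_⟩
        change s 1 * _ = _ ∨ s 1 * _ = _
        rw [e, zpow_add]
        rcases hk with hk | hk
        · left; rw [hk]
        · right; rw [hk, mul_assoc]
  obtain ⟨k, hk | hk⟩ := key
  · rw [hk, ← zpow_natCast, ← zpow_mul, mul_comm, zpow_mul, zpow_natCast, h, one_zpow]
  · obtain ⟨m, rfl⟩ := hn
    have : ((s 0 * s 1) ^ k * s 0) ^ 2 = 1 := by
      rw [sq, mul_assoc, ← mul_assoc (s 0), hc, mul_assoc, hs 0, mul_one, ← zpow_add, add_neg_cancel, zpow_zero]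
    rw [hk, ← two_mul, pow_mul, this, one_pow]

/-- the 2-group obstruction -/
theorem two_case {Γ : Type*} [Group Γ] [Finite Γ] {M T : Subgroup Γ} (hc : ∀ x ∈ T, ∀ y ∈ T, x * y = y * x)
    (hi : ¬ 8 ∣ T.relIndex M) (s : Finset Γ) (hs : s.card ≤ 4) (hs' : ∀ h ∈ T, h ∈ M → h * h = 1 → h ∈ s)
    (ι : L →* Γ) (hι : Function.Injective ι) (hM : ∀ l, ι l ∈ M) (f : L →* A) (hf : Function.Surjective f)
    (U : Subgroup A) (hU : Nat.card U = 64)
    (hU2 : ∀ a ∈ U, ∀ b ∈ U, a * b = b * a → a * a = 1 ∨ b * b = 1 ∨ a * a = b * b) : False := by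
  have : Finite L := Finite.of_injective _ hι
  obtain ⟨P, hP, -⟩ := exists_sylIn_ge (p := 2) (C := ⊥) (B := U.comap f) bot_le IsPGroup.of_bot
  have h1 := hP.map f
  rw [map_comap_eq_self_of_surjective hf] at h1
  have h2 : P.map f = U := (h1.eq_of_le le_rfl (IsPGroup.of_card (n := 6) hU) h1.le).symm
  obtain ⟨Q, hQ, -⟩ := exists_sylIn_ge (p := 2) (C := ⊥) (B := T ⊓ M) bot_le IsPGroup.of_bot
  obtain ⟨S, hS, hQS⟩ := exists_sylIn_ge (hQ.le.trans inf_le_right) hQ.isPGroup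
  have h3 : Q.relIndex S ≤ 4 := by
    obtain ⟨n, hn⟩ := IsPGroup.index hS.isPGroup (Q.subgroupOf S)
    change Q.relIndex S = _ at hn
    by_contra hlt
    have h8 : 8 ∣ Q.relIndex S := by
      rw [hn] at hlt ⊢
      have : 3 ≤ n := by
        by_contra h
        interval_cases n <;> simp at hlt h
      exact pow_dvd_pow 2 this
    have e1 := relIndex_mul_relIndex Q S M hQS hS.le
    have e2 := relIndex_mul_relIndex Q (T ⊓ M) M hQ.le inf_le_right
    rw [inf_relIndex_right, ← e1] at e2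
    apply hi
    have h9 : 8 ∣ Q.relIndex (T ⊓ M) * T.relIndex M := e2 ▸ h8.mul_right _
    refine Nat.Coprime.dvd_of_dvd_mul_left ?_ h9
    exact Nat.Coprime.pow_left 3 ((Nat.Prime.coprime_iff_not_dvd Nat.prime_two).2 hQ.not_dvd_relIndex)
  obtain ⟨y, hy, hyP⟩ := hS.exists_conj_le (C := P.map ι) (by rintro _ ⟨x, -, rfl⟩; exact hM x) (hP.isPGroup.map ι)
  let j : L →* Γ := (MulAut.conj y).toMonoidHom.comp ι
  have hj : Function.Injective j := (MulAut.conj y).injective.comp hι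
  have h4 : (Q.comap j).relIndex P ≤ 4 := by
    rw [relIndex_comap]
    refine (relIndex_le_of_le_right ?_ ?_).trans h3
    · rintro _ ⟨x, hx, rfl⟩; exact hyP _ ⟨x, hx, rfl⟩
    · exact index_ne_zero_of_finite
  set P0 := Q.comap j ⊓ P with hP0
  have h5 : Nat.card P ≤ 4 * Nat.card P0 := by
    have := card_mul_index ((Q.comap j).subgroupOf P)
    rw [← this, mul_comm 4]
    refine Nat.mul_le_mul (le_of_eq ?_) h4
    rw [hP0, ← inf_subgroupOf_right]
    exact Nat.card_congr (subgroupOfEquivOfLe inf_le_right).toEquiv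
  have hc0 : ∀ a ∈ P0, ∀ b ∈ P0, a * b = b * a := fun a ha b hb => hj (by
    rw [map_mul, map_mul]; exact hc _ (hQ.le ha.1).1 _ (hQ.le hb.1).1)
  let sq : P0 →* L :=
    { toFun := fun a => (a : L) * a
      map_one' := by simp
      map_mul' := fun a b => by
        simp only [coe_mul]
        calc (a : L) * b * (a * b) = a * (b * a) * b := by group
          _ = _ := by rw [← hc0 _ a.2 _ b.2]; group }
  have h6 : Nat.card sq.ker ≤ 4 := by
    refine le_trans ?_ hs
    rw [← Nat.card_eq_finsetCard]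
    refine Nat.card_le_card_of_injective (fun a => ⟨j a.1, hs' _ (hQ.le a.1.2.1).1 (hQ.le a.1.2.1).2 ?_⟩) ?_
    · rw [← map_mul]
      have : (a.1 : L) * a.1 = 1 := a.2
      rw [this, map_one]
    · intro a b e
      exact Subtype.ext (Subtype.ext (hj (congrArg Subtype.val e)))
  have h7 : Nat.card P0 ≤ Nat.card sq.range * 4 := by
    rw [card_eq_card_quotient_mul_card_subgroup sq.ker, Nat.card_congr (QuotientGroup.quotientKerEquivRange sq).toEquiv]
    exact Nat.mul_le_mul_left _ h6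
  have h8 : Nat.card (sq.range.map f) ≤ 2 := by
    by_cases hz : ∃ z ∈ sq.range.map f, z ≠ 1
    · obtain ⟨z, hz, hz1⟩ := hz
      have hsub : ((sq.range.map f : Subgroup A) : Set A) ⊆ {1, z} := by
        rintro _ ⟨_, ⟨a, rfl⟩, rfl⟩
        obtain ⟨_, ⟨b, rfl⟩, rfl⟩ := hz
        have := hU2 (f a) (h2 ▸ ⟨a, a.2.2, rfl⟩) (f b) (h2 ▸ ⟨b, b.2.2, rfl⟩)
          (by rw [← map_mul, ← map_mul, hc0 _ a.2 _ b.2])
        simp only [← map_mul] at this
        rcases this with h | h | h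
        · exact Or.inl h
        · exact absurd h hz1
        · exact Or.inr h
      have := Set.ncard_le_ncard hsub (Set.toFinite _)
      exact this.trans ((Set.ncard_insert_le _ _).trans (by simp))
    · push Not at hz
      have : sq.range.map f = ⊥ := eq_bot_iff.2 hz
      rw [this, card_bot]; norm_num
  have h9 : Nat.card ↥(sq.range ⊓ f.ker) ≤ Nat.card ↥(P ⊓ f.ker) := by
    refine card_le_of_le (inf_le_inf_right _ ?_)
    rintro _ ⟨a, rfl⟩
    exact mul_mem a.2.2 a.2.2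
  have e1 := CL.card_map_mul_card_inf_ker P f
  have e2 := CL.card_map_mul_card_inf_ker sq.range f
  rw [h2, hU] at e1
  have e3 : 0 < Nat.card ↥(P ⊓ f.ker) := Nat.card_pos
  have e4 : Nat.card sq.range ≤ 2 * Nat.card ↥(P ⊓ f.ker) := e2 ▸ Nat.mul_le_mul h8 h9
  omega

/-- restricting an alternating section to a smaller degree -/
theorem exists_sec {G : Type*} [Group G] {r n : ℕ} (hn : n ≤ r) (H : Subgroup G) (K : Subgroup H) [K.Normal]
    (e : (H ⧸ K) ≃* alternatingGroup (Fin r)) :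
    ∃ (L : Subgroup H) (f : L →* alternatingGroup (Fin n)), Function.Surjective f := by
  obtain ⟨φ, hφ, -⟩ := CL.KSG.exists_alt_embedding (Fin.castLEEmb hn)
  let f0 : H →* alternatingGroup (Fin r) := e.toMonoidHom.comp (QuotientGroup.mk' K)
  have h0 : Function.Surjective f0 := e.surjective.comp (QuotientGroup.mk'_surjective K)
  refine ⟨φ.range.comap f0, (MonoidHom.ofInjective hφ).symm.toMonoidHom.comp
    ((f0.comp (φ.range.comap f0).subtype).codRestrict φ.range fun x => x.2), fun a => ?_⟩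
  obtain ⟨x, hx⟩ := h0 (φ a)
  refine ⟨⟨x, a, hx.symm⟩, ?_⟩
  apply (MonoidHom.ofInjective hφ).injective
  simp only [MulEquiv.toMonoidHom_eq_coe, MonoidHom.comp_apply, MonoidHom.coe_coe, MulEquiv.apply_symm_apply]
  exact Subtype.ext hx

theorem relIndex_eq_of_card {T M : Subgroup L} {a b : ℕ} (h1 : Nat.card (T ⊓ M : Subgroup L) = a)
    (h2 : Nat.card M = a * b) (ha : a ≠ 0) : T.relIndex M = b := by
  have := card_mul_index (T.subgroupOf M)
  rw [h2, ← inf_subgroupOf_right, Nat.card_congr (subgroupOfEquivOfLe inf_le_right).toEquiv, h1,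
    inf_subgroupOf_right] at this
  exact Nat.eq_of_mul_eq_mul_left (Nat.pos_of_ne_zero ha) this

end Abstract

section Alt

/-- images of the 64 affine unitriangular maps of `𝔽₂³` -/
def apU (i : Fin 64) (x : Fin 8) : Fin 8 :=
  Fin.ofNat 8 (CL.Chev.lk 0x23105467320145760132764510236754675410237645013245763201546723103210456723015476103267450123765476540123674510325476230145673210320154672310457610237645013267547645102367540132546732014576231023014567321054760123674510327654674501237654103245672301547632100132546710234576231076453201675445761023546701326754320176452310103245670123547632106745230176545476012345671032765423016745321010235467013245763201764523106754546710234576013276453201675423100123456710325476230167453210765445670123547610326745230176543210 4 15 (Nat.add (Nat.mul 8 i) x))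

/-- their multiplication table -/
def mtU (i j : Fin 64) : Fin 64 :=
  Fin.ofNat 64 (CL.Chev.lk 0x12131110151416171a1b19181d1c1e1f02030100050406070a0b09080d0c0e0f22232120252426272a2b29282d2c2e2f32333130353436373a3b39383d3c3e3f13121011141517161b1a18191c1d1f1e03020001040507060b0a08090c0d0f0e23222021242527262b2a28292c2d2f2e33323031343537363b3a38393c3d3f3e101113121716141518191b1a1f1e1c1d000103020706040508090b0a0f0e0c0d202123222726242528292b2a2f2e2c2d303133323736343538393b3a3f3e3c3d111012131617151419181a1b1e1f1d1c010002030607050409080a0b0e0f0d0c212022232627252429282a2b2e2f2d2c313032333637353439383a3b3e3f3d3c16171514111012131e1f1d1c19181a1b06070504010002030e0f0d0c09080a0b26272524212022232e2f2d2c29282a2b36373534313032333e3f3d3c39383a3b17161415101113121f1e1c1d18191b1a07060405000103020f0e0c0d08090b0a27262425202123222f2e2c2d28292b2a37363435303133323f3e3c3d38393b3a14151716131210111c1d1f1e1b1a181904050706030200010c0d0f0e0b0a080924252726232220212c2d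2f2e2b2a282934353736333230313c3d3f3e3b3a383915141617121311101d1c1e1f1a1b191805040607020301000d0c0e0f0a0b090825242627222321202d2c2e2f2a2b292835343637323331303d3c3e3f3a3b39380b0a09080c0d0e0f03020100040506071b1a19181c1d1e1f13121110141516172b2a29282c2d2e2f23222120242526273b3a39383c3d3e3f33323130343536370a0b08090d0c0f0e02030001050407061a1b18191d1c1f1e12131011151417162a2b28292d2c2f2e22232021252427263a3b38393d3c3f3e323330313534373609080b0a0e0f0c0d010003020607040519181b1a1e1f1c1d111013121617141529282b2a2e2f2c2d212023222627242539383b3a3e3f3c3d313033323637343508090a0b0f0e0d0c000102030706050418191a1b1f1e1d1c101112131716151428292a2b2f2e2d2c202122232726252438393a3b3f3e3d3c30313233373635340f0e0d0c08090a0b07060504000102031f1e1d1c18191a1b17161514101112132f2e2d2c28292a2b27262524202122233f3e3d3c38393a3b37363534303132330e0f0c0d09080b0a06070405010003021e1f1c1d19181b1a16171415111013122e2f2c2d29282b2a26272425212023223e3f3c3d39383b3a36373435313033320d0c0f0e0a0b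080905040706020300011d1c1f1e1a1b181915141716121310112d2c2f2e2a2b282925242726222320213d3c3f3e3a3b383935343736323330310c0d0e0f0b0a090804050607030201001c1d1e1f1b1a191814151617131211102c2d2e2f2b2a292824252627232221203c3d3e3f3b3a3938343536373332313003020001050406070b0a08090d0c0e0f13121011151416171b1a18191d1c1e1f33323031353436373b3a38393d3c3e3f23222021252426272b2a28292d2c2e2f02030100040507060a0b09080c0d0f0e12131110141517161a1b19181c1d1f1e32333130343537363a3b39383c3d3f3e22232120242527262a2b29282c2d2f2e010002030706040509080a0b0f0e0c0d111012131716141519181a1b1f1e1c1d313032333736343539383a3b3f3e3c3d212022232726242529282a2b2f2e2c2d000103020607050408090b0a0e0f0d0c101113121617151418191b1a1e1f1d1c303133323637353438393b3a3e3f3d3c202123222627252428292b2a2e2f2d2c07060405010002030f0e0c0d09080a0b17161415111012131f1e1c1d19181a1b37363435313032333f3e3c3d39383a3b27262425212022232f2e2c2d29282a2b06070504000103020e0f0d0c08090b0a16171514101113121e1f1d1c18191b1a3637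3534303133323e3f3d3c38393b3a26272524202123222e2f2d2c28292b2a05040607030200010d0c0e0f0b0a080915141617131210111d1c1e1f1b1a181935343637333230313d3c3e3f3b3a383925242627232220212d2c2e2f2b2a282904050706020301000c0d0f0e0a0b090814151716121311101c1d1f1e1a1b191834353736323331303c3d3f3e3a3b393824252726222321202c2d2f2e2a2b29281a1b18191c1d1e1f12131011141516170a0b08090c0d0e0f02030001040506073a3b38393c3d3e3f32333031343536372a2b28292c2d2e2f22232021242526271b1a19181d1c1f1e13121110151417160b0a09080d0c0f0e03020100050407063b3a39383d3c3f3e33323130353437362b2a29282d2c2f2e232221202524272618191a1b1e1f1c1d101112131617141508090a0b0e0f0c0d000102030607040538393a3b3e3f3c3d303132333637343528292a2b2e2f2c2d202122232627242519181b1a1f1e1d1c111013121716151409080b0a0f0e0d0c010003020706050439383b3a3f3e3d3c313033323736353429282b2a2f2e2d2c21202322272625241e1f1c1d18191a1b16171415101112130e0f0c0d08090a0b06070405000102033e3f3c3d38393a3b36373435303132332e2f2c2d28292a2b262724252021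22231f1e1d1c19181b1a17161514111013120f0e0d0c09080b0a07060504010003023f3e3d3c39383b3a37363534313033322f2e2d2c29282b2a27262524212023221c1d1e1f1a1b181914151617121310110c0d0e0f0a0b080904050607020300013c3d3e3f3a3b383934353637323330312c2d2e2f2a2b282924252627222320211d1c1f1e1b1a191815141716131211100d0c0f0e0b0a090805040706030201003d3c3f3e3b3a393835343736333231302d2c2f2e2b2a29282524272623222120303133323534363738393b3a3d3c3e3f202123222524262728292b2a2d2c2e2f000103020504060708090b0a0d0c0e0f101113121514161718191b1a1d1c1e1f313032333435373639383a3b3c3d3f3e212022232425272629282a2b2c2d2f2e010002030405070609080a0b0c0d0f0e111012131415171619181a1b1c1d1f1e32333130373634353a3b39383f3e3c3d22232120272624252a2b29282f2e2c2d02030100070604050a0b09080f0e0c0d12131110171614151a1b19181f1e1c1d33323031363735343b3a38393e3f3d3c23222021262725242b2a28292e2f2d2c03020001060705040b0a08090e0f0d0c13121011161715141b1a18191e1f1d1c34353736313032333c3d3f3e39383a3b24252726212022232c2d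2f2e29282a2b04050706010002030c0d0f0e09080a0b14151716111012131c1d1f1e19181a1b35343637303133323d3c3e3f38393b3a25242627202123222d2c2e2f28292b2a05040607000103020d0c0e0f08090b0a15141617101113121d1c1e1f18191b1a36373534333230313e3f3d3c3b3a383926272524232220212e2f2d2c2b2a282906070504030200010e0f0d0c0b0a080916171514131210111e1f1d1c1b1a181937363435323331303f3e3c3d3a3b393827262425222321202f2e2c2d2a2b292807060405020301000f0e0c0d0a0b090817161415121311101f1e1c1d1a1b191829282b2a2c2d2e2f212023222425262739383b3a3c3d3e3f313033323435363709080b0a0c0d0e0f010003020405060719181b1a1c1d1e1f111013121415161728292a2b2d2c2f2e202122232524272638393a3b3d3c3f3e303132333534373608090a0b0d0c0f0e000102030504070618191a1b1d1c1f1e10111213151417162b2a29282e2f2c2d23222120262724253b3a39383e3f3c3d33323130363734350b0a09080e0f0c0d03020100060704051b1a19181e1f1c1d13121110161714152a2b28292f2e2d2c22232021272625243a3b38393f3e3d3c32333031373635340a0b08090f0e0d0c02030001070605041a1b18191f1e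1d1c12131011171615142d2c2f2e28292a2b25242726202122233d3c3f3e38393a3b35343736303132330d0c0f0e08090a0b05040706000102031d1c1f1e18191a1b15141716101112132c2d2e2f29282b2a24252627212023223c3d3e3f39383b3a34353637313033320c0d0e0f09080b0a04050607010003021c1d1e1f19181b1a14151617111013122f2e2d2c2a2b282927262524222320213f3e3d3c3a3b383937363534323330310f0e0d0c0a0b080907060504020300011f1e1d1c1a1b181917161514121310112e2f2c2d2b2a292826272425232221203e3f3c3d3b3a393836373435333231300e0f0c0d0b0a090806070405030201001e1f1c1d1b1a19181617141513121110212022232524262729282a2b2d2c2e2f313032333534363739383a3b3d3c3e3f111012131514161719181a1b1d1c1e1f010002030504060709080a0b0d0c0e0f202123222425272628292b2a2c2d2f2e303133323435373638393b3a3c3d3f3e101113121415171618191b1a1c1d1f1e000103020405070608090b0a0c0d0f0e23222021272624252b2a28292f2e2c2d33323031373634353b3a38393f3e3c3d13121011171614151b1a18191f1e1c1d03020001070604050b0a08090f0e0c0d22232120262725242a2b29282e2f2d2c3233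3130363735343a3b39383e3f3d3c12131110161715141a1b19181e1f1d1c02030100060705040a0b09080e0f0d0c25242627212022232d2c2e2f29282a2b35343637313032333d3c3e3f39383a3b15141617111012131d1c1e1f19181a1b05040607010002030d0c0e0f09080a0b24252726202123222c2d2f2e28292b2a34353736303133323c3d3f3e38393b3a14151716101113121c1d1f1e18191b1a04050706000103020c0d0f0e08090b0a27262425232220212f2e2c2d2b2a282937363435333230313f3e3c3d3b3a383917161415131210111f1e1c1d1b1a181907060405030200010f0e0c0d0b0a080926272524222321202e2f2d2c2a2b292836373534323331303e3f3d3c3a3b393816171514121311101e1f1d1c1a1b191806070504020301000e0f0d0c0a0b090838393a3b3c3d3e3f303132333435363728292a2b2c2d2e2f202122232425262718191a1b1c1d1e1f101112131415161708090a0b0c0d0e0f000102030405060739383b3a3d3c3f3e313033323534373629282b2a2d2c2f2e212023222524272619181b1a1d1c1f1e111013121514171609080b0a0d0c0f0e01000302050407063a3b38393e3f3c3d32333031363734352a2b28292e2f2c2d22232021262724251a1b18191e1f1c1d121310111617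14150a0b08090e0f0c0d02030001060704053b3a39383f3e3d3c33323130373635342b2a29282f2e2d2c23222120272625241b1a19181f1e1d1c13121110171615140b0a09080f0e0d0c03020100070605043c3d3e3f38393a3b34353637303132332c2d2e2f28292a2b24252627202122231c1d1e1f18191a1b14151617101112130c0d0e0f08090a0b04050607000102033d3c3f3e39383b3a35343736313033322d2c2f2e29282b2a25242726212023221d1c1f1e19181b1a15141716111013120d0c0f0e09080b0a05040706010003023e3f3c3d3a3b383936373435323330312e2f2c2d2a2b282926272425222320211e1f1c1d1a1b181916171415121310110e0f0c0d0a0b080906070405020300013f3e3d3c3b3a393837363534333231302f2e2d2c2b2a292827262524232221201f1e1d1c1b1a191817161514131211100f0e0d0c0b0a09080706050403020100 8 255 (Nat.add (Nat.mul 64 i) j))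

/-- their inverses -/
def ivU (i : Fin 64) : Fin 64 :=
  Fin.ofNat 64 (CL.Chev.lk 0x2c2d2f2e2a2b292834353637333231303d3c3e3f3a3b393825242726232221201f1e1c1d1a1b191816171415131211100e0f0d0c0a0b09080706050403020100 8 255 i)

theorem apU_iv : ∀ i x, apU (ivU i) (apU i x) = x ∧ apU i (apU (ivU i) x) = x := by decide +kernel

theorem apU_mt : ∀ i j x, apU i (apU j x) = apU (mtU i j) x := by decide +kernel

theorem apU_inj : ∀ i j, (∀ x, apU i x = apU j x) → i = j := by decide +kernel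

theorem mtU_comm : ∀ i j, mtU i j = mtU j i → mtU i i = 0 ∨ mtU j j = 0 ∨ mtU i i = mtU j j := by decide +kernel

/-- the corresponding permutations -/
def pmU (i : Fin 64) : Equiv.Perm (Fin 8) := ⟨apU i, apU (ivU i), fun x => (apU_iv i x).1, fun x => (apU_iv i x).2⟩

theorem pmU_even : ∀ i, Equiv.Perm.sign (pmU i) = 1 := by decide +kernel

/-- the corresponding even permutations -/
def alU (i : Fin 64) : alternatingGroup (Fin 8) := ⟨pmU i, Equiv.Perm.mem_alternatingGroup.2 (pmU_even i)⟩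

theorem alU_mul (i j : Fin 64) : alU i * alU j = alU (mtU i j) := Subtype.ext (Equiv.ext (apU_mt i j))

theorem alU_zero : alU 0 = 1 := Subtype.ext (Equiv.ext (by decide +kernel))

theorem alU_injective : Function.Injective alU := fun i j e =>
  apU_inj i j fun x => congrArg (fun g : alternatingGroup (Fin 8) => (g : Equiv.Perm (Fin 8)) x) e

theorem exists_U : ∃ U : Subgroup (alternatingGroup (Fin 8)), Nat.card U = 64 ∧
    ∀ a ∈ U, ∀ b ∈ U, a * b = b * a → a * a = 1 ∨ b * b = 1 ∨ a * a = b * b := by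
  refine ⟨⟨⟨⟨Set.range alU, ?_⟩, 0, alU_zero⟩, ?_⟩, ?_, ?_⟩
  · rintro _ _ ⟨i, rfl⟩ ⟨j, rfl⟩
    exact ⟨_, (alU_mul i j).symm⟩
  · rintro _ ⟨i, rfl⟩
    exact ⟨ivU i, (inv_eq_of_mul_eq_one_right (Subtype.ext (Equiv.ext fun x => (apU_iv i x).2))).symm⟩
  · exact (Nat.card_range_of_injective alU_injective).trans (by simp)
  · rintro _ ⟨i, rfl⟩ _ ⟨j, rfl⟩ h
    simp only [alU_mul] at h ⊢
    rcases mtU_comm i j (alU_injective h) with h | h | h
    · left; rw [h, alU_zero]
    · right; left; rw [h, alU_zero]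
    · right; right; rw [h]

theorem alt7_five : ∃ a c : alternatingGroup (Fin 7), a ^ 5 = 1 ∧ a ≠ 1 ∧ c * a * c⁻¹ = a ^ 2 :=
  ⟨⟨List.formPerm [0, 1, 2, 3, 4], Equiv.Perm.mem_alternatingGroup.2 (by decide +kernel)⟩,
    ⟨List.formPerm [1, 2, 4, 3] * List.formPerm [5, 6], Equiv.Perm.mem_alternatingGroup.2 (by decide +kernel)⟩,
    by decide +kernel, by decide +kernel, by decide +kernel⟩

theorem alt7_seven : ∃ a c : alternatingGroup (Fin 7), a ^ 7 = 1 ∧ a ≠ 1 ∧ c * a * c⁻¹ = a ^ 2 :=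
  ⟨⟨List.formPerm [0, 1, 2, 3, 4, 5, 6], Equiv.Perm.mem_alternatingGroup.2 (by decide +kernel)⟩,
    ⟨List.formPerm [1, 2, 4] * List.formPerm [3, 6, 5], Equiv.Perm.mem_alternatingGroup.2 (by decide +kernel)⟩,
    by decide +kernel, by decide +kernel, by decide +kernel⟩

theorem alt11 : ∃ a c : alternatingGroup (Fin 11), a ^ 11 = 1 ∧ a ≠ 1 ∧ c * a * c⁻¹ = a ^ 3 :=
  ⟨⟨List.formPerm [0, 1, 2, 3, 4, 5, 6, 7, 8, 9, 10], Equiv.Perm.mem_alternatingGroup.2 (by decide +kernel)⟩,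
    ⟨List.formPerm [1, 3, 9, 5, 4] * List.formPerm [2, 6, 7, 10, 8],
      Equiv.Perm.mem_alternatingGroup.2 (by decide +kernel)⟩,
    by decide +kernel, by decide +kernel, by decide +kernel⟩

theorem alt12 : ∃ a b c : alternatingGroup (Fin 12), a ^ 5 = 1 ∧ a ≠ 1 ∧ b ^ 7 = 1 ∧ b ≠ 1 ∧ a * b = b * a ∧
    c * a * c⁻¹ = a ^ 2 ∧ c * b * c⁻¹ = b ^ 3 :=
  ⟨⟨List.formPerm [7, 8, 9, 10, 11], Equiv.Perm.mem_alternatingGroup.2 (by decide +kernel)⟩,
    ⟨List.formPerm [0, 1, 2, 3, 4, 5, 6], Equiv.Perm.mem_alternatingGroup.2 (by decide +kernel)⟩,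
    ⟨List.formPerm [1, 3, 2, 6, 4, 5] * List.formPerm [8, 9, 11, 10],
      Equiv.Perm.mem_alternatingGroup.2 (by decide +kernel)⟩,
    by decide +kernel, by decide +kernel, by decide +kernel, by decide +kernel, by decide +kernel, by decide +kernel,
    by decide +kernel⟩

end Alt

section Lie

open CL.Chev CL.Chev.StData CL.Chev.RootSys

variable {ι κ : Type*} [Fintype κ] [DecidableEq κ] [Finite ι] {R : RootSys ι κ} {F Γ : Type*} [Field F] [Group Γ]
  {S : StData R F Γ}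

/-- `g` conjugates elements of `H` into `H` like an element of `N` acting as `w` -/
def Like (S : StData R F Γ) (g : Γ) (w : Equiv.Perm ι) : Prop :=
  ∃ m ∈ S.N, S.Acts m w ∧ ∀ h1 ∈ S.H, g * h1 * g⁻¹ ∈ S.H → m * h1 * m⁻¹ = g * h1 * g⁻¹

theorem like_of_normal (hS : S.Good) {v m u : Γ} {w : Equiv.Perm ι} (hv : v ∈ S.U) (hm : m ∈ S.N) (ha : S.Acts m w)
    (hu : u ∈ S.XS (R.invs w)) : Like S (v * m * u) w := by
  refine ⟨m, hm, ha, fun h1 hh1 hh2 => ?_⟩
  set h2 := v * m * u * h1 * (v * m * u)⁻¹ with e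
  have e1 : v * (m * h1 * m⁻¹) * m * (h1⁻¹ * u * h1⁻¹⁻¹) = h2 * v * m * u := by
    rw [e]; group
  have h3 := (hS.normal_unique ha (mul_mem (S.U_le_B hv) (S.H_le_B (ha.conj_mem_H hh1)))
    (mul_mem (S.H_le_B hh2) (S.U_le_B hv)) ((S.H_le_normalizer_XS _ (inv_mem hh1) _).1 hu) hu e1).1
  have h4 : m * h1 * m⁻¹ * h2⁻¹ ∈ S.U ⊓ S.H := by
    refine ⟨?_, S.H.mul_mem (ha.conj_mem_H hh1) (S.H.inv_mem hh2)⟩
    have : m * h1 * m⁻¹ * h2⁻¹ = v⁻¹ * (h2 * v * h2⁻¹) := by rw [← h3]; group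
    rw [this]
    exact S.U.mul_mem (S.U.inv_mem hv) ((S.H_le_normalizer_XS _ hh2 _).1 hv)
  rw [hS.U_inf_H, Subgroup.mem_bot, mul_inv_eq_one] at h4
  exact h4

theorem exists_like (hS : S.Good) (htop : S.grp = ⊤) (g : Γ) : ∃ w ∈ R.W, Like S g w := by
  obtain ⟨v, hv, m, hm, w, ha, u, hu, rfl⟩ := StData.exists_normal' (S := S) (g := g) (htop ▸ mem_top g)
  exact ⟨w, ha.mem_W, like_of_normal hS hv hm ha hu⟩

theorem exists_like_tw {κ' : Type*} {T : S.Twist κ'} (hS : S.Good) {M : Subgroup Γ} (hM : T.IsTw M) {g : Γ}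
    (hg : g ∈ M) : ∃ w ∈ T.W1, Like S g w := by
  obtain ⟨v, hv, m, hm, w, hw, ha, u, hu, rfl⟩ := hM.exists_normal hS hg
  exact ⟨w, hw, like_of_normal hS hv.1 hm.1 ha hu.1⟩

omit [Finite ι] in
theorem Like.pow {g : Γ} {w : Equiv.Perm ι} (h : Like S g w) {P : Subgroup Γ} (hP : P ≤ S.H)
    (hg : ∀ x ∈ P, g * x * g⁻¹ ∈ P) (n : ℕ) :
    ∃ m ∈ S.N, S.Acts m (w ^ n) ∧ ∀ x ∈ P, g ^ n * x * (g ^ n)⁻¹ = m * x * m⁻¹ := by
  obtain ⟨m, hm, ha, h⟩ := h
  refine ⟨m ^ n, pow_mem hm n, ?_, ?_⟩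
  · induction n with
    | zero => simpa using S.acts_one
    | succ n ih => rw [pow_succ, pow_succ]; exact ih.mul ha
  · induction n with
    | zero => simp
    | succ n ih =>
      intro x hx
      calc g ^ (n + 1) * x * (g ^ (n + 1))⁻¹ = g ^ n * (g * x * g⁻¹) * (g ^ n)⁻¹ := by rw [pow_succ]; group
        _ = m ^ n * (m * x * m⁻¹) * (m ^ n)⁻¹ := by rw [ih _ (hg x hx), h x (hP hx) (hP (hg x hx))]
        _ = _ := by rw [pow_succ]; group

theorem Like.pow_one (hS : S.Good) (h3 : S.R3) {g : Γ} {w : Equiv.Perm ι} (h : Like S g w) {P : Subgroup Γ}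
    (hP : P ≤ S.H) (hg : ∀ x ∈ P, g * x * g⁻¹ ∈ P) {n : ℕ} (hn : w ^ n = 1) {x : Γ} (hx : x ∈ P) :
    g ^ n * x * (g ^ n)⁻¹ = x := by
  obtain ⟨m, hm, ha, e⟩ := h.pow hP hg n
  rw [hn] at ha
  rw [e x hx, h3.H_comm (hS.mem_H_of_acts_one hm ha) (hP hx), mul_inv_cancel_right]

theorem Like.pow_neg (hA : S.Adjoint) {g : Γ} {w : Equiv.Perm ι} (h : Like S g w) {P : Subgroup Γ}
    (hP : P ≤ S.H) (hg : ∀ x ∈ P, g * x * g⁻¹ ∈ P) {n : ℕ} (hn : ∀ r, (w ^ n) r = R.neg r) {x : Γ} (hx : x ∈ P) :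
    g ^ n * x * (g ^ n)⁻¹ = x⁻¹ := by
  obtain ⟨m, hm, ha, e⟩ := h.pow hP hg n
  have h0 : w ^ n = R.w0 Set.univ := R.eq_w0 (R.WJ_univ ▸ ha.mem_W) fun j _ => by
    rw [hn, R.not_isPos_neg]; exact R.isPos_simple j
  rw [e x hx]
  exact hA.conj_eq_inv (fun r => h0 ▸ hn r) (h0 ▸ ha) (hP hx)

theorem zpowers_closed {g x : Γ} {k : ℕ} (e : g * x * g⁻¹ = x ^ k) : ∀ z ∈ zpowers x, g * z * g⁻¹ ∈ zpowers x := by
  intro z hz
  obtain ⟨n, rfl⟩ := mem_zpowers_iff.1 hz
  rw [← conj_zpow, e]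
  exact zpow_mem (pow_mem (mem_zpowers x) k) n

variable [Finite Γ] {L A : Type*} [Group L] [Group A] [Finite A]

omit [Finite ι] in
theorem comm_of_index (h3 : S.R3) {M : Subgroup Γ} {r : ℕ} [Fact r.Prime] (hi : ¬ r ∣ S.H.relIndex M)
    {j : L →* Γ} (hj : Function.Injective j) (hM : ∀ l, j l ∈ M) {P : Subgroup L} (hp : IsPGroup r P) :
    ∀ x ∈ P, ∀ y ∈ P, x * y = y * x := by
  obtain ⟨z, -, hz⟩ := exists_conj_le hi (P := P.map j) (by rintro _ ⟨x, -, rfl⟩; exact hM x) (hp.map j)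
  intro x hx y hy
  apply hj
  have := h3.H_comm (hz _ ⟨x, hx, rfl⟩) (hz _ ⟨y, hy, rfl⟩)
  apply (MulAut.conj z).injective
  simpa [mul_assoc] using this

/-- one prime: `a ~ a ^ k` in a section forces `k ^ e ≡ 1` for an exponent `e` of the Weyl group -/
theorem one_prime (hS : S.Good) (h3 : S.R3) {M : Subgroup Γ} {e : ℕ} (hB : ∀ g ∈ M, ∃ w, w ^ e = 1 ∧ Like S g w)
    {r : ℕ} [Fact r.Prime] (hi : ¬ r ∣ S.H.relIndex M) {j : L →* Γ} (hj : Function.Injective j) (hM : ∀ l, j l ∈ M)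
    (f : L →* A) (hf : Function.Surjective f) {a c : A} (ha : a ^ r = 1) (ha1 : a ≠ 1) {k : ℕ} (hk0 : 0 < k)
    (hc : c * a * c⁻¹ = a ^ k) : r ∣ k ^ e - 1 := by
  have : Finite L := Finite.of_injective _ hj
  by_contra hk
  have hZ : IsPGroup r (zpowers a) := IsPGroup.of_card (n := 1) (by
    rw [Nat.card_zpowers, pow_one]; exact orderOf_eq_prime ha ha1)
  have hE := map_comap_eq_self_of_surjective hf (closure {a, c})
  obtain ⟨P, -, hp, hPZ, hN⟩ := exists_syl f ((closure {a, c}).comap f) hZ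
    (by rw [hE, zpowers_le]; exact subset_closure (by simp))
    (le_normalizer_zpowers _ hE (by
      rintro x (rfl | rfl)
      · exact ⟨1, by simp⟩
      · exact ⟨k, hc⟩))
  rw [hE] at hN
  obtain ⟨g, hg, rfl⟩ : c ∈ _ := hN ▸ subset_closure (k := {a, c}) (by simp)
  obtain ⟨x0, hx0, rfl⟩ : a ∈ P.map f := hPZ ▸ mem_zpowers a
  obtain ⟨x, hx, hx1, hxg⟩ := exists_eig f (comm_of_index h3 hi hj hM hp) (g := g) (fun x hx => (hg.2 x).1 hx) (k := k)
    (fun x hx => by
      have : f x ∈ zpowers (f x0) := hPZ ▸ ⟨x, hx, rfl⟩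
      obtain ⟨n, hn⟩ := mem_zpowers_iff.1 this
      rw [map_mul, map_mul, map_inv, ← hn, ← conj_zpow, hc, ← zpow_natCast, ← zpow_mul, mul_comm, zpow_mul,
        zpow_natCast]) hx0 ha1
  obtain ⟨z, hzM, hz⟩ := exists_conj_le hi (P := P.map j) (by rintro _ ⟨x, -, rfl⟩; exact hM x) (hp.map j)
  obtain ⟨w, hw, hl⟩ := hB (z * j g * z⁻¹) (mul_mem (mul_mem hzM (hM g)) (inv_mem hzM))
  have e1 : z * j g * z⁻¹ * (z * j x * z⁻¹) * (z * j g * z⁻¹)⁻¹ = (z * j x * z⁻¹) ^ k := by
    rw [conj_pow, ← map_pow, ← hxg, map_mul, map_mul, map_inv]; group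
  have e2 := hl.pow_one hS h3 (zpowers_le.2 (hz _ ⟨x, hx, rfl⟩)) (zpowers_closed e1) hw (mem_zpowers _)
  rw [conj_pow_pow e1, conj_pow, mul_left_inj, mul_right_inj, ← map_pow] at e2
  refine hx1 (eq_one_of_pow hp hx hk ?_)
  have e3 := hj e2
  obtain ⟨d, hd⟩ : ∃ d, k ^ e = d + 1 := ⟨k ^ e - 1, by have := pow_pos hk0 e; omega⟩
  rw [hd] at e3 ⊢
  rw [Nat.add_sub_cancel]
  simpa [pow_succ] using e3

/-- two primes, for the Weyl group of type `F₄` -/
theorem two_primes (hS : S.Good) (h3 : S.R3) (hA : S.Adjoint) (htop : S.grp = ⊤)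
    (hW : ∀ w ∈ R.W, w ^ 6 = 1 ∨ w ^ 8 = 1 ∨ ∀ r, (w ^ 6) r = R.neg r)
    (hi5 : ¬ 5 ∣ S.H.index) (hi7 : ¬ 7 ∣ S.H.index) {j : L →* Γ} (hj : Function.Injective j)
    (f : L →* A) (hf : Function.Surjective f) {a b c : A} (ha : a ^ 5 = 1) (ha1 : a ≠ 1) (hb : b ^ 7 = 1)
    (hb1 : b ≠ 1) (hab : a * b = b * a) (hca : c * a * c⁻¹ = a ^ 2) (hcb : c * b * c⁻¹ = b ^ 3) : False := by
  have : Finite L := Finite.of_injective _ hj
  have : Fact (Nat.Prime 5) := ⟨by norm_num⟩
  have : Fact (Nat.Prime 7) := ⟨by norm_num⟩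
  rw [← relIndex_top_right] at hi5 hi7
  have hM : ∀ l, j l ∈ (⊤ : Subgroup Γ) := fun _ => mem_top _
  have hZa : IsPGroup 5 (zpowers a) := IsPGroup.of_card (n := 1) (by
    rw [Nat.card_zpowers, pow_one]; exact orderOf_eq_prime ha ha1)
  have hZb : IsPGroup 7 (zpowers b) := IsPGroup.of_card (n := 1) (by
    rw [Nat.card_zpowers, pow_one]; exact orderOf_eq_prime hb hb1)
  have hE := map_comap_eq_self_of_surjective hf (closure {a, b, c})
  obtain ⟨P, -, hp, hPZ, hN⟩ := exists_syl f ((closure {a, b, c}).comap f) hZa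
    (by rw [hE, zpowers_le]; exact subset_closure (by simp))
    (le_normalizer_zpowers _ hE (by
      rintro x (rfl | rfl | rfl)
      · exact ⟨1, by simp⟩
      · exact ⟨1, by rw [← hab]; simp⟩
      · exact ⟨2, hca⟩))
  rw [hE] at hN
  obtain ⟨Q, hQE, hq, hQZ, hN'⟩ := exists_syl f _ hZb
    (by rw [hN, zpowers_le]; exact subset_closure (by simp))
    (le_normalizer_zpowers _ hN (by
      rintro x (rfl | rfl | rfl)
      · exact ⟨1, by rw [hab]; simp⟩
      · exact ⟨1, by simp⟩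
      · exact ⟨3, hcb⟩))
  rw [hN] at hN'
  obtain ⟨g, hg, rfl⟩ : c ∈ _ := hN' ▸ subset_closure (k := {a, b, c}) (by simp)
  obtain ⟨x0, hx0, rfl⟩ : a ∈ P.map f := hPZ ▸ mem_zpowers a
  obtain ⟨u0, hu0, rfl⟩ : b ∈ Q.map f := hQZ ▸ mem_zpowers b
  obtain ⟨x, hx, hx1, hxg⟩ := exists_eig f (comm_of_index h3 hi5 hj hM hp) (g := g) (fun x hx => (hg.1.2 x).1 hx)
    (k := 2) (fun x hx => by
      have : f x ∈ zpowers (f x0) := hPZ ▸ ⟨x, hx, rfl⟩
      obtain ⟨n, hn⟩ := mem_zpowers_iff.1 this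
      rw [map_mul, map_mul, map_inv, ← hn, ← conj_zpow, hca, ← zpow_natCast, ← zpow_mul, mul_comm, zpow_mul,
        zpow_natCast]) hx0 ha1
  obtain ⟨u, hu, hu1, hug⟩ := exists_eig f (comm_of_index h3 hi7 hj hM hq) (g := g) (fun x hx => (hg.2 x).1 hx)
    (k := 3) (fun x hx => by
      have : f x ∈ zpowers (f u0) := hQZ ▸ ⟨x, hx, rfl⟩
      obtain ⟨n, hn⟩ := mem_zpowers_iff.1 this
      rw [map_mul, map_mul, map_inv, ← hn, ← conj_zpow, hcb, ← zpow_natCast, ← zpow_mul, mul_comm, zpow_mul,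
        zpow_natCast]) hu0 hb1
  have hW24 : ∀ w ∈ R.W, w ^ 24 = 1 := by
    intro w hw
    rcases hW w hw with h | h | h
    · rw [show 24 = 6 * 4 by rfl, pow_mul, h, one_pow]
    · rw [show 24 = 8 * 3 by rfl, pow_mul, h, one_pow]
    · have : (w ^ 6) ^ 2 = 1 := by
        ext r
        rw [sq, Equiv.Perm.mul_apply, h, h, R.neg_neg]; rfl
      rw [show 24 = 6 * 2 * 2 by rfl, pow_mul, pow_mul, this, one_pow]
  obtain ⟨z, -, hz⟩ := exists_conj_le hi5 (P := P.map j) le_top (hp.map j)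
  let j1 : L →* Γ := (MulAut.conj z).toMonoidHom.comp j
  have hj1 : Function.Injective j1 := (MulAut.conj z).injective.comp hj
  have hP1 : P.map j1 ≤ S.H := by rintro _ ⟨y, hy, rfl⟩; exact hz _ ⟨y, hy, rfl⟩
  -- `u` centralises `x`
  have hux : u * x = x * u := by
    obtain ⟨w, hw, hl⟩ := exists_like hS htop (j1 u)
    have e := hl.pow_one hS h3 hP1 (by
      rintro _ ⟨y, hy, rfl⟩
      exact ⟨u * y * u⁻¹, ((hQE hu).2 y).1 hy, by simp⟩) (hW24 w hw) ⟨x, hx, rfl⟩
    rw [← map_pow, ← map_inv, ← map_mul, ← map_mul] at e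
    have e2 : u ^ 24 ∈ centralizer {x} := by
      rw [mem_centralizer_singleton_iff]
      exact mul_inv_eq_iff_eq_mul.1 (hj1 e)
    obtain ⟨k, hk⟩ := hq ⟨u, hu⟩
    have hk' : u ^ 7 ^ k = 1 := congrArg Subtype.val hk
    have hco : (orderOf u).Coprime 24 :=
      Nat.Coprime.coprime_dvd_left (orderOf_dvd_of_pow_eq_one hk') (Nat.Coprime.pow_left _ (by norm_num))
    obtain ⟨m, hm⟩ := exists_pow_eq_self_of_coprime hco.symm
    rw [← mem_centralizer_singleton_iff, ← hm]
    exact pow_mem e2 m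
  have hxH : j1 x ∈ S.H := hP1 ⟨x, hx, rfl⟩
  have hHC : S.H ≤ centralizer {j1 x} := fun h hh => mem_centralizer_singleton_iff.2 (h3.H_comm hh hxH)
  obtain ⟨z', hz'C, hz'⟩ := exists_conj_le (r := 7) (M := centralizer {j1 x}) (T := S.H) (P := zpowers (j1 u))
    (fun h => hi7 (h.trans (by rw [relIndex_top_right]; exact relIndex_dvd_index_of_le hHC)))
    (zpowers_le.2 (mem_centralizer_singleton_iff.2 (by rw [← map_mul, ← map_mul, hux])))
    ((hq.map j1).to_le (zpowers_le.2 ⟨u, hu, rfl⟩))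
  let j2 : L →* Γ := (MulAut.conj z').toMonoidHom.comp j1
  have hj2 : Function.Injective j2 := (MulAut.conj z').injective.comp hj1
  have hx2 : j2 x ∈ S.H := by
    have : j2 x = j1 x := by
      change z' * j1 x * z'⁻¹ = _
      rw [mem_centralizer_singleton_iff.1 hz'C, mul_inv_cancel_right]
    rwa [this]
  have hu2 : j2 u ∈ S.H := hz' _ (mem_zpowers _)
  obtain ⟨w, hw, hl⟩ := exists_like hS htop (j2 g)
  have e1 : j2 g * j2 x * (j2 g)⁻¹ = j2 x ^ 2 := by rw [← map_pow, ← hxg, map_mul, map_mul, map_inv]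
  have e2 : j2 g * j2 u * (j2 g)⁻¹ = j2 u ^ 3 := by rw [← map_pow, ← hug, map_mul, map_mul, map_inv]
  rcases hW w hw with h | h | h
  · have e := hl.pow_one hS h3 (zpowers_le.2 hx2) (zpowers_closed e1) h (mem_zpowers _)
    rw [conj_pow_pow e1, ← map_pow] at e
    refine hx1 (eq_one_of_pow hp hx (n := 63) (by norm_num) ?_)
    have e3 : x ^ (63 + 1) = x := hj2 e
    simpa [pow_succ x 63] using e3
  · have e := hl.pow_one hS h3 (zpowers_le.2 hu2) (zpowers_closed e2) h (mem_zpowers _)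
    rw [conj_pow_pow e2, ← map_pow] at e
    refine hu1 (eq_one_of_pow hq hu (n := 6560) (by norm_num) ?_)
    have e3 : u ^ (6560 + 1) = u := hj2 e
    rw [pow_succ] at e3
    exact mul_eq_right.1 e3
  · have e := hl.pow_neg hA (zpowers_le.2 hu2) (zpowers_closed e2) h (mem_zpowers _)
    rw [conj_pow_pow e2, ← map_pow, ← map_inv] at e
    refine hu1 (eq_one_of_pow hq hu (n := 729 + 1) (by norm_num) ?_)
    have e3 : u ^ 729 = u⁻¹ := hj2 e
    rw [pow_succ, e3, inv_mul_cancel]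

omit [Finite ι] in
/-- at most four solutions of `h² = 1` in a torus of twisted rank two -/
theorem exists_four (hS : S.Good) (hA : S.Adjoint) {M : Subgroup Γ} (i0 i1 : κ)
    (hM : ∀ h ∈ S.H, h ∈ M → ∀ i, i = i1 ∨ (Commute h (S.x (R.simple i) 1) ↔ Commute h (S.x (R.simple i0) 1))) :
    ∃ s : Finset Γ, s.card ≤ 4 ∧ ∀ h ∈ S.H, h ∈ M → h * h = 1 → h ∈ s := by
  classical
  refine ⟨(Set.toFinite {h | h ∈ S.H ∧ h ∈ M ∧ h * h = 1}).toFinset, ?_, fun h h1 h2 h3 => by simp [h1, h2, h3]⟩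
  have key : ∀ h ∈ S.H, h * h = 1 → ∃ χ : κ → F, (∀ s u, h * S.x s u * h⁻¹ = S.x s (chr χ (R.rt s) * u)) ∧
      ∀ i, χ i = if Commute h (S.x (R.simple i) 1) then 1 else -1 := by
    intro h h1 h2
    obtain ⟨χ, -, hχ⟩ := S.exists_chr_of_mem_H h1
    refine ⟨χ, hχ, fun i => ?_⟩
    have e := hχ (R.simple i)
    rw [R.rt_simple, chr_single] at e
    split_ifs with hc
    · have := e 1
      rw [hc.eq, mul_inv_cancel_right, mul_one] at this
      exact (hS.x_injective _ this).symm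
    · have e2 : S.x (R.simple i) (χ i * (χ i * 1)) = S.x (R.simple i) 1 := by
        rw [← e, ← e]
        calc _ = (h * h) * S.x (R.simple i) 1 * (h * h)⁻¹ := by group
          _ = _ := by rw [h2]; simp
      have e3 := hS.x_injective _ e2
      rw [mul_one] at e3
      refine (mul_self_eq_one_iff.1 e3).resolve_left fun h1 => hc ?_
      have := e 1
      rw [h1, mul_one] at this
      exact mul_inv_eq_iff_eq_mul.1 this
  refine (Finset.card_le_card_of_injOn (t := (Finset.univ : Finset (Prop × Prop)))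
    (fun h => (Commute h (S.x (R.simple i0) 1), Commute h (S.x (R.simple i1) 1))) (fun _ _ => by simp) ?_).trans
    (by simp)
  intro h hh h' hh' e
  simp only [Set.Finite.coe_toFinset, Set.mem_ofPred_eq] at hh hh'
  obtain ⟨χ, h1, h2⟩ := key h hh.1 hh.2.2
  obtain ⟨χ', h1', h2'⟩ := key h' hh'.1 hh'.2.2
  simp only [Prod.mk.injEq, eq_iff_iff] at e
  have : χ = χ' := by
    ext i
    rw [h2, h2']
    by_cases hi : i = i1
    · rw [hi, if_congr e.2 rfl rfl]
    · rw [if_congr (((hM h hh.1 hh.2.1 i).resolve_left hi).trans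
        (e.1.trans ((hM h' hh'.1 hh'.2.1 i).resolve_left hi).symm)) rfl rfl]
  exact hA.eq_of_chr hh.1 hh'.1 h1 (this ▸ h1')

end Lie

end CL.SecL
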