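import Cfsg.Agent.KSG.WagAlt
import Cfsg.Agent.ODD.AbelemRep
import Cfsg.Agent.SOLV.MinNormal

/-!
# Alternating sections of linear groups
-/

set_option autoImplicit false

namespace CL.Wag

open Module CL.AltCover

universe u

section

variable {K V H : Type*} [Field K] [IsAlgClosed K] [AddCommGroup V] [Module K V]
  [FiniteDimensional K V] [Nontrivial V] [Group H] [Finite H] {ρ : H →* End K V}

theorem exists_index_le (h1 : Function.Injective ρ)
    (hirr : ∀ W : Submodule K V, (∀ g, W ≤ W.comap (ρ g)) → W = ⊥ ∨ W = ⊤) (A : Subgroup H) [A.Normal]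
    (hA : ∀ a ∈ A, ∀ b ∈ A, Commute a b) (h2 : ¬ A ≤ Subgroup.center H) :
    ∃ S : Subgroup H, S ≠ ⊤ ∧ S.index ≤ finrank K V := by
  obtain ⟨v, hv, h3⟩ := exists_eigenvector (fun a : A => ρ a) fun a b => (hA _ a.2 _ b.2).map ρ
  choose c hc using h3
  let S : Subgroup H :=
    { carrier := {h | ∀ a, c (MulAut.conjNormal h a) = c a}
      one_mem' := fun a => by simp
      mul_mem' := fun {g h} hg hh a => by rw [map_mul, MulAut.mul_apply, hg, hh]
      inv_mem' := fun {g} hg a => by
        rw [← hg, ← MulAut.mul_apply, ← map_mul, mul_inv_cancel, map_one, MulAut.one_apply] }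
  have h4 : ∀ (g : H) (a : A) w, (∀ a : A, ρ a w = c a • w) →
      ρ a (ρ g w) = c (MulAut.conjNormal g⁻¹ a) • ρ g w := fun g a w hw => by
    rw [← map_smul, ← hw]
    simp only [← End.mul_apply, ← map_mul, MulAut.conjNormal_apply, inv_inv, ← mul_assoc, mul_inv_cancel,
      one_mul]
  refine ⟨S, fun hS => h2 fun a ha => Subgroup.mem_center_iff.2 fun g => h1 ?_, ?_⟩
  · have h5 : ∀ w, w ∈ ⨅ a : A, (ρ a).eigenspace (c a) ↔ ∀ a : A, ρ a w = c a • w := fun w => by
      simp [End.mem_eigenspace_iff]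
    have := (hirr (⨅ a : A, (ρ a).eigenspace (c a)) fun g w hw => (h5 _).2 fun a => by
      rw [h4 g a w ((h5 w).1 hw), (hS.ge (Subgroup.mem_top g⁻¹) : ∀ _, _)]).resolve_left
      fun h => hv (h.le ((h5 v).2 hc))
    have h6 : ∀ w, ρ a w = c ⟨a, ha⟩ • w := fun w => (h5 w).1 (this.ge trivial) ⟨a, ha⟩
    ext w
    simp only [map_mul, End.mul_apply, h6, map_smul]
  · have := Fintype.ofFinite (H ⧸ S)
    have h0 : ∀ g : H, ρ g v ≠ 0 := fun g h => hv (inj ρ g (h.trans (map_zero _).symm))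
    rw [Subgroup.index, Nat.card_eq_fintype_card]
    refine card_le_of_weights (ρ.comp A.subtype) (fun i => ρ i.out v) (fun i => h0 _)
      (fun i a => ⟨_, h4 _ a v hc⟩) fun i j h => ?_
    rw [← i.out_eq', ← j.out_eq', QuotientGroup.eq]
    intro a
    have := (h4 _ _ v hc).symm.trans (h (MulAut.conjNormal j.out a) _ (h4 _ _ v hc))
    rw [map_mul, MulAut.mul_apply, ← smul_left_injective K (h0 _) this, ← MulAut.mul_apply, ← map_mul,
      inv_mul_cancel, map_one, MulAut.one_apply]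

theorem card_le_sq (h1 : Function.Injective ρ)
    (hirr : ∀ W : Submodule K V, (∀ g, W ≤ W.comap (ρ g)) → W = ⊥ ∨ W = ⊤)
    (M : Subgroup (H ⧸ Subgroup.center H)) (hM : ∀ a ∈ M, ∀ b ∈ M, a * b = b * a)
    (h2 : M.comap (QuotientGroup.mk' _) ⊓ Subgroup.centralizer (M.comap (QuotientGroup.mk' _)) ≤
      Subgroup.center H) : Nat.card M ≤ finrank K V * finrank K V := by
  have hs : ∀ z ∈ Subgroup.center H, ∃ c : K, ρ z = c • 1 := fun z hz => by
    obtain ⟨c, hc⟩ := End.exists_eigenvalue (ρ z)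
    refine ⟨c, LinearMap.ext fun v => End.mem_eigenspace_iff.1 (((hirr _ fun g w hw =>
      End.mem_eigenspace_iff.2 ?_).resolve_left hc).ge trivial)⟩
    rw [← End.mul_apply, ← map_mul, ← Subgroup.mem_center_iff.1 hz, map_mul, End.mul_apply,
      End.mem_eigenspace_iff.1 hw, map_smul]
  have := Fintype.ofFinite M
  let τ : M.comap (QuotientGroup.mk' _) →* End K (End K V) :=
    { toFun := fun a => LinearMap.mulLeftRight K (ρ a, ρ a⁻¹)
      map_one' := by ext; simp
      map_mul' := fun a b => by ext; simp }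
  have hτ : ∀ a g, τ a (ρ g) = ρ (a * g * a⁻¹) := fun a g => by simp [τ]
  have h3 : ∀ i : M, i.1.out ∈ M.comap (QuotientGroup.mk' _) := fun i => by simp
  have h4 : ∀ (i : M) a, ∃ c : K, ρ (a.1 * i.1.out * a.1⁻¹ * i.1.out⁻¹) = c • 1 ∧
      τ a (ρ i.1.out) = c • ρ i.1.out := fun i a => by
    obtain ⟨c, hc⟩ := hs (a * i.1.out * a⁻¹ * i.1.out⁻¹) ((QuotientGroup.eq_one_iff _).1 (by
      have := hM _ a.2 _ i.2
      simp only [QuotientGroup.mk'_apply] at this
      simp [this]))
    exact ⟨c, hc, by rw [hτ, ← one_mul (ρ i.1.out), ← smul_mul_assoc, ← hc, ← map_mul,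
      inv_mul_cancel_right]⟩
  rw [← finrank_linearMap K K, Nat.card_eq_fintype_card]
  refine card_le_of_weights τ (fun i => ρ i.1.out) (fun i h => ?_)
    (fun i a => (h4 i a).imp fun _ h => h.2) fun i j h => Subtype.ext ?_
  · exact zero_ne_one ((h ▸ ((Group.isUnit i.1.out).map ρ) : IsUnit (0 : End K V)).exists_right_inv.elim
      fun b hb => by rwa [zero_mul] at hb)
  rw [← i.1.out_eq', ← j.1.out_eq', QuotientGroup.eq]
  refine h2 ⟨Subgroup.mul_mem _ (inv_mem (h3 i)) (h3 j), Subgroup.mem_centralizer_iff.2 fun a ha => ?_⟩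
  obtain ⟨c, h5, h6⟩ := h4 i ⟨a, ha⟩
  have := h _ _ h6
  rw [hτ, ← one_mul (ρ j.1.out), ← smul_mul_assoc, ← h5, ← map_mul] at this
  have h7 : a * j.1.out * a⁻¹ = a * i.1.out * a⁻¹ * i.1.out⁻¹ * j.1.out := h1 this
  calc _ = a * i.1.out⁻¹ * a⁻¹ * (a * j.1.out * a⁻¹) * a := by group
    _ = _ := by rw [h7]; group

end

theorem sec {r : ℕ} (hr : 9 ≤ r) (N : ℕ) : ∀ (H : Type u) [Group H] [Finite H], Nat.card H = N →
    ∀ π : H →* alternatingGroup (Fin r), Function.Surjective π → ∀ (p : ℕ) [Fact p.Prime] (n : ℕ)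
      (V : Type) [AddCommGroup V] [Module (AlgebraicClosure (ZMod p)) V]
      [FiniteDimensional (AlgebraicClosure (ZMod p)) V], finrank (AlgebraicClosure (ZMod p)) V = n →
      ∀ ρ : H →* End (AlgebraicClosure (ZMod p)) V, ρ.ker ≤ π.ker →
        r - 1 - (if p ∣ r then 1 else 0) ≤ n := by
  induction N using Nat.strong_induction_on with
  | _ N ihN =>
  intro H _ _ hN π hπ p _ n
  induction n using Nat.strong_induction_on with
  | _ n ihn =>
  intro V _ _ _ hn ρ hρ
  have hA := alternatingGroup.isSimpleGroup (α := Fin r) (by simp; omega)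
  have hq : ∀ (q : ℕ) [Fact q.Prime] (W : Type) [AddCommGroup W] [Module (AlgebraicClosure (ZMod q)) W]
      [FiniteDimensional (AlgebraicClosure (ZMod q)) W] (τ : H →* End (AlgebraicClosure (ZMod q)) W),
      τ.ker ≤ π.ker → τ.ker ≠ ⊥ →
        r - 1 - (if q ∣ r then 1 else 0) ≤ finrank (AlgebraicClosure (ZMod q)) W :=
    fun q _ W _ _ _ τ h1 h2 => ihN _ (by
        rw [← hN, ← τ.ker.index_mul_card]
        exact lt_mul_of_one_lt_right (Nat.pos_of_ne_zero τ.ker.index_ne_zero_of_finite)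
          ((Subgroup.one_lt_card_iff_ne_bot _).2 h2))
      (H ⧸ τ.ker) rfl (QuotientGroup.lift _ π h1) (QuotientGroup.lift_surjective_of_surjective _ _ hπ _)
      q _ W rfl (QuotientGroup.lift _ τ le_rfl) fun g hg => by
        obtain ⟨g, rfl⟩ := QuotientGroup.mk_surjective g
        exact h1 hg
  by_cases hmin : ∃ L : Subgroup H, L.map π = ⊤ ∧ L ≠ ⊤
  · obtain ⟨L, h1, h2⟩ := hmin
    refine ihN _ (hN ▸ lt_of_le_of_ne L.card_le_card_group fun h => h2 (L.eq_top_of_card_eq h)) L rfl
      (π.comp L.subtype) (fun g => ?_) p n V hn (ρ.comp L.subtype) fun g hg => hρ hg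
    obtain ⟨x, hx, e⟩ := h1.ge (Subgroup.mem_top g)
    exact ⟨⟨x, hx⟩, e⟩
  push Not at hmin
  have hnorm : ∀ M : Subgroup H, M.Normal → M ≤ π.ker ∨ M = ⊤ := fun M hM =>
    (hM.map π hπ).eq_bot_or_eq_top.imp (Subgroup.map_eq_bot_iff _).1 (hmin M)
  have hperf : Group.IsPerfect H := ⟨hmin _ (by
    rw [commutator, Subgroup.map_commutator, Subgroup.map_top_of_surjective _ hπ]
    exact commutator_alternatingGroup_eq_top (by simp; omega))⟩
  have := hπ.nontrivial
  by_cases hk : ρ.ker = ⊥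
  swap
  · exact hn ▸ hq p V ρ hρ hk
  have hinj : Function.Injective ρ := fun a b h => mul_inv_eq_one.1 (hk.le (show ρ (a * b⁻¹) = 1 by
    rw [map_mul, h, ← map_mul, mul_inv_cancel, map_one]))
  by_cases hirr : ∀ W : Submodule (AlgebraicClosure (ZMod p)) V, (∀ g, W ≤ W.comap (ρ g)) →
      W = ⊥ ∨ W = ⊤
  swap
  · push Not at hirr
    obtain ⟨W, h1, h2, h3⟩ := hirr
    have d := W.finrank_quotient_add_finrank
    have d1 := Submodule.finrank_lt h3
    have d2 : finrank _ W ≠ 0 := fun h => h2 (Submodule.finrank_eq_zero.1 h)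
    rcases hnorm _ (Representation.subrepresentation ρ W h1).normal_ker with h4 | h4
    · exact (ihn _ (by omega) W rfl _ h4).trans (by omega)
    rcases hnorm _ (Representation.quotient ρ W h1).normal_ker with h5 | h5
    · exact (ihn _ (by omega) (V ⧸ W) rfl _ h5).trans (by omega)
    have h6 : ∀ a b v, ρ a (ρ b v - v) = ρ b v - v := fun a b v => congrArg Subtype.val
      (LinearMap.congr_fun (h4.ge (Subgroup.mem_top a)) ⟨_, (Submodule.Quotient.eq W).1
        (LinearMap.congr_fun (h5.ge (Subgroup.mem_top b)) (Submodule.Quotient.mk v))⟩)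
    refine absurd ⟨⟨fun a b => hinj (LinearMap.ext fun v => ?_)⟩⟩
      (Group.IsPerfect.not_isMulCommutative H)
    have e1 := h6 a b v
    have e2 := h6 b a v
    simp only [map_sub, map_mul, End.mul_apply] at e1 e2 ⊢
    linear_combination (norm := abel) e1 - e2
  have : Nontrivial V := not_subsingleton_iff_nontrivial.1 fun _ =>
    not_subsingleton H hinj.subsingleton
  have hab : ∀ A : Subgroup H, A.Normal → (∀ a ∈ A, ∀ b ∈ A, Commute a b) →
      ¬ A ≤ Subgroup.center H → r - 1 - (if p ∣ r then 1 else 0) ≤ n := fun A _ h1 h2 => by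
    obtain ⟨S, h3, h4⟩ := exists_index_le hinj hirr A h1 h2
    have h5 := Subgroup.index_dvd_of_le ((hnorm S.normalCore inferInstance).resolve_right
      fun h => h3 (eq_top_iff.2 (h.ge.trans S.normalCore_le)))
    rw [Subgroup.normalCore_eq_ker, Subgroup.index_ker, Subgroup.index_ker,
      MonoidHom.range_eq_top_of_surjective _ hπ, Subgroup.card_top] at h5
    have h6 := Nat.le_of_dvd Nat.card_pos (h5.trans (Subgroup.card_subgroup_dvd_card _))
    have : Nontrivial (Fin r) := Fin.nontrivial_iff_two_le.2 (by omega)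
    have h7 := two_mul_nat_card_alternatingGroup (α := Fin r)
    rw [Nat.card_perm, Nat.card_fin] at h7
    rw [Nat.card_perm] at h6
    by_contra h8
    obtain ⟨s, rfl⟩ : ∃ s, r = s + 1 := ⟨r - 1, by omega⟩
    have h9 := Nat.factorial_le (show Nat.card (H ⧸ S) ≤ s from h4.trans (by omega))
    rw [Nat.factorial_succ] at h7
    have := s.factorial_pos
    nlinarith
  by_cases hc : π.ker ≤ Subgroup.center H
  · have h1 := card_ker_le_two (by omega) (by omega) (by omega)
      (σ := π) ⟨hπ, hc, by rw [hperf.1]; exact le_top⟩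
    have hσ : DC 2 π := ⟨⟨hπ, hc⟩, dvd_rfl, fun k hk' => by
      have h2 : (⟨k, hk'⟩ : π.ker) ^ Nat.card π.ker = 1 := pow_card_eq_one'
      have h3 := Nat.card_pos (α := π.ker)
      obtain h | h : Nat.card π.ker = 1 ∨ Nat.card π.ker = 2 := by omega
      · rw [h, pow_one, Subtype.ext_iff] at h2
        rw [show k = 1 from h2, one_pow]
      · exact congrArg Subtype.val (h ▸ h2)⟩
    refine (Nat.le_add_right _ _).trans ((P_main p r hr _ H π hσ (by simp) V ρ fun h => ?_).trans hn.le)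
    obtain ⟨s, rfl⟩ : ∃ s, r = s + 2 := ⟨r - 2, by omega⟩
    obtain ⟨y, hy, -⟩ := hσ.exists_D (c := AltPres.gen ⟨0, by omega⟩) (AltPres.genP_isThreeCycle _)
    refine hy.1.ne_one ?_
    rw [show π y = 1 from hρ (LinearMap.ext fun v => mem_fix.1 (h.ge trivial) y hy)]
    rfl
  have hnil : Group.IsNilpotent π.ker := isNilpotent_of_le frattini_nilpotent
    (le_iInf₂ fun L hL => by_contra fun h => hL.1 (hmin L (by
      rw [← Subgroup.map_top_of_surjective _ hπ, ← hL.2 (L ⊔ π.ker) (lt_of_le_of_ne le_sup_left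
        fun e => h (le_sup_right.trans e.ge)), Subgroup.map_sup, (Subgroup.map_eq_bot_iff _).2 le_rfl,
        sup_bot_eq])))
  have := (π.normal_ker).map _ (QuotientGroup.mk'_surjective (Subgroup.center H))
  obtain ⟨M, hM, hle⟩ := exists_isMinNormal_le (π.ker.map (QuotientGroup.mk' (Subgroup.center H)))
    (by rwa [Ne, Subgroup.map_eq_bot_iff, QuotientGroup.ker_mk'])
  obtain ⟨s, hs, hE⟩ := hM.exists_isElementaryAbelian_of_isSolvable (by
    have := isNilpotent_of_le (isNilpotent_map _ _) hle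
    infer_instance)
  have := hM.normal
  have := Fact.mk hs
  by_cases h2 : M.comap (QuotientGroup.mk' _) ⊓
      Subgroup.centralizer (M.comap (QuotientGroup.mk' _)) ≤ Subgroup.center H
  swap
  · refine hab _ inferInstance ?_ h2
    exact fun a ha b hb => hb.2 a ha.1
  have h3 := card_le_sq hinj hirr M (fun a ha b hb => Abelem.comm_of_mem hE ha hb) h2
  obtain ⟨τ, hτ⟩ := exists_ext (algebraMap (ZMod s) (AlgebraicClosure (ZMod s)))
    ((Abelem.rep hE (A := ⊤) (by rw [Subgroup.normalizer_eq_top])).comp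
      (Subgroup.topEquiv.symm.toMonoidHom.comp (QuotientGroup.mk' _)))
  have h4 : ∀ h, h ∈ τ.ker ↔ (h : H ⧸ Subgroup.center H) ∈ Subgroup.centralizer M := fun h =>
    (hτ h).trans (Abelem.rep_eq_one_iff (hA := by rw [Subgroup.normalizer_eq_top]) _)
  have h5 := hq s _ τ ((hnorm _ τ.normal_ker).resolve_right fun h => hM.ne_bot (eq_bot_iff.2
    fun a ha => (Group.IsPerfect.center_quotient_center_eq_bot H).le
      (Subgroup.mem_center_iff.2 fun g => by
        obtain ⟨g, rfl⟩ := QuotientGroup.mk_surjective g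
        exact ((h4 g).1 (h.ge trivial) a ha).symm))) fun h => hM.ne_bot (eq_bot_iff.2 fun a ha => by
      obtain ⟨a, rfl⟩ := QuotientGroup.mk_surjective a
      rw [show a = 1 from h.le ((h4 a).2 fun b hb => Abelem.comm_of_mem hE hb ha)]
      exact one_mem _)
  rw [Abelem.card_eq_pow_finrank (hE := hE), hn] at h3
  rw [finrank_fintype_fun_eq_card, Fintype.card_fin] at h5
  by_contra h6
  have h7 : 2 ^ (r - 2) ≤ (r - 2) * (r - 2) :=
    ((Nat.pow_le_pow_right two_pos (by split_ifs at h5 <;> omega)).trans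
      ((Nat.pow_le_pow_left hs.two_le _).trans h3)).trans (Nat.mul_le_mul (by omega) (by omega))
  have h8 : ∀ k, 5 ≤ k → k * k < 2 ^ k := fun k hk => by
    induction k, hk using Nat.le_induction with
    | base => norm_num
    | succ k _ ih => rw [pow_succ]; nlinarith
  exact h7.not_gt (h8 _ (by omega))

end CL.Wag
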