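/-
Alternating sections: minimal covers, removal of a prime from the kernel, lifting of subgroups with their fusion.
-/
import Mathlib
import Cfsg.Agent.KSG.SecLift
import Cfsg.Agent.KSG.WagSec
import Cfsg.Agent.KSG.AltCover2
import Cfsg.Agent.INV.ElemAbGL
import Cfsg.Agent.TECH.MiscSyl
import Cfsg.Agent.SOLV.CoprimeSylow
import Cfsg.Agent.PLOC.PFrattini

set_option autoImplicit false

namespace CL.AltE

open CL.Fus Subgroup Function Module
open scoped commutatorElement

variable {L A : Type*} [Group L] [Group A] {f : L →* A}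

/-- no proper subgroup covers the image -/
def Min (f : L →* A) : Prop := Surjective f ∧ ∀ M : Subgroup L, M.map f = ⊤ → M = ⊤

theorem exists_min [Finite L] (hf : Surjective f) : ∃ M : Subgroup L, Min (f.comp M.subtype) := by
  obtain ⟨M, hM, hmin⟩ := exists_minimal_of_wellFoundedLT (fun M : Subgroup L => M.map f = ⊤)
    ⟨⊤, map_top_of_surjective f hf⟩
  refine ⟨M, MonoidHom.range_eq_top.1 (by rw [MonoidHom.range_comp, range_subtype, hM]), fun M' h => ?_⟩
  rw [← map_map] at h
  exact map_subtype_inj.1 (((map_subtype_le M').antisymm (hmin h (map_subtype_le M'))).trans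
    (by rw [← MonoidHom.range_eq_map, range_subtype]))

theorem Min.eq_top [IsSimpleGroup A] (h : Min f) (M : Subgroup L) [hM : M.Normal] (h1 : ¬ M ≤ f.ker) : M = ⊤ :=
  h.2 M (((hM.map f h.1).eq_bot_or_eq_top).resolve_left fun e => h1 ((Subgroup.map_eq_bot_iff M).1 e))

theorem Min.normal [Finite L] (h : Min f) {r : ℕ} [Fact r.Prime] {P : Subgroup L} (hP : SylIn r P f.ker) :
    P.Normal := by
  refine normalizer_eq_top_iff.1 (h.2 _ (eq_top_iff.2 fun a _ => ?_))
  obtain ⟨b, rfl⟩ := h.1 a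
  obtain ⟨c, hc, h1⟩ := hP.frattini (b := b) (by rw [normalizer_eq_top_iff.2 inferInstance]; trivial)
  exact ⟨_, h1, by rw [map_mul, show f c = 1 from hc, one_mul]⟩

theorem exists_pow [Finite L] (hf : Surjective f) {s : ℕ} [hs : Fact s.Prime] (h : s ∣ Nat.card A) :
    ∃ g : L, (∃ k, g ^ s ^ k = 1) ∧ f g ≠ 1 := by
  have := Finite.of_surjective f hf
  obtain ⟨P, hP, -⟩ := exists_sylIn_ge (p := s) (C := ⊥) (B := (⊤ : Subgroup L)) bot_le IsPGroup.of_bot
  have h1 := (hP.map f).not_dvd_relIndex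
  by_contra hn
  push Not at hn
  rw [(Subgroup.map_eq_bot_iff P).2 fun g hg => hn g ((hP.isPGroup ⟨g, hg⟩).imp fun k e => congrArg Subtype.val e),
    map_top_of_surjective f hf, relIndex_bot_left, card_top] at h1
  exact h1 h

theorem dvd_card_alt {n s : ℕ} (hs : s.Prime) (h2 : 2 < s) (hn : s ≤ n) : s ∣ Nat.card (alternatingGroup (Fin n)) := by
  have : Nontrivial (Fin n) := Fin.nontrivial_iff_two_le.2 (by omega)
  have h := two_mul_nat_card_alternatingGroup (α := Fin n)
  rw [Nat.card_perm, Nat.card_fin] at h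
  exact ((hs.dvd_mul.1 (h ▸ hs.dvd_factorial.2 hn)).resolve_left fun e => absurd (Nat.le_of_dvd two_pos e) (by omega))

variable {n : ℕ} {f : L →* alternatingGroup (Fin n)}

theorem Min.triv [Finite L] (h : Min f) (hn : 9 ≤ n) (p : ℕ) [Fact p.Prime] {V : Type} [AddCommGroup V]
    [Module (AlgebraicClosure (ZMod p)) V] [FiniteDimensional (AlgebraicClosure (ZMod p)) V]
    (ρ : L →* End (AlgebraicClosure (ZMod p)) V)
    (hV : finrank (AlgebraicClosure (ZMod p)) V < n - 1 - if p ∣ n then 1 else 0) (g : L) : ρ g = 1 := by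
  have := alternatingGroup.isSimpleGroup (α := Fin n) (by simp; omega)
  have := h.eq_top ρ.ker fun e => absurd (CL.Wag.sec hn _ L rfl f h.1 p _ V rfl ρ e) (by omega)
  exact (this ▸ mem_top g : g ∈ ρ.ker)

theorem Min.le_center [Finite L] (h : Min f) (hn : 9 ≤ n) {r : ℕ} [hr : Fact r.Prime] {P : Subgroup L} [P.Normal]
    (hP : IsPGroup r P) {m : ℕ} (hm : (frattini P).index ≤ r ^ m) (hmn : m + 2 < n) : P ≤ center L := by
  have := alternatingGroup.isSimpleGroup (α := Fin n) (by simp; omega)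
  let q : MulAut P →* MulAut (P ⧸ frattini P) :=
    { toFun := fun σ => QuotientGroup.congr _ _ σ (characteristic_iff_map_eq.1 inferInstance σ)
      map_one' := by ext ⟨x⟩; rfl
      map_mul' := fun _ _ => by ext ⟨x⟩; rfl }
  obtain ⟨hc, he⟩ := (PG.frattini_eq_bot_iff (hP.to_quotient _)).1 (frattini_quotient_frattini P)
  obtain ⟨φ, hφ⟩ := EAGL.exists_hom_gl hc.is_comm.comm he hm
  obtain ⟨ρ, hρ⟩ := CL.Wag.exists_ext (algebraMap (ZMod r) (AlgebraicClosure (ZMod r)))
    ((Matrix.toLinAlgEquiv' (R := ZMod r)).toRingEquiv.toRingHom.toMonoidHom.comp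
      ((Units.coeHom _).comp (φ.comp (q.comp MulAut.conjNormal))))
  have h1 : ∀ g : L, q (MulAut.conjNormal g) = 1 := fun g => hφ ((Units.ext ((map_eq_one_iff _
    (Matrix.toLinAlgEquiv' (R := ZMod r)).injective).1 ((hρ g).1 (h.triv hn r ρ (by
      simp only [finrank_fintype_fun_eq_card, Fintype.card_fin]; split_ifs <;> omega) g)))).trans (map_one φ).symm)
  obtain ⟨s, hs, hsr, hs2, hsn⟩ : ∃ s : ℕ, s.Prime ∧ s ≠ r ∧ 2 < s ∧ s ≤ n := by
    by_cases e : r = 3
    · exact ⟨5, by norm_num, by omega, by omega, by omega⟩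
    · exact ⟨3, by norm_num, by omega, by omega, by omega⟩
  have := Fact.mk hs
  obtain ⟨g, ⟨k, hk⟩, hg⟩ := exists_pow h.1 (dvd_card_alt hs hs2 hsn)
  have h2 : g ∈ centralizer (P : Set L) := by
    refine zpowers_le.1 (le_centralizer_iff.1 (coprime_le_centralizer_of_commutator_le_frattini _ _
      le_normalizer_of_normal (coprime_card_of_isPGroup (hP.to_subgroup _) ?_) (commutator_le.2 ?_)))
    · rw [Nat.card_zpowers]
      exact Nat.Coprime.coprime_dvd_left (orderOf_dvd_of_pow_eq_one hk)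
        (Nat.Coprime.pow_left _ ((Nat.coprime_primes hs hr.out).2 hsr))
    · intro y hy x _
      have k2 : q (MulAut.conjNormal x) ((⟨y⁻¹, inv_mem hy⟩ : P) : _ ⧸ _) =
        (MulAut.conjNormal x (⟨y⁻¹, inv_mem hy⟩ : P) : P) := rfl
      rw [h1, MulAut.one_apply, QuotientGroup.eq] at k2
      refine ⟨_, k2, ?_⟩
      simp [commutatorElement_def, mul_assoc]
  have h3 := h.eq_top (centralizer (P : Set L)) fun e => hg (e h2)
  exact fun y hy => mem_center_iff.2 fun x => ((h3 ▸ mem_top x : x ∈ centralizer (P : Set L)) y hy).symm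

theorem Min.not_dvd [Finite L] (h : Min f) (hn : 9 ≤ n) {r : ℕ} [hr : Fact r.Prime] (h2 : r ≠ 2) {m : ℕ}
    (hm : ∀ P : Subgroup L, IsPGroup r P → (frattini P).index ≤ r ^ m) (hmn : m + 2 < n) : ¬ r ∣ Nat.card f.ker := by
  have := alternatingGroup.isSimpleGroup (α := Fin n) (by simp; omega)
  obtain ⟨P⟩ : Nonempty (Sylow r f.ker) := inferInstance
  have hP := sylIn_map_subtype P
  have := h.normal hP
  have hZ := h.le_center hn hP.isPGroup (hm _ hP.isPGroup) hmn
  have hc := CL.Misc.burnside_pPrimeCore P fun x _ y hy =>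
    Subtype.ext (mem_center_iff.1 (hZ ⟨y, hy, rfl⟩) x).symm
  have := CL.pPrimeCore_characteristic r f.ker
  let O := (Cfsg.pPrimeCore r f.ker).map f.ker.subtype
  have hO : O ≤ f.ker := map_subtype_le _
  have hk : (QuotientGroup.lift O f hO).ker = ((P : Subgroup f.ker).map f.ker.subtype).map (QuotientGroup.mk' O) := by
    refine le_antisymm ?_ ?_
    · rintro ⟨x⟩ hx
      obtain ⟨⟨a, b⟩, e⟩ := hc.2 ⟨x, hx⟩
      refine ⟨b, ⟨b, b.2, rfl⟩, ?_⟩
      have e' : (a : L) * b = x := congrArg Subtype.val e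
      change _ = (QuotientGroup.mk' O) x
      rw [← e', map_mul, show QuotientGroup.mk' O (a : L) = 1 from (QuotientGroup.eq_one_iff _).2 ⟨a, a.2, rfl⟩, one_mul]
    · rintro _ ⟨_, ⟨b, -, rfl⟩, rfl⟩
      exact b.2
  have hcom : _root_.commutator L = ⊤ := h.eq_top _ fun e => by
    have h5 := (Subgroup.map_eq_bot_iff _).2 e
    rw [map_commutator_eq, MonoidHom.range_eq_top.2 h.1, ← _root_.commutator_def,
      commutator_alternatingGroup_eq_top (by simp; omega)] at h5
    exact top_ne_bot h5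
  have h3 := CL.AltCover.card_ker_le_two (n := n) (by omega) (by omega) (by omega)
    (σ := QuotientGroup.lift O f hO) ⟨fun a => (h.1 a).elim fun x e => ⟨x, e⟩, ?_, ?_⟩
  · have h4 : IsPGroup r (QuotientGroup.lift O f hO).ker := hk ▸ hP.isPGroup.map _
    obtain ⟨k, hk'⟩ := IsPGroup.iff_card.1 h4
    have hk0 : k = 0 := by
      by_contra e
      have := (Nat.le_self_pow e r).trans (hk' ▸ h3)
      have := hr.out.two_le
      omega
    rw [hk0, pow_zero, card_eq_one, hk, Subgroup.map_eq_bot_iff, QuotientGroup.ker_mk', map_subtype_le_map_subtype] at hk'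
    have h5 := hc.disjoint.symm.eq_bot_of_le hk'
    have h6 := P.not_dvd_index
    rwa [h5, index_bot] at h6
  · rw [hk]
    rintro _ ⟨x, hx, rfl⟩
    exact mem_center_iff.2 (by rintro ⟨y⟩; exact congrArg (QuotientGroup.mk' O) (mem_center_iff.1 (hZ hx) y))
  · have h5 := map_commutator_eq L (QuotientGroup.mk' O)
    rw [hcom, map_top_of_surjective _ (QuotientGroup.mk'_surjective O),
      MonoidHom.range_eq_top.2 (QuotientGroup.mk'_surjective O), ← _root_.commutator_def] at h5
    rw [← h5]; exact le_top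

/-- lifting an `r`-subgroup together with its fusion -/
theorem exists_lift [Finite L] {f : L →* A} (hf : Surjective f) {r : ℕ} [hr : Fact r.Prime]
    (h : ¬ r ∣ Nat.card f.ker) (Q : Subgroup A) (hQ : IsPGroup r Q) :
    ∃ ι : Q →* L, (∀ x, f (ι x) = x) ∧ ∀ x y : Q, IsConj (x : A) y → IsConj (ι x) (ι y) := by
  have hinj : ∀ P : Subgroup L, IsPGroup r P → ∀ x ∈ P, f x = 1 → x = 1 := fun P hP x hx e =>
    CL.SecL.eq_one_of_pow hP hx h (congrArg Subtype.val (pow_card_eq_one' (G := f.ker) (x := ⟨x, e⟩)))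
  obtain ⟨P, hP, -⟩ := exists_sylIn_ge (p := r) (C := ⊥) (B := Q.comap f) bot_le IsPGroup.of_bot
  have h1 := hP.map f
  rw [map_comap_eq_self_of_surjective hf] at h1
  have h2 : P.map f = Q := (h1.eq_of_le le_rfl hQ h1.le).symm
  let e : P ≃* Q := MulEquiv.ofBijective ((f.comp P.subtype).codRestrict Q fun x => hP.le x.2)
    ⟨(injective_iff_map_eq_one _).2 fun x hx => Subtype.ext (hinj P hP.isPGroup x x.2 (congrArg Subtype.val hx)),
      fun y => by
        obtain ⟨x, hx, e⟩ := h2.ge y.2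
        exact ⟨⟨x, hx⟩, Subtype.ext e⟩⟩
  have he : ∀ x : Q, f (e.symm x) = x := fun x => congrArg Subtype.val (e.apply_symm_apply x)
  refine ⟨P.subtype.comp e.symm.toMonoidHom, he, fun x y hxy => ?_⟩
  obtain ⟨c, hc⟩ := isConj_iff.1 hxy
  obtain ⟨c, rfl⟩ := hf c
  have hz : ∀ x : Q, IsPGroup r (zpowers (e.symm x : L)) := fun x =>
    hP.isPGroup.to_le (zpowers_le.2 (e.symm x).2)
  have h3 : SylIn r (zpowers (e.symm y : L)) ((zpowers (y : A)).comap f) := by
    refine sylIn_of_not_dvd_relIndex (zpowers_le.2 (by rw [mem_comap, he]; exact mem_zpowers _)) (hz y) fun h4 => h ?_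
    have h5 : (zpowers (y : A)).comap f = zpowers (e.symm y : L) ⊔ f.ker := by
      rw [← comap_map_eq, MonoidHom.map_zpowers, he]
    rw [h5] at h4
    have h6 := CL.card_map_mul_card_inf_ker (zpowers (e.symm y : L) ⊔ f.ker) f
    have h7 := CL.card_map_mul_card_inf_ker (zpowers (e.symm y : L)) f
    rw [Subgroup.map_sup, (Subgroup.map_eq_bot_iff _).2 le_rfl, sup_bot_eq, inf_eq_right.2 le_sup_right] at h6
    rw [show zpowers (e.symm y : L) ⊓ f.ker = ⊥ from eq_bot_iff.2 fun x hx => hinj _ (hz y) x hx.1 hx.2, card_bot,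
      mul_one] at h7
    have h8 := card_mul_index ((zpowers (e.symm y : L)).subgroupOf (zpowers (e.symm y : L) ⊔ f.ker))
    rw [Nat.card_congr (subgroupOfEquivOfLe le_sup_left).toEquiv, ← h6, h7] at h8
    exact Nat.eq_of_mul_eq_mul_left Nat.card_pos h8 ▸ h4
  have h4 : f (c * e.symm x * c⁻¹) = y := by rw [map_mul, map_mul, map_inv, he, hc]
  obtain ⟨b, hb, h5⟩ := h3.exists_conj_le (C := zpowers (c * e.symm x * c⁻¹))
    (zpowers_le.2 (by rw [mem_comap, h4]; exact mem_zpowers _))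
    (by have := (hz x).map (MulAut.conj c).toMonoidHom; rwa [MonoidHom.map_zpowers] at this)
  refine isConj_iff.2 ⟨b * c, ?_⟩
  have h6 := h5 _ (mem_zpowers _)
  obtain ⟨k, hk⟩ := mem_zpowers_iff.1 (mem_comap.1 hb)
  refine mul_inv_eq_one.1 (hinj _ (hz y) _ (mul_mem (by simpa [mul_assoc] using h6) (inv_mem (mem_zpowers _))) ?_)
  change f (b * c * (e.symm x) * (b * c)⁻¹ * (e.symm y : L)⁻¹) = 1
  rw [show b * c * (e.symm x) * (b * c)⁻¹ = b * (c * e.symm x * c⁻¹) * b⁻¹ by group, map_mul, map_mul, map_mul, h4,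
    map_inv, map_inv, he, ← hk]
  group

/-- generators of an `r`-subgroup of a group with a large abelian subgroup -/
theorem index_frattini_le {Γ : Type*} [Group Γ] [Finite Γ] {T : Subgroup Γ} (hc : ∀ x ∈ T, ∀ y ∈ T, x * y = y * x)
    {r l c : ℕ} [hr : Fact r.Prime] (hT : ∀ B ≤ T, (∀ x ∈ B, x ^ r = 1) → Nat.card B ≤ r ^ l)
    (hi : ¬ r ^ (c + 1) ∣ T.index) (hL : IsPGroup r L) (ι : L →* Γ) (hι : Injective ι) :
    (frattini L).index ≤ r ^ (l + c) := by
  have : Finite L := Finite.of_injective _ hι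
  obtain ⟨Q, hQ, -⟩ := exists_sylIn_ge (p := r) (C := ⊥) (B := T) bot_le IsPGroup.of_bot
  obtain ⟨S, hS, hQS⟩ := exists_sylIn_ge (le_top (a := Q)) hQ.isPGroup
  have h3 : Q.relIndex S ≤ r ^ c := by
    obtain ⟨n, hn⟩ := IsPGroup.index hS.isPGroup (Q.subgroupOf S)
    change Q.relIndex S = _ at hn
    rw [hn]
    refine Nat.pow_le_pow_right hr.out.pos (not_lt.1 fun hlt => hi ?_)
    have e1 := relIndex_mul_index hQS
    rw [← relIndex_mul_index hQ.le, hn] at e1
    exact (Nat.Coprime.pow_left _ (hr.out.coprime_iff_not_dvd.2 hQ.not_dvd_relIndex)).dvd_of_dvd_mul_left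
      (e1 ▸ (pow_dvd_pow r hlt).mul_right _)
  obtain ⟨y, -, hy⟩ := hS.exists_conj_le (C := ι.range) le_top (hL.of_surjective _ ι.rangeRestrict_surjective)
  let j : L →* Γ := (MulAut.conj y).toMonoidHom.comp ι
  have hj : Injective j := (MulAut.conj y).injective.comp hι
  have h4 : (Q.comap j).index ≤ r ^ c := by
    rw [index_comap]
    refine (relIndex_le_of_le_right ?_ index_ne_zero_of_finite).trans h3
    rintro _ ⟨x, rfl⟩; exact hy _ ⟨x, rfl⟩
  have hc0 : ∀ a b : Q.comap j, a * b = b * a := fun a b => Subtype.ext (hj (by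
    rw [coe_mul, coe_mul, map_mul, map_mul]; exact hc _ (hQ.le a.2) _ (hQ.le b.2)))
  let pw : Q.comap j →* Q.comap j :=
    { toFun := fun a => a ^ r
      map_one' := one_pow r
      map_mul' := fun a b => Commute.mul_pow (hc0 a b) r }
  have h5 : pw.range.index ≤ r ^ l := by
    have e1 := card_mul_index pw.range
    rw [card_eq_card_quotient_mul_card_subgroup pw.ker,
      Nat.card_congr (QuotientGroup.quotientKerEquivRange pw).toEquiv] at e1
    rw [Nat.eq_of_mul_eq_mul_left Nat.card_pos e1, 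
      ← card_map_of_injective (f := j.comp (Q.comap j).subtype) (hj.comp (Q.comap j).subtype_injective)]
    refine hT _ ?_ ?_
    · rintro _ ⟨a, -, rfl⟩; exact hQ.le a.2
    · rintro _ ⟨a, ha, rfl⟩
      rw [← map_pow, show a ^ r = 1 from ha, map_one]
  rw [← relIndex_mul_index (le_sup_left (b := Q.comap j)), relIndex_sup_left, pow_add]
  refine Nat.mul_le_mul (le_trans (index_antitone ?_) h5) ((index_antitone le_sup_right).trans h4)
  rintro _ ⟨a, rfl⟩
  exact PG.pow_mem_frattini hL _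

end CL.AltE
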