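/-
Alternating sections of Chevalley groups: lifting subgroups with their fusion to the simply connected algebraic group.
-/
import Cfsg.Agent.KSG.AltEGrp
import Cfsg.Agent.CHEV.SsGlue
import Cfsg.Agent.CHEV.Order
import Cfsg.Agent.CHEV.OrderGlue
import Cfsg.Agent.CHEV.StGlue

set_option autoImplicit false

namespace CL.AltE

open Function Subgroup CL.Chev Cfsg.Lie Cfsg.Lie.ChevalleyDatum

/-- `A_n` is a section -/
def Sec (G : Type*) [Group G] (n : ℕ) : Prop :=
  ∃ (L : Subgroup G) (f : L →* alternatingGroup (Fin n)), Surjective f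

theorem sec_of_hom {G L : Type*} [Group G] [Group L] {n : ℕ} (j : L →* G) (hj : Injective j)
    (f : L →* alternatingGroup (Fin n)) (hf : Surjective f) : Sec G n :=
  ⟨j.range, f.comp (MonoidHom.ofInjective hj).symm.toMonoidHom, hf.comp (MulEquiv.surjective _)⟩

theorem Sec.of_injective {G G' : Type*} [Group G] [Group G'] {n : ℕ} (h : Sec G n) (j : G →* G') (hj : Injective j) :
    Sec G' n := by
  obtain ⟨L, f, hf⟩ := h
  exact sec_of_hom (j.comp L.subtype) (hj.comp L.subtype_injective) f hf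

theorem Sec.of_surjective {G G' : Type*} [Group G] [Group G'] {n : ℕ} (h : Sec G n) (j : G' →* G) (hj : Surjective j) :
    Sec G' n := by
  obtain ⟨L, f, hf⟩ := h
  exact ⟨L.comap j, f.comp (j.subgroupComap L), hf.comp (j.subgroupComap_surjective_of_surjective L hj)⟩

theorem sec_of_quot {G : Type*} [Group G] {r n : ℕ} (hn : n ≤ r) (H : Subgroup G) (K : Subgroup H) [K.Normal]
    (e : Nonempty ((H ⧸ K) ≃* alternatingGroup (Fin r))) : Sec G n := by
  obtain ⟨L, f, hf⟩ := CL.SecL.exists_sec hn H K e.some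
  exact sec_of_hom (H.subtype.comp L.subtype) (H.subtype_injective.comp L.subtype_injective) f hf

theorem Sec.exists_min {G : Type*} [Group G] [Finite G] {n : ℕ} (h : Sec G n) :
    ∃ (L : Subgroup G) (f : L →* alternatingGroup (Fin n)), Min f := by
  obtain ⟨L, f, hf⟩ := h
  obtain ⟨M, hM⟩ := AltE.exists_min hf
  let e := equivMapOfInjective M L.subtype L.subtype_injective
  refine ⟨_, (f.comp M.subtype).comp e.symm.toMonoidHom, hM.1.comp e.symm.surjective, fun X hX => ?_⟩
  rw [← map_map] at hX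
  rw [← comap_map_eq_self_of_injective (f := e.symm.toMonoidHom) e.symm.injective X, hM.2 _ hX, comap_top]

variable {D : ChevalleyDatum} [Good D]

/-- the order formula for the simply connected groups -/
def Ord (D : ChevalleyDatum) [Good D] (N : ℕ) (d : Fin D.rank → ℕ) : Prop :=
  ∀ (E : Type) [Field E] [Finite E],
    Nat.card (D.SteinbergGroup E) = Nat.card E ^ N * ∏ i, (Nat.card E ^ d i - 1)

theorem card_st (hD : D ∈ [chevG2, chevB2, chevD4, chevF4, chevE6, chevE7, chevE8]) (E : Type*) [Field E] :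
    Nat.card (D.SteinbergGroup E) = Nat.card (matHom Eˣ (cartanMat D)).ker * Nat.card (stG D E).grp := by
  rw [← card_ker_thetaS (stS_sc hD), card_eq_card_quotient_mul_card_subgroup (thetaS D E).ker, mul_comm, stG_top,
    card_top, Nat.card_congr (QuotientGroup.quotientKerEquivOfSurjective _ thetaS_surjective).toEquiv]

theorem ord6 : Ord chevE6 36 (![2, 5, 6, 8, 9, 12] : Fin 6 → ℕ) := fun E _ _ => by
  rw [card_st (by simp), card_ker_E6, Nat.card_units]
  refine (card_grp_E6 (stG_good (D := chevE6) (F := E)) stG_adjoint (of_rootSys_A _) (by simp; rfl) rfl).trans ?_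
  erw [Fin.prod_univ_six]; simp [mul_assoc]

theorem ord7 : Ord chevE7 63 (![2, 6, 8, 10, 12, 14, 18] : Fin 7 → ℕ) := fun E _ _ => by
  rw [card_st (by simp), card_ker_E7, Nat.card_units]
  refine (card_grp_E7 (stG_good (D := chevE7) (F := E)) stG_adjoint (of_rootSys_A _) (by simp; rfl) rfl).trans ?_
  erw [Fin.prod_univ_seven]; simp [mul_assoc]

theorem ord8 : Ord chevE8 120 (![2, 8, 12, 14, 18, 20, 24, 30] : Fin 8 → ℕ) := fun E _ _ => by
  rw [card_st (by simp), card_ker_E8, one_mul]
  refine (card_grp_E8 (stG_good (D := chevE8) (F := E)) stG_adjoint (of_rootSys_A _) (by simp; rfl) rfl).trans ?_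
  erw [Fin.prod_univ_eight]; simp [mul_assoc]

variable (hD : D ∈ [chevG2, chevB2, chevD4, chevF4, chevE6, chevE7, chevE8])
include hD

theorem finite_st (E : Type*) [Field E] [Finite E] : Finite (D.SteinbergGroup E) := by
  have := finite_group D E
  exact Nat.finite_of_card_ne_zero (by rw [card_st hD]; exact mul_ne_zero Nat.card_pos.ne' Nat.card_pos.ne')

theorem not_dvd_index {N : ℕ} {d : Fin D.rank → ℕ} (h : Ord D N d) (E : Type) [Field E] [Finite E] {m : ℕ}
    (hm : ¬ m ∣ ∏ i, d i) (hE : Nat.card E ≡ 1 [MOD m]) : ¬ m ∣ (stS D E).H.index := by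
  have h1 := card_mul_index (stS D E).H
  obtain ⟨q, hq⟩ : ∃ q, Nat.card E = q + 1 := ⟨Nat.card E - 1, by have := Nat.card_pos (α := E); omega⟩
  have h0 : 0 < q := by have := Finite.one_lt_card (α := E); omega
  have e (n : ℕ) : (q + 1) ^ n - 1 = q * ∑ i ∈ Finset.range n, (q + 1) ^ i :=
    Nat.sub_eq_of_eq_add (by rw [mul_comm, geom_sum_mul_add])
  rw [h E, ← stS_R3.range_torHom, ← Nat.card_congr (MonoidHom.ofInjective (stS_sc hD)).toEquiv, Nat.card_fun,
    Nat.card_units, stS_R3.range_torHom, hq, Nat.add_sub_cancel, Finset.prod_congr rfl fun i _ => e _,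
    Finset.prod_mul_distrib, Finset.prod_const, Finset.card_univ, Nat.card_eq_fintype_card, mul_left_comm] at h1
  rw [Nat.eq_of_mul_eq_mul_left (pow_pos h0 _) h1, ← ZMod.natCast_eq_zero_iff]
  rw [← ZMod.natCast_eq_zero_iff] at hm
  have h2 := (ZMod.natCast_eq_natCast_iff _ _ _).2 (hq ▸ hE)
  simpa [-Nat.cast_add, h2] using hm

theorem card_le_of_le_H {E : Type*} [Field E] {r : ℕ} [NeZero r] (B : Subgroup (D.SteinbergGroup E))
    (hB : B ≤ (stS D E).H) (h : ∀ x ∈ B, x ^ r = 1) : Nat.card B ≤ r ^ D.rank := by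
  have h1 : ∀ x : B, ∃ t : Fin D.rank → rootsOfUnity r E, stS_R3.torHom (fun i => (t i : Eˣ)) = x := fun x => by
    obtain ⟨t, ht⟩ := (stS_R3 (D := D) (K := E)).range_torHom ▸ hB x.2
    have : t ^ r = 1 := stS_sc hD (by rw [map_pow, ht, h x x.2, map_one])
    exact ⟨fun i => ⟨t i, (mem_rootsOfUnity _ _).2 (congrFun this i)⟩, ht⟩
  choose t ht using h1
  refine (Nat.card_le_card_of_injective t fun x y e => Subtype.ext (by rw [← ht, ← ht, e])).trans ?_
  rw [Nat.card_fun, Nat.card_fin]
  exact Nat.pow_le_pow_left (card_rootsOfUnity E r) _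

variable {F : Type*} [Field F] [Fintype F] (p : ℕ) [hp : Fact p.Prime] [CharP F p]

theorem exists_emb : ∃ j : D.SteinbergGroup F →* D.SteinbergGroup (AlgebraicClosure (ZMod p)), Injective j := by
  let _ := ZMod.algebra F p
  exact ⟨_, stField_injective (stS_sc hD) (IsAlgClosed.lift (R := ZMod p) (S := F)
    (M := AlgebraicClosure (ZMod p))).toRingHom⟩

/-- an `r`-subgroup of the section lifts with its fusion -/
theorem exists_fusion {N : ℕ} {d : Fin D.rank → ℕ} (h : Ord D N d) {n : ℕ} (hn : 9 ≤ n) (hs : Sec (D.group F) n)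
    {r c : ℕ} [hr : Fact r.Prime] (h2 : r ≠ 2) (hrp : r ≠ p) (hc : ¬ r ^ (c + 1) ∣ ∏ i, d i)
    (hl : D.rank + c + 2 < n) {A : Type*} [Group A] (e : alternatingGroup (Fin n) ≃* A) (Q : Subgroup A)
    (hQ : IsPGroup r Q) : ∃ ι : Q →* D.SteinbergGroup (AlgebraicClosure (ZMod p)), Injective ι ∧
      ∀ x y : Q, IsConj (x : A) y → IsConj (ι x) (ι y) := by
  have := finite_st hD F
  obtain ⟨L, f, hf⟩ := (hs.of_surjective _ thetaS_surjective).exists_min
  obtain ⟨a, -, ha⟩ := FiniteField.card F p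
  have : NeZero (r ^ (c + 1)).totient := ⟨(Nat.totient_pos.2 (pow_pos hr.out.pos _)).ne'⟩
  let E := FiniteField.Extension F p (r ^ (c + 1)).totient
  have hE : Nat.card E ≡ 1 [MOD r ^ (c + 1)] := by
    rw [FiniteField.natCard_extension, Nat.card_eq_fintype_card, ha]
    exact Nat.ModEq.pow_totient (Nat.Coprime.pow _ _ ((Nat.coprime_primes hp.out hr.out).2 hrp.symm))
  have := finite_st hD E
  have h1 := hf.not_dvd hn h2 (fun P hP => index_frattini_le (fun x hx y hy => stS_R3.H_comm hx hy)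
    (card_le_of_le_H hD) (not_dvd_index hD h E hc hE) hP
    ((stField D (algebraMap F E)).comp (L.subtype.comp P.subtype))
    ((stField_injective (stS_sc hD) _).comp (L.subtype_injective.comp P.subtype_injective))) hl
  obtain ⟨ι, h3, h4⟩ := exists_lift (f := e.toMonoidHom.comp f) (e.surjective.comp hf.1)
    (by rwa [MonoidHom.ker_comp_of_injective _ _ e.injective]) Q hQ
  obtain ⟨j, hj⟩ := exists_emb hD (F := F) p
  exact ⟨j.comp (L.subtype.comp ι), hj.comp (L.subtype_injective.comp fun x y h => Subtype.ext (by rw [← h3, ← h3, h])),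
    fun x y h => (j.comp L.subtype).map_isConj (h4 x y h)⟩

end CL.AltE
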