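/-
Dimensions of joint eigenspaces of commuting operators of finite order.
-/
import Mathlib

set_option autoImplicit false

namespace CL.AltE

open Module Submodule Function Finset Polynomial

universe v
variable {K : Type*} {V : Type v} [Field K] [AddCommGroup V] [Module K V]

theorem finrank_inf {I J : Type*} [Fintype I] {v : I → V} (hv : LinearIndependent K v) (f : J → End K V)
    (d : J → I → K) (hf : ∀ j i, f j (v i) = d j i • v i) (μ : J → K) (p : I → Prop) [DecidablePred p]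
    (hp : ∀ i, p i ↔ ∀ j, d j i = μ j) :
    finrank K ↥(span K (Set.range v) ⊓ ⨅ j, (f j).eigenspace (μ j)) = #{i | p i} := by
  rw [← Fintype.card_subtype, ← finrank_span_eq_card (hv.comp (Subtype.val : {i // p i} → I) Subtype.val_injective)]
  refine congrArg (fun W : Submodule K V => finrank K W) (le_antisymm ?_ (span_le.2 ?_))
  · rintro x ⟨h1, h2⟩
    obtain ⟨c, rfl⟩ := (mem_span_range_iff_exists_fun K).1 h1
    refine sum_mem fun i _ => ?_
    by_cases hi : p i
    · exact smul_mem _ _ (subset_span ⟨⟨i, hi⟩, rfl⟩)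
    obtain ⟨j, hj⟩ := not_forall.1 (mt (hp i).2 hi)
    have h3 := End.mem_eigenspace_iff.1 ((mem_iInf _).1 h2 j)
    simp only [map_sum, map_smul, hf, smul_sum, smul_smul] at h3
    have h5 : c i * (d j i - μ j) = 0 := by
      linear_combination Fintype.linearIndependent_iffₛ.1 hv (fun i => c i * d j i) (fun i => μ j * c i) h3 i
    rw [(mul_eq_zero.1 h5).resolve_right (sub_ne_zero.2 hj), zero_smul]
    exact zero_mem _
  · rintro _ ⟨i, rfl⟩
    exact ⟨subset_span ⟨i, rfl⟩, (mem_iInf _).2 fun j => End.mem_eigenspace_iff.2 (by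
      rw [comp_apply, hf, (hp i).1 i.2 j])⟩

theorem finrank_inf₁ {I : Type*} [Fintype I] {v : I → V} (hv : LinearIndependent K v) {f : End K V}
    {d : I → K} (hf : ∀ i, f (v i) = d i • v i) (μ : K) (p : I → Prop) [DecidablePred p] (hp : ∀ i, p i ↔ d i = μ) :
    finrank K ↥(span K (Set.range v) ⊓ f.eigenspace μ) = #{i | p i} := by
  have := finrank_inf hv (J := Unit) (fun _ => f) (fun _ => d) (fun _ => hf) (fun _ => μ) p (by simpa using hp)
  rwa [iInf_const] at this

theorem finrank_inf₂ {I : Type*} [Fintype I] {v : I → V} (hv : LinearIndependent K v) {f g : End K V}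
    {d e : I → K} (hf : ∀ i, f (v i) = d i • v i) (hg : ∀ i, g (v i) = e i • v i) (μ ν : K) (p : I → Prop)
    [DecidablePred p] (hp : ∀ i, p i ↔ d i = μ ∧ e i = ν) :
    finrank K ↥(span K (Set.range v) ⊓ f.eigenspace μ ⊓ g.eigenspace ν) = #{i | p i} := by
  have := finrank_inf hv (J := Bool) (fun b => cond b f g) (fun b => cond b d e)
    (fun b => by cases b; exacts [hg, hf]) (fun b => cond b μ ν) p (by simpa [and_comm] using hp)
  rwa [iInf_bool_eq, ← inf_assoc] at this

variable [FiniteDimensional K V]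

theorem finrank_le_of_maps {y : End K V} (hy : Injective y) {S T : Submodule K V} (h : ∀ v ∈ S, y v ∈ T) :
    finrank K S ≤ finrank K T :=
  LinearMap.finrank_le_finrank_of_injective (f := y.restrict h) fun _ _ e => Subtype.ext (hy (congrArg Subtype.val e))

omit [FiniteDimensional K V] in
theorem rep_injective {G : Type*} [Group G] (ρ : G →* End K V) (g : G) : Injective (ρ g) := fun x y e => by
  have := congrArg (ρ g⁻¹) e
  rwa [← End.mul_apply, ← End.mul_apply, ← map_mul, inv_mul_cancel, map_one] at this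

theorem finrank_conj {G : Type*} [Group G] (ρ : G →* End K V) {g g' : G} (h : IsConj g g') (μ : K) :
    finrank K ((ρ g).eigenspace μ) = finrank K ((ρ g').eigenspace μ) := by
  suffices ∀ g g', IsConj g g' → finrank K ((ρ g).eigenspace μ) ≤ finrank K ((ρ g').eigenspace μ) from
    (this _ _ h).antisymm (this _ _ h.symm)
  intro g g' h
  obtain ⟨c, rfl⟩ := isConj_iff.1 h
  refine finrank_le_of_maps (rep_injective ρ c) fun v hv => End.mem_eigenspace_iff.2 ?_
  rw [← End.mul_apply, ← map_mul, inv_mul_cancel_right, map_mul, End.mul_apply, End.mem_eigenspace_iff.1 hv, map_smul]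

variable [IsAlgClosed K]

theorem exists_eb_top {J : Type*} (X : J → End K V) (hc : ∀ i j, Commute (X i) (X j)) {n : ℕ} (h0 : (n : K) ≠ 0)
    (hn : ∀ j, X j ^ n = 1) : ∃ (I : Type v) (_ : Fintype I) (v : I → V) (d : J → I → K), LinearIndependent K v ∧
      span K (Set.range v) = ⊤ ∧ ∀ j i, X j (v i) = d j i • v i := by
  have h1 := End.iSup_iInf_maxGenEigenspace_eq_top_of_iSup_maxGenEigenspace_eq_top_of_commute X (fun i j _ => hc i j)
    fun i => End.iSup_maxGenEigenspace_eq_top _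
  have h2 : ∀ j, (X j).IsFinitelySemisimple := fun j => (End.isSemisimple_of_squarefree_aeval_eq_zero
    (X_pow_sub_one_separable_iff.2 h0).squarefree (by simp [hn])).isFinitelySemisimple
  simp only [(h2 _).maxGenEigenspace_eq_eigenspace] at h1
  obtain ⟨b, hb, h3, h4⟩ := exists_linearIndependent K (⋃ χ : J → K, (⨅ i, (X i).eigenspace (χ i) : Submodule K V) : Set V)
  have := h4.finite
  have h5 : ∀ x : b, ∃ χ : J → K, ∀ j, X j x = χ j • x := fun x => by
    obtain ⟨χ, h⟩ := Set.mem_iUnion.1 (hb x.2)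
    exact ⟨χ, fun j => End.mem_eigenspace_iff.1 ((mem_iInf _).1 h j)⟩
  choose χ hχ using h5
  exact ⟨b, Fintype.ofFinite b, _, fun j i => χ i j, h4, by rw [Subtype.range_coe, h3, ← iSup_eq_span, h1],
    fun j i => hχ i j⟩

theorem exists_eb (W : Submodule K V) {J : Type*} (X : J → End K V) (hW : ∀ j, ∀ v ∈ W, X j v ∈ W)
    (hc : ∀ i j, ∀ v ∈ W, X i (X j v) = X j (X i v)) {n : ℕ} (h0 : (n : K) ≠ 0) (hn : ∀ j, ∀ v ∈ W, (X j ^ n) v = v) :
    ∃ (I : Type v) (_ : Fintype I) (v : I → V) (d : J → I → K), LinearIndependent K v ∧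
      span K (Set.range v) = W ∧ ∀ j i, X j (v i) = d j i • v i := by
  obtain ⟨I, _, v, d, h1, h2, h3⟩ := exists_eb_top (fun j => (X j).restrict (hW j))
    (fun i j => LinearMap.ext fun v => Subtype.ext (hc i j v v.2)) h0 fun j => LinearMap.ext fun v => Subtype.ext (by
      rw [End.pow_restrict]; exact hn j v v.2)
  refine ⟨I, inferInstance, W.subtype ∘ v, d, h1.map' _ W.ker_subtype, ?_, fun j i => congrArg Subtype.val (h3 j i)⟩
  rw [Set.range_comp, ← map_span, h2, map_subtype_top]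

omit [FiniteDimensional K V] [IsAlgClosed K] in
theorem eig_pow {f : End K V} {v : V} {d : K} (h : f v = d • v) (n : ℕ) : (f ^ n) v = d ^ n • v := by
  induction n with
  | zero => simp
  | succ n ih => rw [pow_succ, End.mul_apply, h, map_smul, ih, smul_smul, pow_succ']

omit [FiniteDimensional K V] [IsAlgClosed K] in
theorem pow_eq_one_of_eig {f : End K V} {v : V} (hv : v ≠ 0) {d : K} (h : f v = d • v) {n : ℕ} (hn : (f ^ n) v = v) :
    d ^ n = 1 := smul_left_injective K hv (by simp only [← eig_pow h, hn, one_smul])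

theorem finrank_split {ω : K} (hω : IsPrimitiveRoot ω 3) (h0 : ((3 : ℕ) : K) ≠ 0) (T : Submodule K V) {c : End K V}
    (hT : ∀ v ∈ T, c v ∈ T) (hc : c ^ 3 = 1) : finrank K T = finrank K ↥(T ⊓ c.eigenspace 1) +
      finrank K ↥(T ⊓ c.eigenspace ω) + finrank K ↥(T ⊓ c.eigenspace (ω ^ 2)) := by
  classical
  obtain ⟨I, _, v, d, h1, rfl, h3⟩ := exists_eb T (J := Unit) (fun _ => c) (fun _ => hT) (fun _ _ _ _ => rfl) h0
    fun _ _ _ => by rw [hc]; rfl
  rw [finrank_inf₁ h1 (h3 ()) _ _ fun _ => Iff.rfl, finrank_inf₁ h1 (h3 ()) _ _ fun _ => Iff.rfl,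
    finrank_inf₁ h1 (h3 ()) _ _ fun _ => Iff.rfl, finrank_span_eq_card h1]
  simp only [card_filter, ← sum_add_distrib]
  rw [Fintype.card_eq_sum_ones]
  refine sum_congr rfl fun i _ => ?_
  obtain ⟨k, hk, e⟩ := hω.eq_pow_of_pow_eq_one (pow_eq_one_of_eig (h1.ne_zero i) (h3 () i) (n := 3) (by rw [hc]; rfl))
  have h4 : ∀ a < 3, ∀ b < 3, ω ^ a = ω ^ b ↔ a = b := fun a ha b hb => ⟨hω.pow_inj ha hb, congrArg _⟩
  have h5 := h4 k hk 0 (by omega)
  have h6 := h4 k hk 1 (by omega)
  rw [pow_zero] at h5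
  rw [pow_one] at h6
  simp only [← e, h5, h6, h4 k hk 2 (by omega)]
  interval_cases k <;> rfl

/-- the part on which a central commutator acts non-trivially is evenly distributed -/
theorem exists_shift {ω : K} (hω : IsPrimitiveRoot ω 3) (h0 : ((3 : ℕ) : K) ≠ 0) (W : Submodule K V) {g y c : End K V}
    (hy : Injective y) (h1 : ∀ v ∈ W, y v ∈ W) (h2 : ∀ v ∈ W, c v ∈ W) (h3 : ∀ v ∈ W, g (c v) = c (g v))
    (h4 : c * y = y * c) (h5 : g * y = y * c * g) (hc : c ^ 3 = 1) :
    ∃ k, ∀ e < 3, finrank K ↥(W ⊓ g.eigenspace (ω ^ e)) =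
      finrank K ↥(W ⊓ c.eigenspace 1 ⊓ g.eigenspace (ω ^ e)) + k := by
  have a1 : ∀ μ ν, finrank K ↥(W ⊓ g.eigenspace μ ⊓ c.eigenspace ν) ≤
      finrank K ↥(W ⊓ g.eigenspace (μ * ν) ⊓ c.eigenspace ν) := fun μ ν => by
    refine finrank_le_of_maps hy ?_
    rintro v ⟨⟨b1, b2⟩, b3⟩
    have b4 := End.mem_eigenspace_iff.1 b2
    have b5 := End.mem_eigenspace_iff.1 b3
    refine ⟨⟨h1 v b1, End.mem_eigenspace_iff.2 ?_⟩, End.mem_eigenspace_iff.2 ?_⟩
    · rw [← End.mul_apply, h5, End.mul_apply, End.mul_apply, b4, map_smul, b5, smul_smul, map_smul]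
    · rw [← End.mul_apply, h4, End.mul_apply, b5, map_smul]
  have a2 := fun μ => finrank_split hω h0 (W ⊓ g.eigenspace μ) (c := c) (fun v hv => ⟨h2 v hv.1,
    End.mem_eigenspace_iff.2 (by rw [h3 v hv.1, End.mem_eigenspace_iff.1 hv.2, map_smul])⟩) hc
  have e3 : ω ^ 2 * ω = 1 := by rw [← pow_succ, hω.pow_eq_one]
  have b1 := a1 1 ω
  have b2 := a1 ω ω
  have b3 := a1 (ω ^ 2) ω
  have b4 := a1 1 (ω ^ 2)
  have b5 := a1 (ω ^ 2) (ω ^ 2)
  have b6 := a1 ω (ω ^ 2)
  rw [one_mul] at b1 b4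
  rw [← sq] at b2
  rw [e3] at b3
  rw [show ω ^ 2 * ω ^ 2 = ω by linear_combination ω * e3] at b5
  rw [mul_comm, e3] at b6
  refine ⟨finrank K ↥(W ⊓ g.eigenspace 1 ⊓ c.eigenspace ω) + finrank K ↥(W ⊓ g.eigenspace 1 ⊓ c.eigenspace (ω ^ 2)),
    fun e he => ?_⟩
  rw [a2, inf_right_comm W (c.eigenspace 1)]
  interval_cases e
  · rw [pow_zero]; omega
  · rw [pow_one]; omega
  · omega

section Grp

variable {E : Type*} [Group E] [Fintype E]

omit [IsAlgClosed K] in
theorem mul_card_eq {r : ℕ} [hr : Fact r.Prime] (he : ∀ e : E, e ^ r = 1) {χ ψ : E →* K} (h : χ ≠ ψ)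
    [DecidablePred fun e => χ e = ψ e] : r * #{e | χ e = ψ e} = Fintype.card E := by
  let φ := χ.toHomUnits * ψ.toHomUnits⁻¹
  have h1 : ∀ e, e ∈ φ.ker ↔ χ e = ψ e := fun e => by
    simp [φ, MonoidHom.mem_ker, mul_inv_eq_one, Units.ext_iff]
  have h2 : φ.range ≤ rootsOfUnity r K := by
    rintro _ ⟨e, rfl⟩
    rw [mem_rootsOfUnity, ← map_pow, he, map_one]
  obtain ⟨e, h3⟩ : ∃ e, e ∉ φ.ker := not_forall.1 fun h3 => h (MonoidHom.ext fun e => (h1 e).1 (h3 e))
  have h4 : orderOf (φ e) = r := orderOf_eq_prime (by rw [← map_pow, he, map_one]) h3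
  have : Finite φ.range := Finite.of_surjective _ φ.rangeRestrict_surjective
  have h5 : Nat.card φ.range = r := ((Subgroup.card_le_of_le h2).trans (card_rootsOfUnity K r)).antisymm
    (Nat.le_of_dvd Nat.card_pos (h4 ▸ Subgroup.orderOf_dvd_natCard _ ⟨e, rfl⟩))
  rw [← Nat.card_eq_fintype_card, Subgroup.card_eq_card_quotient_mul_card_subgroup φ.ker,
    Nat.card_congr (QuotientGroup.quotientKerEquivRange φ).toEquiv, h5, ← Fintype.card_subtype,
    ← Nat.card_eq_fintype_card]
  exact congrArg _ (Nat.card_congr (Equiv.subtypeEquivRight h1).symm)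

omit [Fintype E] in
/-- weights of an elementary abelian group -/
theorem exists_wts (X : E →* End K V) (hc : ∀ a b : E, a * b = b * a) {r : ℕ} (h0 : (r : K) ≠ 0)
    (he : ∀ e : E, e ^ r = 1) : ∃ (I : Type v) (_ : Fintype I) (d : I → E →* K), Fintype.card I = finrank K V ∧
      (∀ e μ (p : I → Prop) [DecidablePred p], (∀ i, p i ↔ d i e = μ) → finrank K ((X e).eigenspace μ) = #{i | p i}) ∧
      ∀ (ψ : E →* K) (p : I → Prop) [DecidablePred p], (∀ i, p i ↔ d i = ψ) →
        finrank K ↥(⨅ e, (X e).eigenspace (ψ e)) = #{i | p i} := by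
  obtain ⟨I, _, v, d, h1, h2, h3⟩ := exists_eb_top X (fun a b => by rw [Commute, SemiconjBy, ← map_mul, hc, map_mul]) h0
    fun e => by rw [← map_pow, he, map_one]
  refine ⟨I, inferInstance, fun i => ⟨⟨fun e => d e i, smul_left_injective K (h1.ne_zero i) ?_⟩,
    fun a b => smul_left_injective K (h1.ne_zero i) ?_⟩, ?_, fun e μ p _ hp => ?_, fun ψ p _ hp => ?_⟩
  · simp only [← h3, map_one, End.one_apply, one_smul]
  · simp only [← h3, map_mul, End.mul_apply, mul_smul]
    rw [h3 b, map_smul, h3 a, smul_comm]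
  · rw [← finrank_span_eq_card h1, h2, finrank_top]
  · rw [← finrank_inf₁ h1 (h3 e) μ p hp, h2, top_inf_eq]
  · rw [← finrank_inf h1 X d h3 ψ p fun i => (hp i).trans MonoidHom.ext_iff, h2, top_inf_eq]

theorem sum_eig (X : E →* End K V) (hc : ∀ a b : E, a * b = b * a) {r : ℕ} [hr : Fact r.Prime] (h0 : (r : K) ≠ 0)
    (he : ∀ e : E, e ^ r = 1) (ψ : E →* K) : r * ∑ e, finrank K ((X e).eigenspace (ψ e)) =
      Fintype.card E * (finrank K V + (r - 1) * finrank K ↥(⨅ e, (X e).eigenspace (ψ e))) := by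
  classical
  obtain ⟨I, _, d, h1, h2, h3⟩ := exists_wts X hc h0 he
  rw [h3 ψ _ fun _ => Iff.rfl, sum_congr rfl fun e _ => h2 e _ _ fun _ => Iff.rfl, ← h1]
  simp only [card_filter]
  rw [sum_comm, Fintype.card_eq_sum_ones (α := I), mul_sum, mul_sum, ← sum_add_distrib, mul_sum]
  refine sum_congr rfl fun i _ => ?_
  split_ifs with h
  · simp only [h, if_true, sum_const, card_univ, smul_eq_mul, mul_one]
    rw [add_comm, Nat.sub_add_cancel hr.out.one_le, mul_comm]
  · rw [← card_filter, mul_card_eq he h]; simp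

/-- an elementary abelian `2`-group whose involutions have small traces is small -/
theorem card_le_of_two (X : E →* End K V) (hc : ∀ a b : E, a * b = b * a) (h0 : ((2 : ℕ) : K) ≠ 0)
    (he : ∀ e : E, e ^ 2 = 1) (hV : finrank K V = 27)
    (h : ∀ e ≠ 1, finrank K ((X e).eigenspace 1) = 15 ∨ finrank K ((X e).eigenspace 1) = 11) :
    Fintype.card E ≤ 352 := by
  classical
  obtain ⟨I, _, d, h1, h2, -⟩ := exists_wts X hc h0 he
  rw [hV] at h1
  have h3 : ∀ e ≠ 1, ∑ i, ∑ j, (if d i e = d j e then 1 else 0) ≤ 377 := fun e h1' => by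
    have h4 : ∀ i, d i e = 1 ∨ d i e = -1 := fun i => sq_eq_one_iff.1 (by rw [← map_pow, he, map_one])
    have h5 : (1 : K) ≠ -1 := fun e => h0 (by push_cast; linear_combination e)
    have h6 := card_filter_add_card_filter_not (s := (univ : Finset I)) fun i => d i e = 1
    have h7 : ∀ i, ∑ j, (if d i e = d j e then 1 else 0) =
        if d i e = 1 then #{j | d j e = 1} else #{j | ¬ d j e = 1} := fun i => by
      rw [← card_filter]
      split_ifs with hi
      · simp only [hi, eq_comm]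
      · refine congrArg _ (filter_congr fun j _ => ?_)
        rcases h4 i with a | a <;> rcases h4 j with b | b <;> simp_all [eq_comm]
    rw [sum_congr rfl fun i _ => h7 i, sum_ite, sum_const, sum_const, smul_eq_mul, smul_eq_mul]
    have h8 := h e h1'
    rw [h2 e 1 _ fun _ => Iff.rfl] at h8
    rw [card_univ, h1] at h6
    rcases h8 with h8 | h8 <;> (rw [h8] at h6 ⊢; rw [Nat.eq_sub_of_add_eq' h6]; try norm_num)
  have h4 : ∀ i j, Fintype.card E + (if i = j then Fintype.card E else 0) ≤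
      2 * ∑ e, (if d i e = d j e then 1 else 0) := fun i j => by
    by_cases h5 : d i = d j
    · simp only [h5, if_true, sum_const, card_univ, smul_eq_mul, mul_one]
      split_ifs <;> omega
    · rw [← card_filter, mul_card_eq he h5, if_neg (by rintro rfl; exact h5 rfl), add_zero]
  have h5 := sum_le_sum fun i (_ : i ∈ univ) => sum_le_sum fun j (_ : j ∈ univ) => h4 i j
  simp only [sum_add_distrib, sum_ite_eq, mem_univ, if_true, sum_const, card_univ, h1, smul_eq_mul, ← mul_sum] at h5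
  rw [sum_congr rfl fun i _ => sum_comm, sum_comm, ← add_sum_erase _ _ (mem_univ 1)] at h5
  have h6 := sum_le_sum fun e (he : e ∈ univ.erase 1) => h3 e (ne_of_mem_erase he)
  simp only [map_one, if_true, sum_const, card_univ, h1, smul_eq_mul, card_erase_of_mem (mem_univ (1 : E))] at h5 h6
  have := Fintype.card_pos (α := E)
  omega

end Grp

end CL.AltE
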