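/-
Weight representations of simply connected groups and eigenvalue distributions of elements of finite order,
computed over the fundamental alcove.
-/
import Cfsg.Agent.KSG.AltELin
import Cfsg.Agent.CHEV.SsGlue
import Cfsg.Agent.CHEV.SsSub

set_option autoImplicit false

namespace CL.AltE

open Module Function Finset CL.Chev
open Matrix hiding zpow_add zpow_mul zpow_sub one_zpow

section Num

theorem digit {B N : ℕ} (a : ℕ → ℕ) (h : ∀ i < N, a i < B) {j : ℕ} (hj : j < N) :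
    (∑ i ∈ range N, a i * B ^ i) / B ^ j % B = a j := by
  have hB : 0 < B := (Nat.zero_le _).trans_lt (h j hj)
  induction j generalizing a N with
  | zero =>
    obtain ⟨N, rfl⟩ : ∃ M, N = M + 1 := ⟨N - 1, by omega⟩
    simp only [sum_range_succ', pow_succ, ← mul_assoc, ← sum_mul, pow_zero, mul_one, Nat.div_one]
    rw [Nat.mul_add_mod_of_lt (h 0 hj)]
  | succ j ih =>
    obtain ⟨N, rfl⟩ : ∃ M, N = M + 1 := ⟨N - 1, by omega⟩
    rw [sum_range_succ', pow_succ', ← Nat.div_div_eq_div_mul]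
    simp only [pow_succ, ← mul_assoc, ← sum_mul, pow_zero, mul_one]
    rw [add_comm, Nat.add_mul_div_right _ _ hB, Nat.div_eq_of_lt (h 0 (by omega)), zero_add]
    exact ih (fun i => a (i + 1)) (fun i hi => h _ (by omega)) (by omega)

/-- forces evaluation -/
def forceN (n : ℕ) (k : ℕ → Bool) : Bool := Nat.casesOn n (k 0) fun m => k (Nat.succ m)

theorem forceN_eq (n : ℕ) (k : ℕ → Bool) : forceN n k = k n := by cases n <;> rfl

/-- enumeration of the alcove -/
noncomputable def alcAll (l : List (ℕ × ℕ)) (P : ℕ → Bool) : ℕ → ℕ → Bool :=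
  List.rec (fun _ S => forceN S P) (fun a _ ih n S => forceN n fun n => forceN S fun S =>
    allLt (Nat.succ (Nat.div n a.1)) fun c => ih (Nat.sub n (Nat.mul a.1 c)) (Nat.add S (Nat.mul c a.2))) l

theorem alcAll_cons (a : ℕ × ℕ) (l : List (ℕ × ℕ)) (P : ℕ → Bool) (n S : ℕ) : alcAll (a :: l) P n S =
    allLt (n / a.1 + 1) fun c => alcAll l P (n - a.1 * c) (S + c * a.2) := by
  change forceN n (fun n => forceN S fun S => allLt (n / a.1 + 1) fun c => alcAll l P (n - a.1 * c) (S + c * a.2)) = _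
  rw [forceN_eq, forceN_eq]

theorem alcAll_spec {l : ℕ} (θ C : Fin l → ℕ) (hθ : ∀ j, 0 < θ j) (P : ℕ → Bool) (n S : ℕ)
    (h : alcAll (List.ofFn fun j => (θ j, C j)) P n S = true) (c : Fin l → ℕ) (hc : ∑ j, θ j * c j ≤ n) :
    P (S + ∑ j, c j * C j) = true := by
  induction l generalizing n S with
  | zero => simpa [alcAll, forceN_eq] using h
  | succ l ih =>
    rw [List.ofFn_succ] at h
    rw [Fin.sum_univ_succ] at hc ⊢
    rw [← add_assoc]
    rw [alcAll_cons] at h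
    have h1 := (allLt_iff _ _).1 h (c 0)
      (Nat.lt_succ_of_le ((Nat.le_div_iff_mul_le (hθ 0)).2 (by rw [mul_comm]; omega)))
    exact ih _ _ (fun j => hθ _) _ _ h1 _ (Nat.le_sub_of_add_le' hc)

/-- the distribution of the residues of the entries of a packed vector -/
noncomputable def hist (N n S k : ℕ) : ℕ :=
  Nat.rec 0 (fun i s => Nat.add s (Nat.pow 256 (Nat.mod (Nat.mul k (lk S 16 65535 i)) n))) N

theorem lk_eq (S i : ℕ) : lk S 16 65535 i = S / 65536 ^ i % 65536 := by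
  change (S >>> (16 * i)) &&& (2 ^ 16 - 1) = _
  rw [Nat.and_two_pow_sub_one_eq_mod, Nat.shiftRight_eq_div_pow, pow_mul]
  norm_num

theorem hist_eq (N n S k : ℕ) (hn : 0 < n) :
    hist N n S k = ∑ j ∈ range n, #{i : Fin N | k * lk S 16 65535 i % n = j} * 256 ^ j := by
  have h : hist N n S k = ∑ i ∈ range N, 256 ^ (k * lk S 16 65535 i % n) := by
    induction N with
    | zero => rfl
    | succ N ih => rw [sum_range_succ, ← ih]; rfl
  rw [h, ← Fin.sum_univ_eq_sum_range (fun i => 256 ^ (k * lk S 16 65535 i % n)),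
    ← sum_fiberwise_of_maps_to (t := range n) (g := fun i : Fin N => k * lk S 16 65535 i % n)
      fun i _ => mem_range.2 (Nat.mod_lt _ hn)]
  refine sum_congr rfl fun j _ => ?_
  rw [sum_congr rfl fun i hi => by rw [(mem_filter.1 hi).2], sum_const, smul_eq_mul]

theorem lk_sum {l N : ℕ} (C c : Fin l → ℕ) (hC : ∀ j, C j = ∑ i ∈ range N, lk (C j) 16 65535 i * 65536 ^ i)
    (h : ∀ i < N, ∑ j, c j * lk (C j) 16 65535 i < 65536) {i : ℕ} (hi : i < N) :
    lk (∑ j, c j * C j) 16 65535 i = ∑ j, c j * lk (C j) 16 65535 i := by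
  rw [lk_eq, ← digit (fun i => ∑ j, c j * lk (C j) 16 65535 i) h hi, sum_congr rfl fun j _ => congrArg _ (hC j)]
  simp only [mul_sum, sum_mul, mul_assoc]
  rw [sum_comm]

end Num

theorem mul_submatrix {I J R : Type*} [Fintype I] [Fintype J] [Semiring R] {e : J → I} (he : Injective e)
    (M M' : Matrix I I R) (h : ∀ i k, i ∉ Set.range e → M' i (e k) = 0) :
    (M * M').submatrix e e = M.submatrix e e * M'.submatrix e e := Matrix.ext fun _ b =>
  (Fintype.sum_of_injective e he _ _ (fun i hi => mul_eq_zero_of_right _ (h i b hi)) fun _ => rfl).symm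

/-- a diagonal block of a block triangular representation -/
def subHom {G I J R : Type*} [Monoid G] [Fintype I] [Fintype J] [DecidableEq I] [DecidableEq J] [Semiring R]
    (j : G →* Matrix I I R) {e : J → I} (he : Injective e) (h : ∀ g i k, i ∉ Set.range e → j g i (e k) = 0) :
    G →* Matrix J J R where
  toFun g := (j g).submatrix e e
  map_one' := by rw [map_one, submatrix_one e he]
  map_mul' a b := by rw [map_mul, mul_submatrix he _ _ (h b)]

/-- matrices as endomorphisms -/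
def toEnd (I K : Type*) [Fintype I] [DecidableEq I] [Field K] : Matrix I I K →* End K (I → K) :=
  (Matrix.toLinAlgEquiv' (R := K)).toRingEquiv.toRingHom.toMonoidHom

theorem toEnd_apply {I K : Type*} [Fintype I] [DecidableEq I] [Field K] (M : Matrix I I K) (v : I → K) :
    toEnd I K M v = M *ᵥ v := rfl

theorem toEnd_injective {I K : Type*} [Fintype I] [DecidableEq I] [Field K] : Injective (toEnd I K) :=
  (Matrix.toLinAlgEquiv' (R := K)).injective

variable {ι κ : Type*} [Fintype κ] [DecidableEq κ] {R : RootSys ι κ} {K Γ : Type*} [Field K] [Group Γ]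
  {S : StData R K Γ}

/-- a representation in which the torus acts diagonally and faithfully -/
structure WRep (h3 : S.R3) (N : ℕ) where
  ρ : Γ →* Matrix (Fin N) (Fin N) K
  wt : Fin N → κ → ℤ
  tor : ∀ t, ρ (h3.torHom t) = diagonal fun i => ((uchr t (wt i) : Kˣ) : K)
  faith : ∀ t : κ → Kˣ, (∀ i, uchr t (wt i) = 1) → t = 1

namespace WRep

variable {h3 : S.R3} {N : ℕ} (W : WRep h3 N)

/-- the action on column vectors -/
def E : Γ →* End K (Fin N → K) := (toEnd _ _).comp W.ρ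

theorem E_apply (g : Γ) (v : Fin N → K) : W.E g v = W.ρ g *ᵥ v := rfl

theorem E_tor (t : κ → Kˣ) (v : Fin N → K) (i : Fin N) : W.E (h3.torHom t) v i = (uchr t (W.wt i) : Kˣ) * v i := by
  rw [E_apply, W.tor, mulVec_diagonal]

theorem E_single (t : κ → Kˣ) (i : Fin N) :
    W.E (h3.torHom t) (Pi.single i 1) = ((uchr t (W.wt i) : Kˣ) : K) • (Pi.single i 1 : Fin N → K) := funext fun k => by
  rw [E_tor, Pi.smul_apply, smul_eq_mul]
  by_cases h : k = i
  · rw [h]
  · rw [Pi.single_eq_of_ne h, mul_zero, mul_zero]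

theorem finrank_tor (t : κ → Kˣ) (μ : K) (p : Fin N → Prop) [DecidablePred p]
    (hp : ∀ i, p i ↔ ((uchr t (W.wt i) : Kˣ) : K) = μ) : finrank K ((W.E (h3.torHom t)).eigenspace μ) = #{i | p i} := by
  rw [← finrank_inf₁ (Pi.basisFun K (Fin N)).linearIndependent (f := W.E (h3.torHom t))
    (fun i => by rw [Pi.basisFun_apply, E_single]) μ p hp, Basis.span_eq, top_inf_eq]

theorem graded {g : Γ} {b : κ → ℤ} [Infinite K] (h : ∀ y : Kˣ, Commute (h3.torHom fun i => y ^ b i) g) {i k : Fin N}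
    (hb : b ⬝ᵥ W.wt i ≠ b ⬝ᵥ W.wt k) : W.ρ g i k = 0 := by
  by_contra h0
  have : NeZero (b ⬝ᵥ W.wt i - b ⬝ᵥ W.wt k).natAbs := ⟨by omega⟩
  have h1 : rootsOfUnity (b ⬝ᵥ W.wt i - b ⬝ᵥ W.wt k).natAbs K = ⊤ := eq_top_iff.2 fun y _ => by
    have h2 := congrFun (congrFun ((h y).map W.ρ).eq i) k
    rw [W.tor, diagonal_mul, mul_diagonal, mul_comm, uchr_zpow_const, uchr_zpow_const] at h2
    rw [mem_rootsOfUnity, pow_natAbs_eq_one, zpow_sub, Units.ext (mul_left_cancel₀ h0 h2), mul_inv_cancel]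
  have h2 : Finite (⊤ : Subgroup Kˣ) := h1 ▸ inferInstance
  have h4 : Finite Kˣ := Finite.of_equiv _ Subgroup.topEquiv.toEquiv
  have h5 : Finite (Option Kˣ) := inferInstance
  exact not_finite_iff_infinite.2 ‹Infinite K› (Finite.of_surjective (fun x : Option Kˣ => x.elim (0 : K) Units.val)
    fun x => by
      by_cases e : x = 0
      exacts [⟨none, e.symm⟩, ⟨some (Units.mk0 x e), rfl⟩])

end WRep

variable [Finite ι] [IsAlgClosed K] {φ : K →+* K} {q : ℕ} {σ : Monoid.End Γ} (A : S.Alg φ q σ) {N : ℕ}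
  (W : WRep A.r3 N)

theorem exists_tor {g : Γ} {n : ℕ} (h0 : (n : K) ≠ 0) (hg : g ^ n = 1) :
    ∃ y t, y * g * y⁻¹ = A.r3.torHom t ∧ t ^ n = 1 := by
  obtain ⟨y, hy⟩ := A.exists_conj_H (s := g) fun e => h0 (by
    obtain ⟨k, hk⟩ := orderOf_dvd_of_pow_eq_one hg
    rw [hk, Nat.cast_mul, e, zero_mul])
  obtain ⟨t, ht⟩ := A.r3.range_torHom ▸ hy
  exact ⟨y, t, ht.symm, A.sc (by rw [map_pow, ht, conj_pow, hg, map_one]; simp)⟩

theorem eq_one_of_finrank {g : Γ} {n : ℕ} (h0 : (n : K) ≠ 0) (hg : g ^ n = 1)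
    (h : finrank K ((W.E g).eigenspace 1) = N) : g = 1 := by
  classical
  obtain ⟨y, t, e, -⟩ := exists_tor A h0 hg
  rw [finrank_conj W.E (isConj_iff.2 ⟨y, e⟩), W.finrank_tor t 1 _ fun _ => Iff.rfl] at h
  have h1 := (card_eq_iff_eq_univ _).1 (h.trans (Fintype.card_fin N).symm)
  rw [W.faith t fun i => Units.ext (mem_filter.1 (h1 ▸ mem_univ i :)).2, map_one] at e
  simpa using e

theorem exists_alc {n : ℕ} (hn : 0 < n) {z : Kˣ} (hz : IsPrimitiveRoot (z : K) n) {g : Γ} (hg : g ^ n = 1) :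
    ∃ (y : Γ) (a : κ → ℤ) (c : κ → ℕ), y * g * y⁻¹ = A.r3.torHom (fun i => z ^ a i) ∧
      (∀ r, R.IsPos r → ∑ i, R.rt r i * c i ≤ n) ∧ ∀ i, (a ᵥ* Matrix.of R.A) i ≡ c i [ZMOD n] := by
  have : NeZero n := ⟨hn.ne'⟩
  have hz' := IsPrimitiveRoot.coe_units_iff.1 hz
  obtain ⟨y, t, e, ht⟩ := exists_tor A hz.neZero'.out hg
  have ha : ∀ j, ∃ a : ℤ, t j = z ^ a := fun j => by
    obtain ⟨k, -, hk⟩ := hz'.eq_pow_of_mem_rootsOfUnity (ξ := t j) ((mem_rootsOfUnity _ _).2 (congrFun ht j))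
    exact ⟨k, by rw [zpow_natCast, hk]⟩
  choose a ha using ha
  obtain ⟨w, hw, c, c1, c2, c3⟩ := RootSys.exists_act_alcove (R := R) hn hz'.pow_eq_one a
  obtain ⟨m, -, hm⟩ := S.exists_acts hw
  obtain ⟨c, rfl⟩ : ∃ n : κ → ℕ, c = fun i => (n i : ℤ) :=
    ⟨fun i => (c i).toNat, funext fun i => (Int.toNat_of_nonneg (c1 i)).symm⟩
  rw [RootSys.act_zpow_const, matHom_zpow_const] at c3
  refine ⟨m * y, a ᵥ* R.coM w, c, ?_, c2, fun i => ?_⟩
  · rw [← RootSys.act_zpow_const, ← A.r3.conj_torHom hm, ← funext ha, ← e]; group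
  · rw [hz'.eq_orderOf, ← zpow_eq_zpow_iff_modEq]; exact congrFun c3 i

omit [DecidableEq κ] in
theorem dot_modEq {n : ℤ} {a w : κ → ℤ} {c u : κ → ℕ} {M : Matrix κ κ ℤ} (h1 : ∀ i, (a ᵥ* M) i ≡ c i [ZMOD n])
    (h2 : ∀ j, (M *ᵥ fun i => (u i : ℤ)) j ≡ w j [ZMOD n]) : a ⬝ᵥ w ≡ (∑ l, c l * u l : ℕ) [ZMOD n] := by
  refine (Int.ModEq.sum fun j _ => (h2 j).symm.mul_left _).trans ?_
  change a ⬝ᵥ (M *ᵥ _) ≡ _ [ZMOD n]
  rw [dotProduct_mulVec, Nat.cast_sum]
  exact Int.ModEq.sum fun j _ => by rw [Nat.cast_mul]; exact (h1 j).mul_right _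

end CL.AltE

namespace CL.AltE

open Module Function Finset CL.Chev
open Matrix hiding zpow_add zpow_mul zpow_sub one_zpow

variable {ι : Type*} {l : ℕ} {R : RootSys ι (Fin l)} {K Γ : Type*} [Field K] [Group Γ]
  {S : StData R K Γ} [Finite ι] [IsAlgClosed K] {φ : K →+* K} {q : ℕ} {σ : Monoid.End Γ} (A : S.Alg φ q σ) {N : ℕ}
  (W : WRep A.r3 N)

/-- the tables for an enumeration of the alcove -/
structure Tab (R : RootSys ι (Fin l)) {N : ℕ} (wt : Fin N → Fin l → ℤ) (n : ℕ) (θ C : Fin l → ℕ) : Prop where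
  pos : 0 < n
  lt : n * n < 65536
  ltN : N < 256
  high : ∃ r, R.IsPos r ∧ ∀ i, R.rt r i = θ i
  θpos : ∀ i, 0 < θ i
  col : ∀ j, C j = ∑ i ∈ range N, lk (C j) 16 65535 i * 65536 ^ i
  small : ∀ j, ∀ i < N, lk (C j) 16 65535 i ≤ n
  wt : ∀ (i : Fin N) j, (Matrix.of R.A *ᵥ fun j => (lk (C j) 16 65535 i : ℤ)) j ≡ wt i j [ZMOD n]

theorem exists_hist {n : ℕ} {θ C : Fin l → ℕ} (T : Tab R W.wt n θ C) {z : K} (hz : IsPrimitiveRoot z n)
    {Q : (ℕ → ℕ) → Bool} (hQ : alcAll (List.ofFn fun j => (θ j, C j)) (fun S => Q (hist N n S)) n 0 = true) {g : Γ}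
    (hg : g ^ n = 1) : ∃ H : ℕ → ℕ, Q H = true ∧
      (∀ k, ∀ j < n, H k / 256 ^ j % 256 = finrank K ((W.E (g ^ k)).eigenspace (z ^ j))) ∧
      ∀ k k', IsConj (g ^ k) (g ^ k') → H k = H k' := by
  obtain ⟨z, rfl⟩ := hz.isUnit T.pos.ne'
  obtain ⟨y, a, c, e, h1, h2⟩ := exists_alc A T.pos hz hg
  obtain ⟨r, hr, hθ⟩ := T.high
  have h3 : ∑ j, θ j * c j ≤ n := by
    have := h1 r hr
    simp only [hθ] at this
    exact_mod_cast this
  have h4 := alcAll_spec θ C T.θpos _ n 0 hQ c h3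
  rw [zero_add] at h4
  have h5 : ∀ k, ∀ j < n, #{i : Fin N | k * lk (∑ j, c j * C j) 16 65535 i % n = j} =
      finrank K ((W.E (g ^ k)).eigenspace ((z : K) ^ j)) := fun k j hj => by
    rw [finrank_conj W.E (g' := A.r3.torHom ((fun i => z ^ a i) ^ k)) (isConj_iff.2 ⟨y, by rw [map_pow, ← e, conj_pow]⟩)]
    refine (W.finrank_tor _ _ _ fun i => ?_).symm
    rw [lk_sum C c T.col (fun i hi => lt_of_le_of_lt ?_ T.lt) i.2, uchr_pow, uchr_zpow_const, ← Units.val_pow_eq_pow_val,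
      Units.val_inj, ← zpow_natCast, ← zpow_natCast, ← zpow_mul, zpow_eq_zpow_iff_modEq,
      ← (IsPrimitiveRoot.coe_units_iff.1 hz).eq_orderOf]
    · have h6 := (dot_modEq h2 (T.wt i)).mul_right (k : ℤ)
      rw [← Nat.cast_mul, mul_comm _ k] at h6
      exact ⟨fun h => h6.trans (Int.natCast_modEq_iff.2 (h.trans (Nat.mod_eq_of_lt hj).symm)),
        fun h => Eq.trans (Int.natCast_modEq_iff.1 (h6.symm.trans h)) (Nat.mod_eq_of_lt hj)⟩
    · refine le_trans ?_ (Nat.mul_le_mul_right n h3)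
      rw [sum_mul]
      exact sum_le_sum fun j _ => Nat.mul_le_mul (Nat.le_mul_of_pos_left _ (T.θpos j)) (T.small j i hi)
  refine ⟨_, h4, fun k j hj => ?_, fun k k' h => ?_⟩
  · rw [hist_eq _ _ _ _ T.pos, digit _ (fun i _ => (card_le_univ _).trans_lt (by simpa using T.ltN)) hj, h5 k j hj]
  · rw [hist_eq _ _ _ _ T.pos, hist_eq _ _ _ _ T.pos]
    exact sum_congr rfl fun j hj => by rw [h5 _ _ (mem_range.1 hj), h5 _ _ (mem_range.1 hj), finrank_conj W.E h]

end CL.AltE
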