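/-
The representations of degree 27, 56, 248 of the simply connected groups `E₆`, `E₇`, `E₈` and the eigenvalue
distributions of some elements of small order (tables machine generated).
-/
import Cfsg.Agent.KSG.AltERep
import Cfsg.Agent.CHEV.CommChk

set_option autoImplicit false
set_option maxRecDepth 100000
set_option exponentiation.threshold 4096

namespace CL.AltE

open Module Function Finset CL.Chev Cfsg.Lie Cfsg.Lie.ChevalleyDatum
open Matrix hiding zpow_add zpow_mul zpow_sub one_zpow

theorem pow_eq_one_of_cert {κ I C : Type*} [Fintype κ] [DecidableEq κ] [CommGroup C] {t : κ → C} {w : I → κ → ℤ}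
    {P : List (ℤ × I)} {j : κ} {m : ℕ} (h : ∀ i, (P.map fun x => x.1 * w x.2 i).sum = if i = j then (m : ℤ) else 0)
    (h1 : ∀ x ∈ P, uchr t (w x.2) = 1) : t j ^ m = 1 := by
  have h2 : uchr t (fun i => (P.map fun x => x.1 * w x.2 i).sum) = 1 := by
    clear h
    induction P with
    | nil => exact uchr_zero t
    | cons a P ih =>
      have := uchr_add t (a.1 • w a.2) fun i => (P.map fun x => x.1 * w x.2 i).sum
      rw [uchr_smul, h1 a (by simp), one_zpow, ih fun x hx => h1 x (by simp [hx]), mul_one] at this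
      exact this
  rw [funext h] at h2
  simpa [uchr] using h2

variable {D D' : ChevalleyDatum} [Good D] [Good D'] {K : Type*} [Field K]

/-- the adjoint representation -/
def adj (D : ChevalleyDatum) (K : Type*) [Field K] : D.group K →* Matrix D.Idx D.Idx K :=
  (Units.coeHom _).comp (D.group K).subtype

theorem adj_torHom (t : Fin D.rank → Kˣ) : adj D K ((stG_R3 (D := D) (F := K)).torHom t) =
    diagonal (Sum.elim (fun _ => 1) fun s => ((uchr t ((rootSys D).wt s) : Kˣ) : K)) := by
  have h3 : (stData D K).R3 := stG_R3.map (D.group K).subtype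
  have e : ((stG_R3 (D := D) (F := K)).torHom t : GL D.Idx K) = h3.torHom t := stG_R3.map_torHom (D.group K).subtype t
  refine (congrArg Units.val (e.trans (tor_chiH ⟨_, h3.torHom_mem t⟩).symm)).trans ?_
  rw [h3.chiH_torHom, tor_val]
  exact congrArg _ (congrArg _ (funext fun s => congrArg _ (uchr_matHom t _ _)))

/-- the adjoint representation restricted to a simply connected Levi subgroup -/
def adjE {T : Emb} (h : T.Ok D D') : D.SteinbergGroup K →* Matrix D'.Idx D'.Idx K :=
  (adj D' K).comp (ssLift _ (h.emb_exact _ stG_exact) (h.emb_R3 _ _ stG_R3))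

theorem adjE_block {T : Emb} (h : T.Ok D D') (i0 : Fin D'.rank) (h1 : ∀ r, co (h.rho r) i0 = 0)
    (g : D.SteinbergGroup K) : ∀ i k, wI i i0 ≠ wI k i0 → adjE h g i k = 0 := by
  have hg : g ∈ (stS D K).grp := stS_top (D := D) (K := K) ▸ Subgroup.mem_top g
  have hx : ∀ r t i k, wI i i0 ≠ wI k i0 → adjE h ((stS D K).x r t) i k = 0 := fun r t i k hik => by
    have e : adjE h ((stS D K).x r t) = xR D' K (h.rho r) (T.c r * t) := by
      rw [adjE, MonoidHom.comp_apply, stS_x, ssLift_stGen]; rfl
    by_contra h0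
    obtain ⟨m, -, hm⟩ := xR_weight (h.rho r) _ i k (e ▸ h0) (by rintro rfl; exact hik rfl)
    exact hik (by rw [hm, Pi.add_apply, Pi.smul_apply, h1, smul_zero, add_zero])
  induction hg using Subgroup.closure_induction'' with
  | mem x hx' => obtain ⟨r, -, t, rfl⟩ := hx'; exact hx r t
  | inv_mem x hx' => obtain ⟨r, -, t, rfl⟩ := hx'; rw [← StData.x_neg]; exact hx r _
  | one => intro i k hik; rw [map_one, one_apply_ne (by rintro rfl; exact hik rfl)]
  | mul x y _ _ ihx ihy =>
    intro i k hik
    rw [map_mul, mul_apply]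
    refine sum_eq_zero fun j _ => ?_
    by_cases e : wI i i0 = wI j i0
    · rw [ihy j k (e ▸ hik), mul_zero]
    · rw [ihx i j e, zero_mul]

theorem uchr_extend {κ κ' C : Type*} [Fintype κ] [Fintype κ'] [CommGroup C] {π : κ → κ'} (hπ : Injective π) (t : κ → C)
    (x : κ' → ℤ) : uchr (Function.extend π t 1) x = uchr t (x ∘ π) :=
  (Fintype.prod_of_injective π hπ _ _ (fun j hj => by rw [extend_apply' _ _ _ hj, Pi.one_apply, one_zpow])
    fun i => by rw [hπ.extend_apply]; rfl).symm

/-- a representation cut out of the unipotent radical -/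
def wrepE {T : Emb} (h : T.Ok D D') (i0 : Fin D'.rank) (h1 : ∀ r, co (h.rho r) i0 = 0) {N : ℕ} {e : Fin N → Rt D'}
    (he : Injective e) (h2 : ∀ s, co s i0 = 1 ↔ ∃ k, e k = s) (P : Fin D.rank → List (ℤ × Fin N))
    (hP : ∀ j i : Fin D.rank, ((P j).map fun x => x.1 * (Good.C D').wt (T.π i) (e x.2)).sum = if i = j then ((1 : ℕ) : ℤ) else 0) :
    WRep (stS_R3 (D := D) (K := K)) N where
  ρ := subHom (adjE h) (Sum.inr_injective.comp he) fun g i k hi => adjE_block h i0 h1 g _ _ (by
    rw [Function.comp_apply, show wI (Sum.inr (e k)) i0 = 1 from (h2 _).2 ⟨k, rfl⟩]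
    rcases i with i | i
    · exact zero_ne_one
    · exact fun e' => hi (((h2 i).1 e').imp fun k e => congrArg _ e))
  wt k j := (Good.C D').wt (T.π j) (e k)
  tor t := by
    change (adjE h _).submatrix _ _ = _
    rw [adjE, MonoidHom.comp_apply, ssLift_torHom, h.emb_torHom _ _ stG_R3, adj_torHom,
      submatrix_diagonal _ _ (Sum.inr_injective.comp he)]
    refine congrArg _ (funext fun k => congrArg Units.val ((uchr_extend h.piF_injective _ _).trans (congrArg _ ?_)))
    exact funext fun j => rootSys_wt' _ _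
  faith t ht := funext fun j => (pow_one _).symm.trans (pow_eq_one_of_cert
    (w := fun k (j : Fin D.rank) => (Good.C D').wt (T.π j) (e k)) (hP j) fun x _ => ht _)

/-- weights of the adjoint representation -/
def wtA (D : ChevalleyDatum) [Good D] (k : Fin (D.nroots + D.rank)) (j : Fin D.rank) : ℤ :=
  if k < D.nroots then (Good.C D).wt j k else 0

/-- the adjoint representation -/
def wrepA (P : Fin D.rank → List (ℤ × Fin (D.nroots + D.rank)))
    (hP : ∀ j i, ((P j).map fun x => x.1 * wtA D x.2 i).sum = if i = j then ((1 : ℕ) : ℤ) else 0) :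
    WRep (stS_R3 (D := D) (K := K)) (D.nroots + D.rank) where
  ρ := subHom ((adj D K).comp (thetaS D K)) (finSumFinEquiv.symm.trans (Equiv.sumComm _ _)).injective fun _ i _ hi =>
    absurd ((finSumFinEquiv.symm.trans (Equiv.sumComm _ _)).surjective i) hi
  wt := wtA D
  tor t := by
    change (adj D K (thetaS D K _)).submatrix _ _ = _
    rw [thetaS, ssLift_torHom, adj_torHom, submatrix_diagonal _ _ (Equiv.injective _)]
    refine congrArg _ (funext fun k => ?_)
    induction k using Fin.addCases with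
    | left k =>
      rw [Function.comp_apply, Equiv.trans_apply, finSumFinEquiv_symm_apply_castAdd]
      refine congrArg Units.val (congrArg _ (funext fun j => ?_))
      rw [rootSys_wt', wtA, if_pos (by simp), Fin.val_castAdd]
    | right k =>
      rw [Function.comp_apply, Equiv.trans_apply, finSumFinEquiv_symm_apply_natAdd,
        show wtA D (Fin.natAdd _ k) = 0 from funext fun j => if_neg (by simp), uchr_zero]; rfl
  faith t ht := funext fun j => (pow_one _).symm.trans (pow_eq_one_of_cert (hP j) fun x _ => ht _)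

set_option backward.isDefEq.respectTransparency false

/-- indices of the weights -/
def e27 (k : Fin 27) : Fin 126 := Fin.ofNat 126 (lk 0x7d7c7b7a797876757472716f6c6b6966625c5b5956524d4844413f 8 255 k)

/-- indices of the weights -/
def e56 (k : Fin 56) : Fin 240 := Fin.ofNat 240 (lk 0xeeedecebeae9e8e7e6e5e4e3e1e0dfdedddcdad9d8d7d5d4d3d1d0cecbcac9c7c6c4c1c0bebbb7b6b4b1ada8a1a09e9b97928c86817d7a78 8 255 k)

/-- the representation of degree 27 -/
def w27 (K : Type*) [Field K] : WRep (stS_R3 (D := chevE6) (K := K)) 27 :=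
  wrepE embE6E7_ok (6 : Fin 7) (by decide +kernel) (e := e27) (by decide +kernel) (by decide +kernel)
    (![[(-1, 0), (-1, 1), (1, 2), (1, 3), (-1, 4), (2, 15)], [(-1, 2), (-1, 3), (-1, 15)], [(-1, 0), (-1, 1), (1, 15)], [(-1, 0), (-1, 1), (-1, 2)], [(-1, 0), (-1, 1)], [(-1, 0)]] : Fin 6 → _) (by decide +kernel)

/-- the representation of degree 56 -/
def w56 (K : Type*) [Field K] : WRep (stS_R3 (D := chevE7) (K := K)) 56 :=
  wrepE embE7E8_ok (7 : Fin 8) (by decide +kernel) (e := e56) (by decide +kernel) (by decide +kernel)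
    (![[(-1, 0), (-1, 1), (-1, 2), (1, 3), (1, 4), (-1, 5), (2, 18)], [(-1, 3), (-1, 4), (-1, 18)], [(-1, 0), (-1, 1), (-1, 2), (1, 18)], [(-1, 0), (-1, 1), (-1, 2), (-1, 3)], [(-1, 0), (-1, 1), (-1, 2)], [(-1, 0), (-1, 1)], [(-1, 0)]] : Fin 7 → _) (by decide +kernel)

/-- the representation of degree 248 -/
def w248 (K : Type*) [Field K] : WRep (stS_R3 (D := chevE8) (K := K)) 248 :=
  wrepA (D := chevE8) (![[(-1, 0), (-1, 1), (-1, 2), (-1, 3), (1, 4), (1, 5), (-1, 6), (2, 21)], [(-1, 4), (-1, 5), (-1, 21)], [(-1, 0), (-1, 1), (-1, 2), (-1, 3), (1, 21)], [(-1, 0), (-1, 1), (-1, 2), (-1, 3), (-1, 4)], [(-1, 0), (-1, 1), (-1, 2), (-1, 3)], [(-1, 0), (-1, 1), (-1, 2)], [(-1, 0), (-1, 1)], [(-1, 0)]] : Fin 8 → List (ℤ × Fin 248)) (by decide +kernel)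

/-- the weights -/
def wt27 (k : Fin 27) (j : Fin 6) : ℤ := certE7.wt j (e27 k)

/-- the weights -/
def wt56 (k : Fin 56) (j : Fin 7) : ℤ := certE8.wt j (e56 k)

theorem w27_wt : (w27 K).wt = wt27 := by
  change (fun (k : Fin 27) (j : Fin 6) => certE7.wt (embE6E7.π j) (e27 k)) = _
  decide +kernel

theorem w56_wt : (w56 K).wt = wt56 := by
  change (fun (k : Fin 56) (j : Fin 7) => certE8.wt (embE7E8.π j) (e56 k)) = _
  decide +kernel

theorem w248_wt : (w248 K).wt = wtA chevE8 := rfl

end CL.AltE
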