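/-
The elementary abelian groups generated by disjoint cycles, and the groups `E₇`.
-/
import Cfsg.Agent.KSG.AltELift
import Cfsg.Agent.KSG.AltENum
import Cfsg.Agent.KSG.AltConj

set_option autoImplicit false

namespace CL.AltE

open Function Equiv Equiv.Perm Finset Module CL.Chev Cfsg.Lie Multiplicative

theorem isConj_perm {α : Type*} [Fintype α] [DecidableEq α] {r : ℕ} [Fact r.Prime] {x y : Perm α} (hx : x ^ r = 1)
    (hy : y ^ r = 1) (h : x.support.card = y.support.card) : IsConj x y := by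
  rw [← sum_cycleType, ← sum_cycleType, cycleType_of_pow_prime_eq_one hx, cycleType_of_pow_prime_eq_one hy,
    Multiset.sum_replicate, Multiset.sum_replicate, smul_eq_mul, smul_eq_mul] at h
  rw [isConj_iff_cycleType_eq, cycleType_of_pow_prime_eq_one hx, cycleType_of_pow_prime_eq_one hy,
    Nat.eq_of_mul_eq_mul_right (Fact.out : r.Prime).pos h]

theorem mem_alt_of_pow {α : Type*} [Fintype α] [DecidableEq α] {n : ℕ} (hn : Odd n) {x : Perm α} (hx : x ^ n = 1) :
    x ∈ alternatingGroup α := by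
  have h := congrArg sign hx
  rw [map_pow, map_one] at h
  exact (Int.units_eq_one_or (sign x)).resolve_right fun e => by
    rw [e, hn.neg_one_pow] at h; exact absurd h (by decide)

theorem sum_code {α : Type*} [Fintype α] (code : α → ℕ) {M : ℕ} (h : ∀ a, code a < M) (F : ℕ → ℕ) :
    ∑ a, F (code a) = ∑ j ∈ range M, #{a | code a = j} * F j := by
  rw [← sum_fiberwise_of_maps_to (t := range M) (g := code) fun a _ => mem_range.2 (h a)]
  exact sum_congr rfl fun j _ => by rw [sum_congr rfl fun i hi => by rw [(mem_filter.1 hi).2], sum_const, smul_eq_mul]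

variable {k r : ℕ}

/-- translations -/
def tr : Multiplicative (Fin k → ZMod r) →* Perm (Fin k × ZMod r) where
  toFun s := prodCongrRight fun i => Equiv.addRight (s.toAdd i)
  map_one' := Equiv.ext fun x => Prod.ext rfl (add_zero _)
  map_mul' s t := Equiv.ext fun x => Prod.ext rfl (show x.2 + (s.toAdd x.1 + t.toAdd x.1) =
    x.2 + t.toAdd x.1 + s.toAdd x.1 by ring)

theorem tr_apply (s : Multiplicative (Fin k → ZMod r)) (x : Fin k × ZMod r) : tr s x = (x.1, x.2 + s.toAdd x.1) := rfl

theorem pow_r (s : Multiplicative (Fin k → ZMod r)) : s ^ r = 1 := by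
  rw [← ofAdd_toAdd s, ← ofAdd_nsmul, ← Nat.cast_smul_eq_nsmul (ZMod r), ZMod.natCast_self, zero_smul]; rfl

/-- Hamming weight -/
def hw (s : Multiplicative (Fin k → ZMod r)) : ℕ := #{i | s.toAdd i ≠ 0}

/-- the standard element of given weight -/
def rp (k r j : ℕ) : Multiplicative (Fin k → ZMod r) := ofAdd fun i => if (i : ℕ) < j then 1 else 0

theorem hw_eq_zero {s : Multiplicative (Fin k → ZMod r)} (h : hw s = 0) : s = 1 := by
  have : s.toAdd = fun _ => 0 := by simpa [hw, ← funext_iff] using h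
  exact this

variable [hr : Fact r.Prime]

theorem card_support_tr (s : Multiplicative (Fin k → ZMod r)) : (tr s).support.card = hw s * r := by
  have : (tr s).support = ({i | s.toAdd i ≠ 0} : Finset (Fin k)) ×ˢ univ := by
    ext x; simp [tr_apply, Prod.ext_iff]
  rw [this, card_product, card_univ, ZMod.card, hw]

theorem hw_pow (s : Multiplicative (Fin k → ZMod r)) {m : ℕ} (hm : (m : ZMod r) ≠ 0) : hw (s ^ m) = hw s :=
  congrArg card (filter_congr fun i _ => by simp [hm])

variable (h2 : r ≠ 2)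

/-- translations in the alternating group -/
def trA : Multiplicative (Fin k → ZMod r) →* alternatingGroup (Fin k × ZMod r) :=
  tr.codRestrict _ fun s => mem_alt_of_pow (hr.out.odd_of_ne_two h2) (by rw [← map_pow, pow_r, map_one])

theorem trA_injective : Injective (trA (k := k) h2) := (injective_iff_map_eq_one _).2 fun s h => hw_eq_zero (by
  have := card_support_tr s
  rw [show tr s = 1 from congrArg Subtype.val h, Perm.support_one, card_empty] at this
  exact (mul_eq_zero.1 this.symm).resolve_right hr.out.ne_zero)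

theorem isConj_trA (hk : 2 ≤ k) {s s' : Multiplicative (Fin k → ZMod r)} (h : hw s = hw s') :
    IsConj (trA h2 s) (trA h2 s') := by
  have h1 : ∀ s s' : Multiplicative (Fin k → ZMod r), hw s = hw s' → IsConj (tr s) (tr s') := fun s s' h =>
    isConj_perm (r := r) (by rw [← map_pow, pow_r, map_one]) (by rw [← map_pow, pow_r, map_one])
      (by rw [card_support_tr, card_support_tr, h])
  by_cases h0 : ∃ i, s.toAdd i = 0
  · obtain ⟨i, hi⟩ := h0
    refine CL.KSG.isConj_alt_of_commute_odd (h1 _ _ h) (swap (i, 0) (i, 1)) (by simp) ?_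
    refine Disjoint.commute fun x => ?_
    by_cases e : x.1 = i
    · exact Or.inr (Prod.ext rfl (by change x.2 + s.toAdd x.1 = _; rw [e, hi, add_zero]))
    · exact Or.inl (swap_apply_of_ne_of_ne (by rintro rfl; exact e rfl) (by rintro rfl; exact e rfl))
  have h3 : hw (ofAdd fun _ : Fin k => (1 : ZMod r)) = hw s := congrArg card (filter_congr fun i _ => by
    simpa using fun e => h0 ⟨i, e⟩)
  have h4 : ∀ s', hw (ofAdd fun _ : Fin k => (1 : ZMod r)) = hw s' →
      IsConj (trA h2 (ofAdd fun _ : Fin k => (1 : ZMod r))) (trA h2 s') := fun s' h =>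
    CL.KSG.isConj_alt_of_commute_odd (h1 _ _ h)
      (prodCongrLeft fun _ => swap (⟨0, by omega⟩ : Fin k) ⟨1, by omega⟩)
      (by simp [sign_prodCongrLeft, (hr.out.odd_of_ne_two h2).neg_one_pow]) (Equiv.ext fun x => rfl)
  exact (h4 s h3).symm.trans (h4 s' (h3.trans h))

theorem isPGroup_trA : IsPGroup r (trA (k := k) h2).range :=
  IsPGroup.of_surjective (fun s => ⟨1, by rw [pow_one, pow_r]⟩) _ (trA h2).rangeRestrict_surjective

omit hr in
theorem exists_root (p : ℕ) [hp : Fact p.Prime] {n : ℕ} (h : ¬ p ∣ n) :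
    ((n : ℕ) : AlgebraicClosure (ZMod p)) ≠ 0 ∧ ∃ z : AlgebraicClosure (ZMod p), IsPrimitiveRoot z n := by
  have h1 : ((n : ℕ) : AlgebraicClosure (ZMod p)) ≠ 0 := by rwa [Ne, CharP.cast_eq_zero_iff _ p]
  have := NeZero.mk h1
  exact ⟨h1, HasEnoughRootsOfUnity.exists_primitiveRoot _ n⟩

variable {F : Type*} [Field F] [Fintype F] (p : ℕ) [hp : Fact p.Prime] [CharP F p]

theorem exists_tr {D : ChevalleyDatum} [Good D] (hD : D ∈ [chevG2, chevB2, chevD4, chevF4, chevE6, chevE7, chevE8])
    {N : ℕ} {d : Fin D.rank → ℕ} (h : Ord D N d) (hn : 9 ≤ k * r) (hs : Sec (D.group F) (k * r)) {c : ℕ} (h2 : r ≠ 2)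
    (hrp : r ≠ p) (hc : ¬ r ^ (c + 1) ∣ ∏ i, d i) (hl : D.rank + c + 2 < k * r) (hk : 2 ≤ k) :
    ∃ ι : Multiplicative (Fin k → ZMod r) →* D.SteinbergGroup (AlgebraicClosure (ZMod p)), Injective ι ∧
      ∀ s s', hw s = hw s' → IsConj (ι s) (ι s') := by
  obtain ⟨ι, h1, h3⟩ := exists_fusion hD p h hn hs h2 hrp hc hl
    (Fintype.equivFinOfCardEq (α := Fin k × ZMod r) (by simp)).symm.altCongrHom _ (isPGroup_trA h2)
  exact ⟨ι.comp (trA h2).rangeRestrict, h1.comp fun a b e => trA_injective h2 (congrArg Subtype.val e),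
    fun s s' e => h3 _ _ (isConj_trA h2 hk e)⟩

theorem finrank_one {K G : Type*} [Field K] [Group G] {N : ℕ} (ρ : G →* End K (Fin N → K)) :
    finrank K ((ρ 1).eigenspace 1) = N := by
  rw [map_one, show (1 : End K (Fin N → K)).eigenspace 1 = ⊤ from eq_top_iff.2 fun v _ =>
    End.mem_eigenspace_iff.2 (one_smul _ _).symm, finrank_top, finrank_fintype_fun_eq_card, Fintype.card_fin]

theorem fact5 : Fact (Nat.Prime 5) := ⟨by norm_num⟩
theorem fact7 : Fact (Nat.Prime 7) := ⟨by norm_num⟩
attribute [local instance] fact5 fact7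

theorem not_sec_E7 (h7 : p ≠ 7) : ¬ Sec (chevE7.group F) 14 := fun hs => by
  obtain ⟨ι, h1, h3⟩ := exists_tr (k := 2) (r := 7) (c := 1) p (by simp) ord7 (by norm_num) hs (by norm_num) h7.symm
    (by decide) (by decide) le_rfl
  obtain ⟨φ, A, -⟩ := exists_alg_st (D := chevE7) (F := ZMod p) (by simp)
  obtain ⟨h0, z, hz⟩ := exists_root p (n := 7) fun e => h7 ((Nat.prime_dvd_prime_iff_eq hp.out fact7.out).1 e)
  let f : Multiplicative (Fin 2 → ZMod 7) → ℕ := fun s => finrank (AlgebraicClosure (ZMod p)) (((w56 _).E (ι s)).eigenspace 1)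
  have h4 : ∀ s ≠ 1, f s = 20 ∨ f s = 8 ∨ f s = 2 := fun s hs => by
    have h5 : ι s ^ 7 = 1 := by rw [← map_pow, pow_r, map_one]
    obtain ⟨H, a1, a2, a3⟩ := exists_hist A (w56 _) ((w56_wt (K := AlgebraicClosure (ZMod p))).symm ▸ tab7_7) hz (Q := q7_7) alc7_7 h5
    have a4 := a2 1 0 (by norm_num)
    rw [pow_zero, pow_zero, pow_one, Nat.div_one] at a4
    rw [q7_7, ← a3 1 3 (by rw [pow_one, ← map_pow]; exact h3 _ _ (hw_pow s (by decide)).symm), a4] at a1
    have a5 : f s ≠ 56 := fun e => hs (h1 ((eq_one_of_finrank A (w56 _) h0 h5 e).trans (map_one ι).symm))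
    simpa [f] using (show f s = 56 ∨ _ by simpa [f] using a1).resolve_left a5
  have h5 := sum_eig ((w56 _).E.comp ι) mul_comm h0 pow_r 1
  have h6 : ∀ s, f s = f (rp 2 7 (hw s)) := fun s => finrank_conj _ (h3 _ _ (by revert s; decide +kernel)) 1
  have h7 := sum_code (hw (k := 2) (r := 7)) (M := 3) (by decide +kernel) fun j => f (rp 2 7 j)
  have h8 : f (rp 2 7 0) = 56 := finrank_one ((w56 _).E.comp ι)
  rw [← sum_congr rfl fun s _ => h6 s, sum_range_succ, sum_range_succ, sum_range_one, h8,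
    show #{a : Multiplicative (Fin 2 → ZMod 7) | hw a = 0} = 1 by decide +kernel,
    show #{a : Multiplicative (Fin 2 → ZMod 7) | hw a = 1} = 12 by decide +kernel,
    show #{a : Multiplicative (Fin 2 → ZMod 7) | hw a = 2} = 36 by decide +kernel] at h7
  erw [h7] at h5
  have := h4 (rp 2 7 1) (by decide)
  have := h4 (rp 2 7 2) (by decide)
  simp only [Fintype.card_multiplicative, Fintype.card_fun, ZMod.card, Fintype.card_fin,
    finrank_fintype_fun_eq_card] at h5
  omega

theorem not_sec_E7' (h7 : p = 7) : ¬ Sec (chevE7.group F) 15 := fun hs => by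
  obtain ⟨ι, h1, h3⟩ := exists_tr (k := 3) (r := 5) (c := 1) p (by simp) ord7 (by norm_num) hs (by norm_num) (by omega)
    (by decide) (by decide) (by norm_num)
  obtain ⟨φ, A, -⟩ := exists_alg_st (D := chevE7) (F := ZMod p) (by simp)
  obtain ⟨h0, z, hz⟩ := exists_root p (n := 5) (by rw [h7]; norm_num)
  let f : Multiplicative (Fin 3 → ZMod 5) → ℕ := fun s => finrank (AlgebraicClosure (ZMod p)) (((w56 _).E (ι s)).eigenspace 1)
  have h4 : ∀ s ≠ 1, f s = 16 := fun s hs => by
    have h5 : ι s ^ 5 = 1 := by rw [← map_pow, pow_r, map_one]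
    obtain ⟨H, a1, a2, a3⟩ := exists_hist A (w56 _) ((w56_wt (K := AlgebraicClosure (ZMod p))).symm ▸ tab7_5) hz (Q := q7_5) alc7_5 h5
    have a4 := a2 1 0 (by norm_num)
    rw [pow_zero, pow_zero, pow_one, Nat.div_one] at a4
    rw [q7_5, ← a3 1 2 (by rw [pow_one, ← map_pow]; exact h3 _ _ (hw_pow s (by decide)).symm), a4] at a1
    have a5 : f s ≠ 56 := fun e => hs (h1 ((eq_one_of_finrank A (w56 _) h0 h5 e).trans (map_one ι).symm))
    simpa [f] using (show f s = 56 ∨ _ by simpa [f] using a1).resolve_left a5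
  have h5 := sum_eig ((w56 _).E.comp ι) mul_comm h0 pow_r 1
  have h6 := add_sum_erase _ f (mem_univ 1)
  rw [sum_congr rfl fun s hs => h4 s (ne_of_mem_erase hs), show f 1 = 56 from finrank_one ((w56 _).E.comp ι)] at h6
  erw [← h6] at h5
  simp only [Fintype.card_multiplicative, Fintype.card_fun, ZMod.card, Fintype.card_fin, sum_const, smul_eq_mul,
    finrank_fintype_fun_eq_card, card_erase_of_mem (mem_univ _), card_univ] at h5
  omega

end CL.AltE
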