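import Mathlib

set_option autoImplicit false

namespace CL.KSG

open Equiv Equiv.Perm

/-- Element orders of the symmetric group: least common multiples of admissible cycle types. -/
theorem mem_range_orderOf_perm_iff (n k : ℕ) :
    k ∈ Set.range (orderOf : Equiv.Perm (Fin n) → ℕ) ↔
      ∃ m : Multiset ℕ, m.sum ≤ n ∧ (∀ a ∈ m, 2 ≤ a) ∧ m.lcm = k := by
  constructor
  · rintro ⟨g, rfl⟩
    refine ⟨g.cycleType, ?_, fun a ha => two_le_of_mem_cycleType ha, lcm_cycleType g⟩
    simpa using sum_cycleType_le g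
  · rintro ⟨m, h1, h2, rfl⟩
    obtain ⟨g, rfl⟩ := (exists_with_cycleType_iff (Fin n) (m := m)).2 ⟨by simpa using h1, h2⟩
    exact ⟨g, (lcm_cycleType g).symm⟩

/-- Element orders of the alternating group: least common multiples of even cycle types. -/
theorem mem_range_orderOf_alt_iff (n k : ℕ) :
    k ∈ Set.range (orderOf : alternatingGroup (Fin n) → ℕ) ↔
      ∃ m : Multiset ℕ, m.sum ≤ n ∧ (∀ a ∈ m, 2 ≤ a) ∧ Even (m.sum + m.card) ∧ m.lcm = k := by
  constructor
  · rintro ⟨g, rfl⟩
    refine ⟨(g : Perm (Fin n)).cycleType, ?_, fun a ha => two_le_of_mem_cycleType ha, ?_, ?_⟩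
    · simpa using sum_cycleType_le (g : Perm (Fin n))
    · have h := mem_alternatingGroup.1 g.2
      rw [sign_of_cycleType] at h
      exact (neg_one_pow_eq_one_iff_even (by decide)).1 h
    · rw [lcm_cycleType, Subgroup.orderOf_coe]
  · rintro ⟨m, h1, h2, h3, rfl⟩
    obtain ⟨g, rfl⟩ := (exists_with_cycleType_iff (Fin n) (m := m)).2 ⟨by simpa using h1, h2⟩
    refine ⟨⟨g, ?_⟩, ?_⟩
    · rw [mem_alternatingGroup, sign_of_cycleType]
      exact h3.neg_one_pow
    · rw [← Subgroup.orderOf_coe]
      exact (lcm_cycleType g).symm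

/-- A prime dividing the lcm of a multiset divides one of its members. -/
theorem exists_mem_of_prime_dvd_lcm {p : ℕ} (hp : p.Prime) (m : Multiset ℕ) (h : p ∣ m.lcm) :
    ∃ a ∈ m, p ∣ a := by
  induction m using Multiset.induction_on with
  | empty => exact absurd (Nat.le_of_dvd one_pos (by simpa using h)) (by have := hp.two_le; omega)
  | cons a s ih =>
    rw [Multiset.lcm_cons] at h
    rcases (Nat.Prime.dvd_lcm hp).1 h with h | h
    · exact ⟨a, Multiset.mem_cons_self _ _, h⟩
    · obtain ⟨b, hb, hb'⟩ := ih h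
      exact ⟨b, Multiset.mem_cons_of_mem hb, hb'⟩

/-- Two distinct members of a multiset of naturals sum to at most its sum. -/
theorem add_le_sum_of_mem_of_ne {m : Multiset ℕ} {a b : ℕ} (ha : a ∈ m) (hb : b ∈ m)
    (hab : a ≠ b) : a + b ≤ m.sum := by
  obtain ⟨s, rfl⟩ := Multiset.exists_cons_of_mem ha
  have hb' : b ∈ s := by
    rcases Multiset.mem_cons.1 hb with h | h
    · exact absurd h.symm hab
    · exact h
  have := Multiset.single_le_sum (fun x _ => Nat.zero_le x) b hb'
  simp only [Multiset.sum_cons]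
  omega

end CL.KSG
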