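import Mathlib
import Cfsg.Agent.KSG.GLnClsAbs
import Cfsg.Agent.CHAR.BrauerPerm

/-! Counting conjugacy classes: invariants given by relations, subgroups of index two, weighted
generating functions and infinite products. -/

set_option autoImplicit false

namespace CL.Nil

open Finset CL.GLn

section Group

theorem card_le_of_rel {X D : Type*} [Finite D] (R : X → D → Prop) (h1 : ∀ x, ∃ d, R x d)
    (h2 : ∀ x y d, R x d → R y d → x = y) : Nat.card X ≤ Nat.card D := by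
  choose f hf using h1
  exact Nat.card_le_card_of_injective f fun x y h => h2 x y _ (hf x) (h ▸ hf y)

theorem finite_of_rel {X D : Type*} [Finite D] (R : X → D → Prop) (h1 : ∀ x, ∃ d, R x d)
    (h2 : ∀ x y d, R x d → R y d → x = y) : Finite X := by
  choose f hf using h1
  exact Finite.of_injective f fun x y h => h2 x y _ (hf x) (h ▸ hf y)

variable {G : Type*} [Monoid G]

theorem card_classes_le_of_rel {D : Type*} [Finite D] (P : G → Prop) (R : G → D → Prop)
    (h1 : ∀ g, P g → ∃ d, R g d) (h2 : ∀ g h d, R g d → R h d → IsConj g h) :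
    Nat.card {C : ConjClasses G // ∃ g, ConjClasses.mk g = C ∧ P g} ≤ Nat.card D := by
  refine card_le_of_rel (fun C d => ∃ g, ConjClasses.mk g = C.1 ∧ R g d) ?_ ?_
  · rintro ⟨_, g, rfl, hg⟩
    obtain ⟨d, hd⟩ := h1 g hg
    exact ⟨d, g, rfl, hd⟩
  · rintro C C' d ⟨g, hg, h3⟩ ⟨h, hh, h4⟩
    exact Subtype.ext (by rw [← hg, ← hh, ConjClasses.mk_eq_mk_iff_isConj]; exact h2 g h d h3 h4)

theorem card_classes_eq_of_rel {D : Type*} (P : G → Prop) (R : G → D → Prop)
    (h1 : ∀ g, P g → ∃ d, R g d) (h2 : ∀ g h d, R g d → R h d → IsConj g h)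
    (h3 : ∀ g h d d', R g d → R h d' → IsConj g h → d = d') (h4 : ∀ d, ∃ g, P g ∧ R g d) :
    Nat.card {C : ConjClasses G // ∃ g, ConjClasses.mk g = C ∧ P g} = Nat.card D := by
  choose f hf hf' using h4
  refine (Nat.card_congr (Equiv.ofBijective (fun d => ⟨ConjClasses.mk (f d), f d, rfl, hf d⟩)
    ⟨fun d d' h => ?_, ?_⟩)).symm
  · exact h3 _ _ _ _ (hf' d) (hf' d') (ConjClasses.mk_eq_mk_iff_isConj.1 (congrArg Subtype.val h))
  · rintro ⟨_, g, rfl, hg⟩
    obtain ⟨d, hd⟩ := h1 g hg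
    exact ⟨d, Subtype.ext (ConjClasses.mk_eq_mk_iff_isConj.2 (h2 _ _ d (hf' d) hd))⟩

theorem card_classes_true : Nat.card {C : ConjClasses G // ∃ g, ConjClasses.mk g = C ∧ True} =
    Nat.card (ConjClasses G) :=
  Nat.card_congr (Equiv.subtypeUnivEquiv fun C => by
    obtain ⟨g, rfl⟩ := C.exists_rep
    exact ⟨g, rfl, trivial⟩)

theorem card_le_card_classes [Finite G] {D Y : Type*} (inv : G → Y)
    (hinv : ∀ g h, IsConj g h → inv g = inv h) (j : D → Y) (hj : Function.Injective j)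
    (h : ∀ d, ∃ g, inv g = j d) : Nat.card D ≤ Nat.card (ConjClasses G) := by
  choose f hf using h
  exact Nat.card_le_card_of_injective (fun d => ConjClasses.mk (f d)) fun d d' h =>
    hj (by rw [← hf, ← hf, hinv _ _ (ConjClasses.mk_eq_mk_iff_isConj.1 h)])

theorem card_conjClasses_congr {H : Type*} [Monoid H] (e : G ≃* H) :
    Nat.card (ConjClasses G) = Nat.card (ConjClasses H) := by
  refine Nat.card_congr (Quotient.congr e.toEquiv fun a b => ⟨fun h => e.toMonoidHom.map_isConj h,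
    fun h => ?_⟩)
  change IsConj a b
  simpa using e.symm.toMonoidHom.map_isConj h

/-- The class number of a subgroup of index two. -/
theorem two_mul_card_conjClasses_ker {G : Type*} [Group G] [Finite G] (φ : G →* ℤˣ)
    (hφ : ∃ g, φ g = -1) : 2 * Nat.card (ConjClasses φ.ker) = Nat.card (ConjClasses G) +
      3 * Nat.card {C : ConjClasses G // ∃ g, ConjClasses.mk g = C ∧
        ∀ h, Commute g h → φ h = 1} := by
  classical
  have := Fintype.ofFinite G
  set P : G → Prop := fun g => ∀ h, Commute g h → φ h = 1 with hP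
  let c : G → ℕ := fun g => Nat.card (Subgroup.centralizer ({g} : Set G))
  let a : G → ℕ := fun g => #{h | Commute g h ∧ φ h = 1}
  have hc : ∀ g, c g = #{h | Commute g h} := fun g => by
    rw [← Fintype.card_subtype, ← Nat.card_eq_fintype_card]
    exact Nat.card_congr (Equiv.subtypeEquivRight fun h =>
      Subgroup.mem_centralizer_singleton_iff.trans eq_comm)
  have h1 : ∀ g, 2 * a g = c g + if P g then c g else 0 := fun g => by
    have h2 := card_filter_add_card_filter_not (s := univ.filter fun h => Commute g h)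
      (fun h => φ h = 1)
    rw [filter_filter, filter_filter, ← hc] at h2
    split_ifs with h3
    · have h4 : (univ.filter fun h => Commute g h ∧ ¬ φ h = 1) = ∅ :=
        filter_eq_empty_iff.2 fun h _ h5 => h5.2 (h3 h h5.1)
      rw [h4, card_empty] at h2
      simp only [a]; omega
    · simp only [hP, not_forall] at h3
      obtain ⟨h₀, h4, h5⟩ := h3
      have h6 : φ h₀ = -1 := (Int.units_eq_one_or _).resolve_left h5
      have h7 : #{h | Commute g h ∧ φ h = 1} = #{h | Commute g h ∧ ¬ φ h = 1} := by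
        refine card_equiv (Equiv.mulRight h₀) fun h => ?_
        simp only [mem_filter, mem_univ, true_and, Equiv.coe_mulRight, map_mul, h6]
        refine and_congr ⟨fun h8 => h8.mul_right h4, fun h8 => ?_⟩ ?_
        · simpa using h8.mul_right h4.inv_right
        · rcases Int.units_eq_one_or (φ h) with h8 | h8 <;> simp [h8]
      simp only [a]; omega
  have h2 : ∑ g, a g = ∑ h, if φ h = 1 then c h else 0 := by
    simp only [a, hc, card_filter]
    rw [sum_comm]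
    refine sum_congr rfl fun h _ => ?_
    split_ifs with h3
    · exact sum_congr rfl fun g _ => by simp [h3, Commute.symm_iff (a := g)]
    · simp [h3]
  have h3 : Nat.card (ConjClasses φ.ker) * Nat.card φ.ker = ∑ h, if φ h = 1 then a h else 0 := by
    rw [← card_comm_eq_card_conjClasses_mul_card,
      Nat.card_congr (Equiv.subtypeProdEquivSigmaSubtype Commute), Nat.card_sigma, ← sum_filter,
      sum_subtype (p := fun h => h ∈ φ.ker) _ (by simp)]
    refine sum_congr rfl fun g _ => ?_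
    simp only [a]
    rw [← Fintype.card_subtype, ← Nat.card_eq_fintype_card]
    exact Nat.card_congr ⟨fun h => ⟨h.1, congrArg Subtype.val h.2, h.1.2⟩,
      fun h => ⟨⟨h.1, h.2.2⟩, Subtype.ext h.2.1⟩, fun _ => rfl, fun _ => rfl⟩
  have h4 : ∑ g, (if P g then c g else 0) = Nat.card G *
      Nat.card {C : ConjClasses G // ∃ g, ConjClasses.mk g = C ∧ P g} := by
    rw [← Char.sum_card_centralizer_filter]
    refine sum_congr rfl fun g _ => if_congr ⟨fun h => ⟨g, rfl, h⟩, ?_⟩ rfl rfl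
    rintro ⟨g', h5, h6⟩ h h7
    obtain ⟨k, rfl⟩ := isConj_iff.1 (ConjClasses.mk_eq_mk_iff_isConj.1 h5)
    have h8 : Commute g' (k⁻¹ * h * k) := by
      have := h7.eq
      calc g' * (k⁻¹ * h * k) = k⁻¹ * (k * g' * k⁻¹ * h) * k := by group
        _ = _ := by rw [this]; group
    have h9 := h6 _ h8
    rwa [map_mul, map_mul, mul_right_comm, ← map_mul, inv_mul_cancel, map_one, one_mul] at h9
  have h5 : ∑ g, c g = Nat.card G * Nat.card (ConjClasses G) := by
    have := Char.sum_card_centralizer_filter (G := G) fun _ => True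
    simpa [c] using this
  have h6 : 2 * ∑ h, (if φ h = 1 then c h else 0) =
      ∑ g, c g + ∑ g, (if P g then c g else 0) := by
    rw [← h2, mul_sum, ← sum_add_distrib]
    exact sum_congr rfl fun g _ => h1 g
  have h7 : 2 * ∑ h, (if φ h = 1 then a h else 0) =
      ∑ h, (if φ h = 1 then c h else 0) + ∑ g, (if P g then c g else 0) := by
    rw [mul_sum, ← sum_add_distrib]
    refine sum_congr rfl fun g _ => ?_
    by_cases h8 : φ g = 1
    · rw [if_pos h8, if_pos h8, h1]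
    · rw [if_neg h8, if_neg h8, if_neg fun h9 => h8 (h9 g (Commute.refl g))]
      rfl
  have h8 : φ.ker.index = 2 := by
    obtain ⟨g, hg⟩ := hφ
    rw [Subgroup.index_ker, MonoidHom.range_eq_top.2, Subgroup.card_top, Nat.card_eq_fintype_card,
      Fintype.card_units_int]
    intro u
    rcases Int.units_eq_one_or u with rfl | rfl
    exacts [⟨1, map_one φ⟩, ⟨g, hg⟩]
  have h9 := φ.ker.card_mul_index
  rw [h4, h5, ← h9, h8] at h6
  rw [h4, ← h3, ← h9, h8] at h7
  refine Nat.eq_of_mul_eq_mul_left (Nat.card_pos (α := φ.ker)) ?_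
  nlinarith

end Group

/-! ### Weighted generating functions -/

section Ser

/-- The generating function of a weight. -/
noncomputable def ser {X : Type*} (w : X → ℕ) : PowerSeries ℤ :=
  PowerSeries.mk fun k => (Nat.card {y // w y = k} : ℤ)

/-- The weight has finite fibres. -/
def FW {X : Type*} (w : X → ℕ) : Prop := ∀ n, Finite {x // w x = n}

theorem coeff_ser {X : Type*} (w : X → ℕ) (k : ℕ) :
    PowerSeries.coeff k (ser w) = (Nat.card {y // w y = k} : ℤ) := PowerSeries.coeff_mk _ _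

theorem nneg_ser {X : Type*} (w : X → ℕ) : NNeg (ser w) := fun k => by
  rw [coeff_ser]; positivity

theorem FW.pi {ι : Type*} [Fintype ι] {X : ι → Type*} {w : ∀ i, X i → ℕ} (h : ∀ i, FW (w i)) :
    FW fun x : ∀ i, X i => ∑ i, w i (x i) := finite_pi_weight w h

theorem ser_pi {ι : Type*} [Fintype ι] {X : ι → Type*} {w : ∀ i, X i → ℕ} (h : ∀ i, FW (w i)) :
    ser (fun x : ∀ i, X i => ∑ i, w i (x i)) = ∏ i, ser (w i) := by
  ext n
  rw [coeff_ser, card_pi_weight w h]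
  rfl

/-- Splitting a weight on a product. -/
def prodEquiv {X Y : Type*} (w : X → ℕ) (v : Y → ℕ) (n : ℕ) :
    {p : X × Y // w p.1 + v p.2 = n} ≃
      Σ l : antidiagonal n, {x // w x = l.1.1} × {y // v y = l.1.2} where
  toFun p := ⟨⟨(w p.1.1, v p.1.2), mem_antidiagonal.2 p.2⟩, ⟨p.1.1, rfl⟩, ⟨p.1.2, rfl⟩⟩
  invFun l := ⟨(l.2.1.1, l.2.2.1), by rw [l.2.1.2, l.2.2.2]; exact mem_antidiagonal.1 l.1.2⟩
  left_inv _ := rfl
  right_inv := by
    rintro ⟨⟨⟨i, j⟩, h⟩, ⟨x, hx⟩, ⟨y, hy⟩⟩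
    dsimp only at hx hy
    subst hx hy
    rfl

theorem FW.prod {X Y : Type*} {w : X → ℕ} {v : Y → ℕ} (hw : FW w) (hv : FW v) :
    FW fun p : X × Y => w p.1 + v p.2 := fun n => by
  have := hw
  have := hv
  unfold FW at *
  exact Finite.of_equiv _ (prodEquiv w v n).symm

theorem ser_prod {X Y : Type*} {w : X → ℕ} {v : Y → ℕ} (hw : FW w) (hv : FW v) :
    ser (fun p : X × Y => w p.1 + v p.2) = ser w * ser v := by
  ext n
  unfold FW at *
  rw [coeff_ser, PowerSeries.coeff_mul, Nat.card_congr (prodEquiv w v n), Nat.card_sigma,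
    Nat.cast_sum]
  simp only [coeff_ser, Nat.card_prod, Nat.cast_mul]
  exact sum_coe_sort (antidiagonal n) fun l =>
    (Nat.card {x // w x = l.1} : ℤ) * (Nat.card {y // v y = l.2} : ℤ)

theorem FW.of_finite {X : Type*} [Finite X] (w : X → ℕ) : FW w := fun _ => inferInstance

theorem ser_bool (i : ℕ) :
    ser (fun b : Bool => i * b.toNat) = 1 + PowerSeries.X ^ i := by
  ext k
  rw [coeff_ser, Nat.card_eq_fintype_card, Fintype.card_subtype, card_filter, map_add,
    PowerSeries.coeff_one, PowerSeries.coeff_X_pow]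
  simp only [Fintype.sum_bool, Bool.toNat_true, Bool.toNat_false, mul_one, mul_zero, eq_comm]
  push_cast
  ring

theorem ser_bools (i c : ℕ) :
    ser (fun r : Fin c → Bool => ∑ k, i * (r k).toNat) = (1 + PowerSeries.X ^ i) ^ c := by
  rw [ser_pi (X := fun _ : Fin c => Bool) (w := fun _ b => i * b.toNat) fun _ => FW.of_finite _,
    ser_bool, prod_const, card_univ, Fintype.card_fin]

theorem FW.mul {X : Type*} {dg : X → ℕ} (h : FW dg) {i : ℕ} (hi : 0 < i) :
    FW fun x => i * dg x := fun k => by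
  have := h (k / i)
  exact Finite.of_injective (β := {x // dg x = k / i}) (fun x => ⟨x.1,
    (Nat.div_eq_of_eq_mul_right hi x.2.symm).symm⟩) fun x y h => Subtype.ext (congrArg (·.1) h)

theorem coeff_ser_mul {X : Type*} (dg : X → ℕ) {i : ℕ} (hi : 0 < i) (d : ℕ) :
    PowerSeries.coeff (i * d) (ser fun x => i * dg x) = (Nat.card {x // dg x = d} : ℤ) := by
  rw [coeff_ser]
  exact congrArg _ (Nat.card_congr (Equiv.subtypeEquivRight fun x => Nat.mul_right_inj hi.ne'))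

theorem coeff_ser_of_not_dvd {X : Type*} (dg : X → ℕ) {i k : ℕ} (h : ¬ i ∣ k) :
    PowerSeries.coeff k (ser fun x => i * dg x) = 0 := by
  have : IsEmpty {x // i * dg x = k} := ⟨fun x => h ⟨_, x.2.symm⟩⟩
  rw [coeff_ser, Nat.card_of_isEmpty, Nat.cast_zero]

/-- Series with constant term one whose truncated value is bounded. -/
structure Gd (x : ℝ) (m : ℕ) (f : PowerSeries ℤ) (b : ℝ) : Prop where
  nneg : NNeg f
  zero : PowerSeries.coeff 0 f = 1
  le : TW x m f ≤ b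

variable {x : ℝ} {m : ℕ}

theorem Gd.mono {f : PowerSeries ℤ} {b b' : ℝ} (h : Gd x m f b) (hb : b ≤ b') : Gd x m f b' :=
  ⟨h.nneg, h.zero, h.le.trans hb⟩

theorem gd_one : Gd x m 1 1 := ⟨nneg_one, by simp, TW_one.le⟩

theorem Gd.mul (hx : 0 ≤ x) {f g : PowerSeries ℤ} {b c : ℝ} (h : Gd x m f b) (h' : Gd x m g c) :
    Gd x m (f * g) (b * c) :=
  ⟨h.nneg.mul h'.nneg, by
    rw [PowerSeries.coeff_zero_eq_constantCoeff, map_mul, ← PowerSeries.coeff_zero_eq_constantCoeff,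
      h.zero, h'.zero, mul_one],
    (TW_mul_le hx h.nneg h'.nneg).trans (mul_le_mul h.le h'.le (TW_nonneg hx h'.nneg)
      ((TW_nonneg hx h.nneg).trans h.le))⟩

theorem Gd.prod (hx : 0 ≤ x) {ι : Type*} {s : Finset ι} {f : ι → PowerSeries ℤ} {b : ι → ℝ}
    (h : ∀ i ∈ s, Gd x m (f i) (b i)) : Gd x m (∏ i ∈ s, f i) (∏ i ∈ s, b i) := by
  classical
  induction s using Finset.induction_on with
  | empty => simpa using gd_one
  | insert a s ha ih =>
    rw [prod_insert ha, prod_insert ha]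
    exact (h a (mem_insert_self _ _)).mul hx (ih fun i hi => h i (mem_insert_of_mem hi))

theorem Gd.pow (hx : 0 ≤ x) {f : PowerSeries ℤ} {b : ℝ} (h : Gd x m f b) (c : ℕ) :
    Gd x m (f ^ c) (b ^ c) := by
  simpa using Gd.prod hx (s := range c) fun _ _ => h

theorem nneg_one_add_X_pow (i : ℕ) : NNeg (1 + PowerSeries.X ^ i) := fun k => by
  rw [map_add]; exact add_nonneg (nneg_one k) (nneg_X_pow i k)

theorem gd_one_add (hx : 0 ≤ x) {i : ℕ} (hi : 0 < i) :
    Gd x m (1 + PowerSeries.X ^ i) (1 + x ^ i) :=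
  ⟨nneg_one_add_X_pow i, by simp [hi.ne'], by
    rw [TW_add, TW_one]; exact add_le_add_right (TW_X_pow_le hx i) _⟩

theorem gd_ser_mul (hx : 0 ≤ x) {X : Type*} (dg : X → ℕ) {i : ℕ} (hi : 0 < i) {ω u : ℝ}
    (hω : 0 ≤ ω) (hu : 0 ≤ u) (hu1 : u < 1) (h0 : Nat.card {y // dg y = 0} = 1)
    (h : ∀ d, (Nat.card {y // dg y = d + 1} : ℝ) * x ^ (i * (d + 1)) ≤ ω * u ^ (d + 1)) :
    Gd x m (ser fun y => i * dg y) (1 + ω * (u / (1 - u))) := by
  refine ⟨nneg_ser _, by simpa [h0] using coeff_ser_mul dg hi 0, ?_⟩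
  have h1 : TW x m (ser fun y => i * dg y) ≤ ∑ k ∈ (range (m + 1)).image (i * ·),
      ((PowerSeries.coeff k (ser fun y => i * dg y) : ℤ) : ℝ) * x ^ k := by
    rw [TW, ← sum_filter_of_ne (p := fun k => i ∣ k) fun k _ hk => by
      by_contra h2
      exact hk (by rw [coeff_ser_of_not_dvd dg h2]; simp)]
    refine sum_le_sum_of_subset_of_nonneg (fun k hk => ?_) fun k _ _ =>
      mul_nonneg (by exact_mod_cast nneg_ser _ k) (pow_nonneg hx k)
    obtain ⟨h2, d, rfl⟩ := mem_filter.1 hk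
    exact mem_image.2 ⟨d, mem_range.2 (lt_of_le_of_lt (Nat.le_mul_of_pos_left d hi)
      (mem_range.1 h2)), rfl⟩
  rw [sum_image fun a _ b _ hab => Nat.eq_of_mul_eq_mul_left hi hab, sum_range_succ'] at h1
  simp only [coeff_ser_mul dg hi, h0, Int.cast_natCast] at h1
  refine h1.trans ?_
  rw [mul_zero, pow_zero, Nat.cast_one, mul_one, add_comm]
  refine add_le_add_right ((sum_le_sum fun d _ => h d).trans ?_) _
  rw [← mul_sum]
  refine mul_le_mul_of_nonneg_left ?_ hω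
  have h2 : ∑ d ∈ range m, u ^ (d + 1) = u * ∑ d ∈ range m, u ^ d := by
    rw [mul_sum]; exact sum_congr rfl fun d _ => pow_succ' u d
  rw [h2, div_eq_mul_inv]
  refine mul_le_mul_of_nonneg_left ?_ hu
  rw [← tsum_geometric_of_lt_one hu hu1]
  exact (summable_geometric_of_lt_one hu hu1).sum_le_tsum _ fun _ _ => by positivity

/-- Normalised coefficients. -/
noncomputable def nc (x : ℝ) (f : PowerSeries ℤ) (k : ℕ) : ℝ := (PowerSeries.coeff k f : ℤ) * x ^ k

theorem nc_add (f g : PowerSeries ℤ) (k : ℕ) : nc x (f + g) k = nc x f k + nc x g k := by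
  simp [nc, add_mul]

theorem nc_X_mul (f : PowerSeries ℤ) (k : ℕ) :
    nc x (PowerSeries.X * f) (k + 1) = x * nc x f k := by
  rw [nc, nc, PowerSeries.coeff_succ_X_mul]; ring

theorem nc_X_mul_zero (f : PowerSeries ℤ) : nc x (PowerSeries.X * f) 0 = 0 := by
  simp [nc]

theorem nc_mul_one_add_succ (f : PowerSeries ℤ) (k : ℕ) :
    nc x (f * (1 + PowerSeries.X ^ 1)) (k + 1) = nc x f (k + 1) + x * nc x f k := by
  rw [pow_one, mul_add, mul_one, mul_comm f, nc_add, nc_X_mul]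

theorem nc_mul_one_add_zero (f : PowerSeries ℤ) :
    nc x (f * (1 + PowerSeries.X ^ 1)) 0 = nc x f 0 := by
  rw [pow_one, mul_add, mul_one, mul_comm f, nc_add, nc_X_mul_zero, add_zero]

theorem nc_mul_le (hx : 0 ≤ x) {L R : PowerSeries ℤ} {T M M₀ : ℝ} (hR : Gd x m R T) (hM : 0 ≤ M)
    (h : ∀ k, nc x L k ≤ M) (h0 : nc x L m ≤ M₀) : nc x (L * R) m ≤ M₀ + M * (T - 1) := by
  have h1 : nc x (L * R) m = ∑ j ∈ range (m + 1), nc x L (m - j) * nc x R j := by
    rw [nc, mul_comm L, PowerSeries.coeff_mul, Nat.sum_antidiagonal_eq_sum_range_succ_mk,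
      Int.cast_sum, sum_mul]
    refine sum_congr rfl fun j hj => ?_
    have : x ^ m = x ^ (m - j) * x ^ j := by
      rw [← pow_add, Nat.sub_add_cancel (Nat.lt_succ_iff.1 (mem_range.1 hj))]
    rw [nc, nc, this, Int.cast_mul]; ring
  have h2 : TW x m R = ∑ j ∈ range m, nc x R (j + 1) + 1 := by
    rw [TW, sum_range_succ', hR.zero]; simp [nc]
  have h3 : nc x R 0 = 1 := by simp [nc, hR.zero]
  rw [h1, sum_range_succ', h3, mul_one, Nat.sub_zero, add_comm]
  have h4 : ∀ k, 0 ≤ nc x R k := fun k =>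
    mul_nonneg (by exact_mod_cast hR.nneg _) (pow_nonneg hx _)
  refine add_le_add h0 ((sum_le_sum fun j _ => mul_le_mul_of_nonneg_right (h _) (h4 _)).trans ?_)
  rw [← mul_sum]
  exact mul_le_mul_of_nonneg_left (by linarith [hR.le]) hM

/-- Bounds for the even and odd normalised coefficients. -/
def EO (x : ℝ) (f : PowerSeries ℤ) (a b : ℝ) : Prop :=
  ∀ k, nc x f (2 * k) ≤ a ∧ nc x f (2 * k + 1) ≤ b

theorem EO.one_add (hx : 0 ≤ x) {f : PowerSeries ℤ} {a b : ℝ} (hb : 0 ≤ b) (h : EO x f a b) :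
    EO x (f * (1 + PowerSeries.X ^ 1)) (a + x * b) (b + x * a) := fun k => by
  rw [pow_one, mul_add, mul_one, mul_comm f, nc_add, nc_add, nc_X_mul]
  refine ⟨add_le_add (h k).1 ?_, add_le_add (h k).2 (mul_le_mul_of_nonneg_left (h k).1 hx)⟩
  rcases k with _ | k
  · rw [mul_zero, nc_X_mul_zero]; positivity
  · rw [show 2 * (k + 1) = 2 * k + 1 + 1 by ring, nc_X_mul]
    exact mul_le_mul_of_nonneg_left (h k).2 hx

theorem EO.le {f : PowerSeries ℤ} {a b M : ℝ} (h : EO x f a b) (ha : a ≤ M) (hb : b ≤ M) (k : ℕ) :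
    nc x f k ≤ M := by
  obtain ⟨j, rfl | rfl⟩ := k.even_or_odd'
  exacts [(h j).1.trans ha, (h j).2.trans hb]

end Ser

/-! ### Infinite products -/

section Prod

/-- `a - 1 ≤ r (a₀ - 1)`. -/
structure Sub (r a a₀ : ℝ) : Prop where
  one : 1 ≤ a
  one' : 1 ≤ a₀
  le : a - 1 ≤ r * (a₀ - 1)

variable {r : ℝ}

theorem Sub.le' (hr : r ≤ 1) {a a₀ : ℝ} (h : Sub r a a₀) : a ≤ a₀ := by
  have := h.le; have := h.one'; nlinarith

theorem Sub.mul (hr0 : 0 ≤ r) (hr : r ≤ 1) {a a₀ b b₀ : ℝ} (h : Sub r a a₀) (h' : Sub r b b₀) :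
    Sub r (a * b) (a₀ * b₀) := by
  refine ⟨one_le_mul_of_one_le_of_one_le h.one h'.one,
    one_le_mul_of_one_le_of_one_le h.one' h'.one', ?_⟩
  have h1 : (a - 1) * b ≤ r * (a₀ - 1) * b₀ := mul_le_mul h.le (h'.le' hr) (by linarith [h'.one])
    (mul_nonneg hr0 (by linarith [h.one']))
  nlinarith [h'.le]

theorem Sub.prod (hr0 : 0 ≤ r) (hr : r ≤ 1) {ι : Type*} {s : Finset ι} {a a₀ : ι → ℝ}
    (h : ∀ i ∈ s, Sub r (a i) (a₀ i)) : Sub r (∏ i ∈ s, a i) (∏ i ∈ s, a₀ i) := by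
  classical
  induction s using Finset.induction_on with
  | empty => exact ⟨by simp, by simp, by simp⟩
  | insert i s hi ih =>
    rw [prod_insert hi, prod_insert hi]
    exact (h i (mem_insert_self _ _)).mul hr0 hr (ih fun j hj => h j (mem_insert_of_mem hj))

/-- The factor of the layer `j + 1`. -/
noncomputable def fA (c : ℕ) (ω x : ℝ) (j : ℕ) : ℝ :=
  (1 + ω * (x ^ (2 * j + 2) / (1 - x ^ (2 * j + 2)))) * (1 + x ^ (j + 2)) ^ c

theorem sub_fA (hr0 : 0 ≤ r) (hr : r ≤ 1) {x₀ ω : ℝ} (h0 : 0 ≤ x₀) (h1 : x₀ < 1) (hω : 0 ≤ ω)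
    (c j : ℕ) : Sub r (fA c ω (r * x₀) j) (fA c ω x₀ j) := by
  have h2 : ∀ k, (r * x₀) ^ (k + 1) ≤ r * x₀ ^ (k + 1) := fun k => by
    rw [mul_pow]
    exact mul_le_mul_of_nonneg_right (pow_le_of_le_one hr0 hr k.succ_ne_zero) (by positivity)
  have h3 : x₀ ^ (2 * j + 2) < 1 := pow_lt_one₀ h0 h1 (by omega)
  have h4 : (r * x₀) ^ (2 * j + 2) ≤ x₀ ^ (2 * j + 2) :=
    (h2 _).trans (mul_le_of_le_one_left (by positivity) hr)
  have h5 : 0 < 1 - x₀ ^ (2 * j + 2) := by linarith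
  have h6 : 0 < 1 - (r * x₀) ^ (2 * j + 2) := by linarith
  refine Sub.mul hr0 hr ⟨by simp; positivity, by simp; positivity, ?_⟩ ?_
  · rw [add_sub_cancel_left, add_sub_cancel_left, mul_left_comm, ← mul_div_assoc r]
    exact mul_le_mul_of_nonneg_left (div_le_div₀ (by positivity) (h2 _) h5 (by linarith)) hω
  · simpa using Sub.prod hr0 hr (s := range c) (a := fun _ => 1 + (r * x₀) ^ (j + 2))
      (a₀ := fun _ => 1 + x₀ ^ (j + 2)) fun _ _ =>
      ⟨by simp; positivity, by simp; positivity, by simpa using h2 (j + 1)⟩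

theorem fA_le {x ω : ℝ} (h0 : 0 ≤ x) (h1 : x ≤ 3 / 5) (hω : 0 ≤ ω) (hω1 : ω ≤ 1) {c j : ℕ}
    (hc : c ≤ 4) (hj : x ^ (j + 1) ≤ 1 / 20) : fA c ω x j ≤ 1 + 13 / 5 * x ^ (j + 1) := by
  have h2 : x ^ (2 * j + 2) = x ^ (j + 1) * x ^ (j + 1) := by ring
  have h3 : x ^ (j + 2) ≤ 3 / 5 * x ^ (j + 1) := by
    rw [pow_succ' x (j + 1)]; exact mul_le_mul_of_nonneg_right h1 (by positivity)
  have h4 : 0 ≤ x ^ (j + 1) := by positivity
  have h5 : 0 ≤ x ^ (j + 2) := by positivity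
  rw [fA, h2]
  generalize x ^ (j + 1) = z at *
  generalize x ^ (j + 2) = v at *
  have h6 : (1 + v) ^ c ≤ (1 + 3 / 5 * z) ^ 4 :=
    (pow_le_pow_right₀ (by linarith) hc).trans (pow_le_pow_left₀ (by linarith) (by linarith) 4)
  have h7 : z * z ≤ 1 / 20 * z := by nlinarith
  have h8 : 1 + ω * (z * z / (1 - z * z)) ≤ 1 + 11 / 10 * (z * z) := by
    have h9 : z * z / (1 - z * z) ≤ 11 / 10 * (z * z) := by
      rw [div_le_iff₀ (by nlinarith)]; nlinarith [mul_self_nonneg z]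
    have h10 : 0 ≤ z * z / (1 - z * z) := div_nonneg (by positivity) (by nlinarith)
    nlinarith
  have h9 : (1 + 3 / 5 * z) ^ 2 ≤ 1 + 61 / 50 * z := by nlinarith
  have h10 : (1 + 3 / 5 * z) ^ 4 ≤ 1 + 63 / 25 * z := by
    have := pow_le_pow_left₀ (by positivity) h9 2
    rw [← pow_mul] at this
    nlinarith
  refine (mul_le_mul h8 (h6.trans h10) (by positivity) (by positivity)).trans ?_
  nlinarith [mul_nonneg h4 h4, mul_nonneg (mul_nonneg h4 h4) h4]

theorem prod_le_of_tail {a : ℕ → ℝ} {K ρ C : ℝ} (hρ : 0 ≤ ρ) (hρ1 : ρ < 1) (hK : 0 ≤ K) (N₀ : ℕ)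
    (h1 : ∀ j, 1 ≤ a j) (h2 : ∀ j, N₀ ≤ j → a j ≤ 1 + K * ρ ^ (j + 1)) (hC : 0 ≤ C)
    (h3 : ∏ j ∈ range N₀, a j ≤ C * (1 - K / (1 - ρ) * ρ ^ (N₀ + 1))) (n : ℕ) :
    ∏ j ∈ range n, a j ≤ C := by
  have h4 : 0 ≤ K / (1 - ρ) := div_nonneg hK (by linarith)
  have h5 : ∀ n, N₀ ≤ n → ∏ j ∈ range n, a j ≤ C * (1 - K / (1 - ρ) * ρ ^ (n + 1)) := by
    intro n hn
    induction n, hn using Nat.le_induction with
    | base => exact h3
    | succ n hn ih =>
      have h6 : 0 ≤ ∏ j ∈ range n, a j := prod_nonneg fun j _ => by linarith [h1 j]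
      rw [prod_range_succ]
      refine (mul_le_mul ih (h2 n hn) (by linarith [h1 n]) (h6.trans ih)).trans ?_
      rw [mul_assoc]
      refine mul_le_mul_of_nonneg_left ?_ hC
      have h7 : K = K / (1 - ρ) * (1 - ρ) := by field_simp [(sub_pos.2 hρ1).ne']
      have h8 : 0 ≤ K / (1 - ρ) * ρ ^ (n + 1) * (K * ρ ^ (n + 1)) := by positivity
      rw [pow_succ ρ (n + 1)]
      generalize K / (1 - ρ) = L at *
      subst h7
      nlinarith
  have h6 := (h5 _ (le_max_right n N₀)).trans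
    (mul_le_of_le_one_right hC (sub_le_self _ (by positivity)))
  refine le_trans ?_ h6
  exact prod_le_prod_of_subset_of_one_le (range_mono (le_max_left _ _))
    (fun j _ => by linarith [h1 j]) fun j _ _ => h1 j

theorem one_le_fA {x ω : ℝ} (h0 : 0 ≤ x) (h1 : x < 1) (hω : 0 ≤ ω) (c j : ℕ) : 1 ≤ fA c ω x j :=
  (sub_fA zero_le_one le_rfl h0 h1 hω c j).one'

theorem prod_fA_le {x C : ℝ} {c : ℕ → ℕ} {ω : ℕ → ℝ} (h0 : 0 ≤ x) (h1 : x ≤ 3 / 5)
    (hc : ∀ j, c j ≤ 4) (hω : ∀ j, 0 ≤ ω j ∧ ω j ≤ 1) (N₀ : ℕ) (hN : x ^ (N₀ + 1) ≤ 1 / 20)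
    (hC : 0 ≤ C) (h : ∏ j ∈ range N₀, fA (c j) (ω j) x j ≤
      C * (1 - 13 / 5 / (1 - x) * x ^ (N₀ + 1))) (n : ℕ) :
    ∏ j ∈ range n, fA (c j) (ω j) x j ≤ C :=
  prod_le_of_tail h0 (by linarith) (by norm_num) N₀
    (fun j => one_le_fA h0 (by linarith) (hω j).1 _ _) (fun j hj => fA_le h0 h1 (hω j).1 (hω j).2
      (hc j) ((pow_le_pow_of_le_one h0 (by linarith) (by omega)).trans hN)) hC h n

theorem prod_fA_sub {x x₀ C : ℝ} {c : ℕ → ℕ} {ω : ℕ → ℝ} (h0 : 0 ≤ x) (h1 : x ≤ x₀) (h2 : 0 < x₀)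
    (h3 : x₀ < 1) (hω : ∀ j, 0 ≤ ω j) {n : ℕ} (h : ∏ j ∈ range n, fA (c j) (ω j) x₀ j ≤ C) :
    ∏ j ∈ range n, fA (c j) (ω j) x j - 1 ≤ x / x₀ * (C - 1) := by
  have h4 := Sub.prod (r := x / x₀) (by positivity) ((div_le_one h2).2 h1) (s := range n)
    fun j _ => sub_fA (by positivity) ((div_le_one h2).2 h1) h2.le h3 (hω j) (c j) j
  rw [div_mul_cancel₀ _ h2.ne'] at h4
  exact h4.le.trans (mul_le_mul_of_nonneg_left (by linarith) (by positivity))

end Prod

end CL.Nil
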