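import Mathlib
import Cfsg.Agent.KSG.NilClass
import Cfsg.Agent.KSG.ClsTools

/-! Counting the invariants of conjugacy classes of symplectic and orthogonal groups. -/

set_option autoImplicit false

namespace CL.Nil

open Module CL.Witt CL.Witt.Form CL.GLn CL.SpU CL.Orth Polynomial Finset

universe u

variable {F : Type u} [Field F] {T : FormType F}

/-! ### Palindromic polynomials -/

section Pal

/-- Monic palindromic polynomials of even degree. -/
structure IsPal (P : F[X]) : Prop where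
  monic : P.Monic
  even : Even P.natDegree
  rev : P.reverse = P

theorem IsW.isPal {w : F[X]} (h : IsW w) : IsPal w := ⟨h.monic, h.even, h.rev⟩

theorem IsPal.mul {P Q : F[X]} (h : IsPal P) (h' : IsPal Q) : IsPal (P * Q) :=
  ⟨h.monic.mul h'.monic, by rw [h.monic.natDegree_mul h'.monic]; exact h.even.add h'.even,
    by rw [reverse_mul_of_domain, h.rev, h'.rev]⟩

theorem isPal_one : IsPal (1 : F[X]) := ⟨monic_one, by simp, by rw [← C_1, reverse_C]⟩

theorem isW_one : IsW (1 : F[X]) := ⟨monic_one, isPal_one.rev, by simp, by simp⟩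

theorem isPal_sq {c : F} (hc : c = 1 ∨ c = -1) : IsPal ((X - C c) ^ 2) := by
  refine ⟨(monic_X_sub_C c).pow 2, by simp [natDegree_pow], ?_⟩
  rw [sq, reverse_mul_of_domain, reverse_X_sub_C]
  rcases hc with rfl | rfl <;> simp <;> ring

theorem isPal_pow {c : F} (hc : c = 1 ∨ c = -1) (e : ℕ) : IsPal ((X - C c) ^ (2 * e)) := by
  induction e with
  | zero => simpa using isPal_one
  | succ e ih => rw [mul_add, pow_add]; exact ih.mul (isPal_sq hc)

theorem IsPal.coeff_zero {P : F[X]} (h : IsPal P) : P.coeff 0 = 1 := by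
  rw [← h.rev, coeff_zero_reverse, h.monic]

theorem IsPal.exists_factor {P : F[X]} (h : IsPal P) {c : F} (hc : c = 1 ∨ c = -1)
    (h0 : P.eval c = 0) : ∃ Q, P = (X - C c) ^ 2 * Q ∧ IsPal Q ∧ P.natDegree = Q.natDegree + 2 := by
  obtain ⟨Q, h1, h2⟩ := exists_factor_of_palindromic h.monic.ne_zero h.rev h.even hc h0
  have h3 : Q.Monic := ((monic_X_sub_C c).pow 2).of_mul_monic_left (h1 ▸ h.monic)
  have h4 : P.natDegree = Q.natDegree + 2 := by
    rw [h1, ((monic_X_sub_C c).pow 2).natDegree_mul h3, natDegree_pow, natDegree_X_sub_C, add_comm]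
  exact ⟨Q, h1, ⟨h3, by simpa [h4, parity_simps] using h.even, h2⟩, h4⟩

theorem pow_mul_cancel {c : F} {k l : ℕ} {g h : F[X]} (hg : g.eval c ≠ 0) (hh : h.eval c ≠ 0)
    (e : (X - C c) ^ k * g = (X - C c) ^ l * h) : k = l ∧ g = h := by
  have h0 : (X - C c : F[X]) ≠ 0 := X_sub_C_ne_zero c
  have key : ∀ {k l : ℕ} {g h : F[X]}, g.eval c ≠ 0 → (X - C c) ^ k * g = (X - C c) ^ l * h →
      l ≤ k := fun {k l g h} hg e => by
    by_contra h1
    obtain ⟨j, rfl⟩ : ∃ j, l = k + (j + 1) := ⟨l - k - 1, by omega⟩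
    rw [pow_add, mul_assoc] at e
    exact hg (by simp [mul_left_cancel₀ (pow_ne_zero _ h0) e])
  obtain rfl := le_antisymm (key hh e.symm) (key hg e)
  exact ⟨rfl, mul_left_cancel₀ (pow_ne_zero _ h0) e⟩

variable (F) in
/-- The set of palindromic polynomials of degree `2 d`. -/
def palSet (d : ℕ) : Set F[X] := {P | IsPal P ∧ P.natDegree = 2 * d}

variable [Fintype F]

theorem ncard_palSet (d : ℕ) : (palSet F d).ncard = Fintype.card F ^ d := by
  rw [← card_palindromic, ← Nat.card_coe_set_eq]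
  exact Nat.card_congr (Equiv.subtypeEquivRight fun P => ⟨fun h => ⟨h.1.monic, h.2, h.1.rev⟩,
    fun h => ⟨⟨h.1, h.2.1 ▸ even_two_mul d, h.2.2⟩, h.2.1⟩⟩)

theorem finite_palSet (d : ℕ) : (palSet F d).Finite :=
  Set.finite_of_ncard_pos (by rw [ncard_palSet]; exact pow_pos Fintype.card_pos d)

theorem le_ncard_root {c : F} (hc : c = 1 ∨ c = -1) (d : ℕ) :
    Fintype.card F ^ d ≤ {P ∈ palSet F (d + 1) | P.eval c = 0}.ncard := by
  rw [← ncard_palSet]
  refine Set.ncard_le_ncard_of_injOn (fun Q => (X - C c) ^ 2 * Q) (fun Q hQ => ⟨⟨(isPal_sq hc).mul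
    hQ.1, ?_⟩, by simp⟩) (fun Q _ Q' _ h => mul_left_cancel₀ (isPal_sq hc).monic.ne_zero h)
    ((finite_palSet _).subset (Set.sep_subset _ _))
  rw [(isPal_sq hc).monic.natDegree_mul hQ.1.monic, hQ.2, natDegree_pow, natDegree_X_sub_C]
  ring

omit [Fintype F] in
theorem exists_factor_both (h2 : (2 : F) ≠ 0) {P : F[X]} (h : IsPal P) (h1 : P.eval 1 = 0)
    (h1' : P.eval (-1) = 0) : ∃ Q, P = (X - C 1) ^ 2 * ((X - C (-1)) ^ 2 * Q) ∧ IsPal Q ∧
      P.natDegree = Q.natDegree + 4 := by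
  obtain ⟨Q, rfl, h3, h4⟩ := h.exists_factor (Or.inl rfl) h1
  obtain ⟨R, rfl, h5, h6⟩ := h3.exists_factor (Or.inr rfl) (by
    rw [eval_mul] at h1'
    refine (mul_eq_zero.1 h1').resolve_left ?_
    simp only [eval_pow, eval_sub, eval_X, eval_C]
    exact pow_ne_zero _ fun h => h2 (by linear_combination -h))
  exact ⟨R, rfl, h5, by omega⟩

theorem ncard_W (h2 : (2 : F) ≠ 0) (d : ℕ) :
    {w : F[X] | IsW w ∧ w.natDegree = 2 * (d + 1)}.ncard * Fintype.card F +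
      2 * Fintype.card F ^ (d + 1) ≤ Fintype.card F ^ (d + 2) + Fintype.card F ^ d := by
  set A := {P ∈ palSet F (d + 1) | P.eval 1 = 0}
  set B := {P ∈ palSet F (d + 1) | P.eval (-1) = 0}
  have hA : A.Finite := (finite_palSet _).subset (Set.sep_subset _ _)
  have hB : B.Finite := (finite_palSet _).subset (Set.sep_subset _ _)
  have h3 := Set.ncard_union_add_ncard_inter A B hA hB
  have h4 : Fintype.card F ^ d ≤ A.ncard := le_ncard_root (Or.inl rfl) d
  have h5 : Fintype.card F ^ d ≤ B.ncard := le_ncard_root (Or.inr rfl) d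
  have h6 : {w : F[X] | IsW w ∧ w.natDegree = 2 * (d + 1)}.ncard + (A ∪ B).ncard ≤
      Fintype.card F ^ (d + 1) := by
    have h7 : {w : F[X] | IsW w ∧ w.natDegree = 2 * (d + 1)} ⊆ palSet F (d + 1) :=
      fun w hw => ⟨hw.1.isPal, hw.2⟩
    rw [← ncard_palSet, ← Set.ncard_union_eq _ ((finite_palSet _).subset h7) (hA.union hB)]
    · exact Set.ncard_le_ncard (Set.union_subset h7
        (Set.union_subset (Set.sep_subset _ _) (Set.sep_subset _ _))) (finite_palSet _)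
    · rw [Set.disjoint_left]
      rintro w hw (h | h)
      exacts [hw.1.one h.2, hw.1.neg h.2]
  have h7 : (A ∩ B).ncard * Fintype.card F ≤ Fintype.card F ^ d := by
    rcases d with _ | d
    · have : A ∩ B = ∅ := Set.eq_empty_of_forall_notMem fun P hP => by
        obtain ⟨Q, -, -, h⟩ := exists_factor_both h2 hP.1.1.1 hP.1.2 hP.2.2
        have := hP.1.1.2
        omega
      simp [this]
    · rw [pow_succ, ← ncard_palSet]
      refine Nat.mul_le_mul_right _ ((Set.ncard_le_ncard (fun P hP => ?_)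
        ((finite_palSet d).image fun Q => (X - C 1) ^ 2 * ((X - C (-1)) ^ 2 * Q))).trans
        (Set.ncard_image_le (finite_palSet d)))
      obtain ⟨Q, h8, h9, h10⟩ := exists_factor_both h2 hP.1.1.1 hP.1.2 hP.2.2
      have := hP.1.1.2
      exact ⟨Q, ⟨h9, by omega⟩, h8.symm⟩
  rw [pow_succ, pow_succ, pow_succ] at *
  nlinarith

/-- Half the degree. -/
noncomputable def hdg {Y : F[X] → Prop} (P : {P // Y P}) : ℕ := P.1.natDegree / 2

omit [Fintype F] in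
theorem card_hdg {Y : F[X] → Prop} (hY : ∀ P, Y P → IsPal P) (d : ℕ) :
    Nat.card {P : {P // Y P} // hdg P = d} = {P | Y P ∧ P.natDegree = 2 * d}.ncard := by
  rw [← Nat.card_coe_set_eq]
  refine Nat.card_congr ((Equiv.subtypeSubtypeEquivSubtypeInter Y
    fun P => P.natDegree / 2 = d).trans (Equiv.subtypeEquivRight fun P => and_congr_right fun h => ?_))
  have := Nat.even_iff.1 (hY P h).even
  omega

theorem fw_hdg {Y : F[X] → Prop} (hY : ∀ P, Y P → IsPal P) : FW (hdg (Y := Y)) := fun d => by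
  have := (finite_palSet (F := F) d).to_subtype
  refine Finite.of_injective (β := palSet F d) (fun P => ⟨P.1.1, hY _ P.1.2, ?_⟩)
    fun P Q h => Subtype.ext (Subtype.ext (congrArg (·.1) h))
  have h1 := Nat.even_iff.1 (hY _ P.1.2).even
  have h2 : P.1.1.natDegree / 2 = d := P.2
  omega

theorem card_hdg_le {Y : F[X] → Prop} (hY : ∀ P, Y P → IsPal P) (d : ℕ) :
    Nat.card {P : {P // Y P} // hdg P = d} ≤ Fintype.card F ^ d := by
  rw [card_hdg hY, ← ncard_palSet]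
  exact Set.ncard_le_ncard (fun P hP => ⟨hY P hP.1, hP.2⟩) (finite_palSet d)

omit [Fintype F] in
theorem card_hdg_zero {Y : F[X] → Prop} (hY : ∀ P, Y P → IsPal P) (h1 : Y 1) :
    Nat.card {P : {P // Y P} // hdg P = 0} = 1 := by
  rw [card_hdg hY, Set.ncard_eq_one]
  exact ⟨1, Set.eq_singleton_iff_unique_mem.2 ⟨⟨h1, by simp⟩, fun P hP =>
    (hY P hP.1).monic.natDegree_eq_zero.1 hP.2⟩⟩

theorem card_hdg_W (h2 : (2 : F) ≠ 0) (d : ℕ) :
    (Nat.card {P : {P : F[X] // IsW P} // hdg P = d + 1} : ℝ) ≤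
      (1 - (Fintype.card F : ℝ)⁻¹) ^ 2 * Fintype.card F ^ (d + 1) := by
  have h1 := ncard_W h2 d
  rw [← card_hdg fun _ h => h.isPal] at h1
  have h3 : (0 : ℝ) < Fintype.card F := by exact_mod_cast Fintype.card_pos
  have h4 : (Nat.card {P : {P : F[X] // IsW P} // hdg P = d + 1} : ℝ) * Fintype.card F +
      2 * (Fintype.card F : ℝ) ^ (d + 1) ≤ Fintype.card F ^ (d + 2) + Fintype.card F ^ d := by
    exact_mod_cast h1
  refine le_of_mul_le_mul_right ?_ h3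
  have h5 : (1 - (Fintype.card F : ℝ)⁻¹) ^ 2 * Fintype.card F ^ (d + 1) * Fintype.card F =
      Fintype.card F ^ (d + 2) + Fintype.card F ^ d - 2 * (Fintype.card F : ℝ) ^ (d + 1) := by
    field_simp; ring
  linarith

end Pal

/-! ### The data -/

/-- The invariants of an isometry. -/
@[ext] structure Dat (F : Type u) [Field F] where
  a : ℕ → ℕ
  σ : ℕ → ℤˣ
  b : ℕ → ℕ
  τ : ℕ → ℤˣ
  t : Multiset (F[X] × ℕ)

/-- Normalised multiplicities and signs. -/
structure OkS (T : FormType F) (N : ℕ) (a : ℕ → ℕ) (σ : ℕ → ℤˣ) : Prop where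
  top : ∀ j, N ≤ j → a j = 0
  alt : ∀ j, ¬ Sym T j → Even (a j) ∧ σ j = 1
  zero : ∀ j, a j = 0 → σ j = 1

/-- Normalised data in dimension `N`. -/
structure Dat.Ok (T : FormType F) (N : ℕ) (d : Dat F) : Prop where
  left : OkS T N d.a d.σ
  right : OkS T N d.b d.τ
  isED : IsED d.t
  mem : ∀ x ∈ d.t, x.2 ∈ Ioc 0 N
  isW : ∀ i, IsW (seqOf d.t i)
  dim : N = ∑ j ∈ range N, (j + 1) * (d.a j + d.b j + (seqOf d.t (j + 1)).natDegree)

open Classical in
theorem Valid.okS {N : ℕ} {a : ℕ → ℕ} {σ : ℕ → ℤˣ} (h : Valid T N a σ) :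
    OkS T N (fun j => if j < N then a j else 0) fun j => if j < N ∧ Sym T j then σ j else 1 := by
  refine ⟨fun j hj => if_neg (by omega), fun j hj => ⟨?_, if_neg fun h' => hj h'.2⟩, fun j hj => ?_⟩
  · split_ifs with h1
    exacts [(h j h1).1 hj, Even.zero]
  · split_ifs with h1
    · exact (h j h1.1).2 h1.2 (by simpa [h1.1] using hj)
    · rfl

/-- `S` has invariants `d`. -/
def HasDat (hT : Good T) (N : ℕ) (S : FS T) (d : Dat F) : Prop := GD hT N S d.a d.σ d.b d.τ d.t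

theorem exists_dat [Finite F] (hT : Good T) (S : FS T) (hA : IsIsom S.f S.f S.A) {N : ℕ}
    (hN : S.dim = N) : ∃ d : Dat F, d.Ok T N ∧ HasDat hT N S d := by
  classical
  obtain ⟨a, σ, b, τ, t, h⟩ := exists_gd hT S hA hN.le
  have h1 : HasDat hT N S ⟨fun j => if j < N then a j else 0,
      fun j => if j < N ∧ Sym T j then σ j else 1, fun j => if j < N then b j else 0,
      fun j => if j < N ∧ Sym T j then τ j else 1, t⟩ :=
    h.congr (fun j hj => (if_pos hj).symm) (fun j hj hs => (if_pos ⟨hj, hs⟩).symm)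
      (fun j hj => (if_pos hj).symm) fun j hj hs => (if_pos ⟨hj, hs⟩).symm
  exact ⟨_, ⟨h.valid.1.okS, h.valid.2.okS, h.isED, h.mem_Ioc hN.le, h.isW,
    hN.symm.trans (GD.dim_eq h1 hN.le)⟩, h1⟩

theorem Dat.Ok.ext {N : ℕ} {d d' : Dat F} (h : d.Ok T N) (h' : d'.Ok T N)
    (e : ∀ j < N, d.a j = d'.a j ∧ d.σ j = d'.σ j ∧ d.b j = d'.b j ∧ d.τ j = d'.τ j ∧
      seqOf d.t (j + 1) = seqOf d'.t (j + 1)) : d = d' := by
  have h1 : ∀ {a a' : ℕ → ℕ} {σ σ' : ℕ → ℤˣ}, OkS T N a σ → OkS T N a' σ' →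
      (∀ j < N, a j = a' j ∧ σ j = σ' j) → a = a' ∧ σ = σ' := fun h h' e => by
    refine ⟨funext fun j => ?_, funext fun j => ?_⟩ <;> rcases lt_or_ge j N with hj | hj
    · exact (e j hj).1
    · rw [h.top j hj, h'.top j hj]
    · exact (e j hj).2
    · rw [h.zero j (h.top j hj), h'.zero j (h'.top j hj)]
  have h2 := h1 h.left h'.left fun j hj => ⟨(e j hj).1, (e j hj).2.1⟩
  have h3 := h1 h.right h'.right fun j hj => ⟨(e j hj).2.2.1, (e j hj).2.2.2.1⟩
  refine Dat.ext h2.1 h2.2 h3.1 h3.2 (eq_of_seqOf_eq h.isED h'.isED h.mem h'.mem fun i => ?_)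
  have h4 := ix_pos i
  have h5 := ix_le i
  have := (e (i - 1) (by omega)).2.2.2.2
  rwa [Nat.sub_add_cancel h4] at this

/-! ### Encodings -/

section Enc

variable [Fintype F]

/-- The generating function of a layer. -/
noncomputable def lser (Y : F[X] → Prop) (c j : ℕ) : PowerSeries ℤ :=
  ser (fun P : {P // Y P} => 2 * (j + 1) * hdg P) * (1 + PowerSeries.X ^ (j + 1)) ^ c

theorem card_dat_le {N : ℕ} (Y : ℕ → F[X] → Prop) (hY : ∀ j P, Y j P → IsPal P) (c : ℕ → ℕ)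
    (S : Dat F → Prop) (E : Dat F → ∀ j, F[X] → (Fin (c j) → Bool) → Prop)
    (h1 : ∀ d, d.Ok T N → S d → ∀ j < N, ∃ P r, Y j P ∧ E d j P r ∧ P.natDegree +
      ∑ k, (r k).toNat = d.a j + d.b j + (seqOf d.t (j + 1)).natDegree)
    (h2 : ∀ d d', d.Ok T N → S d → d'.Ok T N → S d' → ∀ j < N, ∀ P r, E d j P r → E d' j P r →
      d.a j = d'.a j ∧ d.σ j = d'.σ j ∧ d.b j = d'.b j ∧ d.τ j = d'.τ j ∧
        seqOf d.t (j + 1) = seqOf d'.t (j + 1)) :
    Finite {d : Dat F // d.Ok T N ∧ S d} ∧ (Nat.card {d : Dat F // d.Ok T N ∧ S d} : ℤ) ≤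
      PowerSeries.coeff N (∏ j ∈ range N, lser (Y j) (c j) j) := by
  let w : ∀ j : Fin N, {P // Y j P} × (Fin (c j) → Bool) → ℕ := fun j p =>
    2 * (j + 1) * hdg p.1 + ∑ k, (j + 1) * (p.2 k).toNat
  have hw : ∀ j, FW (w j) := fun j =>
    ((fw_hdg (hY j)).mul (by omega)).prod (v := fun r : Fin (c j) → Bool =>
      ∑ k, (j + 1) * (r k).toNat) (FW.of_finite _)
  have h3 : ∏ j ∈ range N, lser (Y j) (c j) j = ser fun x : ∀ j : Fin N, _ => ∑ j, w j (x j) := by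
    rw [ser_pi hw, ← Fin.prod_univ_eq_prod_range fun j => lser (Y j) (c j) j]
    refine prod_congr rfl fun j _ => ?_
    rw [lser, ← ser_bools, ← ser_prod ((fw_hdg (hY j)).mul (by omega)) (FW.of_finite _)]
  have := FW.pi hw N
  let R : {d : Dat F // d.Ok T N ∧ S d} → {x : ∀ j : Fin N, _ // ∑ j, w j (x j) = N} → Prop :=
    fun d x => ∀ j : Fin N, E d.1 j (x.1 j).1.1 (x.1 j).2
  have h4 : ∀ d, ∃ x, R d x := fun d => by
    choose P r h5 h6 h7 using fun j : Fin N => h1 d.1 d.2.1 d.2.2 j j.2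
    refine ⟨⟨fun j => (⟨P j, h5 j⟩, r j), ?_⟩, h6⟩
    refine Eq.trans ?_ d.2.1.dim.symm
    rw [← Fin.sum_univ_eq_sum_range fun j => (j + 1) * (d.1.a j + d.1.b j +
      (seqOf d.1.t (j + 1)).natDegree)]
    refine sum_congr rfl fun j _ => ?_
    have h8 : 2 * ((P j).natDegree / 2) = (P j).natDegree :=
      Nat.two_mul_div_two_of_even (hY j _ (h5 j)).even
    simp only [w, hdg]
    rw [← h7, ← mul_sum, mul_comm 2, mul_assoc, h8, mul_add]
  have h5 : ∀ d d' x, R d x → R d' x → d = d' := fun d d' x h h' =>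
    Subtype.ext (d.2.1.ext d'.2.1 fun j hj =>
      h2 _ _ d.2.1 d.2.2 d'.2.1 d'.2.2 j hj _ _ (h ⟨j, hj⟩) (h' ⟨j, hj⟩))
  rw [h3, coeff_ser]
  exact ⟨finite_of_rel R h4 h5, by exact_mod_cast card_le_of_rel R h4 h5⟩

omit [Fintype F] in
theorem mul_mul_cancel (h2 : (2 : F) ≠ 0) {k l k' l' : ℕ} {w w' : F[X]} (hw : IsW w)
    (hw' : IsW w') (e : (X - C 1) ^ k * ((X - C (-1)) ^ l * w) =
      (X - C 1) ^ k' * ((X - C (-1)) ^ l' * w')) : k = k' ∧ l = l' ∧ w = w' := by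
  have h1 : ∀ (l : ℕ) {w : F[X]}, IsW w → ((X - C (-1)) ^ l * w).eval 1 ≠ 0 := fun l w hw => by
    simp only [eval_mul, eval_pow, eval_sub, eval_X, eval_C]
    exact mul_ne_zero (pow_ne_zero _ fun h => h2 (by linear_combination h)) hw.one
  obtain ⟨h3, h4⟩ := pow_mul_cancel (h1 l hw) (h1 l' hw') e
  exact ⟨h3, pow_mul_cancel hw.neg hw'.neg h4⟩

omit [Fintype F] in
theorem isPal_mul_mul {w : F[X]} (hw : IsW w) (e e' : ℕ) :
    IsPal ((X - C 1) ^ (2 * e) * ((X - C (-1)) ^ (2 * e') * w)) ∧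
      ((X - C 1) ^ (2 * e) * ((X - C (-1)) ^ (2 * e') * w)).natDegree =
        2 * e + 2 * e' + w.natDegree := by
  have h1 := isPal_pow (F := F) (Or.inl rfl) e
  have h2 := isPal_pow (F := F) (Or.inr rfl) e'
  refine ⟨h1.mul (h2.mul hw.isPal), ?_⟩
  rw [h1.monic.natDegree_mul (h2.mul hw.isPal).monic, h2.monic.natDegree_mul hw.monic,
    natDegree_pow, natDegree_pow, natDegree_X_sub_C, natDegree_X_sub_C]
  ring

/-- The encoding of a multiplicity and a sign. -/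
def EncS (a : ℕ) (σ : ℤˣ) (e : ℕ) (r s : Bool) : Prop :=
  a = 2 * e + r.toNat + s.toNat ∧ σ = if s then -1 else 1

theorem exists_encS {a : ℕ} {σ : ℤˣ} (h : a = 0 → σ = 1) : ∃ e r s, EncS a σ e r s := by
  rcases Int.units_eq_one_or σ with rfl | rfl
  · obtain ⟨e, rfl | rfl⟩ := a.even_or_odd'
    exacts [⟨e, false, false, rfl, rfl⟩, ⟨e, true, false, rfl, rfl⟩]
  · obtain ⟨a, rfl⟩ : ∃ a', a = a' + 1 := Nat.exists_eq_add_one.2 (Nat.pos_of_ne_zero fun h' =>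
      absurd (h h') (by decide))
    obtain ⟨e, rfl | rfl⟩ := a.even_or_odd'
    exacts [⟨e, false, true, rfl, rfl⟩, ⟨e, true, true, rfl, rfl⟩]

open Classical in
/-- The number of bits needed for a layer. -/
noncomputable def cS (T : FormType F) (c j : ℕ) : ℕ := if Sym T j then c else 0

/-- Extending a finite bit string by zero. -/
def bit {c : ℕ} (r : Fin c → Bool) (k : ℕ) : Bool := if h : k < c then r ⟨k, h⟩ else false

theorem card_dat_all (h2 : (2 : F) ≠ 0) (N : ℕ) :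
    Finite {d : Dat F // d.Ok T N ∧ True} ∧ (Nat.card {d : Dat F // d.Ok T N ∧ True} : ℤ) ≤
      PowerSeries.coeff N (∏ j ∈ range N, lser (IsPal (F := F)) (cS T 4 j) j) := by
  refine card_dat_le (fun _ => IsPal) (fun _ _ h => h) (cS T 4) _ (fun d j P r => ∃ e e',
    P = (X - C 1) ^ (2 * e) * ((X - C (-1)) ^ (2 * e') * seqOf d.t (j + 1)) ∧
      EncS (d.a j) (d.σ j) e (bit r 0) (bit r 1) ∧ EncS (d.b j) (d.τ j) e' (bit r 2) (bit r 3))
    (fun d hd _ j _ => ?_) ?_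
  · by_cases hs : Sym T j
    · obtain ⟨e, r₀, r₁, h3⟩ := exists_encS (hd.left.zero j)
      obtain ⟨e', r₂, r₃, h4⟩ := exists_encS (hd.right.zero j)
      have h5 := isPal_mul_mul (hd.isW (j + 1)) e e'
      have h6 : cS T 4 j = 4 := if_pos hs
      rw [h6]
      refine ⟨_, ![r₀, r₁, r₂, r₃], h5.1, ⟨e, e', rfl, h3, h4⟩, ?_⟩
      rw [h5.2, h3.1, h4.1, Fin.sum_univ_four]
      simp; ring
    · obtain ⟨⟨e, h3⟩, h3'⟩ := hd.left.alt j hs
      obtain ⟨⟨e', h4⟩, h4'⟩ := hd.right.alt j hs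
      have h5 := isPal_mul_mul (hd.isW (j + 1)) e e'
      have h6 : cS T 4 j = 0 := if_neg hs
      rw [h6]
      refine ⟨_, ![], h5.1, ⟨e, e', rfl, ⟨by simp [bit, h3, two_mul], h3'⟩,
        ⟨by simp [bit, h4, two_mul], h4'⟩⟩, ?_⟩
      rw [h5.2, h3, h4]
      simp; ring
  · rintro d d' hd - hd' - j - P r ⟨e, e', rfl, h3, h4⟩ ⟨f, f', h5, h6, h7⟩
    obtain ⟨h8, h9, h10⟩ := mul_mul_cancel h2 (hd.isW _) (hd'.isW _) h5
    obtain rfl : e = f := by omega
    obtain rfl : e' = f' := by omega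
    exact ⟨h3.1.trans h6.1.symm, h3.2.trans h6.2.symm, h4.1.trans h7.1.symm, h4.2.trans h7.2.symm,
      h10⟩

theorem card_dat_zero (h2 : (2 : F) ≠ 0) (N : ℕ) :
    Finite {d : Dat F // d.Ok T N ∧ ∀ j, Sym T j → d.a j = 0 ∧ d.b j = 0} ∧
    (Nat.card {d : Dat F // d.Ok T N ∧ ∀ j, Sym T j → d.a j = 0 ∧ d.b j = 0} : ℤ) ≤
      PowerSeries.coeff N (∏ j ∈ range N, lser (IsPal (F := F)) 0 j) := by
  refine card_dat_le (fun _ => IsPal) (fun _ _ h => h) (fun _ => 0) _ (fun d j P r => ∃ e e',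
    P = (X - C 1) ^ (2 * e) * ((X - C (-1)) ^ (2 * e') * seqOf d.t (j + 1)) ∧
      d.a j = 2 * e ∧ d.σ j = 1 ∧ d.b j = 2 * e' ∧ d.τ j = 1) (fun d hd h0 j _ => ?_) ?_
  · obtain ⟨e, e', h3, h3', h4, h4'⟩ : ∃ e e', d.a j = 2 * e ∧ d.σ j = 1 ∧ d.b j = 2 * e' ∧
        d.τ j = 1 := by
      by_cases hs : Sym T j
      · exact ⟨0, 0, (h0 j hs).1, hd.left.zero j (h0 j hs).1, (h0 j hs).2,
          hd.right.zero j (h0 j hs).2⟩
      · obtain ⟨⟨e, h3⟩, h3'⟩ := hd.left.alt j hs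
        obtain ⟨⟨e', h4⟩, h4'⟩ := hd.right.alt j hs
        exact ⟨e, e', by omega, h3', by omega, h4'⟩
    have h5 := isPal_mul_mul (hd.isW (j + 1)) e e'
    exact ⟨_, ![], h5.1, ⟨e, e', rfl, h3, h3', h4, h4'⟩, by rw [h5.2, h3, h4]; simp⟩
  · rintro d d' hd - hd' - j - P r ⟨e, e', rfl, h3, h3', h4, h4'⟩ ⟨f, f', h5, h6, h6', h7, h7'⟩
    obtain ⟨h8, h9, h10⟩ := mul_mul_cancel h2 (hd.isW _) (hd'.isW _) h5
    exact ⟨by omega, h3'.trans h6'.symm, by omega, h4'.trans h7'.symm, h10⟩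

/-- The polynomials allowed in a layer without repeated symmetric blocks. -/
def YW (T : FormType F) (j : ℕ) (P : F[X]) : Prop := IsPal P ∧ (Sym T j → IsW P)

theorem card_dat_rigid (h2 : (2 : F) ≠ 0) (N : ℕ) (ρ : ℕ → ℤˣ) :
    Finite {d : Dat F // d.Ok T N ∧ ∀ j, Sym T j → (d.a j = 0 ∨ d.a j = 1 ∧ d.σ j = ρ j) ∧
      (d.b j = 0 ∨ d.b j = 1 ∧ d.τ j = ρ j)} ∧
    (Nat.card {d : Dat F // d.Ok T N ∧ ∀ j, Sym T j → (d.a j = 0 ∨ d.a j = 1 ∧ d.σ j = ρ j) ∧
      (d.b j = 0 ∨ d.b j = 1 ∧ d.τ j = ρ j)} : ℤ) ≤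
      PowerSeries.coeff N (∏ j ∈ range N, lser (YW T j) (cS T 2 j) j) := by
  refine card_dat_le (YW T) (fun _ _ h => h.1) (cS T 2) _ (fun d j P r => ∃ e e',
    P = (X - C 1) ^ (2 * e) * ((X - C (-1)) ^ (2 * e') * seqOf d.t (j + 1)) ∧
      d.a j = 2 * e + (bit r 0).toNat ∧ d.b j = 2 * e' + (bit r 1).toNat)
    (fun d hd h0 j _ => ?_) ?_
  · by_cases hs : Sym T j
    · have h6 : cS T 2 j = 2 := if_pos hs
      rw [h6]
      obtain ⟨r₀, h3⟩ : ∃ r : Bool, d.a j = r.toNat := by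
        rcases (h0 j hs).1 with h | h
        exacts [⟨false, h⟩, ⟨true, h.1⟩]
      obtain ⟨r₁, h4⟩ : ∃ r : Bool, d.b j = r.toNat := by
        rcases (h0 j hs).2 with h | h
        exacts [⟨false, h⟩, ⟨true, h.1⟩]
      exact ⟨_, ![r₀, r₁], ⟨(hd.isW (j + 1)).isPal, fun _ => hd.isW _⟩,
        ⟨0, 0, by simp, by simp [bit, h3], by simp [bit, h4]⟩, by simp [h3, h4, add_comm]⟩
    · obtain ⟨⟨e, h3⟩, h3'⟩ := hd.left.alt j hs
      obtain ⟨⟨e', h4⟩, h4'⟩ := hd.right.alt j hs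
      have h5 := isPal_mul_mul (hd.isW (j + 1)) e e'
      have h6 : cS T 2 j = 0 := if_neg hs
      rw [h6]
      refine ⟨_, ![], ⟨h5.1, fun h => absurd h hs⟩, ⟨e, e', rfl, by simp [bit, h3, two_mul],
        by simp [bit, h4, two_mul]⟩, ?_⟩
      rw [h5.2, h3, h4]
      simp; ring
  · rintro d d' hd h0 hd' h0' j - P r ⟨e, e', rfl, h3, h4⟩ ⟨f, f', h5, h6, h7⟩
    obtain ⟨h8, h9, h10⟩ := mul_mul_cancel h2 (hd.isW _) (hd'.isW _) h5
    have h11 : d.a j = d'.a j := by omega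
    have h12 : d.b j = d'.b j := by omega
    refine ⟨h11, ?_, h12, ?_, h10⟩ <;> by_cases hs : Sym T j
    · rcases (h0 j hs).1 with h | h
      · rw [hd.left.zero j h, hd'.left.zero j (h11 ▸ h)]
      · rw [h.2, ((h0' j hs).1.resolve_left (by omega)).2]
    · rw [(hd.left.alt j hs).2, (hd'.left.alt j hs).2]
    · rcases (h0 j hs).2 with h | h
      · rw [hd.right.zero j h, hd'.right.zero j (h12 ▸ h)]
      · rw [h.2, ((h0' j hs).2.resolve_left (by omega)).2]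
    · rw [(hd.right.alt j hs).2, (hd'.right.alt j hs).2]

end Enc

/-! ### Bounds for the coefficients -/

section Bound

variable [Fintype F] {x : ℝ} (hx : 0 ≤ x) (hq : Fintype.card F * x ^ 2 = 1)
include hq

theorem lt_one_of_card (hx : 0 ≤ x) : x < 1 := by
  have : (2 : ℝ) ≤ Fintype.card F := by exact_mod_cast Fintype.one_lt_card
  nlinarith

theorem card_pow_mul (d : ℕ) : (Fintype.card F : ℝ) ^ d * x ^ (2 * d) = 1 := by
  rw [pow_mul, ← mul_pow, hq, one_pow]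

include hx

theorem gd_lser {Y : F[X] → Prop} (hY : ∀ P, Y P → IsPal P) (h1 : Y 1) {ω : ℝ} (hω : 0 ≤ ω)
    (h : ∀ d, (Nat.card {P : {P // Y P} // hdg P = d + 1} : ℝ) ≤ ω * Fintype.card F ^ (d + 1))
    (m c j : ℕ) : Gd x m (lser Y c (j + 1)) (fA c ω x j) := by
  refine Gd.mul hx (gd_ser_mul hx _ (by omega) hω (by positivity)
    (pow_lt_one₀ hx (lt_one_of_card hq hx) (by omega)) (card_hdg_zero hY h1) fun d => ?_)
    ((gd_one_add hx (by omega)).pow hx c)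
  refine (mul_le_mul_of_nonneg_right (h d) (by positivity)).trans (le_of_eq ?_)
  have h2 : x ^ (2 * (j + 1 + 1) * (d + 1)) = x ^ (2 * (d + 1)) * (x ^ (2 * j + 2)) ^ (d + 1) := by
    ring
  rw [h2, mul_assoc, ← mul_assoc ((Fintype.card F : ℝ) ^ _), card_pow_mul hq, one_mul]

theorem coeff_prod_le (Y : ℕ → F[X] → Prop) (hY : ∀ j P, Y j P → IsPal P) (h1 : ∀ j, Y j 1)
    (c : ℕ → ℕ) {ω : ℕ → ℝ} (hω : ∀ j, 0 ≤ ω j) (h : ∀ j d,
      (Nat.card {P : {P // Y (j + 1) P} // hdg P = d + 1} : ℝ) ≤ ω j * Fintype.card F ^ (d + 1))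
    {M M₀ : ℝ} (hM : 0 ≤ M) (n : ℕ) (h2 : ∀ k, nc x (lser (Y 0) (c 0) 0) k ≤ M)
    (h3 : nc x (lser (Y 0) (c 0) 0) (n + 1) ≤ M₀) :
    nc x (∏ j ∈ range (n + 1), lser (Y j) (c j) j) (n + 1) ≤
      M₀ + M * (∏ j ∈ range n, fA (c (j + 1)) (ω j) x j - 1) := by
  rw [prod_range_succ', mul_comm]
  exact nc_mul_le hx (Gd.prod hx fun j _ => gd_lser hx hq (hY _) (h1 _) (hω j) (h j) _ _ _) hM h2 h3

theorem nc_ser_even {Y : F[X] → Prop} {ω : ℝ} {d : ℕ}
    (h : (Nat.card {P : {P // Y P} // hdg P = d} : ℝ) ≤ ω * Fintype.card F ^ d) :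
    nc x (ser fun P : {P // Y P} => 2 * (0 + 1) * hdg P) (2 * d) ≤ ω := by
  rw [nc, coeff_ser_mul hdg (i := 2 * (0 + 1)) (by omega), Int.cast_natCast]
  refine (mul_le_mul_of_nonneg_right h (by positivity)).trans (le_of_eq ?_)
  rw [mul_assoc, card_pow_mul hq, mul_one]

omit [Fintype F] hx hq in
theorem nc_ser_odd {Y : F[X] → Prop} (d : ℕ) :
    nc x (ser fun P : {P // Y P} => 2 * (0 + 1) * hdg P) (2 * d + 1) = 0 := by
  rw [nc, coeff_ser_of_not_dvd hdg (by omega)]; simp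

theorem eo_ser {Y : F[X] → Prop} (hY : ∀ P, Y P → IsPal P) :
    EO x (ser fun P : {P // Y P} => 2 * (0 + 1) * hdg P) 1 0 := fun d =>
  ⟨nc_ser_even hx hq (by rw [one_mul]; exact_mod_cast card_hdg_le hY d), (nc_ser_odd d).le⟩

theorem eo_lser_zero : EO x (lser (IsPal (F := F)) 0 0) 1 0 := by
  rw [lser, pow_zero, mul_one]
  exact eo_ser hx hq fun _ h => h

theorem eo_lser_four :
    EO x (lser (IsPal (F := F)) 4 0) (1 + 6 * x ^ 2 + x ^ 4) (4 * x + 4 * x ^ 3) := by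
  have h := ((((eo_ser hx hq (Y := IsPal) fun _ h => h).one_add hx le_rfl).one_add hx
    (by positivity)).one_add hx (by positivity)).one_add hx (by positivity)
  rw [lser, pow_succ, pow_succ, pow_succ, pow_one, ← mul_assoc, ← mul_assoc, ← mul_assoc]
  convert h using 1 <;> ring

theorem coeff_pal_le (c : ℕ → ℕ) {M M₀ : ℝ} (hM : 0 ≤ M) (n : ℕ)
    (h2 : ∀ k, nc x (lser (IsPal (F := F)) (c 0) 0) k ≤ M)
    (h3 : nc x (lser (IsPal (F := F)) (c 0) 0) (n + 1) ≤ M₀) :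
    nc x (∏ j ∈ range (n + 1), lser (IsPal (F := F)) (c j) j) (n + 1) ≤
      M₀ + M * (∏ j ∈ range n, fA (c (j + 1)) 1 x j - 1) :=
  coeff_prod_le hx hq (fun _ => IsPal) (fun _ _ h => h) (fun _ => isPal_one) c
    (fun _ => zero_le_one) (fun _ d => by
      rw [one_mul]; exact_mod_cast card_hdg_le (fun _ h => h) (d + 1)) hM n h2 h3

end Bound

end CL.Nil
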