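import Mathlib
import Cfsg.Agent.KSG.ClsData

/-! Bounds for the class numbers of symplectic and orthogonal groups in odd characteristic. -/

set_option autoImplicit false

namespace CL.Nil

open Module CL.Witt CL.Witt.Form CL.GLn CL.SpU CL.Orth Polynomial Finset QuadraticMap

universe u

variable {F : Type u} [Field F]

/-! ### Numerical bounds -/

section Num

theorem num_sp (n : ℕ) :
    ∏ j ∈ range n, fA (if Odd (j + 1) then 4 else 0) 1 (5774 / 10000) j ≤ 54 / 5 := by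
  refine prod_fA_le (by norm_num) (by norm_num) (fun j => by split_ifs <;> omega)
    (fun _ => by norm_num) 10 (by norm_num) (by norm_num) ?_ n
  simp only [prod_range_succ, prod_range_zero, fA, Nat.odd_iff]
  norm_num

theorem num_four (n : ℕ) :
    ∏ j ∈ range n, fA (if Even (j + 1) then 4 else 0) 1 (5774 / 10000) j ≤ 533 / 100 := by
  refine prod_fA_le (by norm_num) (by norm_num) (fun j => by split_ifs <;> omega)
    (fun _ => by norm_num) 9 (by norm_num) (by norm_num) ?_ n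
  simp only [prod_range_succ, prod_range_zero, fA, Nat.even_iff]
  norm_num

theorem num_four' (n : ℕ) :
    ∏ j ∈ range n, fA (if Even (j + 1) then 4 else 0) 1 (4473 / 10000) j ≤ 218 / 100 := by
  refine prod_fA_le (by norm_num) (by norm_num) (fun j => by split_ifs <;> omega)
    (fun _ => by norm_num) 4 (by norm_num) (by norm_num) ?_ n
  simp only [prod_range_succ, prod_range_zero, fA, Nat.even_iff]
  norm_num

theorem num_zero (n : ℕ) : ∏ j ∈ range n, fA 0 1 (5774 / 10000) j ≤ 194 / 100 := by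
  refine prod_fA_le (c := fun _ => 0) (ω := fun _ => 1) (by norm_num) (by norm_num)
    (fun j => by omega) (fun _ => by norm_num) 7 (by norm_num) (by norm_num) ?_ n
  simp only [prod_range_succ, prod_range_zero, fA]
  norm_num

theorem num_two (n : ℕ) : ∏ j ∈ range n, fA (if Even (j + 1) then 2 else 0)
    (if Even (j + 1) then 4 / 9 else 1) (5774 / 10000) j ≤ 291 / 100 := by
  refine prod_fA_le (by norm_num) (by norm_num) (fun j => by split_ifs <;> omega)
    (fun _ => by split_ifs <;> norm_num) 9 (by norm_num) (by norm_num) ?_ n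
  simp only [prod_range_succ, prod_range_zero, fA, Nat.even_iff]
  norm_num

theorem cS_alt (h2 : (2 : F) ≠ 0) (c j : ℕ) :
    cS (FormType.alt F) c j = if Odd j then c else 0 := by
  simp only [cS, sym_alt h2]

theorem cS_quad (h2 : (2 : F) ≠ 0) (c j : ℕ) :
    cS (FormType.quad F) c j = if Even j then c else 0 := by
  simp only [cS, sym_quad h2]

variable [Fintype F]

theorem exists_x (F : Type u) [Field F] [Fintype F] :
    ∃ x : ℝ, 0 < x ∧ Fintype.card F * x ^ 2 = 1 := by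
  have h : (0 : ℝ) < Fintype.card F := by exact_mod_cast Fintype.card_pos
  exact ⟨(√(Fintype.card F))⁻¹, by positivity, by
    rw [inv_pow, Real.sq_sqrt h.le, mul_inv_cancel₀ h.ne']⟩

theorem three_le_card (h2 : (2 : F) ≠ 0) : 3 ≤ Fintype.card F := by
  classical
  have : #({0, 1, -1} : Finset F) = 3 := card_eq_three.2 ⟨0, 1, -1, zero_ne_one,
    by simp, fun h => h2 (by linear_combination h), rfl⟩
  exact this ▸ card_le_univ _

theorem card_eq_three_or (h2 : (2 : F) ≠ 0) : Fintype.card F = 3 ∨ 5 ≤ Fintype.card F := by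
  have h1 := three_le_card h2
  have h3 := FiniteField.odd_card_of_char_ne_two (ringChar_ne_two_of h2)
  omega

variable {x : ℝ} (hx : 0 < x) (hq : Fintype.card F * x ^ 2 = 1)
include hq

omit [Field F] in
theorem sq_le_of_le_card {c : ℕ} (hc : c ≤ Fintype.card F) : c * x ^ 2 ≤ 1 := by
  have : (c : ℝ) ≤ Fintype.card F := by exact_mod_cast hc
  nlinarith [sq_nonneg x]

theorem le_of_nc_even {k : ℕ} {f : PowerSeries ℤ} {n : ℕ} {B : ℝ}
    (h : (k : ℤ) ≤ PowerSeries.coeff (2 * n) f) (h' : nc x f (2 * n) ≤ B) :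
    (k : ℝ) ≤ B * Fintype.card F ^ n := by
  have h1 := card_pow_mul hq n
  have h2 : (k : ℝ) ≤ (PowerSeries.coeff (2 * n) f : ℤ) := by exact_mod_cast h
  have h3 : (0 : ℝ) ≤ Fintype.card F ^ n := by positivity
  have h4 := mul_le_mul_of_nonneg_right h' h3
  rw [nc, mul_assoc, mul_comm (x ^ _), h1, mul_one] at h4
  exact h2.trans h4

include hx

theorem le_of_nc_odd {k : ℕ} {f : PowerSeries ℤ} {n : ℕ} {B : ℝ}
    (h : (k : ℤ) ≤ PowerSeries.coeff (2 * n + 1) f) (h' : nc x f (2 * n + 1) ≤ x * B) :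
    (k : ℝ) ≤ B * Fintype.card F ^ n := by
  have h1 := card_pow_mul hq n
  have h2 : (k : ℝ) ≤ (PowerSeries.coeff (2 * n + 1) f : ℤ) := by exact_mod_cast h
  have h3 : (0 : ℝ) ≤ Fintype.card F ^ n := by positivity
  have h4 := mul_le_mul_of_nonneg_right h' h3
  rw [nc, pow_succ, mul_assoc, mul_right_comm, mul_comm (x ^ _), h1, one_mul, mul_assoc,
    mul_comm x] at h4
  exact h2.trans (le_of_mul_le_mul_right h4 hx)

theorem x_le (h2 : (2 : F) ≠ 0) : x ≤ 5774 / 10000 := by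
  have := sq_le_of_le_card hq (three_le_card h2)
  push_cast at this
  nlinarith

omit hx hq in
theorem sub_le_of_sub {P C r : ℝ} (h : P - 1 ≤ r * (C - 1)) (hr : r ≤ 1) (hC : 1 ≤ C) :
    P - 1 ≤ C - 1 := h.trans (mul_le_of_le_one_left (by linarith) hr)

omit hx hq in
theorem card_all_alt (h2 : (2 : F) ≠ 0) {n : ℕ} (hn : 1 ≤ n) :
    (Nat.card {d : Dat F // d.Ok (FormType.alt F) (2 * n) ∧ True} : ℝ) ≤
      54 / 5 * Fintype.card F ^ n := by
  obtain ⟨x, hx, hq⟩ := exists_x F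
  have h1 := x_le hx hq h2
  refine le_of_nc_even hq (card_dat_all h2 _).2 ?_
  obtain ⟨m, hm⟩ : ∃ m, 2 * n = m + 1 := ⟨2 * n - 1, by omega⟩
  have h3 := (eo_lser_zero hx.le hq).le le_rfl zero_le_one
  have h4 : cS (FormType.alt F) 4 0 = 0 := by simp [cS_alt h2]
  rw [hm]
  refine (coeff_pal_le hx.le hq _ (M₀ := 1) zero_le_one m (by rw [h4]; exact h3)
    (by rw [h4]; exact h3 _)).trans ?_
  simp only [cS_alt h2]
  have h5 := sub_le_of_sub (prod_fA_sub hx.le h1 (by norm_num) (by norm_num)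
    (fun _ => zero_le_one) (num_sp m)) ((div_le_one (by norm_num)).2 h1) (by norm_num)
  linarith

omit hx hq in
theorem card_zero_le {T : FormType F} (h2 : (2 : F) ≠ 0) {n : ℕ} (hn : 1 ≤ n) :
    (Nat.card {d : Dat F // d.Ok T (2 * n) ∧ ∀ j, Sym T j → d.a j = 0 ∧ d.b j = 0} : ℝ) ≤
      194 / 100 * Fintype.card F ^ n := by
  obtain ⟨x, hx, hq⟩ := exists_x F
  have h1 := x_le hx hq h2
  refine le_of_nc_even hq (card_dat_zero h2 _).2 ?_
  obtain ⟨m, hm⟩ : ∃ m, 2 * n = m + 1 := ⟨2 * n - 1, by omega⟩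
  have h3 := (eo_lser_zero hx.le hq).le le_rfl zero_le_one
  rw [hm]
  refine (coeff_pal_le hx.le hq (fun _ => 0) zero_le_one m h3 (h3 _)).trans ?_
  have h5 := sub_le_of_sub (prod_fA_sub (c := fun _ => 0) (ω := fun _ => 1) hx.le h1 (by norm_num)
    (by norm_num) (fun _ => zero_le_one) (num_zero m)) ((div_le_one (by norm_num)).2 h1)
    (by norm_num)
  linarith

theorem nc_all_quad (h2 : (2 : F) ≠ 0) {x₀ C M M₀ : ℝ} (h0 : x ≤ x₀) (h1 : x₀ < 1)
    (hC : ∀ n, ∏ j ∈ range n, fA (if Even (j + 1) then 4 else 0) 1 x₀ j ≤ C)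
    (hM : 1 + 6 * x ^ 2 + x ^ 4 ≤ M) (hM' : 4 * x + 4 * x ^ 3 ≤ M) (m : ℕ)
    (hM₀ : nc x (lser (IsPal (F := F)) 4 0) (m + 1) ≤ M₀) :
    nc x (∏ j ∈ range (m + 1), lser (IsPal (F := F)) (cS (FormType.quad F) 4 j) j) (m + 1) ≤
      M₀ + M * (x / x₀ * (C - 1)) := by
  have h3 := (eo_lser_four hx.le hq).le hM hM'
  have h4 : cS (FormType.quad F) 4 0 = 4 := by simp [cS_quad h2]
  have h5 : 0 ≤ M := le_trans (by positivity) hM
  refine (coeff_pal_le hx.le hq _ (M₀ := M₀) h5 m (by rw [h4]; exact h3)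
    (by rw [h4]; exact hM₀)).trans ?_
  simp only [cS_quad h2]
  exact add_le_add_right (mul_le_mul_of_nonneg_left (prod_fA_sub hx.le h0 (hx.trans_le h0) h1
    (fun _ => zero_le_one) (hC m)) h5) _

omit hx hq in
theorem card_all_even (h2 : (2 : F) ≠ 0) {n : ℕ} (hn : 1 ≤ n) :
    (Nat.card {d : Dat F // d.Ok (FormType.quad F) (2 * n) ∧ True} : ℝ) ≤
      166 / 10 * Fintype.card F ^ n := by
  obtain ⟨x, hx, hq⟩ := exists_x F
  have h1 := x_le hx hq h2
  have h3 := sq_le_of_le_card hq (three_le_card h2)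
  push_cast at h3
  refine le_of_nc_even hq (card_dat_all h2 _).2 ?_
  obtain ⟨m, hm⟩ : ∃ m, 2 * n = m + 1 := ⟨2 * n - 1, by omega⟩
  have h4 : 1 + 6 * x ^ 2 + x ^ 4 ≤ 3112 / 1000 := by nlinarith
  have h5 : 4 * x + 4 * x ^ 3 ≤ 3112 / 1000 := by nlinarith
  rw [hm]
  refine (nc_all_quad hx hq h2 h1 (by norm_num) num_four h4 h5 m
    ((eo_lser_four hx.le hq).le h4 h5 _)).trans ?_
  have h6 : x / (5774 / 10000) ≤ 1 := (div_le_one (by norm_num)).2 h1
  nlinarith

omit hx hq in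
theorem card_all_odd (h2 : (2 : F) ≠ 0) (n : ℕ) :
    (Nat.card {d : Dat F // d.Ok (FormType.quad F) (2 * n + 1) ∧ True} : ℝ) ≤
      2868 / 100 * Fintype.card F ^ n := by
  obtain ⟨x, hx, hq⟩ := exists_x F
  have h1 := x_le hx hq h2
  have h3 := sq_le_of_le_card hq (three_le_card h2)
  push_cast at h3
  refine le_of_nc_odd hx hq (card_dat_all h2 _).2 ?_
  have h4 : 1 + 6 * x ^ 2 + x ^ 4 ≤ 3112 / 1000 := by nlinarith
  have h5 : 4 * x + 4 * x ^ 3 ≤ 3112 / 1000 := by nlinarith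
  refine (nc_all_quad hx hq h2 h1 (by norm_num) num_four h4 h5 _
    (eo_lser_four hx.le hq n).2).trans ?_
  nlinarith

omit hx hq in
theorem card_all_odd' (h2 : (2 : F) ≠ 0) (h5 : 5 ≤ Fintype.card F) (n : ℕ) :
    (Nat.card {d : Dat F // d.Ok (FormType.quad F) (2 * n + 1) ∧ True} : ℝ) ≤
      12 * Fintype.card F ^ n := by
  obtain ⟨x, hx, hq⟩ := exists_x F
  have h3 := sq_le_of_le_card hq h5
  push_cast at h3
  have h1 : x ≤ 4473 / 10000 := by nlinarith
  refine le_of_nc_odd hx hq (card_dat_all h2 _).2 ?_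
  have h4 : 1 + 6 * x ^ 2 + x ^ 4 ≤ 224 / 100 := by nlinarith
  have h5 : 4 * x + 4 * x ^ 3 ≤ 224 / 100 := by nlinarith
  refine (nc_all_quad hx hq h2 h1 (by norm_num) num_four' h4 h5 _
    (eo_lser_four hx.le hq n).2).trans ?_
  nlinarith

omit hx hq in
theorem card_YW_le (h2 : (2 : F) ≠ 0) (h3 : Fintype.card F = 3) (j d : ℕ) :
    (Nat.card {P : {P // YW (FormType.quad F) j P} // hdg P = d + 1} : ℝ) ≤
      (if Even j then 4 / 9 else 1) * Fintype.card F ^ (d + 1) := by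
  split_ifs with h
  · have h1 : YW (FormType.quad F) j = IsW :=
      funext fun P => propext ⟨fun h' => h'.2 ((sym_quad h2).2 h), fun h' => ⟨h'.isPal, fun _ => h'⟩⟩
    rw [h1]
    refine (card_hdg_W h2 d).trans (le_of_eq ?_)
    rw [h3]; norm_num
  · rw [one_mul]
    exact_mod_cast card_hdg_le (Y := YW (FormType.quad F) j) (fun _ h => h.1) (d + 1)

omit hx hq in
theorem card_rigid_le (h2 : (2 : F) ≠ 0) (h3 : Fintype.card F = 3) {n : ℕ} (hn : 1 ≤ n)
    (ρ : ℕ → ℤˣ) : (Nat.card {d : Dat F // d.Ok (FormType.quad F) (2 * n + 1) ∧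
      ∀ j, Sym (FormType.quad F) j → (d.a j = 0 ∨ d.a j = 1 ∧ d.σ j = ρ j) ∧
        (d.b j = 0 ∨ d.b j = 1 ∧ d.τ j = ρ j)} : ℝ) ≤ 471 / 100 * Fintype.card F ^ n := by
  obtain ⟨x, hx, hq⟩ := exists_x F
  have h1 := x_le hx hq h2
  have h4 : 3 * x ^ 2 = 1 := by rw [h3] at hq; exact_mod_cast hq
  refine le_of_nc_odd hx hq (card_dat_rigid h2 _ ρ).2 ?_
  have h5 : cS (FormType.quad F) 2 0 = 2 := by simp [cS_quad h2]
  set W := ser fun P : {P // YW (FormType.quad F) 0 P} => 2 * (0 + 1) * hdg P with hW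
  have h6 : lser (YW (FormType.quad F) 0) (cS (FormType.quad F) 2 0) 0 =
      W * (1 + PowerSeries.X ^ 1) * (1 + PowerSeries.X ^ 1) := by
    rw [h5, lser, pow_two, mul_assoc]
  have h7 : ∀ d, nc x W (2 * d + 1) = 0 := nc_ser_odd
  have h8 : ∀ d, nc x W (2 * d) ≤ 1 := fun d => (eo_ser hx.le hq (fun _ h => h.1) d).1
  have h9 : ∀ d, nc x W (2 * (d + 1)) ≤ 4 / 9 := fun d =>
    nc_ser_even hx.le hq (by simpa using card_YW_le h2 h3 0 d)
  have h10 : ∀ d, nc x (W * (1 + PowerSeries.X ^ 1) * (1 + PowerSeries.X ^ 1)) (2 * d + 1) =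
      2 * x * nc x W (2 * d) := fun d => by
    rw [nc_mul_one_add_succ, nc_mul_one_add_succ, h7]
    rcases d with _ | d
    · rw [mul_zero, nc_mul_one_add_zero]; ring
    · rw [show 2 * (d + 1) = 2 * d + 1 + 1 by ring, nc_mul_one_add_succ, h7]; ring
  have h11 : ∀ k, nc x (W * (1 + PowerSeries.X ^ 1) * (1 + PowerSeries.X ^ 1)) k ≤
      11548 / 10000 := fun k => by
    obtain ⟨d, rfl | rfl⟩ := k.even_or_odd'
    · rcases d with _ | d
      · rw [mul_zero, nc_mul_one_add_zero, nc_mul_one_add_zero]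
        exact (h8 0).trans (by norm_num)
      · have h12 := h9 d
        have h13 := mul_le_mul_of_nonneg_left (h8 d) (sq_nonneg x)
        rw [show 2 * (d + 1) = 2 * d + 1 + 1 by ring] at h12 ⊢
        rw [nc_mul_one_add_succ, nc_mul_one_add_succ, nc_mul_one_add_succ, h7]
        nlinarith
    · rw [h10]
      nlinarith [h8 d]
  have h12 : nc x (W * (1 + PowerSeries.X ^ 1) * (1 + PowerSeries.X ^ 1)) (2 * n + 1) ≤
      2 * x * (4 / 9) := by
    obtain ⟨d, rfl⟩ : ∃ d, n = d + 1 := ⟨n - 1, by omega⟩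
    rw [h10]
    exact mul_le_mul_of_nonneg_left (h9 d) (by positivity)
  refine (coeff_prod_le hx.le hq (YW (FormType.quad F)) (fun _ _ h => h.1)
    (fun _ => ⟨isPal_one, fun _ => isW_one⟩) _ (ω := fun j => if Even (j + 1) then 4 / 9 else 1)
    (M := 11548 / 10000) (M₀ := 2 * x * (4 / 9))
    (fun j => by split_ifs <;> norm_num) (fun j d => card_YW_le h2 h3 _ d) (by norm_num) _
    (by rw [h6]; exact h11) (by rw [h6]; exact h12)).trans ?_
  simp only [cS_quad h2]
  have h13 := prod_fA_sub hx.le h1 (by norm_num) (by norm_num)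
    (fun j => by split_ifs <;> norm_num) (num_two (2 * n))
  nlinarith

end Num

/-! ### Symplectic groups -/

section Sp

/-- An element of the symplectic group as a space with an operator. -/
noncomputable abbrev spFS {n : ℕ} (g : Matrix.symplecticGroup (Fin n) F) : FS (FormType.alt F) where
  V := Fin n ⊕ Fin n → F
  f := Sp.spForm n F
  nd := Sp.spForm_nondeg n F
  A := Matrix.toLin' g.1

theorem dim_spFS {n : ℕ} (g : Matrix.symplecticGroup (Fin n) F) : (spFS g).dim = 2 * n :=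
  Sp.finrank_sp n F

variable [Fintype F]

theorem card_classes_sp_le (h2 : (2 : F) ≠ 0) {n : ℕ} (hn : 1 ≤ n) :
    5 * Nat.card (ConjClasses (Matrix.symplecticGroup (Fin n) F)) ≤ 54 * Fintype.card F ^ n := by
  have := (card_dat_all (T := FormType.alt F) h2 (2 * n)).1
  have h1 := card_classes_le_of_rel (G := Matrix.symplecticGroup (Fin n) F)
    (D := {d : Dat F // d.Ok (FormType.alt F) (2 * n) ∧ True}) (fun _ => True)
    (fun g d => HasDat (good_alt h2) (2 * n) (spFS g) d.1) (fun g _ => by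
      obtain ⟨d, h3, h4⟩ := exists_dat (good_alt h2) (spFS g) (isIsom_sp g) (dim_spFS g)
      exact ⟨⟨d, h3, trivial⟩, h4⟩) fun g h d h3 h4 => (isConj_sp_iff g h).2 (GD.iso h3 h4)
  rw [card_classes_true] at h1
  have h3 := card_all_alt h2 hn
  have h4 : (Nat.card (ConjClasses (Matrix.symplecticGroup (Fin n) F)) : ℝ) ≤ _ :=
    le_trans (by exact_mod_cast h1) h3
  have h5 : (5 * Nat.card (ConjClasses (Matrix.symplecticGroup (Fin n) F)) : ℝ) ≤
      54 * Fintype.card F ^ n := by linarith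
  exact_mod_cast h5

theorem le_card_classes_sp (n : ℕ) :
    Fintype.card F ^ n ≤ Nat.card (ConjClasses (Matrix.symplecticGroup (Fin n) F)) := by
  classical
  rw [← card_palindromic]
  refine card_le_card_classes (fun g => g.1.charpoly) (fun g h hc => charpoly_eq_of_isConj
    ((Matrix.symplecticGroup (Fin n) F).subtype.map_isConj hc)) (fun f => f.1)
    Subtype.val_injective fun f => ?_
  obtain ⟨g, -, hg⟩ := exists_sp_of_palindromic f.2.1 f.2.2.1 f.2.2.2
  exact ⟨g, hg⟩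

end Sp

/-! ### Orthogonal groups: upper bounds -/

section Orth

variable {V : Type u} [AddCommGroup V] [Module F V] [FiniteDimensional F V] {Q : QuadraticForm F V}
  (hQ : (polarBilin Q).Nondegenerate)

/-- An element of the orthogonal group as a space with an operator. -/
abbrev oFS (g : Orth.O Q) : FS (FormType.quad F) where
  V := V
  f := ofQuad Q
  nd := (ofQuad_nondeg_iff Q).2 hQ
  A := toEnd Q g

theorem isConj_of_iso {g h : Orth.O Q} (e : (oFS hQ g).Iso (oFS hQ h)) : IsConj g h := by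
  obtain ⟨u, hu, hu'⟩ := e
  refine isConj_iff.2 ⟨⟨u, hu.q_eq⟩, O_ext fun v => ?_⟩
  obtain ⟨w, rfl⟩ := u.surjective v
  change u (g.1 (u.symm (u w))) = _
  rw [u.symm_apply_apply]
  exact hu' w

theorem exists_of_cent [Finite F] {g : Orth.O Q} {d t : ℤˣ} (h : (oFS hQ g).Cent d t) :
    ∃ c : Orth.O Q, Commute g c ∧ dsign c = d ∧ spin c = t := by
  obtain ⟨c, h1, h2⟩ := h
  exact ⟨c, O_ext fun v => LinearMap.congr_fun h1.symm.eq v, h2⟩

omit [FiniteDimensional F V] in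
theorem finite_O [Finite F] [Finite V] : Finite (Orth.O Q) :=
  Finite.of_injective (fun g : Orth.O Q => (g.1 : V → V)) fun _ _ h => O_ext (congrFun h)

/-- Changing the sign of a non-zero symmetric layer. -/
noncomputable def flipS (a : ℕ → ℕ) (σ : ℕ → ℤˣ) (j : ℕ) : ℤˣ :=
  (if j = Classical.epsilon fun j => Even j ∧ a j ≠ 0 then -1 else 1) * σ j

theorem flipS_injective (a : ℕ → ℕ) : Function.Injective (flipS a) :=
  fun _ _ h => funext fun j => mul_left_cancel (congrFun h j)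

theorem OkS.flipS (h2 : (2 : F) ≠ 0) {N : ℕ} {a : ℕ → ℕ} {σ : ℕ → ℤˣ}
    (h : OkS (FormType.quad F) N a σ) (h0 : ∃ j, Even j ∧ a j ≠ 0) :
    OkS (FormType.quad F) N a (flipS a σ) ∧ ∀ τ : ℕ → ℤˣ,
      ∏ j ∈ range N, (flipS a σ j * τ j) ^ (j + 1) = -∏ j ∈ range N, (σ j * τ j) ^ (j + 1) := by
  have h1 := Classical.epsilon_spec h0
  refine ⟨⟨h.top, fun j hj => ⟨(h.alt j hj).1, ?_⟩, fun j hj => ?_⟩, fun τ => ?_⟩
  · rw [Nil.flipS, if_neg fun h3 => hj ((sym_quad h2).2 (by rw [h3]; exact h1.1)), (h.alt j hj).2,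
      one_mul]
  · rw [Nil.flipS, if_neg fun h3 => h1.2 (by rw [← h3]; exact hj), h.zero j hj, one_mul]
  · simp only [Nil.flipS, mul_assoc]
    simp only [mul_pow _ (_ * _), prod_mul_distrib, ite_pow, one_pow]
    rw [prod_ite_eq', if_pos (mem_range.2 (not_le.1 fun h3 => h1.2 (h.top _ h3))),
      h1.1.add_one.neg_one_pow, neg_one_mul]

open Classical in
/-- Changing one sign. -/
noncomputable def flp (d : Dat F) : Dat F :=
  if ∃ j, Even j ∧ d.a j ≠ 0 then { d with σ := flipS d.a d.σ } else { d with τ := flipS d.b d.τ }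

theorem flp_a (d : Dat F) : (flp d).a = d.a := by rw [flp]; split_ifs <;> rfl

theorem flp_b (d : Dat F) : (flp d).b = d.b := by rw [flp]; split_ifs <;> rfl

theorem flp_t (d : Dat F) : (flp d).t = d.t := by rw [flp]; split_ifs <;> rfl

theorem flp_injective : Function.Injective (flp (F := F)) := by
  intro d d' h
  have h1 : d.a = d'.a := by rw [← flp_a, h, flp_a]
  have h2 : d.b = d'.b := by rw [← flp_b, h, flp_b]
  have h3 : d.t = d'.t := by rw [← flp_t, h, flp_t]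
  obtain ⟨a, σ, b, τ, t⟩ := d
  obtain ⟨a', σ', b', τ', t'⟩ := d'
  dsimp only at h1 h2 h3
  subst h1 h2 h3
  simp only [flp] at h
  split_ifs at h <;> simp only [Dat.mk.injEq, true_and, and_true] at h
  · exact Dat.ext rfl (flipS_injective _ h.1) rfl h.2 rfl
  · exact Dat.ext rfl h.1 rfl (flipS_injective _ h.2) rfl

theorem Dat.Ok.flp (h2 : (2 : F) ≠ 0) {N : ℕ} {d : Dat F} (h : d.Ok (FormType.quad F) N)
    (h0 : ¬ ∀ j, Sym (FormType.quad F) j → d.a j = 0 ∧ d.b j = 0) :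
    (flp d).Ok (FormType.quad F) N ∧ ∏ j ∈ range N, ((flp d).σ j * (flp d).τ j) ^ (j + 1) =
      -∏ j ∈ range N, (d.σ j * d.τ j) ^ (j + 1) := by
  rw [Nil.flp]
  split_ifs with h1
  · exact ⟨⟨(h.left.flipS h2 h1).1, h.right, h.isED, h.mem, h.isW, h.dim⟩, (h.left.flipS h2 h1).2 _⟩
  · have h3 : ∃ j, Even j ∧ d.b j ≠ 0 := by
      by_contra h3
      push Not at h1 h3
      exact h0 fun j hj => ⟨h1 j ((sym_quad h2).1 hj), h3 j ((sym_quad h2).1 hj)⟩
    refine ⟨⟨h.left, (h.right.flipS h2 h3).1, h.isED, h.mem, h.isW, h.dim⟩, ?_⟩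
    simpa only [mul_comm] using (h.right.flipS h2 h3).2 d.σ

variable [Fintype F]
include hQ

theorem two_mul_card_classes_le (h2 : (2 : F) ≠ 0) {N : ℕ} (hN : finrank F V = N) :
    2 * Nat.card (ConjClasses (Orth.O Q)) ≤
      Nat.card {d : Dat F // d.Ok (FormType.quad F) N ∧ True} +
        Nat.card {d : Dat F // d.Ok (FormType.quad F) N ∧
          ∀ j, Sym (FormType.quad F) j → d.a j = 0 ∧ d.b j = 0} := by
  have := (card_dat_all (T := FormType.quad F) h2 N).1
  have := (card_dat_zero (T := FormType.quad F) h2 N).1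
  rw [← Nat.card_sum, ← Fintype.card_bool, ← Nat.card_eq_fintype_card, ← Nat.card_prod]
  refine card_le_of_rel (fun x y => ∃ g d, ConjClasses.mk g = x.2 ∧
    HasDat (good_quad h2) N (oFS hQ g) d ∧ d.Ok (FormType.quad F) N ∧ Sum.elim
      (fun y => x.1 = false ∧ y.1 = d ∨ x.1 = true ∧
        (¬ ∀ j, Sym (FormType.quad F) j → d.a j = 0 ∧ d.b j = 0) ∧ y.1 = flp d)
      (fun y => x.1 = true ∧ y.1 = d) y) ?_ ?_
  · rintro ⟨ε, C⟩
    obtain ⟨g, rfl⟩ := C.exists_rep
    obtain ⟨d, h3, h4⟩ := exists_dat (good_quad h2) (oFS hQ g) (isIsom_toEnd g) hN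
    cases ε
    · exact ⟨.inl ⟨d, h3, trivial⟩, g, d, rfl, h4, h3, .inl ⟨rfl, rfl⟩⟩
    · by_cases h5 : ∀ j, Sym (FormType.quad F) j → d.a j = 0 ∧ d.b j = 0
      · exact ⟨.inr ⟨d, h3, h5⟩, g, d, rfl, h4, h3, rfl, rfl⟩
      · exact ⟨.inl ⟨flp d, (h3.flp h2 h5).1, trivial⟩, g, d, rfl, h4, h3, .inr ⟨rfl, h5, rfl⟩⟩
  · have key : ∀ {g g' : Orth.O Q} {d : Dat F}, HasDat (good_quad h2) N (oFS hQ g) d →
        HasDat (good_quad h2) N (oFS hQ g') d → ConjClasses.mk g = ConjClasses.mk g' :=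
      fun h h' => ConjClasses.mk_eq_mk_iff_isConj.2 (isConj_of_iso hQ (GD.iso h h'))
    have key' : ∀ {g g' : Orth.O Q} {d : Dat F}, HasDat (good_quad h2) N (oFS hQ g) (flp d) →
        HasDat (good_quad h2) N (oFS hQ g') d → d.Ok (FormType.quad F) N →
        ∀ j, Sym (FormType.quad F) j → d.a j = 0 ∧ d.b j = 0 := fun {g g' d} h h' hd => by
      by_contra h0
      rw [HasDat, flp_a, flp_b, flp_t] at h
      have h5 := GD.prod_sign_eq h h' rfl
      rw [(hd.flp h2 h0).2] at h5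
      exact neg_units_ne_self _ h5
    rintro ⟨ε, C⟩ ⟨ε', C'⟩ y ⟨g, d, rfl, h3, h4, h5⟩ ⟨g', d', rfl, h3', h4', h5'⟩
    rcases y with y | y
    · rcases h5 with ⟨rfl, h5⟩ | ⟨rfl, h6, h5⟩ <;> rcases h5' with ⟨rfl, h5'⟩ | ⟨rfl, h6', h5'⟩
      · obtain rfl := h5.symm.trans h5'
        exact Prod.ext rfl (key h3 h3')
      · obtain rfl := h5.symm.trans h5'
        exact absurd (key' h3 h3' h4') h6'
      · obtain rfl := h5'.symm.trans h5
        exact absurd (key' h3' h3 h4) h6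
      · obtain rfl := flp_injective (h5.symm.trans h5')
        exact Prod.ext rfl (key h3 h3')
    · obtain ⟨rfl, h5⟩ := h5
      obtain ⟨rfl, h5'⟩ := h5'
      obtain rfl := h5.symm.trans h5'
      exact Prod.ext rfl (key h3 h3')

theorem card_classes_O_even_le (h2 : (2 : F) ≠ 0) {n : ℕ} (hn : 1 ≤ n) (hN : finrank F V = 2 * n) :
    2 * Nat.card (ConjClasses (Orth.O Q)) ≤ 19 * Fintype.card F ^ n := by
  have h1 := two_mul_card_classes_le hQ h2 hN
  have h3 := card_all_even h2 hn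
  have h4 := card_zero_le (T := FormType.quad F) h2 hn
  have h5 : (0 : ℝ) ≤ Fintype.card F ^ n := by positivity
  replace h1 := (Nat.cast_le (α := ℝ)).2 h1
  push_cast at h1
  have h6 : (2 * Nat.card (ConjClasses (Orth.O Q)) : ℝ) ≤ 19 * Fintype.card F ^ n := by linarith
  exact_mod_cast h6

theorem two_mul_card_classes_le_odd (h2 : (2 : F) ≠ 0) {n : ℕ} (hN : finrank F V = 2 * n + 1) :
    2 * Nat.card (ConjClasses (Orth.O Q)) ≤
      Nat.card {d : Dat F // d.Ok (FormType.quad F) (2 * n + 1) ∧ True} := by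
  have h1 := two_mul_card_classes_le hQ h2 hN
  have : IsEmpty {d : Dat F // d.Ok (FormType.quad F) (2 * n + 1) ∧
      ∀ j, Sym (FormType.quad F) j → d.a j = 0 ∧ d.b j = 0} := ⟨fun d => by
    refine Nat.not_even_iff_odd.2 (odd_two_mul_add_one n) ?_
    rw [d.2.1.dim]
    refine even_sum _ fun j _ => ?_
    rcases j.even_or_odd with h | h
    · obtain ⟨h3, h4⟩ := d.2.2 j ((sym_quad h2).2 h)
      rw [h3, h4, zero_add, zero_add]
      exact (d.2.1.isW _).even.mul_left _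
    · exact h.add_one.mul_right _⟩
  rwa [Nat.card_of_isEmpty (α := {d : Dat F // d.Ok (FormType.quad F) (2 * n + 1) ∧
      ∀ j, Sym (FormType.quad F) j → d.a j = 0 ∧ d.b j = 0}), add_zero] at h1

theorem card_rigid_classes_le (h2 : (2 : F) ≠ 0) {N : ℕ} (hN : finrank F V = N)
    (ψ : Orth.O Q →* ℤˣ) {s : ℤˣ} (hψ : ∀ c, dsign c = -1 → ψ c = spin c * s) :
    Nat.card {C : ConjClasses (Orth.O Q) // ∃ g, ConjClasses.mk g = C ∧
      ∀ h, Commute g h → ψ h = 1} ≤ Nat.card {d : Dat F // d.Ok (FormType.quad F) N ∧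
      ∀ j, Sym (FormType.quad F) j →
        (d.a j = 0 ∨ d.a j = 1 ∧ d.σ j = sqSign (2 : F) * kap F j 1 * s) ∧
        (d.b j = 0 ∨ d.b j = 1 ∧ d.τ j = sqSign (2 : F) * kap F j 1 * s)} := by
  have := (card_dat_rigid (T := FormType.quad F) h2 N fun j => sqSign (2 : F) * kap F j 1 * s).1
  refine card_classes_le_of_rel _ (fun g d => HasDat (good_quad h2) N (oFS hQ g) d.1)
    (fun g hg => ?_) fun g h d h3 h4 => isConj_of_iso hQ (GD.iso h3 h4)
  obtain ⟨d, h3, h4⟩ := exists_dat (good_quad h2) (oFS hQ g) (isIsom_toEnd g) hN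
  have key : ∀ {j : ℕ} {r : ℤˣ}, (oFS hQ g).Cent (-1) (sqSign (2 : F) * kap F j 1 * r) →
      r = sqSign (2 : F) * kap F j 1 * s := fun {j r} h => by
    obtain ⟨c, h5, h6, h7⟩ := exists_of_cent hQ h
    have h8 := hg c h5
    rw [hψ c h6, h7, mul_right_comm, mul_eq_one_iff_inv_eq, Int.units_inv_eq_self] at h8
    exact h8.symm
  have key' : ∀ {a : ℕ} {σ : ℤˣ} {j : ℕ}, (∀ r : ℤˣ, 2 ≤ a ∨ (a = 1 ∧ r = σ) →
      (oFS hQ g).Cent (-1) (sqSign (2 : F) * kap F j 1 * r)) →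
      a = 0 ∨ a = 1 ∧ σ = sqSign (2 : F) * kap F j 1 * s := fun {a σ j} h => by
    rcases (by omega : a = 0 ∨ a = 1 ∨ 2 ≤ a) with h5 | h5 | h5
    · exact .inl h5
    · exact .inr ⟨h5, key (h σ (.inr ⟨h5, rfl⟩))⟩
    · exact absurd ((key (h 1 (.inl h5))).trans (key (h (-1) (.inl h5))).symm) (by decide)
  refine ⟨⟨d, h3, fun j hj => ?_⟩, h4⟩
  rcases lt_or_ge j N with h5 | h5
  · exact ⟨key' fun r hr => GD.cent_left h4 h5 ((sym_quad h2).1 hj) hr,
      key' fun r hr => GD.cent_right h4 h5 ((sym_quad h2).1 hj) hr⟩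
  · exact ⟨.inl (h3.left.top j h5), .inl (h3.right.top j h5)⟩

theorem four_mul_card_classes_omega (h2 : (2 : F) ≠ 0) {n : ℕ} (hn : 1 ≤ n)
    (hN : finrank F V = 2 * n + 1) : ∃ (ψ : Orth.O Q →* ℤˣ) (s : ℤˣ),
      (∀ c, dsign c = -1 → ψ c = spin c * s) ∧
      4 * Nat.card (ConjClasses (commutator (Orth.O Q))) = Nat.card (ConjClasses (Orth.O Q)) +
        3 * Nat.card {C : ConjClasses (Orth.O Q) // ∃ g, ConjClasses.mk g = C ∧
          ∀ h, Commute g h → ψ h = 1} := by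
  have hF : Nat.card F ≠ 2 ∨ finrank F V ≠ 4 := .inr (by omega)
  have : Finite V := Module.finite_of_finite F
  have := finite_O (Q := Q)
  have h1 : dsign (negOne Q) = -1 := by rw [dsign_negOne h2, hN, pow_succ, pow_mul]; simp
  obtain ⟨ψ, h3, h4⟩ : ∃ ψ : Orth.O Q →* ℤˣ, (∀ c, dsign c = -1 → ψ c = spin c * spin (negOne Q)) ∧
      ∀ c, dsign c = 1 → ψ c = spin c := by
    rcases Int.units_eq_one_or (spin (negOne Q)) with h | h
    · exact ⟨spinor hQ hF, fun c _ => by rw [h, mul_one]; rfl, fun _ _ => rfl⟩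
    · exact ⟨spinor hQ hF * dickson hQ hF, fun c hc => by
        rw [MonoidHom.mul_apply, dickson_apply, hc, h]; rfl, fun c hc => by
        rw [MonoidHom.mul_apply, dickson_apply, hc, mul_one]; rfl⟩
  refine ⟨ψ, _, h3, ?_⟩
  obtain ⟨g, h5, h6⟩ := exists_dsign_spin_eq hQ h2 (by omega) 1 (-1)
  rw [← two_mul_card_conjClasses_ker ψ ⟨g, (h4 g h5).trans h6⟩]
  have h7 : negOne Q ∈ ψ.ker := by rw [MonoidHom.mem_ker, h3 _ h1, Int.units_mul_self]
  have h8 := two_mul_card_conjClasses_ker ((dickson hQ hF).comp ψ.ker.subtype) ⟨⟨_, h7⟩, h1⟩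
  have : IsEmpty {C : ConjClasses ψ.ker // ∃ g, ConjClasses.mk g = C ∧ ∀ h, Commute g h →
      (dickson hQ hF).comp ψ.ker.subtype h = 1} := ⟨fun ⟨_, g, _, hg⟩ => by
    have h9 := hg ⟨_, h7⟩ (Subtype.ext (O_ext fun v => map_neg g.1.1 v))
    exact absurd (h1.symm.trans h9) (by decide)⟩
  rw [Nat.card_of_isEmpty (α := {C : ConjClasses ψ.ker // ∃ g, ConjClasses.mk g = C ∧
    ∀ h, Commute g h → (dickson hQ hF).comp ψ.ker.subtype h = 1}), mul_zero, add_zero] at h8
  have h9 : ∀ c : commutator (Orth.O Q), dsign c.1 = 1 ∧ spin c.1 = 1 :=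
    fun c => (mem_commutator_iff hQ hF c.1).1 c.2
  let e : commutator (Orth.O Q) ≃* ((dickson hQ hF).comp ψ.ker.subtype).ker :=
    { toFun := fun c => ⟨⟨c.1, (h4 _ (h9 c).1).trans (h9 c).2⟩, (h9 c).1⟩
      invFun := fun c => ⟨c.1.1, (mem_commutator_iff hQ hF _).2 ⟨c.2, (h4 _ c.2).symm.trans c.1.2⟩⟩
      left_inv := fun _ => rfl
      right_inv := fun _ => rfl
      map_mul' := fun _ _ => rfl }
  rw [← h8, card_conjClasses_congr e]
  ring

theorem card_classes_omega_le (h2 : (2 : F) ≠ 0) {n : ℕ} (hn : 1 ≤ n)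
    (hN : finrank F V = 2 * n + 1) :
    10 * Nat.card (ConjClasses (commutator (Orth.O Q))) ≤ 73 * Fintype.card F ^ n := by
  obtain ⟨ψ, s, h1, h3⟩ := four_mul_card_classes_omega hQ h2 hn hN
  have h4 := two_mul_card_classes_le_odd hQ h2 hN
  have h5 : (0 : ℝ) ≤ Fintype.card F ^ n := by positivity
  suffices h : (10 * Nat.card (ConjClasses (commutator (Orth.O Q))) : ℝ) ≤
      73 * Fintype.card F ^ n by exact_mod_cast h
  replace h4 := (Nat.cast_le (α := ℝ)).2 h4
  rcases card_eq_three_or h2 with h6 | h6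
  · have h7 := (Nat.cast_le (α := ℝ)).2 (card_rigid_classes_le hQ h2 hN ψ h1)
    have h8 := card_rigid_le h2 h6 hn fun j => sqSign (2 : F) * kap F j 1 * s
    have h9 := card_all_odd h2 n
    replace h3 := congrArg (Nat.cast (R := ℝ)) h3
    push_cast at h3 h4
    linarith
  · have : Finite V := Module.finite_of_finite F
    have := finite_O (Q := Q)
    have h7 := (Nat.cast_le (α := ℝ)).2 (Finite.card_subtype_le fun C : ConjClasses (Orth.O Q) =>
      ∃ g, ConjClasses.mk g = C ∧ ∀ h, Commute g h → ψ h = 1)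
    have h9 := card_all_odd' h2 h6 n
    replace h3 := congrArg (Nat.cast (R := ℝ)) h3
    push_cast at h3 h4
    linarith

end Orth

/-! ### Orthogonal groups: lower bounds -/

section Lower

variable [Fintype F]

/-- There is an isometry of a space of dimension `N` and discriminant `s` with characteristic
polynomial `f`. -/
def Rl (N : ℕ) (f : F[X]) (s : ℤˣ) : Prop :=
  ∃ S : FS (FormType.quad F), IsIsom S.f S.f S.A ∧ S.dim = N ∧ S.A.charpoly = f ∧ S.dsc = s

theorem Rl.mul {N N' : ℕ} {f f' : F[X]} {s s' : ℤˣ} (h : Rl N f s) (h' : Rl N' f' s') :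
    Rl (N + N') (f * f') (s * s') := by
  obtain ⟨S, h1, rfl, rfl, rfl⟩ := h
  obtain ⟨S', h1', rfl, rfl, rfl⟩ := h'
  exact ⟨S.prod S', isIsom_prodMap h1 h1', S.dim_prod S', LinearMap.charpoly_prodMap _ _,
    S.dsc_prod S'⟩

theorem rl_scalar (h2 : (2 : F) ≠ 0) {c : F} (hc : c = 1 ∨ c = -1) (k : ℕ) (s : ℤˣ) :
    Rl (k + 1) ((X - C c) ^ (k + 1)) s := by
  have hs : Sym (FormType.quad F) 0 := (sym_quad h2).2 Even.zero
  obtain ⟨β, h1, h3⟩ := exists_top (good_quad h2) 0 (k + 1) s (fun h => absurd hs h) (by omega)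
  obtain ⟨μ, hμ⟩ := exists_hasJT (A := algebraMap F (Module.End F (Fin (k + 1) → F)) c) (a := c)
    (by rw [sub_self]; exact IsNilpotent.zero)
  refine ⟨⟨_, h1.toQuad (good_quad h2) hs, h1.nd, algebraMap F _ c⟩, isIsom_of_B h2 fun x y => ?_,
    finrank_fin_fun F, by rw [hμ.charpoly_eq, finrank_fin_fun], (h1.dsc_toQuad (good_quad h2) hs).trans (h3 hs)⟩
  rcases hc with rfl | rfl <;> simp

omit [Fintype F] in
theorem ring_aux_inv {R : Type*} [Ring R] {a b : R} (h : a * b = 1) :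
    (0 - a) * (b - a) = (1 - a) * (-1 - a) :=
  calc (0 - a) * (b - a) = -(a * b) + a * a := by noncomm_ring
    _ = _ := by rw [h]; noncomm_ring

theorem rl_of_isW {n : ℕ} {f : F[X]} (hf : IsW f) (hn : f.natDegree = 2 * n) :
    Rl (2 * n) f (sqSign (f.eval 1 * f.eval (-1))) := by
  obtain ⟨A, -, h1, h3⟩ := exists_isReal_of_palindromic n f hf.monic hn hf.rev
  have h4 : ∀ c, f.eval c = LinearMap.det (algebraMap F _ c - A) := fun c => by
    rw [← h1, LinearMap.eval_charpoly]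
  have h5 : ∀ c, f.eval c ≠ 0 → IsUnit (A - algebraMap F _ c) := fun c hc => by
    have h : IsUnit (algebraMap F (Module.End F (Fin (2 * n) → F)) c - A) :=
      (LinearMap.isUnit_iff_isUnit_det _).2 (h4 c ▸ hc.isUnit)
    have h' := h.neg
    rwa [neg_sub] at h'
  obtain ⟨g, hg, hA⟩ := isReal_quad_of_alt h3 (by simpa using h5 _ hf.neg) (by simpa using h5 _ hf.one)
  refine ⟨⟨_, g, hg, A⟩, hA, finrank_fin_fun F, h1, ?_⟩
  have h6 : (algebraMap F _ 0 - A) * (adj hg A - A) =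
      (algebraMap F _ 1 - A) * (algebraMap F _ (-1) - A) := by
    rw [map_zero, map_neg, map_one]
    exact ring_aux_inv (mul_adj_self hg hA)
  have h7 := congrArg LinearMap.det h6
  rw [map_mul, map_mul, ← h4, ← h4, ← h4, ← coeff_zero_eq_eval_zero, hf.isPal.coeff_zero,
    one_mul] at h7
  have h8 := sqSign_det_skew (qfOf_nondeg hg) (c := adj hg A - A)
    ((LinearMap.isUnit_iff_isUnit_det _).2 (h7 ▸ (mul_ne_zero hf.one hf.neg).isUnit)) fun x => by
      rw [polar_qfOf, LinearMap.sub_apply, g.B_sub_left, B_adj, g.symm x, sub_eq_zero]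
      exact (one_mul _).symm
  rw [h7, mul_eq_one_iff_eq_inv, Int.units_inv_eq_self] at h8
  exact h8.symm

theorem rl_of_isPal (h2 : (2 : F) ≠ 0) (n : ℕ) : ∀ f : F[X], IsPal f → f.natDegree = 2 * n →
    ∀ s, (IsW f → s = sqSign (f.eval 1 * f.eval (-1))) → Rl (2 * n) f s := by
  induction n with
  | zero =>
    intro f hf hn s hs
    obtain rfl := hf.monic.natDegree_eq_zero.1 hn
    rw [hs isW_one]
    exact rl_of_isW isW_one hn
  | succ n ih =>
    intro f hf hn s hs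
    by_cases hW : IsW f
    · rw [hs hW]
      exact rl_of_isW hW hn
    obtain ⟨c, hc, h0⟩ : ∃ c : F, (c = 1 ∨ c = -1) ∧ f.eval c = 0 := by
      by_contra h
      push Not at h
      exact hW ⟨hf.monic, hf.rev, h _ (.inl rfl), h _ (.inr rfl)⟩
    obtain ⟨g, rfl, h3, h4⟩ := hf.exists_factor hc h0
    have h5 := (rl_scalar h2 hc 1 (s * sqSign (g.eval 1 * g.eval (-1)))).mul
      (ih g h3 (by omega) _ fun _ => rfl)
    rwa [mul_assoc, Int.units_mul_self, mul_one, show 1 + 1 + 2 * n = 2 * (n + 1) by ring] at h5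

variable {V : Type u} [AddCommGroup V] [Module F V] [FiniteDimensional F V] {Q : QuadraticForm F V}
  (hQ : (polarBilin Q).Nondegenerate)

include hQ in
theorem Rl.exists_O (h2 : (2 : F) ≠ 0) {f : F[X]} (h : Rl (finrank F V) f (dsc Q)) :
    ∃ g : Orth.O Q, (toEnd Q g).charpoly = f := by
  obtain ⟨S, h1, h3, rfl, h4⟩ := h
  obtain ⟨φ, hφ⟩ := exists_isometry_of_dsc_eq h2 (qfOf_nondeg S.nd) hQ h3 h4
  obtain ⟨g, hg⟩ := exists_O_of_isom (qfOf_nondeg S.nd) (A := S.A) h1.q_eq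
  refine ⟨congrO φ hφ g, (Simil.charpoly ⟨φ, fun v => ?_⟩).symm⟩
  rw [← hg]
  exact congrArg (fun w => φ (g.1 w)) (φ.symm_apply_apply v).symm

omit [Fintype F] in
theorem charpoly_toEnd_eq {g h : Orth.O Q} (hc : IsConj g h) :
    (toEnd Q g).charpoly = (toEnd Q h).charpoly := by
  obtain ⟨k, rfl⟩ := isConj_iff.1 hc
  refine Simil.charpoly ⟨k.1, fun v => ?_⟩
  exact congrArg (fun w => k.1 (g.1 w)) (k.1.symm_apply_apply v).symm

include hQ in
theorem le_card_classes_O_odd (h2 : (2 : F) ≠ 0) {n : ℕ} (hN : finrank F V = 2 * n + 1) :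
    2 * Fintype.card F ^ n ≤ Nat.card (ConjClasses (Orth.O Q)) := by
  have : Finite V := Module.finite_of_finite F
  have := finite_O (Q := Q)
  rw [← ncard_palSet, ← Nat.card_coe_set_eq, ← Fintype.card_bool, ← Nat.card_eq_fintype_card,
    ← Nat.card_prod]
  refine card_le_card_classes (fun g => (toEnd Q g).charpoly) (fun _ _ => charpoly_toEnd_eq)
    (fun x : Bool × palSet F n => (X - C (if x.1 then 1 else -1)) ^ (0 + 1) * x.2.1) ?_ ?_
  · rintro ⟨ε, f⟩ ⟨ε', f'⟩ h
    have h1 := congrArg (coeff · 0) h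
    simp only [mul_coeff_zero, f.2.1.coeff_zero, f'.2.1.coeff_zero, zero_add, pow_one, coeff_sub,
      coeff_X_zero, coeff_C_zero, mul_one, zero_sub, neg_inj] at h1
    obtain rfl : ε = ε' := by
      cases ε <;> cases ε' <;> first | rfl | exact absurd (by simp at h1; linear_combination h1) h2 |
        exact absurd (by simp at h1; linear_combination -h1) h2
    exact Prod.ext rfl (Subtype.ext (mul_left_cancel₀ (pow_ne_zero _ (X_sub_C_ne_zero _)) h))
  · rintro ⟨ε, f⟩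
    have h3 := (rl_scalar h2 (c := if ε then 1 else -1) (by cases ε <;> simp) 0
      (dsc Q * sqSign (f.1.eval 1 * f.1.eval (-1)))).mul
      (rl_of_isPal h2 n f f.2.1 f.2.2 _ fun _ => rfl)
    rw [mul_assoc, Int.units_mul_self, mul_one, zero_add, add_comm, ← hN] at h3
    exact h3.exists_O hQ h2

omit [Fintype F] in
theorem isPal_add {n : ℕ} (hn : 2 ≤ n) {f : F[X]} (hf : f ∈ palSet F n) (c : F) :
    f + C c * (X ^ (n - 1) * (X + 1) ^ 2) ∈ palSet F n := by
  obtain ⟨m, rfl⟩ : ∃ m, n = m + 2 := ⟨n - 2, by omega⟩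
  have h1 : (C c * (X ^ (m + 2 - 1) * (X + 1) ^ 2) : F[X]).natDegree < f.natDegree := by
    rw [hf.2]
    refine lt_of_le_of_lt (b := m + 3) ?_ (by omega)
    compute_degree
  have h3 := (natDegree_add_eq_left_of_natDegree_lt h1).trans hf.2
  refine ⟨⟨hf.1.monic.add_of_left (degree_lt_degree h1), h3 ▸ even_two_mul _, ?_⟩, h3⟩
  have h4 : (X ^ (m + 2 - 1) * (X + 1) ^ 2 : F[X]) =
      X ^ (m + 3) + C 2 * X ^ (m + 2) + X ^ (m + 1) := by
    rw [show m + 2 - 1 = m + 1 from rfl, map_ofNat]; ring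
  have h5 := hf.1.rev
  rw [reverse, hf.2] at h5
  rw [reverse, h3, reflect_add, h5, reflect_C_mul, h4, reflect_add, reflect_add, reflect_C_mul,
    reflect_monomial, reflect_monomial, reflect_monomial, revAt_le (by omega), revAt_le (by omega),
    revAt_le (by omega), show 2 * (m + 2) - (m + 3) = m + 1 by omega,
    show 2 * (m + 2) - (m + 2) = m + 2 by omega, show 2 * (m + 2) - (m + 1) = m + 3 by omega]
  ring

include hQ in
theorem le_card_classes_O_even (h2 : (2 : F) ≠ 0) {n : ℕ} (hn : 2 ≤ n) (hN : finrank F V = 2 * n) :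
    Fintype.card F ^ n ≤ 2 * Nat.card (ConjClasses (Orth.O Q)) := by
  have : Finite V := Module.finite_of_finite F
  have := finite_O (Q := Q)
  obtain ⟨δ, hδ, hδ'⟩ := exists_sqSign_eq_neg_one h2
  set A := {f ∈ palSet F n | IsW f → dsc Q = sqSign (f.eval 1 * f.eval (-1))}
  have hA : A.Finite := (finite_palSet n).subset (Set.sep_subset _ _)
  have h1 : A.ncard ≤ Nat.card (ConjClasses (Orth.O Q)) := by
    rw [← Nat.card_coe_set_eq]
    refine card_le_card_classes (fun g => (toEnd Q g).charpoly) (fun _ _ => charpoly_toEnd_eq)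
      (fun x : A => x.1) Subtype.val_injective fun f => Rl.exists_O hQ h2 ?_
    rw [hN]
    exact rl_of_isPal h2 n f f.2.1.1 f.2.1.2 _ f.2.2
  have h4 : (4 : F) ≠ 0 := by rw [show (4 : F) = 2 * 2 by norm_num]; exact mul_ne_zero h2 h2
  let φ : F[X] → F[X] := fun f => f + C ((δ - 1) * f.eval 1 / 4) * (X ^ (n - 1) * (X + 1) ^ 2)
  have h5 : ∀ f, (φ f).eval 1 = δ * f.eval 1 := fun f => by
    simp only [φ, eval_add, eval_mul, eval_C, eval_pow, eval_X, eval_one]
    field_simp; ring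
  have h6 : ∀ f, (φ f).eval (-1) = f.eval (-1) := fun f => by simp [φ]
  have h3 : (palSet F n \ A).ncard ≤ A.ncard := by
    refine Set.ncard_le_ncard_of_injOn φ (fun f hf => ⟨isPal_add hn hf.1 _, fun _ => ?_⟩)
      (fun f _ g _ h => ?_) hA
    · have h7 := hf.2
      simp only [A, Set.mem_sep_iff, not_and, Classical.not_imp] at h7
      obtain ⟨h8, h9⟩ := h7 hf.1
      rw [h5, h6, mul_assoc, sqSign_mul hδ (mul_ne_zero h8.one h8.neg), hδ', neg_one_mul]
      exact Int.units_ne_iff_eq_neg.1 h9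
    · have h7 : f.eval 1 = g.eval 1 := mul_left_cancel₀ hδ (by rw [← h5, ← h5, h])
      simp only [φ, h7] at h
      exact add_right_cancel h
  have h7 : (palSet F n \ A).ncard + A.ncard = (palSet F n).ncard :=
    Set.ncard_sdiff_add_ncard_of_subset (Set.sep_subset _ _) (finite_palSet n)
  rw [ncard_palSet] at h7
  omega

include hQ in
theorem le_card_classes_omega (h2 : (2 : F) ≠ 0) {n : ℕ} (hn : 1 ≤ n)
    (hN : finrank F V = 2 * n + 1) :
    Fintype.card F ^ n ≤ 2 * Nat.card (ConjClasses (commutator (Orth.O Q))) := by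
  obtain ⟨ψ, s, -, h3⟩ := four_mul_card_classes_omega hQ h2 hn hN
  have := le_card_classes_O_odd hQ h2 hN
  omega

end Lower

end CL.Nil
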