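/-
Counting lemmas for points whose transvection group is proper; hermitian preliminaries.
-/
import Mathlib
import Cfsg.Agent.KSG.CoopO4
import Cfsg.Agent.CLAS.UniGen

set_option autoImplicit false

namespace CL.Coop

open Module CL.Witt CL.Witt.Form CL.Root MulAction Submodule FormType

variable {F : Type*} [Field F] {V : Type*} [AddCommGroup V] [Module F V]
  {Ω : Type*} [MulAction (V ≃ₗ[F] V) Ω] {u u' v w x x' y y' z z' : V}
  {ω ω' ω₁ ω₂ : Ω} {g : V ≃ₗ[F] V} {a c : F} {ψ χ : AddChar F ℂ}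

section Gen

variable {T : FormType F} {f : Form T V} {hu : f.q u = 0}

theorem sub_mem_Zw (hx : x ∈ Aw f hu u' ω) (hy : y ∈ Aw f hu u' ω) :
    f.B x y - f.B y x ∈ Zw f hu ω := by
  obtain ⟨⟨a, h1, h2⟩, -⟩ := mem_Aw.mp hx
  obtain ⟨⟨b, h3, h4⟩, -⟩ := mem_Aw.mp hy
  refine mem_Zw.mpr ⟨by rw [f.symm x y]; exact T.π_sub_symm _, ?_⟩
  rw [← h1.commutator_ei h3]
  rw [← mem_stabilizer_iff] at h2 h4 ⊢
  exact mul_mem (mul_mem (mul_mem h2 h4) (inv_mem h2)) (inv_mem h4)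

theorem exists_Zw_ne [FiniteDimensional F V] (hf : f.Nondeg) (h2 : f.Idx2) (ha0 : a ≠ 0)
    (ha : T.π a = 0) (hu0 : u ≠ 0) (hE : ¬ f.E ≤ stabilizer (V ≃ₗ[F] V) ω) :
    ∃ ω₁ ∈ orbit f.E ω, ∃ b, T.π b = 0 ∧ b ∉ Zw f hu ω₁ := by
  by_contra! h
  refine hE (h2.E_le_of_tv hf ha0 ha fun v b hv hb => ?_)
  by_cases h0 : v = 0
  · have h1 := ei_mem_U (f := f) v 0 b
    rw [h0, U_zero, Subgroup.mem_bot] at h1
    rw [h0, h1]
    exact one_mem _
  obtain ⟨g, hg, rfl⟩ := h2.exists_E_apply_eq hf hu0 h0 (hu.trans hv.symm)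
  simpa using smul_fix (eichOK_zero hu hb) (E_le_O hg)
    (h _ (smul_mem_orb (inv_mem hg) (mem_orbit_self ω)) b hb).2

theorem card_B_fiber [Finite V] {A : AddSubgroup V} (hz : z ∈ A) (h : f.B y z ≠ 0) (e : F) :
    Nat.card {v // v ∈ A ∧ f.B y v = e} * 2 ≤ Nat.card A := by
  have : Finite (A.map (f.B y).toAddMonoidHom) := Finite.Set.finite_image _ _
  refine card_fiber_mul_le A (f.B y).toAddMonoidHom e fun _ _ _ => ?_
  exact Finite.one_lt_card_iff_nontrivial.mpr ⟨⟨⟨_, z, hz, rfl⟩, 0, fun h' =>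
    h (congrArg Subtype.val h')⟩⟩

theorem card_norm_le [Finite V] {A : AddSubgroup V} (hx : x ∈ A) :
    Nat.card {y // y ∈ A ∧ f.q y = f.q x} * 2 ≤
      Nat.card A + Nat.card {y // y ∈ A ∧ T.π (f.B y x) = -f.q x} := by
  have h1 := Set.ncard_union_add_ncard_inter {y | y ∈ A ∧ f.q y = f.q x}
    {y | y ∈ A ∧ f.q (y + x) = f.q x}
  have h2 : Nat.card {y // y ∈ A ∧ f.q (y + x) = f.q x} = Nat.card {y // y ∈ A ∧ f.q y = f.q x} :=
    Nat.card_congr ((Equiv.addRight x).subtypeEquiv fun y => by simp [A.add_mem_cancel_right hx])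
  change Nat.card _ + Nat.card _ = Nat.card {y // y ∈ A ∧ f.q y = f.q x} +
    Nat.card {y // y ∈ A ∧ f.q (y + x) = f.q x} at h1
  rw [mul_two]
  nth_rw 2 [← h2]
  rw [← h1]
  exact add_le_add (card_le_of_subset fun y h => h.elim And.left And.left)
    (card_le_of_subset fun y h => ⟨h.1.1, by
      linear_combination h.2.2 - f.q_add y x - h.1.2⟩)

theorem pair_cover [Finite Ω] [Finite V] {S S₁ : Set Ω} {P : V → Prop} {R : V → V → Prop}
    (D D' : Ω → V → Prop) {s t k k' : ℕ} (hs : s ≤ Nat.card {y // P y})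
    (ht : ∀ y, P y → t ≤ Nat.card {z // R y z})
    (h : ∀ y z, P y → R y z → ∃ g : V ≃ₗ[F] V, ∀ ω ∈ S₁, g • ω ∈ S ∧ D (g • ω) y ∧ D' (g • ω) z)
    (hk : ∀ ω ∈ S, Nat.card {y // D ω y ∧ P y} ≤ k)
    (hk' : ∀ ω ∈ S, ∀ y, D ω y → P y → Nat.card {z // D' ω z ∧ R y z} ≤ k') :
    s * t * Nat.card S₁ ≤ Nat.card S * (k * k') := by
  refine le_trans (Nat.mul_le_mul_right _ ((Nat.mul_le_mul_right _ hs).trans (le_card_pair ht)))
    (cover_gen (F := F) (V := V) (fun ω (p : {p : V × V // P p.1 ∧ R p.1 p.2}) =>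
      D ω p.1.1 ∧ D' ω p.1.2) (fun p => h _ _ p.2.1 p.2.2) fun ω hω => ?_)
  exact (card_sub_le fun p hp => ⟨⟨hp.1, p.2.1⟩, hp.2, p.2.2⟩).trans ((card_pair_le
    (P := fun y => D ω y ∧ P y) (R := fun y z => D' ω z ∧ R y z)
    fun y hy => hk' ω hω y hy.1 hy.2).trans (Nat.mul_le_mul_right _ (hk ω hω)))

theorem orbit_U_le_Sc (h : ω₁ ∈ orbit f.E ω) (hχ : ∀ a ∈ Zw f hu ω₁, χ a = 1) :
    orbit (f.U u) ω₁ ⊆ Sc f hu u' χ ω ω₁ :=
  fun _ ⟨g, hg⟩ => hg ▸ (U_smul_mem_Tc g.2 (mem_Tc_self h hχ)).1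

variable [FiniteDimensional F V] [Finite F]

theorem le_card_fiber' (hf : f.Nondeg) (hu : f.q u = 0) (hu' : f.q u' = 0) (huu : f.B u u' = 1)
    (hy : y ∈ Wp f u u') (h0 : y ≠ 0) (hq : f.q y = 0) (a : F) {e : F} (he : e ≠ 0) :
    Nat.card F ^ (finrank F V - 4) * Nat.card T.π.ker ≤
      Nat.card {z // z ∈ Wp f u u' ∧ z ∉ F ∙ y ∧ f.q z = T.π a ∧ f.B y z = e} := by
  have : Finite V := Module.finite_of_finite F
  obtain ⟨x, h5, h6⟩ := hf.exists_perp_eq' (not_mem_of_Wp hu hu' huu hy h0) e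
  have h7 := Tv.finrank_span_triple_le (F := F) u u' y
  have h1 := f.mem_perp_span_pair.mp hy
  have h2 : y ∈ f.perp (span F {u, u', y}) := f.mem_perp_span.mpr (by
    simp [h1, f.B_self_eq_zero hq])
  have h3 := f.card_partner_mul hq (subset_span (by simp)) h2 (x := x)
    (fun h => he (h6 ▸ f.B_eq_zero_symm h)) a
  have h4 := Submodule.finrank_mono ((span_singleton_le_iff_mem _ _).mpr h2)
  rw [finrank_span_singleton h0] at h4
  have h8 := hf.finrank_add_finrank_perp (span F {u, u', y})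
  rw [card_submodule_eq_pow] at h3
  refine le_trans (Nat.le_of_mul_le_mul_right (le_trans ?_ h3.ge) Nat.card_pos)
    (card_le_of_subset fun z hz => ?_)
  · rw [mul_right_comm, ← pow_succ]
    exact Nat.mul_le_mul_right _ (Nat.pow_le_pow_right Nat.card_pos (by omega))
  have h8 : ∀ v ∈ ({u, u', y} : Set V), f.B v z = f.B v x := fun v hv => by
    rw [f.symm, hz.1 v (subset_span hv), ← f.symm]
  refine ⟨f.mem_perp_span_pair.mpr ⟨(h8 u (by simp)).trans (h5 u (subset_span (by simp))),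
    (h8 u' (by simp)).trans (h5 u' (subset_span (by simp)))⟩, fun h => he ?_, hz.2,
    (h8 y (by simp)).trans h6⟩
  obtain ⟨c, rfl⟩ := mem_span_singleton.mp h
  rw [← h6, ← h8 y (by simp), B_smul_right, f.B_self_eq_zero hq, mul_zero]

theorem card_sq_le (hf : f.Nondeg) (hu : f.q u = 0) (hu' : f.q u' = 0) (huu : f.B u u' = 1)
    (hψ : ψ ≠ 1) {A : AddSubgroup V} (hW : ∀ x ∈ A, x ∈ Wp f u u') {β : Type*} (j : β → V)
    (h : ∀ b, j b ∈ Wp f u u' ∧ ∀ x ∈ A, ψ (f.B x (j b)) = 1) (hj : Function.Injective j) :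
    Nat.card β * Nat.card A ≤ Nat.card F ^ (finrank F V - 2) := by
  have : Finite V := Module.finite_of_finite F
  rw [← card_Wp hf hu hu' huu, ← show _ = Nat.card (Wp f u u') from card_ann (ψ := ψ) (β := bil f)
    (W := (Wp f u u').toAddSubgroup) fun x hx => eq_zero_of_Wp hf hu hu' huu hψ (hW x hx)]
  exact Nat.mul_le_mul_right _ (Nat.card_le_card_of_injective (fun b => ⟨j b, h b⟩)
    fun a b h => hj (congrArg Subtype.val h))

theorem mem_pair_of_max (hf : f.Nondeg) (hn : finrank F V ≤ 5) (h0 : y ≠ 0) (h1 : z ∉ F ∙ y)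
    (hy : f.q y = 0) (hz : f.q z = 0) (hv : f.q v = 0) (h2 : f.B y z = 0) (h3 : f.B y v = 0)
    (h4 : f.B z v = 0) : v ∈ span F {y, z} := by
  by_contra h
  have h5 := (f.totSing_span (s := Set.range ![v, z, y]) (by simp [hy, hz, hv]) (by
    simp [f.B_self_eq_zero, f.B_eq_zero_symm, *])).two_mul_finrank_le hf
  rw [finrank_span_eq_card (Tv.li3 h0 h1 h), Fintype.card_fin] at h5
  omega

theorem mem_line_of_max (hf : f.Nondeg) (hn : finrank F V ≤ 5) (hu : f.q u = 0)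
    (hu' : f.q u' = 0) (huu : f.B u u' = 1) (hy : y ∈ Wp f u u') (hz : z ∈ Wp f u u') (h0 : y ≠ 0)
    (hq : f.q y = 0) (hq' : f.q z = 0) (h : f.B y z = 0) : z ∈ F ∙ y := by
  have h1 := f.mem_perp_span_pair.mp hy
  have h2 := f.mem_perp_span_pair.mp hz
  obtain ⟨a, b, rfl⟩ := mem_span_pair.mp (mem_pair_of_max hf hn (y := u)
    (fun h => by simp [h] at huu) (fun h => not_mem_of_Wp hu hu' huu hy h0
      (span_mono (by simp) h)) hu hq hq' h1.1 h2.1 h)
  have h3 : f.B u' u ≠ 0 := fun h => by simp [f.B_eq_zero_symm h] at huu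
  obtain rfl : a = 0 := by simpa [h1.2, h3] using h2.2
  simpa using smul_mem _ b (mem_span_singleton_self y)

theorem card_le_of_sing (hf : f.Nondeg) (hn : finrank F V ≤ 5) (hu : f.q u = 0)
    (hu' : f.q u' = 0) (huu : f.B u u' = 1) {A : AddSubgroup V} (hW : ∀ x ∈ A, x ∈ Wp f u u')
    (hq : ∀ x ∈ A, f.q x = 0) (hy : y ∈ A) (hz : z ∈ A) (h : f.B y z ≠ 0) :
    Nat.card A ≤ Nat.card T.π.ker ^ 2 := by
  have h1 : ∀ x ∈ A, ∀ v ∈ A, f.B x v ∈ T.π.ker := fun x hx v hv => by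
    simpa [hq x hx, hq v hv, hq _ (add_mem hx hv)] using (f.q_add x v).symm
  rw [sq, ← Nat.card_prod]
  refine Nat.card_le_card_of_injective (fun x => (⟨_, h1 y hy x x.2⟩, ⟨_, h1 z hz x x.2⟩))
    fun x x' h2 => Subtype.ext (sub_eq_zero.mp ?_)
  simp only [Prod.mk.injEq, Subtype.mk.injEq] at h2
  have h3 := sub_mem x.2 x'.2
  obtain ⟨c, hc⟩ := mem_span_singleton.mp (mem_line_of_max hf hn hu hu' huu (hW y hy) (hW _ h3)
    (fun h0 => by simp [h0] at h) (hq y hy) (hq _ h3) (by simp [h2.1]))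
  have h4 : c * f.B z y = 0 := by rw [← B_smul_right, hc]; simp [h2.2]
  rw [← hc, (mul_eq_zero.mp h4).resolve_right fun h5 => h (f.B_eq_zero_symm h5), zero_smul]

end Gen

section Herm

variable {σ : F →+* F} {hσ2 : ∀ a, σ (σ a) = a} {f : Form (herm σ hσ2) V} [FiniteDimensional F V]

theorem exists_qr {p : V} (hp : f.q p ≠ 0) {d : F} (hd : σ d * d = 1) : ∃ g ∈ f.O,
    (∀ v, g v = v + ((d - 1) / f.q p * f.B p v) • p) ∧ LinearMap.det (g : V →ₗ[F] V) = d :=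
  ⟨f.rk1Equiv p ((d - 1) / f.q p) (by
    simp only [herm_π, herm_σ, map_div₀, map_sub, map_one, hσ2, Tv.herm_σ_q]
    field_simp
    linear_combination hd), f.rk1Equiv_mem_O _ _ _, fun _ => rfl, by
      rw [det_rk1, ← herm_q]; field_simp; ring⟩

variable [Finite F] (hσ : σ ≠ RingHom.id F) (hf : f.Nondeg)
include hσ hf

theorem agree_herm {X : Submodule F V} (h : ¬ f.perp X ≤ X) :
    ∀ g ∈ f.O, ∃ e ∈ f.E, ∀ v ∈ X, e v = g v := fun g hg => by
  obtain ⟨p, hp, h1⟩ : ∃ p ∈ f.perp X, f.q p ≠ 0 := by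
    by_contra! h1
    exact h ((Tv.herm_totSing_of_q hσ h1).le_perp.trans (hf.perp_perp X).le)
  have h2 := hf.σ_det_mul_det hg
  obtain ⟨r, hr, h3, h4⟩ := exists_qr h1 (d := (LinearMap.det (g : V →ₗ[F] V))⁻¹) (by
    rw [map_inv₀, ← mul_inv]; exact inv_eq_one.mpr h2)
  refine ⟨g * r, Uni.E_eq_SO hσ hf ▸ f.mem_SO.mpr ⟨mul_mem hg hr, ?_⟩, fun v hv => ?_⟩
  · rw [det_mul_equiv, h4, mul_inv_cancel₀ (det_equiv_ne_zero g)]
  · simp [h3, f.B_eq_zero_symm (hp v hv)]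

variable (hn : 5 ≤ finrank F V) (hu : f.q u = 0) (hu' : f.q u' = 0) (huu : f.B u u' = 1)
include hn hu hu' huu

theorem lv_vec (hy : y ∈ Wp f u u') (hy' : y' ∈ Wp f u u') (h0 : y ≠ 0) (h0' : y' ≠ 0)
    (hc : c ≠ 0) (h : f.q y' = f.q y) : ∃ g, Lv f u u' g c ∧ g y = y' := by
  simpa using exists_lv_vec hf hu hu' huu hy hy' h0 h0' hc one_ne_zero (by rwa [one_smul])
    (agree_herm hσ hf fun h => by
      have h1 := f.mem_perp_span_pair.mp hy
      have h2 := Submodule.finrank_mono ((le_inf h le_rfl).trans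
        (inf_perp_triple hu hu' (by simp [huu]) h1.1 h1.2))
      have := hf.finrank_add_finrank_perp (span F {u, u', y})
      have := Tv.finrank_span_triple_le (F := F) u u' y
      have := Tv.finrank_span_single_le (F := F) y
      omega)

theorem lv_pair (hy : y ∈ Wp f u u') (hy' : y' ∈ Wp f u u') (hz : z ∈ Wp f u u')
    (hz' : z' ∈ Wp f u u') (h0 : y ≠ 0) (h0' : y' ≠ 0) (h1 : z ∉ F ∙ y) (h1' : z' ∉ F ∙ y')
    (h₁ : f.q y' = f.q y) (h₂ : f.q z' = f.q z) (h₃ : f.B y' z' = f.B y z)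
    (h : 6 ≤ finrank F V ∧ (f.q y ≠ 0 ∨ f.B y z ≠ 0) ∨ f.q y * f.q z ≠ σ (f.B y z) * f.B y z) :
    ∃ g, Lv f u u' g 1 ∧ g y = y' ∧ g z = z' := by
  simpa using exists_lv_pair hf hu hu' huu hy hy' hz hz' h0 h0' h1 h1' one_ne_zero one_ne_zero
    one_ne_zero (by rwa [one_smul]) (by rwa [one_smul])
    (by rw [one_smul, one_smul, f.herm_symm, h₃, ← f.herm_symm]) (agree_herm hσ hf fun h2 => by
      have h3 : f.perp (span F {u, u', y, z}) ≤ span F {y, z} := fun v hv =>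
        mem_pair_of_Wp hu hu' huu (f.perp_anti (span_mono (by simp [Set.insert_subset_iff])) hv)
          hy hz (h2 hv)
      have h4 := hf.finrank_add_finrank_perp (span F {u, u', y, z})
      have h5 := Tv.finrank_span_four_le (F := F) u u' y z
      have h6 := Tv.finrank_span_pair_le (F := F) y z
      rcases h with ⟨h, h7⟩ | h
      · have h8 := f.mem_perp_span.mp ((eq_of_le_of_finrank_le h3 (by omega)).ge
          (subset_span (Set.mem_insert y {z})))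
        exact h7.elim (fun h => h (f.herm_q y ▸ h8 y (by simp)))
          fun h => h (f.B_eq_zero_symm (h8 z (by simp)))
      obtain ⟨⟨v, hv⟩, h7⟩ := (finrank_pos_iff_exists_ne_zero (R := F)
        (M := f.perp (span F {u, u', y, z}))).mp (by omega)
      obtain ⟨a, b, rfl⟩ := mem_span_pair.mp (h3 hv)
      have h8 := f.mem_perp_span.mp hv y (by simp)
      have h9 := f.mem_perp_span.mp hv z (by simp)
      simp only [B_add_right, B_smul_right, ← herm_q, f.herm_symm y z] at h8 h9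
      have ha : a = 0 := (mul_eq_zero.mp (show a * _ = 0 by
        linear_combination f.q z * h8 - f.B y z * h9)).resolve_right (sub_ne_zero.mpr h)
      have hb : b = 0 := (mul_eq_zero.mp (show b * _ = 0 by
        linear_combination f.q y * h9 - σ (f.B y z) * h8)).resolve_right (sub_ne_zero.mpr h)
      exact h7 (Subtype.ext (by simp [ha, hb])))

theorem lv_flag (hn' : finrank F V ≤ 5) (hy : y ∈ Wp f u u') (hy' : y' ∈ Wp f u u')
    (hz : z ∈ Wp f u u') (hz' : z' ∈ Wp f u u') (h0 : y ≠ 0) (h0' : y' ≠ 0) (h1 : z ≠ 0)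
    (h1' : z' ≠ 0) (h₁ : f.q y' = f.q y) (h₂ : f.q z = 0) (h₂' : f.q z' = 0) (h₃ : f.B y z = 0)
    (h₃' : f.B y' z' = 0) : ∃ g, ∃ c : F, Lv f u u' g 1 ∧ g y = y' ∧ c • g z = z' := by
  obtain ⟨g, hg, rfl⟩ := lv_vec hσ hf hn hu hu' huu hy hy' h0 h0' one_ne_zero h₁
  have h4 := hg.perp hz
  have h5 : f.q (g z) = 0 := by rw [mem_O_q (E_le_O hg.mem), h₂]
  by_cases h6 : f.B (g z) z' = 0
  · obtain ⟨c, hc⟩ := mem_span_singleton.mp (mem_line_of_max hf hn' hu hu' huu h4 hz'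
      (by simpa using h1) h5 h₂' h6)
    exact ⟨g, c, hg, rfl, hc⟩
  obtain ⟨a, ha0, ha⟩ := exists_add_σ_eq_zero hσ hσ2
  have h7 : f.B (g z + (a / f.B (g z) z') • z') (g z) = -a := by
    rw [B_add_left, B_smul_left, f.B_self_eq_zero h5, f.herm_symm (g z), herm_σ, ← map_mul,
      div_mul_cancel₀ _ h6]
    linear_combination ha
  have h8 : f.EichOK (g z + (a / f.B (g z) z') • z') 0 (-a⁻¹) := eichOK_zero
    (by rw [q_add_smul, h5, h₂', div_mul_cancel₀ _ h6, herm_π, ha]; simp)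
    (by rw [map_neg, herm_π, map_inv₀, eq_neg_of_add_eq_zero_right ha]; simp)
  have h9 := lv_ei h8 (add_mem h4 (smul_mem _ _ hz')) (zero_mem _)
  refine ⟨_ * g, -(f.B (g z) z' / a), ⟨mul_mem h9.mem hg.mem, one_ne_zero, by
    simp [hg.left, h9.left], ?_⟩, h8.ei_apply_fix ?_ (by simp), ?_⟩
  · obtain ⟨c, hc, h⟩ := hg.right
    obtain ⟨c', hc', h'⟩ := h9.right
    exact ⟨c * c', mul_ne_zero hc hc', by simp [h, h', smul_smul]⟩
  · simp [mem_O_B (E_le_O hg.mem), f.B_eq_zero_symm h₃, f.B_eq_zero_symm h₃']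
  · rw [LinearEquiv.mul_apply, h8.ei_apply, h7]
    simp only [herm_ε, B_zero_left, smul_zero]
    match_scalars <;> field_simp <;> ring

end Herm

end CL.Coop
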