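/-
Subgroups of symplectic groups containing full transvection groups.
-/
import Mathlib
import Cfsg.Agent.KSG.CoopU1

set_option autoImplicit false

namespace CL.Coop

open Module CL.Witt CL.Witt.Form CL.Root MulAction Submodule FormType

variable {F : Type*} [Field F] {V : Type*} [AddCommGroup V] [Module F V]

theorem card_fiber_lin (S : Submodule F V) (φ : V →ₗ[F] F) {z : V} (hz : z ∈ S) (h : φ z ≠ 0)
    (e : F) : Nat.card {v // v ∈ S ∧ φ v = e} * Nat.card F = Nat.card S := by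
  rw [← Nat.card_prod]
  exact Nat.card_congr ⟨fun p => ⟨p.1 + p.2 • z, add_mem p.1.2.1 (smul_mem _ _ hz)⟩,
    fun v => (⟨v - ((φ v - e) / φ z) • z, sub_mem v.2 (smul_mem _ _ hz), by simp [h]⟩,
      (φ v - e) / φ z), fun p => by simp [p.1.2.2, h], fun v => by simp⟩

theorem card_line_le [Finite F] (y : V) : Nat.card {v // v ∈ F ∙ y} ≤ Nat.card F :=
  Nat.card_le_card_of_surjective (fun c : F => ⟨c • y, smul_mem _ _ (mem_span_singleton_self y)⟩)
    fun v => (mem_span_singleton.mp v.2).imp fun _ => Subtype.ext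

theorem le_or_le_of_forall {S A B : Submodule F V} (h : ∀ x ∈ S, x ∈ A ∨ x ∈ B) :
    S ≤ A ∨ S ≤ B := by
  by_contra! h1
  obtain ⟨x, hx, hx'⟩ := SetLike.not_le_iff_exists.mp h1.1
  obtain ⟨y, hy, hy'⟩ := SetLike.not_le_iff_exists.mp h1.2
  exact (h _ (add_mem hx hy)).elim
    (fun h2 => hx' ((A.add_mem_iff_left ((h y hy).resolve_right hy')).mp h2))
    fun h2 => hy' ((B.add_mem_iff_right ((h x hx).resolve_left hx')).mp h2)

variable {f : Form (alt F) V} {K : Subgroup (V ≃ₗ[F] V)} {u u' v v' w x y z : V}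
  {g : V ≃ₗ[F] V}

variable (f K) in
/-- `K` contains all transvections with centre `v`. -/
def Dv (v : V) : Prop := ∀ c, f.tv v c ∈ K

theorem Dv.conj (h : Dv f K v) (hg : g ∈ K) (hgO : g ∈ f.O) : Dv f K (g v) := fun c =>
  tv_conj hgO v c ▸ mul_mem (mul_mem hg (h c)) (inv_mem hg)

theorem Dv.smul (h : Dv f K v) (a : F) : Dv f K (a • v) := fun c => f.tv_smul v a c ▸ h _

theorem Dv.cen (h : Dv f K v) : Cen f K v := fun a _ => f.ei_zero_eq_tv v a ▸ h a

theorem tv_add_eq (h : f.B v w = 0) (a c : F) :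
    f.tv (a • v + w) c = f.ei v ((c * a) • w) (c * a ^ 2) * f.tv w c := by
  ext x
  simp only [LinearEquiv.mul_apply, eiA_apply (show f.B v ((c * a) • w) = 0 by simp [h]),
    tv_apply, map_add, map_smul, LinearMap.add_apply, B_smul_left, h, f.alt_B_self, alt_σ,
    smul_eq_mul]
  module

theorem exists_comp (hF : ∃ a : F, a ≠ 0 ∧ a ≠ 1) (hv : Dv f K v) (hv' : Dv f K v')
    (h : f.B v v' = 1) : ∃ C : Submodule F V, v ∈ C ∧ v' ∈ C ∧ (∀ x ∈ C, Dv f K x) ∧
      ∀ x, Dv f K x → x ∈ C ∨ x ∈ f.perp C := by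
  have hc := f.isCompl_perp_pair (f.alt_q v) (f.alt_q v') h
  have hv0 : v ≠ 0 := fun h0 => by simp [h0] at h
  have hvl : v ∈ span F {v, v'} := subset_span (by simp)
  have h1 : ∀ y ∈ span F {v, v'}, Dv f K y := fun y hy => by
    obtain ⟨a, b, rfl⟩ := mem_span_pair.mp hy
    by_cases hb : b = 0
    · simpa [hb] using hv.smul a
    simpa [tv_apply, h, hb, add_comm, smul_smul, mul_div_cancel₀] using
      (hv'.smul b).conj (hv (a / b)) (f.tv_mem_O _ _)
  have h2 : ∀ w ∈ Wp f v v', ∀ y ∈ span F {v, v'}, ∀ y' ∈ span F {v, v'}, y ≠ 0 → y' ≠ 0 →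
      Dv f K (y + w) → Dv f K (y' + w) := fun w hw y hy y' hy' h0 h0' h2 => by
    obtain ⟨g, ⟨hg, hgO, hgw⟩, rfl⟩ := exists_tv_prod_apply_eq (M := K ⊓ f.fix (F ∙ w))
      (fun x hx hx0 => by
        by_contra! h3
        exact hx0 (disjoint_def.mp hc.disjoint x hx h3))
      (fun x hx c => ⟨h1 x hx c, f.mem_fix_span.mpr ⟨f.tv_mem_O _ _, fun z hz =>
        f.tv_apply_of_B_eq_zero _ (hz ▸ hw x hx)⟩⟩) hy hy' h0 h0'
    simpa [hgw w (mem_span_singleton_self w)] using h2.conj hg hgO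
  let A : Submodule F V :=
    { carrier := {w | w ∈ Wp f v v' ∧ ∀ c : F, Rad f K v (c • w)}
      add_mem' := fun ha hb => ⟨add_mem ha.1 hb.1, fun c => by
        rw [smul_add]; exact (ha.2 c).add (hb.2 c)⟩
      zero_mem' := ⟨zero_mem _, fun c => by simpa using Rad.zero (f.alt_q v)⟩
      smul_mem' := fun a w hw => ⟨smul_mem _ _ hw.1, fun c => smul_smul c a w ▸ hw.2 _⟩ }
  have h3 : ∀ w ∈ Wp f v v', ∀ y ∈ span F {v, v'}, y ≠ 0 → Dv f K (y + w) → w ∈ A ∧ Dv f K w :=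
    fun w hw y hy h0 h3 => by
      obtain ⟨a, ha, ha'⟩ := hF
      have h4 := (f.mem_perp_span_pair.mp hw).1
      have h5 : ∀ a ≠ 0, ∀ c, f.ei v ((c * a) • w) (c * a ^ 2) * f.tv w c ∈ K := fun a ha c =>
        tv_add_eq h4 a c ▸ h2 w hw y hy _ (smul_mem _ a hvl) h0 (smul_ne_zero ha hv0) h3 c
      have h6 : ∀ c : F, Rad f K v (c • w) := fun c => by
        have h6 := mul_mem (h5 a ha (c / (a - 1))) (inv_mem (h5 1 one_ne_zero (c / (a - 1))))
        rw [mul_inv_rev, mul_assoc, mul_inv_cancel_left, (okA (by simp [h4]) _).ei_inv,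
          (okA (by simp [h4]) _).ei_mul (okA (by simp [h4]) _), ← neg_smul, ← add_smul,
          show c / (a - 1) * a + -(c / (a - 1) * 1) = c by field_simp [sub_ne_zero.mpr ha']; ring]
          at h6
        exact ⟨_, okA (by simp [h4]) _, h6⟩
      exact ⟨⟨hw, h6⟩, fun c => (K.mul_mem_cancel_left
        ((h6 _).ei_mem hv.cen (okA (by simp [h4]) _))).mp (h5 1 one_ne_zero c)⟩
  have h4 : ∀ w ∈ A, Dv f K (v' + w) := fun w hw => by
    have h4 := f.mem_perp_span_pair.mp hw.1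
    simpa [eiA_apply h4.1, h, f.B_eq_zero_symm h4.2] using hv'.conj
      ((by simpa using hw.2 1 : Rad f K v w).ei_mem hv.cen (okA h4.1 0)) (ei_mem_O _ _ _)
  have hvl' : v' ∈ span F {v, v'} := subset_span (by simp)
  have hv0' : v' ≠ 0 := fun h0 => by simp [h0] at h
  refine ⟨span F {v, v'} ⊔ A, mem_sup_left hvl, mem_sup_left hvl', fun x hx => ?_, fun x hx => ?_⟩
  · obtain ⟨y, hy, w, hw, rfl⟩ := mem_sup.mp hx
    by_cases h0 : y = 0
    · simpa [h0] using (h3 w hw.1 v' hvl' hv0' (h4 w hw)).2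
    exact h2 w hw.1 v' hvl' y hy hv0' h0 (h4 w hw)
  obtain ⟨y, hy, w, hw, rfl⟩ := mem_sup.mp (hc.sup_eq_top ▸ mem_top : x ∈ _)
  by_cases h0 : y = 0
  swap
  · exact Or.inl (add_mem_sup hy (h3 w hw y hy h0 hx).1)
  rw [h0, zero_add] at hx ⊢
  rw [perp_sup, or_iff_not_imp_right]
  intro h5
  obtain ⟨w', hw', h6⟩ : ∃ w' ∈ A, f.B w w' ≠ 0 := by
    by_contra! h6
    exact h5 ⟨hw, fun z hz => f.B_eq_zero_symm (h6 z hz)⟩
  have h7 := (h4 w' hw').conj (hx (f.B w w')⁻¹) (f.tv_mem_O _ _)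
  rw [tv_apply, map_add, f.B_eq_zero_symm (hw v' hvl'), zero_add, inv_mul_cancel₀ h6, one_smul,
    add_assoc] at h7
  exact mem_sup_right ((A.add_mem_iff_right hw').mp
    (h3 _ (add_mem hw'.1 hw) v' hvl' hv0' h7).1)

variable [FiniteDimensional F V] [Finite F] {Ω : Type*} [MulAction (V ≃ₗ[F] V) Ω] [Finite Ω]
  {ω : Ω} {m : ℕ}

theorem exists_ne_zero_one (hq : 3 ≤ Nat.card F) : ∃ a : F, a ≠ 0 ∧ a ≠ 1 := by
  by_contra! h3
  have := Nat.card_le_card_of_surjective ![0, (1 : F)] fun a => by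
    by_cases ha : a = 0
    exacts [⟨0, ha.symm⟩, ⟨1, (h3 a ha).symm⟩]
  simp at this
  omega

theorem card_top_eq (hm : finrank F V = 2 * m) :
    Nat.card (⊤ : Submodule F V) = Nat.card F ^ (2 * m) := by
  rw [card_submodule_eq_pow, finrank_top, hm]

theorem card_ne_eq (hm : finrank F V = 2 * m) :
    Nat.card {v : V // v ≠ 0} = Nat.card F ^ (2 * m) - 1 := by
  have : Finite V := Module.finite_of_finite F
  rw [card_subtype_ne_zero, Module.natCard_eq_pow_finrank (K := F), hm]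

theorem le_of_pairs (hf : f.Nondeg) (hm : finrank F V = 2 * m) (h0 : y ≠ 0) (h1 : z ∉ F ∙ y)
    {P : V → Prop} {R : V → V → Prop}
    (h : ∀ g ∈ stabilizer (V ≃ₗ[F] V) ω, P (g y) ∧ R (g y) (g z)) {k t : ℕ}
    (hk : ∀ y, P y → Nat.card {z // R y z} ≤ k)
    (ht : t * Nat.card F + Nat.card F ^ 2 ≤ Nat.card F ^ (2 * m) ∨
      t * Nat.card F ≤ Nat.card F ^ (2 * m) ∧ f.B y z ≠ 0) :
    (Nat.card F ^ (2 * m) - 1) * t ≤ Nat.card (orbit f.E ω) * (Nat.card {y // P y} * k) := by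
  have : Finite V := Module.finite_of_finite F
  rw [← card_ne_eq hm]
  refine (le_card_pair (R := fun y' z' => z' ∉ F ∙ y' ∧ f.B y' z' = f.B y z) fun y' h2 => ?_).trans
    ((card_le_of_stab (y, z) (fun p hp => ?_) h).trans (Nat.mul_le_mul_left _ (card_pair_le hk)))
  · obtain ⟨x, -, hx⟩ := hf.exists_partner' (f.alt_q y') h2
    have h3 := card_fiber_lin ⊤ (f.B y') (z := x) mem_top (by simp [hx]) (f.B y z)
    rw [card_top_eq hm] at h3
    refine Nat.le_of_mul_le_mul_right ?_ (Nat.card_pos (α := F))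
    rcases ht with ht | ⟨ht, h4⟩
    · have h4 := Nat.mul_le_mul_right (Nat.card F) ((card_le_of_subset
        (p := fun v => v ∈ (⊤ : Submodule F V) ∧ f.B y' v = f.B y z) fun v hv => or_iff_not_imp_right.mpr
          fun h => And.intro h hv.2).trans (card_or_le.trans (Nat.add_le_add_left (card_line_le (F := F) y') _)))
      rw [h3, add_mul, ← sq] at h4
      exact Nat.le_of_add_le_add_right (ht.trans h4)
    · refine ht.trans (h3.ge.trans (Nat.mul_le_mul_right _ (card_le_of_subset fun v hv =>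
        ⟨fun h5 => h4 ?_, hv.2⟩)))
      obtain ⟨c, rfl⟩ := mem_span_singleton.mp h5
      rw [← hv.2, map_smul, f.alt_B_self, smul_zero]
  · obtain ⟨g, hg, h2, h3⟩ := hf.witt_pair (Tv.li2 h0 h1) (Tv.li2 hp.1 hp.2.1) (by simp [f.alt_q])
      (by simp [f.alt_q]) (by rw [f.alt_symm, hp.2.2, ← f.alt_symm])
    exact ⟨g, hf.alt_E_eq_O ▸ hg, Prod.ext h3 h2⟩

theorem le_of_inv (hf : f.Nondeg) (hm : finrank F V = 2 * m) (h2 : 2 ≤ m) {S : Submodule F V}
    (hS : ∀ g ∈ stabilizer (V ≃ₗ[F] V) ω, ∀ x ∈ S, g x ∈ S) (hy : y ∈ S) (h0 : y ≠ 0)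
    (hd : finrank F S + 1 ≤ m ∨ finrank F S ≤ 2) :
    Nat.card F ^ (2 * m) - 1 ≤ Nat.card (orbit f.E ω) * (Nat.card F - 1) := by
  have : Finite V := Module.finite_of_finite F
  by_cases h1 : S ≤ F ∙ y
  · rw [← card_ne_eq hm]
    refine card_le_of_fix (fun g hg => (mem_span_singleton.mp (h1 (hS g hg y hy))).imp
      fun _ => Eq.symm) (fun v hv => ?_) (by simp)
    obtain ⟨g, hg, h3⟩ := hf.witt_vector h0 hv (by simp [f.alt_q])
    exact ⟨g, hf.alt_E_eq_O ▸ hg, 1, by rw [one_smul, h3]⟩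
  obtain ⟨z, hz, h1⟩ := SetLike.not_le_iff_exists.mp h1
  obtain ⟨m, rfl⟩ := Nat.exists_eq_add_of_le' h2
  have hq := Finite.one_lt_card (α := F)
  have h3 := le_of_pairs (ω := ω) hf hm h0 h1 (P := fun y => y ∈ S ∧ y ≠ 0)
    (R := fun y z => z ∈ S ∧ z ∉ F ∙ y) (k := Nat.card S - Nat.card F)
    (t := Nat.card F * (Nat.card F ^ (2 * m + 2) - 1))
    (fun g hg => ⟨⟨hS g hg y hy, by simpa using h0⟩, hS g hg z hz, fun h => by
      obtain ⟨c, hc⟩ := mem_span_singleton.mp h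
      exact h1 (mem_span_singleton.mpr ⟨c, g.injective (by rw [map_smul, hc])⟩)⟩)
    (fun y hy => by
      rw [card_diff fun x hx => (span_singleton_le_iff_mem _ _).mpr hy.1 hx]
      exact tsub_le_tsub_left (by rw [card_submodule_eq_pow, finrank_span_singleton hy.2, pow_one]) _)
    (Or.inl (le_of_eq (by zify [Nat.one_le_pow _ _ (zero_lt_one.trans hq)]; ring)))
  rw [show Nat.card {y // y ∈ S ∧ y ≠ 0} = Nat.card S - 1 from card_ne_zero_sub S.toAddSubgroup,
    card_submodule_eq_pow] at h3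
  generalize Nat.card F = q at *
  have h4 : 0 < q ^ (2 * m + 2) - 1 := Nat.sub_pos_of_lt (Nat.one_lt_pow (by omega) hq)
  refine Nat.le_of_mul_le_mul_right (h3.trans ?_) (by positivity)
  rw [mul_assoc]
  refine Nat.mul_le_mul_left _ ?_
  have h5 : q ^ 2 ≤ q ^ (2 * m + 2) := Nat.pow_le_pow_right (by omega) (by omega)
  rcases hd with hd | hd
  · have h6 : q ^ finrank F S ≤ q ^ (m + 1) := Nat.pow_le_pow_right (by omega) (by omega)
    refine (Nat.mul_le_mul (tsub_le_tsub_right h6 1) ((Nat.sub_le _ _).trans h6)).trans ?_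
    rw [show q ^ (2 * m + 2) = q ^ (m + 1) * q ^ (m + 1) by ring] at *
    generalize q ^ (m + 1) = X at *
    obtain ⟨q, rfl⟩ := Nat.exists_eq_add_of_le' hq
    obtain ⟨X, rfl⟩ := Nat.exists_eq_add_of_le' (show 1 ≤ X by nlinarith)
    rw [show (X + 1) * (X + 1) - 1 = X * (X + 2) from Nat.sub_eq_of_eq_add (by ring)]
    simp only [add_tsub_cancel_right, show q + 2 - 1 = q + 1 from rfl]
    nlinarith [Nat.zero_le (q * X), Nat.zero_le (q * q * X), Nat.zero_le (q * X * X),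
      Nat.zero_le (q * q * X * X)]
  · have h6 : q ^ finrank F S ≤ q ^ 2 := Nat.pow_le_pow_right (by omega) hd
    refine (Nat.mul_le_mul (tsub_le_tsub_right h6 1) (tsub_le_tsub_right h6 q)).trans
      (le_trans (le_of_eq ?_) (Nat.mul_le_mul_left _ (Nat.mul_le_mul_left _
        (tsub_le_tsub_right h5 1))))
    zify [Nat.one_le_pow 2 q (by omega), hq.le, Nat.le_self_pow two_ne_zero q]
    ring

theorem le_of_comp (hf : f.Nondeg) (hm : finrank F V = 2 * m) (h2 : 2 ≤ m) (hq : 3 ≤ Nat.card F)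
    (hK : stabilizer (V ≃ₗ[F] V) ω ≤ f.E) (hE : ¬ f.E ≤ stabilizer (V ≃ₗ[F] V) ω)
    (hv : Dv f (stabilizer (V ≃ₗ[F] V) ω) v) (hv' : Dv f (stabilizer (V ≃ₗ[F] V) ω) v')
    (h : f.B v v' = 1) : Nat.card F ^ (2 * m) - 1 ≤ Nat.card (orbit f.E ω) * (Nat.card F - 1) := by
  have : Finite V := Module.finite_of_finite F
  obtain ⟨C, h3, h4, h5, h6⟩ := exists_comp (exists_ne_zero_one hq) hv hv' h
  have hO := fun g hg => E_le_O (hK (x := g) hg)
  have h7 : ∀ g ∈ stabilizer (V ≃ₗ[F] V) ω, ∀ x ∈ C, Dv f _ (g x) := fun g hg x hx =>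
    (h5 x hx).conj hg (hO g hg)
  have h8 := hf.finrank_add_finrank_perp C
  rcases le_or_gt (finrank F C) m with h9 | h9
  swap
  · obtain ⟨y, hy, h0⟩ := (Submodule.ne_bot_iff (f.perp C)).mp fun h => hE (E_le_O.trans
      (hf.O_le_of_tv fun x => h5 x (by rw [← hf.perp_perp C, h, perp_bot]; trivial)))
    refine le_of_inv hf hm h2 (S := f.perp C) (fun g hg x hx z hz => ?_) hy h0 (Or.inl (by omega))
    rcases le_or_le_of_forall (S := C.map (g⁻¹ : V ≃ₗ[F] V).toLinearMap)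
      (by rintro _ ⟨x, hx, rfl⟩; exact h6 _ (h7 _ (inv_mem hg) x hx)) with h10 | h10
    · rw [f.alt_symm, B_apply_left (hO g hg), ← f.alt_symm]
      exact hx _ (h10 ⟨z, hz, rfl⟩)
    · have := Submodule.finrank_mono h10
      rw [LinearEquiv.finrank_map_eq] at this
      omega
  obtain ⟨c, hc⟩ : ∃ c, finrank F C = c + 1 := Nat.exists_eq_add_one.mpr
    (finrank_pos_iff_exists_ne_zero.mpr ⟨⟨v, h3⟩, fun h0 => by
      simp [show v = 0 from congrArg Subtype.val h0] at h⟩)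
  have h10 := le_of_pairs (ω := ω) hf hm (y := v) (z := v') (fun h0 => by simp [h0] at h)
    (fun h0 => by
      obtain ⟨c, rfl⟩ := mem_span_singleton.mp h0
      simp [f.alt_B_self] at h)
    (P := fun y => ∃ g ∈ stabilizer (V ≃ₗ[F] V) ω, g v = y)
    (R := fun y z => Dv f (stabilizer (V ≃ₗ[F] V) ω) z ∧ f.B y z = 1) (k := Nat.card F ^ c)
    (t := Nat.card F ^ (2 * m - 1))
    (fun g hg => ⟨⟨g, hg, rfl⟩, h7 g hg v' h4, by rw [mem_O_B (hO g hg), h]⟩) (by
      rintro _ ⟨g, hg, rfl⟩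
      have h10 := card_fiber_lin C (f.B v) h4 (by simp [h]) 1
      rw [card_submodule_eq_pow, hc, pow_succ] at h10
      rw [← Nat.eq_of_mul_eq_mul_right Nat.card_pos h10]
      refine Nat.card_le_card_of_injective (fun z => ⟨g⁻¹ z, ?_⟩) fun a b h =>
        Subtype.ext (by simpa using h)
      have h11 : f.B v (g⁻¹ z.1) = 1 := by rw [← B_apply_left (hO g hg), z.2.2]
      exact ⟨(h6 _ (z.2.1.conj (inv_mem hg) (inv_mem (hO g hg)))).resolve_right fun h12 =>
        zero_ne_one ((h12 v h3).symm.trans h11), h11⟩)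
    (Or.inr ⟨by rw [← pow_succ, Nat.sub_add_cancel (by omega)], by simp [h]⟩)
  have h11 := (card_le_of_subset (p := fun y => ∃ g ∈ stabilizer (V ≃ₗ[F] V) ω, g v = y)
    fun y ⟨g, hg, h⟩ => h6 y (h ▸ h7 g hg v h3)).trans card_or_le
  rw [card_submodule_eq_pow, card_submodule_eq_pow] at h11
  refine Nat.le_of_mul_le_mul_right (h10.trans ?_) (by positivity)
  rw [mul_assoc]
  refine Nat.mul_le_mul_left _ ((Nat.mul_le_mul_right _ h11).trans (le_trans ?_
    (Nat.mul_le_mul_right _ (show 2 ≤ _ by omega))))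
  rw [add_mul, two_mul, ← pow_add, ← pow_add]
  exact add_le_add (Nat.pow_le_pow_right (by omega) (by omega))
    (Nat.pow_le_pow_right (by omega) (by omega))

end CL.Coop
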