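/-
Minimal degrees of symplectic groups: finding full transvection groups.
-/
import Mathlib
import Cfsg.Agent.KSG.CoopS1

set_option autoImplicit false

namespace CL.Coop

open Module CL.Witt CL.Witt.Form CL.Root MulAction Submodule FormType

section Num

variable {q X N d τ φ : ℕ} (hq : 3 ≤ q) (hX : q ≤ X) (hN : N * (q - 1) < q ^ 2 * X ^ 2)
include hq hX hN

theorem num_aux {Y c : ℕ} (h : Y * c ≤ (q - 2) * N * c) (hc : 0 < c) :
    ∃ r Z, q = r + 2 ∧ X = Z + 1 ∧ r + 1 ≤ Z ∧ 0 < r ∧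
      Y * (r + 1) < r * ((r + 2) ^ 2 * (Z + 1) ^ 2) := by
  obtain ⟨r, rfl⟩ := Nat.exists_eq_add_of_le' (show 2 ≤ q by omega)
  obtain ⟨Z, rfl⟩ := Nat.exists_eq_add_of_le' (show 1 ≤ X by omega)
  refine ⟨r, Z, rfl, rfl, by omega, by omega, (Nat.mul_le_mul_right _
    (Nat.le_of_mul_le_mul_right h hc)).trans_lt ?_⟩
  rw [add_tsub_cancel_right, mul_assoc]
  exact Nat.mul_lt_mul_of_pos_left hN (by omega)

theorem num_zero : (q - 2) * N < q * X ^ 2 * (q - 1) := by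
  by_contra! h
  obtain ⟨r, Z, rfl, rfl, -, -, h⟩ := num_aux hq hX hN (Nat.mul_le_mul_right 1 h) one_pos
  rw [show r + 2 - 1 = r + 1 from rfl, show r * _ = (r + 2) * (Z + 1) ^ 2 * (r * (r + 2)) by ring,
    mul_assoc] at h
  have := Nat.lt_of_mul_lt_mul_left h
  nlinarith

theorem num_hyp : (q - 2) * N < q ^ 2 * (X ^ 2 - 1) := by
  by_contra! h
  obtain ⟨r, Z, rfl, rfl, h1, -, h⟩ := num_aux hq hX hN (Nat.mul_le_mul_right 1 h) one_pos
  rw [show (Z + 1) ^ 2 - 1 = Z * (Z + 2) from Nat.sub_eq_of_eq_add (by ring), mul_left_comm r,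
    mul_assoc] at h
  have := Nat.lt_of_mul_lt_mul_left h
  nlinarith

theorem num_small (hd : d * 2 ≤ X)
    (h : (X ^ 2 - 1) * (X ^ 2 * q) * (q - 1) ≤ 2 * (q - 2) * N * ((d - 1) * d)) : False := by
  have h1 : 4 * ((d - 1) * d) ≤ X ^ 2 := by nlinarith [Nat.sub_le d 1]
  obtain ⟨r, Z, rfl, rfl, h2, -, h⟩ := num_aux hq hX hN (Y := 2 * ((X ^ 2 - 1) * q * (q - 1)))
    (c := 2 * X ^ 2) (by nlinarith [Nat.mul_le_mul_left (2 * (q - 2) * N) h1])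
    (by have : 0 < X := by omega
        positivity)
  rw [show (Z + 1) ^ 2 - 1 = Z * (Z + 2) from Nat.sub_eq_of_eq_add (by ring),
    show r + 2 - 1 = r + 1 from rfl, show r * _ = (r + 2) * (r * (r + 2) * (Z + 1) ^ 2) by ring,
    show 2 * _ * _ = (r + 2) * ((r + 1) ^ 2 * (2 * (Z * (Z + 2)))) by ring] at h
  exact (Nat.lt_of_mul_lt_mul_left h).not_ge (Nat.mul_le_mul (by nlinarith) (by nlinarith))

theorem num_line (hd : d * 2 ≤ q) (h0 : 0 < d) (h : (X ^ 2 - 1) * (q * d) ≤ N * (d - 1)) :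
    False := by
  refine (num_hyp hq hX hN).not_ge (Nat.le_of_mul_le_mul_right ?_ h0)
  obtain ⟨d, rfl⟩ := Nat.exists_eq_add_of_le' h0
  obtain ⟨r, rfl⟩ := Nat.exists_eq_add_of_le' (show 2 ≤ q by omega)
  rw [add_tsub_cancel_right] at h ⊢
  nlinarith [Nat.mul_le_mul_left (r + 2) h, Nat.mul_le_mul_left N (show 2 * d ≤ r by omega)]

theorem num_pairs (hd : d ≤ X) (h0 : 0 < d)
    (hτ : τ * q = X ^ 2 ∧ φ * 2 ≤ d ∨ τ * q + q ^ 2 = X ^ 2 ∧ φ ≤ d ∧ q ^ 2 ≤ X)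
    (h : (X ^ 2 - 1) * τ * (q * d) * (q - 1) ≤ 2 * (q - 2) * N * ((d - 1) * φ)) : False := by
  have h1 : X ^ 2 - 1 = (X + 1) * (X - 1) := Nat.sq_sub_sq X 1
  have h2 : 0 < (X - 1) * d := Nat.mul_pos (by omega) h0
  have h3 : d - 1 ≤ X - 1 := by omega
  rcases hτ with ⟨hτ, hφ⟩ | ⟨hτ, hφ, h4⟩
  · obtain ⟨r, Z, rfl, rfl, h4, -, h⟩ := num_aux hq hX hN (Y := (X + 1) * X ^ 2 * (q - 1))
      (le_trans (le_of_eq (by rw [h1, ← hτ]; ring)) (h.trans (le_trans (le_of_eq (by ring))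
        (Nat.mul_le_mul_left _ (Nat.mul_le_mul h3 hφ))))) h2
    rw [show r + 2 - 1 = r + 1 from rfl, show r * _ = (Z + 1) ^ 2 * (r * (r + 2) ^ 2) by ring,
      show _ * (r + 1) * _ = (Z + 1) ^ 2 * ((Z + 2) * (r + 1) ^ 2) by ring] at h
    exact (Nat.lt_of_mul_lt_mul_left h).not_ge (le_trans (by nlinarith)
      (Nat.mul_le_mul_right _ (show r + 3 ≤ _ by omega)))
  have h5 : (X + 1) * (τ * q) * (q - 1) ≤ 2 * (q - 2) * N := Nat.le_of_mul_le_mul_right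
    (le_trans (le_of_eq (by rw [h1]; ring)) (h.trans (Nat.mul_le_mul_left _
      (Nat.mul_le_mul h3 hφ)))) h2
  have h6 : q ^ 2 * (X ^ 2 - 1) ≤ (X + 1) * (τ * q) := by
    rw [mul_tsub, mul_one, tsub_le_iff_right]
    nlinarith [Nat.mul_le_mul_right (X ^ 2) h4, Nat.mul_le_mul_left X h4]
  obtain ⟨r, rfl⟩ := Nat.exists_eq_add_of_le' (show 2 ≤ q by omega)
  have h7 := (Nat.mul_le_mul_right (r + 1) ((Nat.mul_le_mul_right _ h6).trans h5)).trans_lt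
    (show _ < 2 * r * ((r + 2) ^ 2 * X ^ 2) by
      rw [add_tsub_cancel_right, mul_assoc]
      exact Nat.mul_lt_mul_of_pos_left hN (by omega))
  rw [show r + 2 - 1 = r + 1 from rfl, mul_left_comm (2 * r), mul_assoc, mul_assoc] at h7
  have h8 := Nat.lt_of_mul_lt_mul_left h7
  obtain ⟨Y, hY⟩ := Nat.exists_eq_add_of_le' (Nat.one_le_pow 2 X (by omega))
  rw [hY, add_tsub_cancel_right] at h8
  have h9 : 2 * r ≤ r ^ 2 + 1 := by zify; nlinarith [sq_nonneg ((r : ℤ) - 1)]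
  nlinarith [Nat.mul_le_mul (show 1 ≤ Y by nlinarith) h9]

end Num

variable {F : Type*} [Field F] {V : Type*} [AddCommGroup V] [Module F V]
  {f : Form (alt F) V} {K : Subgroup (V ≃ₗ[F] V)} {u u' v v' w x y z : V} {g t l : V ≃ₗ[F] V}
  {Ω : Type*} [MulAction (V ≃ₗ[F] V) Ω] {ω ω₁ ω₂ : Ω} {b c : F} {χ ψ : AddChar F ℂ}
  {hu : f.q u = 0}

theorem exists_central (huu : f.B u u' = 1) (ht : Lv f u u' t c) (hc : c ≠ 1)
    (hW : ∀ x ∈ Wp f u u', t x = x) (hA : ∀ x ∈ Aw f hu u' ω₁, ∀ a : F, a • x ∈ Aw f hu u' ω₁)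
    (h : t • ω₁ ∈ orbit (f.U u) ω₁) : ∃ ω₂ ∈ orbit (f.U u) ω₁, ∀ l, Lv f u u' l 1 → l u' = u' →
      l • ω₁ ∈ orbit (f.U u) ω₁ → ∃ b, l • ω₂ = f.tv u b • ω₂ := by
  obtain ⟨x, hx⟩ := exists_cy hu huu h
  have h1 := sub_ne_zero.mpr hc.symm
  have hw : f.B u ((1 - c)⁻¹ • x) = 0 := by simp [hx.2.choose_spec.1.huv]
  obtain ⟨b, -, h2⟩ := hx.fix ht (okA hw 0) (by
    rw [map_smul, hW x hx.mem, alt_σ]
    match_scalars
    field_simp
    ring)
  generalize (1 - c)⁻¹ • x = w at *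
  have h3 : f.ei u w 0 • ω₁ ∈ orbit (f.U u) ω₁ := ⟨⟨_, ei_mem_U u w 0⟩, rfl⟩
  have h4 : ∀ {y}, f.B u y = 0 → ∀ a b, f.ei u y b = f.ei u 0 (b - a) * f.ei u y a :=
    fun hy a b => by simp [(okA (f.B_zero_right u) _).ei_mul (okA hy a)]
  have h5 : Cy f u u' (f.ei u w 0 • ω₁) t 0 :=
    ⟨by simp, b - 0, okA (by simp) _, by rw [h2, h4 hw 0 b, mul_smul]⟩
  refine ⟨_, h3, fun l hl hl' ⟨k, hk⟩ => ?_⟩
  obtain ⟨y, hy⟩ := exists_cy hu huu (l := l) (ω := f.ei u w 0 • ω₁) (by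
    rw [orbit_eq_iff.mpr h3, ← mul_smul, (hl.smul_ei (okA hw 0)).2, mul_smul, ← hk]
    exact ⟨⟨_, ei_mem_U _ _ _⟩ * k, mul_smul _ _ _⟩)
  have h6 : t * l = l * t := by
    ext v
    obtain ⟨p, hp, v, hv, rfl⟩ := mem_sup.mp
      ((f.isCompl_perp_pair hu (f.alt_q u') huu).sup_eq_top ▸ mem_top : v ∈ _)
    obtain ⟨α, β, rfl⟩ := mem_span_pair.mp hp
    obtain ⟨c', -, h6⟩ := ht.right
    simp [hl.left, hl', ht.left, h6, hW v hv, hW _ (hl.perp hv)]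
  have h7 := hA _ (Aw_eq_of_orbit h3 ▸ (h6 ▸ h5.mul ht hy).sub_mem (hu := hu) (hy.mul hl h5))
    (c - 1)⁻¹
  rw [← Aw_eq_of_orbit h3, hW y hy.mem, show (c - 1)⁻¹ • _ = y by
    simp only [alt_σ, map_zero]
    match_scalars
    field_simp [sub_ne_zero.mpr hc]] at h7
  obtain ⟨⟨a, h8, h9⟩, -⟩ := mem_Aw.mp h7
  obtain ⟨-, a', -, h10⟩ := hy
  exact ⟨a' - a, by rw [h10, h4 h8.huv a, mul_smul, h9, ei_zero_eq_tv]⟩

variable [Finite F]

theorem exists_sq_eq (h2 : (2 : F) = 0) (a : F) : ∃ c, c ^ 2 = a :=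
  Finite.injective_iff_surjective.mp (fun a b (h : a ^ 2 = b ^ 2) => sub_eq_zero.mp
    (pow_eq_zero_iff two_ne_zero |>.mp (by linear_combination h + (b ^ 2 - a * b) * h2))) a

theorem card_sq_ge : Nat.card F - 1 ≤ Nat.card {t : F // ∃ c ≠ 0, t = c ^ 2} * 2 ∧
    ((2 : F) = 0 → Nat.card F - 1 ≤ Nat.card {t : F // ∃ c ≠ 0, t = c ^ 2}) := by
  rw [← card_subtype_ne_zero]
  refine ⟨le_trans ?_ (card_pair_le (R := fun t c : F => t = c ^ 2) ?_),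
    fun h2 => card_le_of_subset fun a ha => ?_⟩
  · exact Nat.card_le_card_of_injective (fun c => ⟨(c ^ 2, c), ⟨c, c.2, rfl⟩, rfl⟩)
      fun a b h => Subtype.ext (congrArg (·.1.2) h)
  · rintro _ ⟨c, -, rfl⟩
    exact (card_le_of_subset (p' := (· ∈ ({c, -c} : Set F))) fun d hd =>
      sq_eq_sq_iff_eq_or_eq_neg.mp hd.symm).trans
        ((Set.ncard_insert_le _ _).trans_eq (by simp))
  · obtain ⟨c, rfl⟩ := exists_sq_eq h2 a
    exact ⟨c, fun h => ha (by simp [h]), rfl⟩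

variable [FiniteDimensional F V]

theorem not_full (hf : f.Nondeg) (hn : 3 ≤ finrank F V) (h2 : (2 : F) = 0) (hq : 3 ≤ Nat.card F)
    (hD : ∀ v ≠ 0, ¬ Dv f K v) (hA : ∀ u ≠ 0, ∀ x, f.B u x = 0 → Rad f K u x) : False := by
  have key : ∀ {u x} {s b : F}, u ≠ 0 → x ∉ F ∙ u → f.B u x = 0 → f.ei x (s • u) b ∈ K →
      ∀ β, f.ei u ((b * β) • x) (b * β ^ 2) ∈ K := fun {u x s b} h0 h1 h3 h4 β => by
    obtain ⟨v, h5, h6⟩ := hf.exists_perp_eq' h1 β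
    have h7 := h5 u (mem_span_singleton_self u)
    obtain ⟨a, -, h8⟩ := hA u h0 v h7
    have h9 : f.B x (s • u) = 0 := by simp [f.B_eq_zero_symm h3]
    have h10 := mul_mem (mul_mem h4 h8) (inv_mem h4)
    rw [(okA h7 a).conj_ei (ei_mem_O _ _ _), (okA h9 b).ei_apply_fix (f.B_eq_zero_symm h3)
      (by simp [f.alt_B_self]), eiA_apply h9, h6, B_smul_left, h7, mul_zero, zero_add, smul_smul,
      add_right_comm, (okA (by simp [h3, h7]) a).ei_add_smul_u] at h10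
    refine (K.mul_mem_cancel_right h8).mp ?_
    rw [(okA (by simp [h3]) _).ei_mul (okA h7 a), add_comm _ v]
    convert h10 using 2
    simp only [B_smul_left, h6, alt_σ, alt_ε]
    linear_combination (b * β ^ 2 - β * s) * h2
  have key' : ∀ {u x b}, x ≠ 0 → u ∉ F ∙ x → f.B u x = 0 → f.ei x u b ∈ K → b = 0 :=
    fun {u x b} h0 h1 h3 h4 => not_not.mp fun hb => hD x h0 fun c => by
      have h5 : u ≠ 0 := fun h => h1 (h ▸ zero_mem _)
      have h6 := fun β => key h0 h1 (f.B_eq_zero_symm h3) (key (s := 1) h5 (fun h => by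
        obtain ⟨c, rfl⟩ := mem_span_singleton.mp h
        exact h1 (by rw [span_singleton_smul_eq (left_ne_zero_of_smul h0).isUnit]
                     exact mem_span_singleton_self u)) h3 (by rwa [one_smul]) β)
      obtain ⟨β, h7, h8⟩ := exists_ne_zero_one hq
      have h9 : β ^ 2 - 1 ≠ 0 := fun h => h8 (sub_eq_zero.mp (pow_eq_zero_iff two_ne_zero |>.mp
        (by linear_combination h + (1 - β) * h2)))
      obtain ⟨γ, hγ⟩ := exists_sq_eq h2 (c / (b * β ^ 2 * (β ^ 2 - 1)))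
      have h10 : f.B x ((b * β ^ 2 * γ) • u) = 0 := by simp [f.B_eq_zero_symm h3]
      have h11 := h6 1 (β ^ 2 * γ)
      rw [show b * 1 ^ 2 * (β ^ 2 * γ) = b * β ^ 2 * γ by ring,
        ((okA h10 (b * β ^ 2 * γ ^ 2)).ei_eq_mul (okA h10 _)).2,
        K.mul_mem_cancel_left (h6 β γ), ei_zero_eq_tv] at h11
      convert h11 using 2
      rw [mul_pow, hγ]
      field_simp
  have : Nontrivial V := Module.nontrivial_of_finrank_pos (R := F) (by omega)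
  obtain ⟨u, h0⟩ := exists_ne (0 : V)
  obtain ⟨x, hx, y, hy, -, -, h⟩ := hp_of_le hf (j := 1) (fun W hW =>
    let ⟨w, hw⟩ := (finrank_pos_iff_exists_ne_zero (R := F) (M := W)).mp hW
    ⟨w, w.2, by simpa using hw, f.alt_q _⟩) (X := F ∙ u) inf_le_left
      (by rw [finrank_span_singleton h0]; omega)
  rw [mem_perp_span_singleton] at hx hy
  have h3 : ∀ {x y b}, f.B u x = 0 → f.B u y = 0 → f.B x y ≠ 0 → f.ei u x b ∈ K → b = 0 :=
    fun hx hy h => key' h0 (fun h4 => by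
      obtain ⟨c, rfl⟩ := mem_span_singleton.mp h4
      simp [hy] at h) (f.B_eq_zero_symm hx)
  obtain ⟨a, -, ha⟩ := hA u h0 x hx
  obtain ⟨b, -, hb⟩ := hA u h0 y hy
  have h4 := mul_mem ha hb
  rw [(okA hx a).ei_mul (okA hy b)] at h4
  simpa [h3 hx hy (by simp [h]) ha, h3 hy hx (by simp [f.alt_symm x y, h]) hb, h] using
    h3 (by simp [hx, hy]) hy (by simp [h, f.alt_B_self]) h4

end CL.Coop
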