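/-
Minimal degrees of symplectic groups over fields with at least three elements.
-/
import Mathlib
import Cfsg.Agent.KSG.CoopS2

set_option autoImplicit false

namespace CL.Coop

open Module CL.Witt CL.Witt.Form CL.Root MulAction Submodule FormType

variable {F : Type*} [Field F] [Finite F] {V : Type*} [AddCommGroup V] [Module F V]
  [FiniteDimensional F V] {f : Form (alt F) V} {u u' v v' w x y z : V}
  {Ω : Type*} [MulAction (V ≃ₗ[F] V) Ω] [Finite Ω] {ω ω₁ ω₂ : Ω} {b c : F} {χ ψ : AddChar F ℂ}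
  {hu : f.q u = 0} {k : ℕ} (hf : f.Nondeg) (huu : f.B u u' = 1)
include hf huu

omit [Finite F] in
theorem lv_torus (hc : c ≠ 0) : ∃ t, Lv f u u' t c ∧ ∀ x ∈ Wp f u u', t x = x :=
  let ⟨t, ht, h1, h2, h3, _⟩ := hf.exists_torus (f.alt_q u) (f.alt_q u') huu hc
  ⟨t, ⟨hf.alt_E_eq_O ▸ ht, hc, h1, _, by simpa using hc, h2⟩, fun x hx =>
    h3 x (f.mem_perp_span_pair.mp hx).1 (f.mem_perp_span_pair.mp hx).2⟩

theorem exists_chi_alt (hq : 3 ≤ Nat.card F) (hb : b ∉ Zw f hu ω₁) : ∃ χ : AddChar F ℂ,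
    (∀ a ∈ Zw f hu ω₁, χ a = 1) ∧ χ ≠ 1 ∧
    (Nat.card F - 1) * (Nat.card (Zw f hu ω₁) * Nat.card (Sc f hu u' χ ω ω₁)) ≤
      2 * (Nat.card F - 2) * Nat.card (orbit f.E ω) ∧ ((2 : F) = 0 →
    (Nat.card F - 1) * (Nat.card (Zw f hu ω₁) * Nat.card (Sc f hu u' χ ω ω₁)) ≤
      (Nat.card F - Nat.card (Zw f hu ω₁)) * Nat.card (orbit f.E ω)) := by
  have : Finite V := Module.finite_of_finite F
  obtain ⟨χ, h1, h2⟩ := exists_char hb
  have h3 : χ ≠ 1 := fun h => h2 (by simp [h])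
  obtain ⟨j, hj, h4⟩ := torus_le (hu := hu) (u' := u') (χ := χ) (ω := ω) (ω₁ := ω₁)
    (L := {t : F // ∃ c ≠ 0, t = c ^ 2}) Subtype.val Subtype.val_injective ⊤
    (fun ⟨_, c, hc, h⟩ => ⟨trivial, let ⟨t, ht, _⟩ := lv_torus hf huu (inv_ne_zero hc)
      ⟨t, _, ht, by simp only [alt_σ, h]; field_simp⟩⟩)
    fun a _ h => LS.eq_of_addChar h3 fun c => by simpa [mul_comm] using h c trivial
  rw [AddSubgroup.card_top] at hj
  have h5 := Nat.mul_le_mul_left (Nat.card (Zw f hu ω₁))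
    (h4.trans (Nat.mul_le_mul (card_Cl_le ω₁) (min_le_left _ _)))
  rw [mul_left_comm, mul_left_comm _ (Nat.card (orbit f.E ω)), mul_tsub, mul_comm _ j, hj,
    mul_one, mul_comm (Nat.card (orbit f.E ω))] at h5
  refine ⟨χ, h1, h3, ?_, fun h2 => (Nat.mul_le_mul_right _ (card_sq_ge.2 h2)).trans h5⟩
  rcases Nat.eq_or_lt_of_le (Nat.card_pos (α := Zw f hu ω₁)) with h6 | h6
  · rw [← h6]
    exact Nat.mul_le_mul (by omega) ((one_mul _).trans_le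
      ((card_le_of_subset fun _ h => h.1).trans (card_Cl_le (hu := hu) (u' := u') ω₁)))
  · refine (Nat.mul_le_mul_right _ card_sq_ge.1).trans ?_
    rw [mul_comm _ 2, mul_assoc, mul_assoc]
    exact Nat.mul_le_mul_left _ (h5.trans (Nat.mul_le_mul_right _ (by omega)))

theorem exists_fix_tv (hq : 3 ≤ Nat.card F) (h₀ : ω₁ ∈ orbit f.E ω)
    (hχ : ∀ a ∈ Zw f hu ω₁, χ a = 1)
    (G₁ : (Nat.card F - 1) * (Nat.card (Zw f hu ω₁) * Nat.card (Sc f hu u' χ ω ω₁)) ≤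
      2 * (Nat.card F - 2) * Nat.card (orbit f.E ω)) (G₂ : (2 : F) = 0 →
    (Nat.card F - 1) * (Nat.card (Zw f hu ω₁) * Nat.card (Sc f hu u' χ ω ω₁)) ≤
      (Nat.card F - Nat.card (Zw f hu ω₁)) * Nat.card (orbit f.E ω)) {Y : ℕ}
    (hY : (Nat.card F - 2) * Nat.card (orbit f.E ω) < Y)
    (hT : ∀ t, t * Nat.card (orbit (f.U u) ω₁) ≤ Nat.card (Tc f hu u' χ ω ω₁) → t * Y ≤
      (Nat.card F - 1) * (Nat.card (Zw f hu ω₁) * Nat.card (Sc f hu u' χ ω ω₁)))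
    {S : Submodule F V} (hS : ∀ x, x ∈ Aw f hu u' ω₁ ↔ x ∈ S) :
    ∃ ω₂ ∈ orbit f.E ω, ∀ y ∈ Wp f u u', (∀ x ∈ S, f.B y x = 0) → ∀ c, ∃ β, ∀ g ∈ f.O, g u = u →
      g u' = u' → (∀ x ∈ S, g x ∈ S) → f.tv (g y) c * f.tv u β ∈ stabilizer (V ≃ₗ[F] V) ω₂ := by
  have : Finite V := Module.finite_of_finite F
  have h1 : ∀ g c, Lv f u u' g c → ((∀ a ∈ Zw f hu ω₁, a = 0) ∨ c * c = 1) →
      (∀ x ∈ S, g⁻¹ x ∈ S) → g • ω₁ ∈ orbit (f.U u) ω₁ := fun g c hg hc h =>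
    mem_orbit_of_Tc huu h₀ hχ (not_le.mp fun h1 => by have := (hT 2 h1).trans G₁; nlinarith)
      (hg.mem_Tc hc (fun x hx => ⟨c⁻¹ • g⁻¹ x, (hS _).mpr (smul_mem _ _ (h x ((hS x).mp hx))),
        by simp [hg.ne, alt_σ]⟩) (mem_Tc_self h₀ hχ))
  obtain ⟨c, hc0, hc1, hc⟩ : ∃ c : F, c ≠ 0 ∧ c ≠ 1 ∧ ((∀ a ∈ Zw f hu ω₁, a = 0) ∨ c * c = 1) := by
    by_cases h2 : (2 : F) = 0
    · obtain ⟨c, h3, h4⟩ := exists_ne_zero_one hq
      refine ⟨c, h3, h4, Or.inl fun a ha => not_not.mp fun h0 => ?_⟩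
      have h5 := (hT 1 ((one_mul _).trans_le (le_card_Tc h₀ hχ))).trans ((G₂ h2).trans
        (Nat.mul_le_mul_right _ (tsub_le_tsub_left (two_le_card ha h0) _)))
      omega
    · exact ⟨-1, by simp, fun h => h2 (by linear_combination -h), Or.inr (by simp)⟩
  obtain ⟨t, ht, hW⟩ := lv_torus hf huu hc0
  have hSW : ∀ x ∈ S, x ∈ Wp f u u' := fun x hx => Aw_le ((hS x).mpr hx)
  obtain ⟨ω₂, h2, h3⟩ := exists_central (hu := hu) huu ht hc1 hW
    (fun x hx a => (hS _).mpr (smul_mem _ _ ((hS x).mp hx))) (h1 t c ht hc fun x hx => by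
      rwa [show t⁻¹ x = x from (LinearEquiv.symm_apply_eq _).mpr (hW x (hSW x hx)).symm])
  have h4 : ∀ g ∈ f.O, g u = u → g u' = u' → (∀ x ∈ S, g⁻¹ x ∈ S) → ∃ b, g • ω₂ = f.tv u b • ω₂ :=
    fun g hg h4 h5 h6 => have h7 := Lv.one (hf.alt_E_eq_O ▸ hg) h4 h5
      h3 g h7 h5 (h1 g 1 h7 (Or.inr (mul_one 1)) h6)
  refine ⟨ω₂, orbit_U_le h₀ h2, fun y hy h5 c => ?_⟩
  rw [mem_perp_span_pair] at hy
  have h6 := f.tv_apply_of_B_eq_zero c (f.B_eq_zero_symm hy.1)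
  obtain ⟨b, hb⟩ := h4 (f.tv y c) (f.tv_mem_O _ _) h6
    (f.tv_apply_of_B_eq_zero c (f.B_eq_zero_symm hy.2))
    fun x hx => by rwa [tv_inv, f.tv_apply_of_B_eq_zero _ (h5 x hx)]
  refine ⟨-b, fun g hg h7 h8 h9 => ?_⟩
  obtain ⟨b', hb'⟩ := h4 g⁻¹ (inv_mem hg) ((LinearEquiv.symm_apply_eq _).mpr h7.symm)
    ((LinearEquiv.symm_apply_eq _).mpr h8.symm) h9
  have h10 : ∀ {g}, g ∈ f.O → g u = u → ∀ c, g * f.tv u c = f.tv u c * g := fun hg h c => by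
    rw [← mul_inv_eq_iff_eq_mul, tv_conj hg, h]
  rw [mem_stabilizer_iff, ← h7, ← tv_conj hg, ← tv_conj hg, mul_assoc, mul_assoc, mul_assoc,
    inv_mul_cancel_left, mul_smul, mul_smul, mul_smul, hb', smul_smul (f.tv u _), tv_mul,
    smul_smul (f.tv y c), h10 (f.tv_mem_O _ _) h6, mul_smul, hb, smul_smul (f.tv u _), tv_mul,
    neg_add_cancel_comm, ← hb', smul_inv_smul]

variable (hm : finrank F V = 2 * (k + 1))
include hm

theorem card_Wp_alt : Nat.card (Wp f u u') = (Nat.card F ^ k) ^ 2 := by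
  rw [card_Wp hf (f.alt_q u) (f.alt_q u') huu, hm, ← pow_mul, mul_comm k]
  rfl

theorem vec_alt {S S₁ : Set Ω} {D : Ω → AddSubgroup V} {d : ℕ}
    (hS : ∀ g, Lv f u u' g 1 → ∀ ω ∈ S₁, g • ω ∈ S)
    (hD : ∀ g, Lv f u u' g 1 → ∀ ω, ∀ x ∈ D ω, g x ∈ D (g • ω)) (hy : y ∈ Wp f u u') (h0 : y ≠ 0)
    (h : ∀ ω ∈ S₁, y ∈ D ω) (hd : ∀ ω ∈ S, Nat.card (D ω) = d) :
    ((Nat.card F ^ k) ^ 2 - 1) * Nat.card S₁ ≤ Nat.card S * (d - 1) := by
  have : Finite V := Module.finite_of_finite F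
  rw [← card_Wp_alt hf huu hm, ← show _ = Nat.card (Wp f u u') - 1 from
    card_ne_zero_sub (Wp f u u').toAddSubgroup]
  refine cover_gen (F := F) (V := V) (fun ω v => v.1 ∈ D ω) (fun v => ?_)
    fun ω hω => hd ω hω ▸ card_mem_le (by simp) _
  obtain ⟨g, hg, h1, h2, h3⟩ := exists_levi hf (f.alt_q u) (f.alt_q u') huu hy v.2.1 h0 v.2.2
    (by simp [f.alt_q])
  have h4 := Lv.one (hf.alt_E_eq_O ▸ hg) h1 h2
  exact ⟨g, fun ω hω => ⟨hS g h4 ω hω, h3 ▸ hD g h4 ω y (h ω hω)⟩⟩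

variable (hq : 3 ≤ Nat.card F) (hk : 1 ≤ k)
  (hN : Nat.card (orbit f.E ω) * (Nat.card F - 1) < Nat.card F ^ 2 * (Nat.card F ^ k) ^ 2)
include hq hk hN

theorem line_alt (h₀ : ω₁ ∈ orbit f.E ω) (hχ : ∀ a ∈ Zw f hu ω₁, χ a = 1)
    (G₁ : (Nat.card F - 1) * (Nat.card (Zw f hu ω₁) * Nat.card (Sc f hu u' χ ω ω₁)) ≤
      2 * (Nat.card F - 2) * Nat.card (orbit f.E ω)) {D : AddSubgroup V → AddSubgroup V}
    (hD : ∀ g, Lv f u u' g 1 → ∀ ω : Ω, ∀ x ∈ D (Aw f hu u' ω), g x ∈ D (Aw f hu u' (g • ω)))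
    (hW : ∀ x ∈ D (Aw f hu u' ω₁), x ∈ Wp f u u')
    (hd : ∀ ω' ∈ Sc f hu u' χ ω ω₁, Nat.card (D (Aw f hu u' ω')) = Nat.card (D (Aw f hu u' ω₁)))
    (h₁ : Nat.card (D (Aw f hu u' ω₁)) ≤ Nat.card F ^ k)
    (h₂ : Nat.card F * Nat.card (D (Aw f hu u' ω₁)) ≤
      Nat.card (orbit (f.U u) ω₁) * Nat.card (Zw f hu ω₁))
    (hy : y ∈ D (Aw f hu u' ω₁)) (h0 : y ≠ 0) (hz : z ∈ D (Aw f hu u' ω₁)) : z ∈ F ∙ y := by
  have : Finite V := Module.finite_of_finite F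
  by_contra h1
  have hX := Nat.le_self_pow (show k ≠ 0 by omega) (Nat.card F)
  have h2 : ∀ y' ∈ Wp f u u', y' ≠ 0 → Nat.card {v // v ∈ Wp f u u' ∧ f.B y' v = f.B y z} *
      Nat.card F = (Nat.card F ^ k) ^ 2 := fun y' h2 h3 => by
    obtain ⟨x, h4, h5⟩ := hf.exists_perp_eq' (not_mem_of_Wp hu (f.alt_q u') huu h2 h3) 1
    rw [card_fiber_lin (Wp f u u') _ h4 (by simp [h5]), card_Wp_alt hf huu hm]
  have key : ∀ τ φ, (∀ y' ∈ Wp f u u', y' ≠ 0 →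
      τ ≤ Nat.card {v // v ∈ Wp f u u' ∧ v ∉ F ∙ y' ∧ f.B y' v = f.B y z}) →
      (∀ ω' ∈ Sc f hu u' χ ω ω₁, ∀ y', Nat.card {v // v ∈ D (Aw f hu u' ω') ∧
        f.B y' v = f.B y z} ≤ φ) → ¬ (τ * Nat.card F = (Nat.card F ^ k) ^ 2 ∧ φ * 2 ≤ _ ∨
        τ * Nat.card F + Nat.card F ^ 2 = (Nat.card F ^ k) ^ 2 ∧ φ ≤ _ ∧ _) := fun τ φ hτ hφ h => by
    have h3 := pair_cover (F := F) (S := Sc f hu u' χ ω ω₁) (S₁ := orbit (f.U u) ω₁)
      (P := fun v => v ∈ Wp f u u' ∧ v ≠ 0)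
      (R := fun y' v => v ∈ Wp f u u' ∧ v ∉ F ∙ y' ∧ f.B y' v = f.B y z)
      (fun ω v => v ∈ D (Aw f hu u' ω)) (fun ω v => v ∈ D (Aw f hu u' ω))
      (card_ne_zero_sub (Wp f u u').toAddSubgroup).ge (fun y' h => hτ y' h.1 h.2)
      (fun y' z' h3 h4 => by
        obtain ⟨g, hg, h5, h6⟩ := exists_lv_pair hf hu (f.alt_q u') huu (hW y hy) h3.1 (hW z hz)
          h4.1 h0 h3.2 h1 h4.2.1 one_ne_zero one_ne_zero one_ne_zero (by simp [f.alt_q])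
          (by simp [f.alt_q]) (by simpa [f.alt_symm y', f.alt_symm y] using h4.2.2)
          fun g hg => ⟨g, hf.alt_E_eq_O ▸ hg, fun _ _ => rfl⟩
        rw [one_smul] at h5 h6
        exact ⟨g, fun ω' h => ⟨hg.mem_Sc (by simp) (orbit_U_le_Sc h₀ hχ h),
          h5 ▸ hD g hg _ y (Aw_eq_of_orbit h ▸ hy), h6 ▸ hD g hg _ z (Aw_eq_of_orbit h ▸ hz)⟩⟩)
      (fun ω' h => (card_le_of_subset fun v hv => ⟨hv.1, hv.2.2⟩).trans
        ((card_ne_zero_sub _).trans (congrArg (· - 1) (hd ω' h))).le)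
      fun ω' h y' _ _ => (card_le_of_subset fun v hv => ⟨hv.1, hv.2.2.2⟩).trans (hφ ω' h y')
    erw [card_Wp_alt hf huu hm] at h3
    refine num_pairs hq hX hN h₁ Nat.card_pos h (le_trans ?_ (Nat.mul_le_mul_right _ G₁))
    exact (Nat.mul_le_mul_right _ (Nat.mul_le_mul_left _ h₂)).trans (le_trans (le_of_eq (by ring))
      ((Nat.mul_le_mul_left ((Nat.card F - 1) * Nat.card (Zw f hu ω₁)) h3).trans_eq (by ring)))
  obtain ⟨τ, hτ⟩ : ∃ τ, τ * Nat.card F = (Nat.card F ^ k) ^ 2 := ⟨_, h2 y (hW y hy) h0⟩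
  by_cases h3 : f.B y z = 0
  · have h4 : 2 ≤ k := not_lt.mp fun h4 => h1 (mem_line_of_max hf (by omega) hu (f.alt_q u') huu
      (hW y hy) (hW z hz) h0 (f.alt_q _) (f.alt_q _) h3)
    have h5 := Nat.pow_le_pow_right (show 0 < Nat.card F by omega) h4
    refine key (τ - Nat.card F) _ (fun y' h5 h6 => tsub_le_iff_right.mpr ?_)
      (fun ω' h y' => (card_le_of_subset fun v hv => hv.1).trans (hd ω' h).le)
      (Or.inr ⟨by rw [tsub_mul, hτ, ← sq, Nat.sub_add_cancel (Nat.pow_le_pow_left hX 2)], le_rfl,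
        h5⟩)
    rw [Nat.eq_of_mul_eq_mul_right Nat.card_pos (hτ.trans (h2 y' h5 h6).symm)]
    exact (card_le_of_subset fun v hv => or_iff_not_imp_right.mpr fun h => ⟨hv.1, h, hv.2⟩).trans
      (card_or_le.trans (Nat.add_le_add_left (card_line_le (F := F) y') _))
  refine key τ (Nat.card (D (Aw f hu u' ω₁)) / 2) (fun y' h5 h6 => ?_) (fun ω' h y' => ?_)
    (Or.inl ⟨hτ, Nat.div_mul_le_self _ _⟩)
  · rw [Nat.eq_of_mul_eq_mul_right Nat.card_pos (hτ.trans (h2 y' h5 h6).symm)]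
    refine card_le_of_subset fun v hv => ⟨hv.1, fun h7 => h3 ?_, hv.2⟩
    obtain ⟨c, rfl⟩ := mem_span_singleton.mp h7
    rw [← hv.2, map_smul, f.alt_B_self, smul_zero]
  · rcases isEmpty_or_nonempty {v // v ∈ D (Aw f hu u' ω') ∧ f.B y' v = f.B y z} with h4 | ⟨v, h4⟩
    · simp
    exact (Nat.le_div_iff_mul_le two_pos).mpr (hd ω' h ▸ card_B_fiber h4.1 (h4.2 ▸ h3) _)

omit hf huu hm hq hk hN [FiniteDimensional F V] in
theorem mem_of_line [Finite V] {A : AddSubgroup V} (h : ∀ z ∈ A, z ∈ F ∙ y)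
    (hA : Nat.card F < Nat.card A * 2) (c : F) : c • y ∈ A :=
  not_not.mp fun h1 => hA.not_ge ((card_mul_two_le (B := (F ∙ y).toAddSubgroup) h
    fun h2 => h1 (h2 (smul_mem _ _ (mem_span_singleton_self y)))).trans (card_line_le y))

theorem tri_alt (hexc : 4 ≤ Nat.card F ∨ 2 ≤ k) (h₀ : ω₁ ∈ orbit f.E ω) (hb : b ∉ Zw f hu ω₁) :
    (∃ ω₂ ∈ orbit f.E ω, ∀ y ∈ Wp f u u', Dv f (stabilizer (V ≃ₗ[F] V) ω₂) y) ∨
    ∃ w ∈ Wp f u u', (∀ x ∈ Wp f u u', f.B w x = 0 → x ∈ Aw f hu u' ω₁) ∧ (w = 0 ∧ (2 : F) = 0 ∨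
      ∃ ω₂ ∈ orbit f.E ω, ∃ v ≠ 0, Dv f (stabilizer (V ≃ₗ[F] V) ω₂) v) := by
  have : Finite V := Module.finite_of_finite F
  have hu' := f.alt_q u'
  have hX := Nat.le_self_pow (show k ≠ 0 by omega) (Nat.card F)
  obtain ⟨χ, hχ, hψ, G₁, G₂⟩ := exists_chi_alt (ω := ω) hf huu hq hb
  have h1 := card_orbit (hu := hu) huu ω₁
  have h2 := card_Bn (hu := hu) hf hu' huu hψ ω₁
  rw [card_Wp_alt hf huu hm] at h1 h2
  rw [card_ker_alt] at h1
  have h4 : (2 : F) = 0 → 4 ≤ Nat.card F := fun h => hq.lt_of_ne fun h3 => by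
    have := Fintype.ofFinite F
    have h4 := FiniteField.cast_card_eq_zero F
    rw [← Nat.card_eq_fintype_card, ← h3, Nat.cast_succ, Nat.cast_two, h] at h4
    simp at h4
  have hS : ∀ g, Lv f u u' g 1 → ∀ ω' ∈ orbit (f.U u) ω₁, g • ω' ∈ Sc f hu u' χ ω ω₁ :=
    fun g hg ω' h => hg.mem_Sc (by simp) (orbit_U_le_Sc h₀ hχ h)
  have hA : ∀ g, Lv f u u' g 1 → ∀ ω : Ω, ∀ x ∈ Aw f hu u' ω, g x ∈ Aw f hu u' (g • ω) :=
    fun g hg ω x hx => by simpa using hg.mem_Aw hx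
  have hB : ∀ g, Lv f u u' g 1 → ∀ ω : Ω, ∀ x ∈ Bn f χ u u' (Aw f hu u' ω),
      g x ∈ Bn f χ u u' (Aw f hu u' (g • ω)) := fun g hg ω x hx => by simpa using hg.mem_Bn hx
  have hsq : 4 ≤ Nat.card F → ∀ {ω₂ : Ω} {y} {S : Submodule F V}, y ∈ Wp f u u' → y ≠ 0 →
      (∀ g ∈ f.O, g u = u → g u' = u' → ∀ c : F, c ≠ 0 → g y = c • y → ∀ x ∈ S, g x ∈ S) →
      (∀ c, ∃ β, ∀ g ∈ f.O, g u = u → g u' = u' → (∀ x ∈ S, g x ∈ S) →
        f.tv (g y) c * f.tv u β ∈ stabilizer (V ≃ₗ[F] V) ω₂) →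
      Dv f (stabilizer (V ≃ₗ[F] V) ω₂) y := fun h4 ω₂ y S hy h0 h5 h6 c => by
    obtain ⟨μ, h7, h8⟩ := exists_sq_ne h4
    obtain ⟨g, hg, h9, h10, h11⟩ := exists_levi hf hu hu' huu hy (smul_mem _ μ hy) h0
      (smul_ne_zero h7 h0) (by simp [f.alt_q])
    obtain ⟨β, hβ⟩ := h6 (c / (μ ^ 2 - 1))
    have h12 := mul_mem (hβ g hg h9 h10 (h5 g hg h9 h10 μ h7 h11))
      (inv_mem (hβ 1 (one_mem _) rfl rfl fun _ h => h))
    rw [mul_inv_rev, mul_assoc, mul_inv_cancel_left, h11, tv_smul, tv_inv] at h12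
    convert f.tv_mul y _ _ ▸ h12 using 2
    field_simp [sub_ne_zero.mpr h8]
    ring
  have hyp : 4 ≤ Nat.card F → ∀ w ∈ Wp f u u', w ≠ 0 →
      (∀ x, x ∈ Aw f hu u' ω₁ ↔ x ∈ Wp f u u' ⊓ LinearMap.ker (f.B w)) →
      ∃ ω₂ ∈ orbit f.E ω, ∃ v ≠ 0, Dv f (stabilizer (V ≃ₗ[F] V) ω₂) v := fun h4 w hw h0 h5 => by
    obtain ⟨x, h6, h7⟩ := hf.exists_perp_eq' (not_mem_of_Wp hu hu' huu hw h0) 1
    have h8 := card_fiber_lin (Wp f u u') _ h6 (show f.B w x ≠ 0 by simp [h7]) 0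
    erw [card_Wp_alt hf huu hm, ← Nat.card_congr (Equiv.subtypeEquivRight h5)] at h8
    have h9 : Nat.card (Bn f χ u u' (Aw f hu u' ω₁)) = Nat.card F :=
      Nat.eq_of_mul_eq_mul_right Nat.card_pos (h2.trans (h8.symm.trans (mul_comm _ _)))
    obtain ⟨ω₂, h10, h11⟩ := exists_fix_tv hf huu hq h₀ hχ G₁ G₂ ((num_hyp hq hX hN))
      (fun t ht => by
        have h10 := (Nat.mul_le_mul_left _ ht).trans (vec_alt hf huu hm (S := Sc f hu u' χ ω ω₁)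
          (D := fun ω => Bn f χ u u' (Aw f hu u' ω)) (fun g hg ω' h => hg.mem_Sc (by simp) h.1)
          hB hw h0 (fun ω' h => h.2 ▸ mem_Bn.mpr ⟨f.mem_perp_span_pair.mp hw, fun x hx => by
            simp [f.B_eq_zero_symm ((h5 x).mp hx).2]⟩)
          fun ω' h => (card_Bn_Cl hf hu' huu hψ h.1).trans h9)
        have h11 : Nat.card (orbit (f.U u) ω₁) * Nat.card (Zw f hu ω₁) = Nat.card F ^ 2 :=
          Nat.eq_of_mul_eq_mul_right (Nat.card_pos (α := Aw f hu u' ω₁))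
            (by linear_combination h1 - Nat.card F * h8)
        rw [← h11]
        exact le_trans (le_of_eq (by ring)) ((Nat.mul_le_mul_right (Nat.card (Zw f hu ω₁))
          h10).trans_eq (by ring))) h5
    refine ⟨ω₂, h10, w, h0, hsq h4 hw h0 (S := Wp f u u' ⊓ LinearMap.ker (f.B w))
      (fun g hg h12 h13 c hc h14 x hx => ⟨(Lv.one (hf.alt_E_eq_O ▸ hg) h12 h13).perp hx.1, ?_⟩)
      (h11 w hw fun x hx => hx.2)⟩
    have h15 := mem_O_B hg w x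
    rw [h14, show f.B w x = 0 from hx.2] at h15
    simpa [hc] using h15
  by_cases h5 : ∀ x ∈ Aw f hu u' ω₁, x = 0
  · obtain ⟨ω₂, h6, h7⟩ := exists_fix_tv hf huu hq h₀ hχ G₁ G₂ (num_zero hq hX hN) (S := ⊥)
      (fun t ht => by
        rw [(AddSubgroup.eq_bot_iff_forall _).mpr h5, AddSubgroup.card_bot, one_mul] at h1
        rw [mul_comm (Nat.card F), ← h1]
        exact le_trans (le_of_eq (by ring)) (Nat.mul_le_mul_left _ (Nat.mul_le_mul_left _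
          (ht.trans (card_le_of_subset fun _ h => h.1)))))
      fun x => ⟨h5 x, fun h => by rw [h]; exact zero_mem _⟩
    refine Or.inl ⟨ω₂, h6, fun y hy => ?_⟩
    by_cases h0 : y = 0
    · exact fun c => by rw [h0, tv_zero_left]; exact one_mem _
    by_cases h8 : 4 ≤ Nat.card F
    · exact hsq h8 hy h0 (by simp) (h7 y hy (by simp))
    intro c
    obtain ⟨x, hx, x', hx', -, -, h9⟩ := hp_Wp hf (j := 1) (fun W hW =>
      let ⟨w, hw⟩ := (finrank_pos_iff_exists_ne_zero (R := F) (M := W)).mp hW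
      ⟨w, w.2, by simpa using hw, f.alt_q _⟩) (by omega) hu hu' huu hy
    simp only [mem_perp_span, Set.mem_insert_iff, Set.mem_singleton_iff, forall_eq_or_imp,
      forall_eq] at hx hx'
    obtain ⟨β, hβ⟩ := h7 y hy (by simp) (c / 2)
    have h10 : ∀ a e : F, e ≠ 0 → f.tv (a • y + e • x) (c / 2) * f.tv u β ∈
        stabilizer (V ≃ₗ[F] V) ω₂ := fun a e he => by
      obtain ⟨g, hg, h10, h11, h12⟩ := exists_levi hf hu hu' huu hy (add_mem (smul_mem _ a hy)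
        (smul_mem _ e (f.mem_perp_span_pair.mpr ⟨hx.1, hx.2.1⟩))) h0 (fun h => by
          simpa [hx', h9, he] using congrArg (f.B · x') h) (by simp [f.alt_q])
      exact h12 ▸ hβ g hg h10 h11 (by simp)
    refine (Subgroup.mul_mem_cancel_right _ (mul_mem (h10 0 1 one_ne_zero)
      (h10 0 1 one_ne_zero))).mp ?_
    convert mul_mem (h10 1 1 one_ne_zero) (h10 1 (-1) (by simp)) using 1
    ext v
    have h11 : (2 : F) ≠ 0 := fun h => h8 (h4 h)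
    have h12 := f.mem_perp_span_pair.mp hy
    simp only [LinearEquiv.mul_apply, tv_apply, map_add, map_smul, LinearMap.add_apply,
      B_smul_left, alt_σ, smul_eq_mul, f.alt_B_self, hx, h12, f.alt_symm u, f.alt_symm y x]
    match_scalars <;> field_simp <;> ring
  push Not at h5
  obtain ⟨y, hy, h0⟩ := h5
  rcases le_or_gt (Nat.card (Aw f hu u' ω₁)) (Nat.card F ^ k) with h5 | h5
  · have h6 := fun z => line_alt (z := z) hf huu hm hq hk hN h₀ hχ G₁ (D := id) hA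
      (fun x hx => Aw_le hx) (fun ω' h => h.1.2.1) h5 (Nat.le_of_mul_le_mul_right
        (by simp only [id]; nlinarith [Nat.mul_le_mul h5 h5])
        (Nat.card_pos (α := Aw f hu u' ω₁))) hy h0
    have h7 : Nat.card F ^ k < Nat.card (Aw f hu u' ω₁) * 2 := not_le.mp fun h7 => by
      refine num_small hq hX hN h7 (le_trans ?_ (Nat.mul_le_mul_right _ G₁))
      rw [← h1]
      exact le_trans (le_of_eq (by ring)) ((Nat.mul_le_mul_right (Nat.card (Aw f hu u' ω₁) *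
        Nat.card (Zw f hu ω₁) * (Nat.card F - 1)) (vec_alt hf huu hm hS hA (Aw_le hy) h0
          (fun ω' h => Aw_eq_of_orbit h ▸ hy) fun ω' h => h.1.2.1)).trans_eq (by ring))
    have h8 : ¬ 2 ≤ k := fun h8 => by
      have := Nat.pow_le_pow_right (show 0 < Nat.card F by omega) h8
      have : Nat.card (Aw f hu u' ω₁) ≤ _ := (card_le_of_subset h6).trans (card_line_le y)
      nlinarith
    have h9 : ∀ x ∈ Wp f u u', f.B y x = 0 → x ∈ Aw f hu u' ω₁ := fun x hx h => by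
      obtain ⟨c, rfl⟩ := mem_span_singleton.mp (mem_line_of_max hf (by omega) hu hu' huu
        (Aw_le hy) hx h0 (f.alt_q _) (f.alt_q _) h)
      exact mem_of_line h6 (hX.trans_lt h7) c
    refine Or.inr ⟨y, Aw_le hy, h9, Or.inr (hyp (hexc.resolve_right h8) y (Aw_le hy) h0
      fun x => ⟨fun hx => ⟨Aw_le hx, ?_⟩, fun hx => h9 x hx.1 hx.2⟩)⟩
    obtain ⟨c, rfl⟩ := mem_span_singleton.mp (h6 x hx)
    simp [f.alt_B_self]
  have h6 : (2 : F) = 0 := not_not.mp fun h6 => by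
    have h7 := card_sq_le hf hu hu' huu (ψ := χ.compAddMonoidHom (AddMonoidHom.mulLeft 2))
      (fun h => hψ (AddChar.ext _ _ fun a => by
        simpa [mul_div_cancel₀ _ h6] using DFunLike.congr_fun h (a / 2)))
      (fun x hx => Aw_le hx) (fun x : Aw f hu u' ω₁ => x.1) (fun x => ⟨Aw_le x.2, fun y hy =>
        hχ _ (by simpa [f.alt_symm y, two_mul] using sub_mem_Zw hy x.2)⟩) Subtype.val_injective
    rw [← card_Wp hf hu hu' huu, card_Wp_alt hf huu hm] at h7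
    nlinarith
  by_cases h7 : ∀ w ∈ Bn f χ u u' (Aw f hu u' ω₁), w = 0
  · exact Or.inr ⟨0, zero_mem _, fun x hx _ => mem_Aw_of_Bn hf hu' huu hψ hx
      fun w hw => by simp [h7 w hw], Or.inl ⟨rfl, h6⟩⟩
  push Not at h7
  obtain ⟨w, hw, h7⟩ := h7
  have h8 : Nat.card (orbit (f.U u) ω₁) * Nat.card (Zw f hu ω₁) =
      Nat.card F * Nat.card (Bn f χ u u' (Aw f hu u' ω₁)) :=
    Nat.eq_of_mul_eq_mul_right (Nat.card_pos (α := Aw f hu u' ω₁))
      (by linear_combination h1 - Nat.card F * h2)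
  have h9 := fun z => line_alt (z := z) hf huu hm hq hk hN h₀ hχ G₁ (D := Bn f χ u u') hB
    (fun x hx => hx.1) (fun ω' h => card_Bn_Cl hf hu' huu hψ h.1) (by nlinarith) h8.ge hw h7
  have h10 := mem_of_line h9 (not_le.mp fun h10 => num_line hq hX hN h10 Nat.card_pos (by
    have h11 := Nat.le_of_mul_le_mul_left ((G₂ h6).trans (Nat.mul_le_mul_right _
      (tsub_le_tsub_left Nat.card_pos _))) (by omega)
    rw [← h8, ← mul_assoc]
    exact (Nat.mul_le_mul_right _ (vec_alt hf huu hm hS hB hw.1 h7 (fun ω' h => Aw_eq_of_orbit h ▸ hw)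
      fun ω' h => card_Bn_Cl hf hu' huu hψ h.1)).trans (le_trans (le_of_eq (by ring))
        (Nat.mul_le_mul_right _ h11))))
  have h11 : ∀ x ∈ Wp f u u', f.B w x = 0 → x ∈ Aw f hu u' ω₁ := fun x hx h =>
    mem_Aw_of_Bn hf hu' huu hψ hx fun z hz => by
      obtain ⟨c, rfl⟩ := mem_span_singleton.mp (h9 z hz)
      simp [f.B_eq_zero_symm h]
  exact Or.inr ⟨w, hw.1, h11, Or.inr (hyp (h4 h6) w hw.1 h7 fun x => ⟨fun hx => ⟨Aw_le hx,
    f.B_eq_zero_symm (LS.eq_of_addChar hψ fun c => by simpa using (h10 c).2 x hx)⟩,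
      fun hx => h11 x hx.1 hx.2⟩)⟩

omit huu hN in
theorem min_alt (hexc : 4 ≤ Nat.card F ∨ 2 ≤ k) (hK : stabilizer (V ≃ₗ[F] V) ω ≤ f.E)
    (hE : ¬ f.E ≤ stabilizer (V ≃ₗ[F] V) ω) :
    Nat.card F ^ (2 * (k + 1)) - 1 ≤ Nat.card (orbit f.E ω) * (Nat.card F - 1) := by
  by_contra! hlt
  have hN := hlt.trans_le ((Nat.sub_le _ _).trans_eq
    (show _ = Nat.card F ^ 2 * (Nat.card F ^ k) ^ 2 by ring))
  have hj : ∀ W : Submodule F V, 1 ≤ finrank F W → ∃ w ∈ W, w ≠ 0 ∧ f.q w = 0 := fun W hW =>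
    let ⟨w, hw⟩ := (finrank_pos_iff_exists_ne_zero (R := F) (M := W)).mp hW
    ⟨w, w.2, by simpa using hw, f.alt_q _⟩
  have h1 : ∀ ω' ∈ orbit f.E ω, ∀ v v', Dv f (stabilizer (V ≃ₗ[F] V) ω') v →
      Dv f (stabilizer (V ≃ₗ[F] V) ω') v' → f.B v v' = 0 := fun ω' h v v' hv hv' =>
    not_not.mp fun h0 => hlt.not_ge (orbit_eq_iff.mpr h ▸ le_of_comp hf hm (by omega) hq
      (stab_le_of_orb hK h) (not_le_of_orb hE h) hv (hv'.smul (f.B v v')⁻¹) (by simp [h0]))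
  have h2 := fun {u u'} (huu : f.B u u' = 1) ω' (h : ω' ∈ orbit f.E ω)
      (hD : ¬ Dv f (stabilizer (V ≃ₗ[F] V) ω') u) =>
    (tri_alt (hu := f.alt_q u) (b := (not_forall.mp hD).choose) hf huu hm hq hk hN hexc h
      fun h => (not_forall.mp hD).choose_spec (f.ei_zero_eq_tv _ _ ▸ h.2)).resolve_left
        fun ⟨ω₂, h3, h4⟩ => by
      obtain ⟨x, hx, y, hy, -, -, h5⟩ := hp_of_le hf hj (R := ⊥)
        (f.isCompl_perp_pair (f.alt_q u) (f.alt_q u') huu).inf_eq_bot.le (by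
          have := Tv.finrank_span_pair_le (F := F) u u'
          rw [finrank_bot]; omega)
      simp [h1 ω₂ h3 x y (h4 x hx) (h4 y hy)] at h5
  obtain ⟨ω', h3, v, h0, hv⟩ : ∃ ω₂ ∈ orbit f.E ω, ∃ v ≠ 0, Dv f (stabilizer (V ≃ₗ[F] V) ω₂) v := by
    by_contra h3
    have h4 : ∀ v ≠ 0, ¬ Dv f (stabilizer (V ≃ₗ[F] V) ω) v := fun v h0 h =>
      h3 ⟨ω, mem_orbit_self ω, v, h0, h⟩
    have h5 : ∀ u ≠ 0, (2 : F) = 0 ∧ ∀ x, f.B u x = 0 → Rad f (stabilizer (V ≃ₗ[F] V) ω) u x :=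
      fun u h0 => by
        obtain ⟨u', hu', huu⟩ := hf.exists_partner' (f.alt_q u) h0
        obtain ⟨w, -, h5, ⟨rfl, h6⟩ | h6⟩ := h2 huu ω (mem_orbit_self ω) (h4 u h0)
        · exact ⟨h6, fun x hx => by
            simpa using Rad.add_smul (h5 _ (proj_mem_Wp (f.alt_q u) hu' huu hx) (by simp)).1
              ((alt F).ε * f.B u' x)⟩
        · exact (h3 h6).elim
    have : Nontrivial V := Module.nontrivial_of_finrank_pos (R := F) (by omega)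
    obtain ⟨u, h0⟩ := exists_ne (0 : V)
    exact not_full hf (by omega) (h5 u h0).1 hq h4 fun u h => (h5 u h).2
  have hO := fun g hg => E_le_O (stab_le_of_orb hK h3 (x := g) hg)
  rcases hk.eq_or_lt with rfl | h4
  · refine hlt.not_ge (orbit_eq_iff.mpr h3 ▸ le_of_inv hf hm le_rfl
      (S := span F {v | Dv f (stabilizer (V ≃ₗ[F] V) ω') v}) (fun g hg x hx => span_mono ?_
        (apply_mem_span_image_of_mem_span g.toLinearMap hx)) (subset_span hv) h0 (Or.inr ?_))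
    · rintro _ ⟨x, hx, rfl⟩
      exact hx.out.conj hg (hO g hg)
    · have := (f.totSing_span (s := {v | Dv f (stabilizer (V ≃ₗ[F] V) ω') v})
        (fun x _ => f.alt_q x) fun x hx y hy => h1 ω' h3 x y hx hy).two_mul_finrank_le hf
      omega
  obtain ⟨u, -, huu⟩ := hf.exists_partner' (f.alt_q v) h0
  replace huu : f.B u (-v) = 1 := by rw [f.alt_symm, B_neg_left, neg_neg, huu]
  replace hv : Dv f (stabilizer (V ≃ₗ[F] V) ω') (-v) := neg_one_smul F v ▸ hv.smul (-1)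
  generalize -v = u' at *
  obtain ⟨w, hw, h5, -⟩ := h2 huu ω' h3 fun h => by simp [h1 ω' h3 _ _ h hv] at huu
  obtain ⟨x, hx, y, hy, -, -, h6⟩ := hp_Wp hf hj (by omega) (f.alt_q u) (f.alt_q u') huu hw
  have key : ∀ x ∈ f.perp (span F {u, u', w}), f.B u' x = 0 ∧
      Dv f (stabilizer (V ≃ₗ[F] V) ω') (u' + x) := fun x hx => by
    simp only [mem_perp_span, Set.mem_insert_iff, Set.mem_singleton_iff, forall_eq_or_imp,
      forall_eq] at hx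
    obtain ⟨⟨a, -, h7⟩, -⟩ := mem_Aw.mp (h5 x (f.mem_perp_span_pair.mpr ⟨hx.1, hx.2.1⟩) hx.2.2)
    have h8 := hv.conj h7 (ei_mem_O _ _ _)
    rw [eiA_apply hx.1, huu, one_smul] at h8
    have h9 := h1 ω' h3 _ _ h8 hv
    simp only [B_add_left, B_smul_left, huu, f.alt_B_self, f.B_eq_zero_symm hx.2.1, alt_σ] at h8 h9
    exact ⟨hx.2.1, by simpa [show a = 0 by simpa using h9] using h8⟩
  have h7 := h1 ω' h3 _ _ (key x hx).2 (key y hy).2
  simp [f.alt_B_self, (key y hy).1, f.B_eq_zero_symm (key x hx).1, h6] at h7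

end CL.Coop
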