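/-
Minimal degrees of unitary groups: points whose transvection group is proper.
-/
import Mathlib
import Cfsg.Agent.KSG.CoopU1
import Cfsg.Agent.CLAS.FormCount

set_option autoImplicit false

namespace CL.Coop

open Module CL.Witt CL.Witt.Form CL.Root MulAction Submodule FormType CL.Uni

variable {F : Type*} [Field F] [Fintype F] {q : ℕ} {hF : Fintype.card F = q ^ 2} {V : Type*}
  [AddCommGroup V] [Module F V] [FiniteDimensional F V] {f : Form (HT hF) V}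
  {Ω : Type*} [MulAction (V ≃ₗ[F] V) Ω] [Finite Ω] {u u' v w x x' y y' z z' : V}
  {ω ω' ω₁ ω₂ : Ω} {ψ χ : AddChar F ℂ} {S S₁ : Set Ω} {D : Ω → AddSubgroup V} {s t b d τ ν : ℕ}

variable (hF) in
include hF in
theorem card_sq : Nat.card F = q ^ 2 := Nat.card_eq_fintype_card.trans hF

variable (hF) in
include hF in
theorem two_le_q : 2 ≤ q := by
  have := hF ▸ Fintype.one_lt_card (α := F)
  by_contra! h
  interval_cases q <;> simp at this

omit [FiniteDimensional F V] in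
theorem degen (A : AddSubgroup V) (hx : x ∈ A) (h0 : f.q x ≠ 0)
    (h : ∀ y ∈ A, ∀ z ∈ A, f.q y ≠ 0 → f.q y * f.q z = sig hF (f.B y z) * f.B y z) (hy : y ∈ A)
    (hz : z ∈ A) : f.B y z * f.q x = f.B y x * f.B x z := by
  have H : ∀ y ∈ A, ∀ z ∈ A, f.B y y * f.B z z = f.B z y * f.B y z := fun y hy z hz => by
    have h1 : ∀ y ∈ A, ∀ z ∈ A, f.B y y ≠ 0 → f.B y y * f.B z z = f.B z y * f.B y z :=
      fun y hy z hz h1 => by
        rw [f.herm_symm y z, ← herm_q, ← herm_q]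
        exact h y hy z hz (f.herm_q y ▸ h1)
    by_cases h2 : f.B y y = 0
    swap
    · exact h1 y hy z hz h2
    by_cases h3 : f.B z z = 0
    swap
    · rw [mul_comm, h1 z hz y hy h3, mul_comm]
    rw [herm_q] at h0
    have h4 : ∀ y ∈ A, f.B y y = 0 → f.B x y = 0 := fun y hy h2 => by
      have := h1 x hx y hy h0
      rw [h2, mul_zero, f.herm_symm x y] at this
      simpa using this
    have h5 := h1 _ (add_mem hy hx) z hz (by
      simpa [h2, h4 y hy h2, f.B_eq_zero_symm (h4 y hy h2)] using h0)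
    simpa [h2, h3, h4 z hz h3, f.B_eq_zero_symm (h4 z hz h3)] using h5
  have h1 := H x hx y hy
  have h2 := H x hx z hz
  have h3 := H y hy z hz
  have h4 := H x hx _ (add_mem hy hz)
  have h5 := H _ (add_mem hy hx) z hz
  have h6 := H y hy _ (add_mem hz hx)
  simp only [B_add_left, B_add_right] at h4 h5 h6
  rw [herm_q]
  generalize f.B x x = r, f.B x y = β, f.B y x = β', f.B x z = γ, f.B z x = γ', f.B y z = m,
    f.B z y = m', f.B y y = Y, f.B z z = Z at h1 h2 h3 h4 h5 h6 ⊢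
  have e1 : m * r - β' * γ + (m' * r - γ' * β) = 0 := by linear_combination h4 - h1 - h2
  have e2 : (m' * r - γ' * β) * γ + γ' * (m * r - β' * γ) = 0 := by
    linear_combination (-r) * (h5 - h3 - h2) + (β + β') * h2
  have e3 : (m' * r - γ' * β) * β' + β * (m * r - β' * γ) = 0 := by
    linear_combination (-r) * (h6 - h3 - h1) + (γ + γ') * h1
  refine sub_eq_zero.mp (pow_eq_zero_iff two_ne_zero |>.mp ?_)
  linear_combination r ^ 2 * h3 - r * Z * h1 - β' * β * h2 + β * e2 + γ * e3 +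
    (m * r - β' * γ - β * γ) * e1

theorem card_Wp_eq (hf : f.Nondeg) (hu : f.q u = 0) (hu' : f.q u' = 0) (huu : f.B u u' = 1)
    {k : ℕ} (hn : finrank F V = k + 2) (c : F) : Nat.card {y // y ∈ Wp f u u' ∧ f.q y = c} =
      Nat.card {v : Fin k → F // Cfsg.hermForm k F q v v = c} := by
  rw [← card_q_eq (nondeg_Wp hf hu hu' huu) (by rw [finrank_Wp hf hu hu' huu, hn]; rfl)]
  exact (Nat.card_congr (Equiv.subtypeSubtypeEquivSubtypeInter (· ∈ Wp f u u') (f.q · = c))).symm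

section

variable (hf : f.Nondeg) (hn : 5 ≤ finrank F V) (hu : f.q u = 0) (hu' : f.q u' = 0)
  (huu : f.B u u' = 1)
include hf hn hu hu' huu

theorem sig_six (h6 : 6 ≤ finrank F V) (y : V) : (q ^ 2 - 1) * (q ^ 2 + 1) *
    ((q ^ 2) ^ (finrank F V - 5) * q) ≤ Nat.card {v // v ∈ Wp f u u' ∧ v ≠ 0 ∧ f.q v = f.q y} := by
  obtain ⟨a, ha⟩ := exists_add_σ_eq (sig_ne_id hF) (sig_sig hF) (Tv.herm_σ_q (f := f) y)
  have := le_card_value hf hu hu' huu hn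
    (fun y hy => hp_Wp hf (herm_iso2 (sig_ne_id hF) f) h6 hu hu' huu hy) a
  rwa [card_sq hF, card_ker_π, show (HT hF).π a = f.q y from ha] at this

theorem tau_herm (hy : y ∈ Wp f u u') (h0 : y ≠ 0) (h : 6 ≤ finrank F V ∨ f.q y ≠ 0) (z : V)
    (e : F) : (q ^ 2 - 1) * ((q ^ 2) ^ (finrank F V - 5) * q) ≤
      Nat.card {v // v ∈ Wp f u u' ∧ v ∉ F ∙ y ∧ f.q v = f.q z ∧ f.B y v = e} := by
  obtain ⟨a, ha⟩ := exists_add_σ_eq (sig_ne_id hF) (sig_sig hF) (Tv.herm_σ_q (f := f) z)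
  have := le_card_fiber hf hu hu' huu hy h0 (h.elim (fun h => hp_Wp hf (herm_iso2 (sig_ne_id hF) f)
    h hu hu' huu hy) fun h => hp_of_le hf (herm_iso2 (sig_ne_id hF) f) (R := ⊥) (fun v hv => ?_) (by
      have := Tv.finrank_span_triple_le (F := F) u u' y
      rw [finrank_bot]
      omega)) a e
  · rwa [card_sq hF, card_ker_π, show (HT hF).π a = f.q z from ha] at this
  have h1 := f.mem_perp_span_pair.mp hy
  obtain ⟨c, rfl⟩ := mem_span_singleton.mp (inf_perp_triple hu hu' (by simp [huu]) h1.1 h1.2 hv)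
  have h2 : c * f.q y = 0 := by
    rw [herm_q, ← B_smul_right]; exact hv.2 y (subset_span (by simp))
  simp [(mul_eq_zero.mp h2).resolve_right h]

omit hn in
theorem sig_five (h5 : finrank F V = 5) (h : f.q y ≠ 0) :
    q ^ 2 * (q ^ 3 + 1) ≤ Nat.card {v // v ∈ Wp f u u' ∧ v ≠ 0 ∧ f.q v = f.q y} := by
  have : Finite V := Module.finite_of_finite F
  have := (card_Wp_eq hf hu hu' huu h5 _).trans
    (FormCount.card_hermForm_eq_of_ne hF 3 (Tv.herm_σ_q (f := f) y) h)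
  rw [if_neg (by decide)] at this
  exact this.ge.trans (card_le_of_subset fun v hv => ⟨hv.1, fun h0 => h (by
    rw [← hv.2, h0, f.q_zero]), hv.2⟩)

theorem sig_herm (y : V) : (q ^ 3 + 1) * (q ^ 2 - 1) * (q ^ 2) ^ (finrank F V - 5) ≤
    Nat.card {v // v ∈ Wp f u u' ∧ v ≠ 0 ∧ f.q v = f.q y} := by
  have h2 := two_le_q hF
  rcases hn.eq_or_lt' with h | h
  · rw [h, pow_zero, mul_one]
    by_cases h1 : f.q y = 0
    · have := (card_sing_succ _).symm.trans ((card_Wp_eq hf hu hu' huu h _).trans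
        (FormCount.card_hermForm_eq_zero hF 3))
      rw [if_neg (by decide), add_left_inj] at this
      rw [h1, this]
    · exact le_trans (by rw [mul_comm]; gcongr; omega) (sig_five hf hu hu' huu h h1)
  refine le_trans ?_ (sig_six hf hn hu hu' huu h y)
  rw [mul_comm (q ^ 3 + 1), mul_assoc, mul_assoc, mul_comm _ q, ← mul_assoc (_ + _)]
  gcongr
  nlinarith

variable (hS : ∀ g, Lv f u u' g 1 → ∀ ω ∈ S₁, g • ω ∈ S)
  (hD : ∀ g, Lv f u u' g 1 → ∀ ω, ∀ x ∈ D ω, g x ∈ D (g • ω))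
include hS hD

theorem vec_herm (hy : y ∈ Wp f u u') (h0 : y ≠ 0) (h : ∀ ω ∈ S₁, y ∈ D ω)
    (hb : ∀ ω ∈ S, Nat.card (D ω) ≤ b)
    (hs : s ≤ Nat.card {v // v ∈ Wp f u u' ∧ v ≠ 0 ∧ f.q v = f.q y}) :
    s * Nat.card S₁ ≤ Nat.card S * (b - 1) := by
  have : Finite V := Module.finite_of_finite F
  refine (Nat.mul_le_mul_right _ hs).trans (cover_gen (F := F) (V := V)
    (fun ω (v : {v // v ∈ Wp f u u' ∧ v ≠ 0 ∧ f.q v = f.q y}) => v.1 ∈ D ω) (fun v => ?_)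
    fun ω hω => (card_mem_le (by simp) _).trans (tsub_le_tsub_right (hb ω hω) 1))
  obtain ⟨g, hg, h1⟩ := lv_vec (sig_ne_id hF) hf hn hu hu' huu hy v.2.1 h0 v.2.2.1 one_ne_zero
    v.2.2.2
  exact ⟨g, fun ω hω => ⟨hS g hg ω hω, h1 ▸ hD g hg ω y (h ω hω)⟩⟩

theorem pair_herm (hy : y ∈ Wp f u u') (hz : z ∈ Wp f u u') (h0 : y ≠ 0) (h1 : z ∉ F ∙ y)
    (h : ∀ ω ∈ S₁, y ∈ D ω ∧ z ∈ D ω)
    (hc : 6 ≤ finrank F V ∧ (f.q y ≠ 0 ∨ f.B y z ≠ 0) ∨
      f.q y * f.q z ≠ sig hF (f.B y z) * f.B y z) {k k' : ℕ}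
    (hs : s ≤ Nat.card {v // v ∈ Wp f u u' ∧ v ≠ 0 ∧ f.q v = f.q y})
    (ht : ∀ y' ∈ Wp f u u', y' ≠ 0 → f.q y' = f.q y → t ≤
      Nat.card {v // v ∈ Wp f u u' ∧ v ∉ F ∙ y' ∧ f.q v = f.q z ∧ f.B y' v = f.B y z})
    (hk : ∀ ω ∈ S, Nat.card {v // v ∈ D ω ∧ f.q v = f.q y} ≤ k)
    (hk' : ∀ ω ∈ S, ∀ y' ∈ D ω, f.q y' = f.q y → Nat.card {v // v ∈ D ω ∧ f.B y' v = f.B y z} ≤ k') :
    s * t * Nat.card S₁ ≤ Nat.card S * (k * k') := by
  have : Finite V := Module.finite_of_finite F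
  refine pair_cover (F := F) (fun ω v => v ∈ D ω) (fun ω v => v ∈ D ω) hs
    (fun y' h => ht y' h.1 h.2.1 h.2.2) (fun y' z' h2 h3 => ?_)
    (fun ω hω => le_trans (card_le_of_subset fun v h => ⟨h.1, h.2.2.2⟩) (hk ω hω))
    fun ω hω y' h2 h3 => le_trans (card_le_of_subset fun v h => ⟨h.1, h.2.2.2.2⟩)
      (hk' ω hω y' h2 h3.2.2)
  obtain ⟨g, hg, rfl, rfl⟩ := lv_pair (sig_ne_id hF) hf hn hu hu' huu hy h2.1 hz h3.1 h0 h2.2.1 h1
    h3.2.1 h2.2.2 h3.2.2.1 h3.2.2.2 hc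
  exact ⟨g, fun ω hω => ⟨hS g hg ω hω, hD g hg ω y (h ω hω).1, hD g hg ω z (h ω hω).2⟩⟩

theorem pair_half (hy : y ∈ Wp f u u') (hz : z ∈ Wp f u u') (h0 : y ≠ 0) (h1 : z ∉ F ∙ y)
    (h : ∀ ω ∈ S₁, y ∈ D ω ∧ z ∈ D ω) (hc' : f.q y ≠ 0 ∨ f.B y z ≠ 0)
    (hc : 6 ≤ finrank F V ∨ f.q y * f.q z ≠ sig hF (f.B y z) * f.B y z)
    (hb : ∀ ω ∈ S, Nat.card (D ω) ≤ b)
    (hs : s ≤ Nat.card {v // v ∈ Wp f u u' ∧ v ≠ 0 ∧ f.q v = f.q y})
    (ht : ∀ y' ∈ Wp f u u', y' ≠ 0 → f.q y' = f.q y → t ≤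
      Nat.card {v // v ∈ Wp f u u' ∧ v ∉ F ∙ y' ∧ f.q v = f.q z ∧ f.B y' v = f.B y z}) :
    2 * (s * t * Nat.card S₁) ≤ Nat.card S * (b * b) := by
  have : Finite V := Module.finite_of_finite F
  have h2 := pair_herm hf hn hu hu' huu hS hD hy hz h0 h1 h (hc.imp_left fun h => ⟨h, hc'⟩)
    (k' := b / 2) hs ht (fun ω hω => (card_le_of_subset fun v h => h.1).trans (hb ω hω))
    fun ω hω y' h2 h3 => (Nat.le_div_iff_mul_le two_pos).mpr (le_trans ?_ (hb ω hω))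
  · refine (Nat.mul_le_mul_left 2 h2).trans ?_
    rw [mul_left_comm, mul_left_comm 2]
    gcongr
    exact Nat.mul_div_le b 2
  rcases hc' with h | h
  · exact card_B_fiber h2 (by rwa [← herm_q, h3]) _
  rcases isEmpty_or_nonempty {v // v ∈ D ω ∧ f.B y' v = f.B y z} with h4 | ⟨v, h4, h5⟩
  · simp
  · exact card_B_fiber h4 (h5 ▸ h) _

theorem flag_herm (h6 : 6 ≤ finrank F V) (hW : ∀ ω, ∀ x ∈ D ω, x ∈ Wp f u u') (h0 : y ≠ 0)
    (h1 : z ∉ F ∙ y) (h₁ : ω₁ ∈ S₁) (h : ∀ ω ∈ S₁, D ω = D ω₁) (hy : y ∈ D ω₁) (hz : z ∈ D ω₁)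
    (hB : ∀ y ∈ D ω₁, ∀ z ∈ D ω₁, f.B y z = 0) (hb : ∀ ω ∈ S, Nat.card (D ω) = Nat.card (D ω₁))
    (hd : ∀ X, f.TotSing X → finrank F X ≤ d + 1)
    (hs : Nat.card {y // y ∈ Wp f u u' ∧ y ≠ 0 ∧ f.q y = 0} = s)
    (hτ : q ^ 2 + τ + (q ^ 2 - 1) * ((q ^ 2) ^ (finrank F V - 4) * q) ≤ s + 1)
    (hν : ν * ((q ^ 2) ^ d - 1) * ((q ^ 2) ^ d - q ^ 2) ≤ s * τ) :
    2 ≤ d ∧ Nat.card (D ω₁) ≤ (q ^ 2) ^ d ∧
      ν * ((q ^ 2) ^ d - 1) * Nat.card S₁ ≤ Nat.card S * (Nat.card (D ω₁) - 1) := by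
  have : Finite V := Module.finite_of_finite F
  have hT := f.totSing_span (s := D ω₁) (fun y hy => (f.herm_q y).trans (hB y hy y hy)) hB
  have h3 := card_le_of_totSing hu hu' huu hd _ (span_le.mpr fun x h => hW _ x h) hT
  have h2 := flag_le hf hu hu' huu (idx2 (sig_ne_id hF) (nondeg_Wp hf hu hu' huu)
    (by rw [finrank_Wp hf hu hu' huu]; omega)) (Or.inl (exists_add_σ_eq_zero (sig_ne_id hF)
      (sig_sig hF))) (D := fun ω => D ω) hS hD hW h0 h1 ⟨_, h₁⟩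
    (fun ω hω => by rw [h ω hω]; exact ⟨hy, hz, hT⟩)
    (fun ω hω _ => (card_ne_zero_sub _).trans_le (by rw [hb ω hω])) (τ := τ)
    (card_le_of_totSing hu hu' huu hd) (by rwa [card_ker_π, card_sing_succ, hs, card_sq hF])
  have h4 : Nat.card F ^ 2 ≤ Nat.card F ^ d := by
    refine le_trans ?_ h3
    rw [card_submodule_eq_pow]
    refine Nat.pow_le_pow_right Nat.card_pos (le_trans ?_ (Submodule.finrank_mono
      (span_mono (show Set.range ![z, y] ⊆ _ by simp [Set.insert_subset_iff, hy, hz]))))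
    rw [finrank_span_eq_card (Tv.li2 h0 h1), Fintype.card_fin]
  have h5 := Finite.one_lt_card (α := F)
  rw [hs, ← mul_assoc] at h2
  rw [← card_sq hF] at hν ⊢
  exact ⟨(Nat.pow_le_pow_iff_right h5).mp h4, (card_le_of_subset fun _ h => subset_span h).trans h3,
    Nat.le_of_mul_le_mul_right (((mul_right_comm _ _ _).le.trans (Nat.mul_le_mul_right _ hν)).trans
      h2) (Nat.sub_pos_of_lt (by rw [sq] at h4; nlinarith))⟩

end

section Num

variable {N P X Y a C : ℕ} (hq : 2 ≤ q) (hP : P + 1 = q ^ 2)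
include hq hP

theorem num_vec (hN : N * P ≤ (q ^ 9 + q ^ 4) * X) (hX : 0 < X) (ha : a ≤ q ^ 2)
    (h : (q ^ 3 + 1) * P * X * (q ^ 7 * X) ≤ N * ((a - 1) * a)) : False := by
  have h1 : N * ((a - 1) * a) ≤ (q ^ 9 + q ^ 4) * X * q ^ 2 := by
    refine le_trans ?_ (Nat.mul_le_mul_right _ hN)
    rw [mul_assoc]
    gcongr
    omega
  have h2 : (q ^ 3 + 1) * P * q ^ 7 * X ≤ (q ^ 3 + 1) * P * X * (q ^ 7 * X) := by
    rw [mul_assoc, mul_assoc _ X]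
    exact Nat.mul_le_mul_left _ (Nat.le_mul_of_pos_left _ hX)
  rw [mul_right_comm] at h1
  have h3 := Nat.le_of_mul_le_mul_right (h2.trans (h.trans h1)) hX
  obtain ⟨r, rfl⟩ := Nat.exists_eq_add_of_le' hq
  obtain rfl : P = r ^ 2 + 4 * r + 3 := by nlinarith
  ring_nf at h3
  omega

theorem num_pair (hN : N * P ≤ (q ^ 9 + q ^ 4) * Y ^ 2) (hY : q ≤ Y) (ha : a ≤ q ^ 3 * Y)
    (h : 2 * (P * (q ^ 2 + 1) * (Y ^ 2 * q) * (P * (Y ^ 2 * q)) * (q ^ 7 * Y ^ 2)) ≤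
      N * (a * a * a)) : False := by
  have h1 : N * (a * a * a) * P ≤ (q ^ 9 + q ^ 4) * (q ^ 9 * Y ^ 5) := by
    rw [mul_right_comm, show (q ^ 9 + q ^ 4) * (q ^ 9 * Y ^ 5) =
      (q ^ 9 + q ^ 4) * Y ^ 2 * (q ^ 3 * Y * (q ^ 3 * Y) * (q ^ 3 * Y)) by ring]
    gcongr
  have h2 := (Nat.mul_le_mul_right P h).trans h1
  rw [show _ * P = 2 * P ^ 3 * (q ^ 2 + 1) * Y * (q ^ 9 * Y ^ 5) by ring] at h2
  have h3 := (Nat.mul_le_mul_left _ hY).trans (Nat.le_of_mul_le_mul_right h2 (by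
    have : 0 < Y := by omega
    positivity))
  obtain ⟨r, rfl⟩ := Nat.exists_eq_add_of_le' hq
  obtain rfl : P = r ^ 2 + 4 * r + 3 := by nlinarith
  ring_nf at h3
  omega

theorem num_Z (hN : N * P ≤ (q ^ 9 + q ^ 4) * X) (hX : 0 < X)
    (h : (q - 1) * (q ^ 7 * X) ≤ N * (q - 2)) : False := by
  have h1 := (Nat.mul_le_mul_right P h).trans ((mul_right_comm _ _ _).trans_le
    (Nat.mul_le_mul_right _ hN))
  rw [← mul_assoc, mul_right_comm, mul_right_comm _ X] at h1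
  have h3 := Nat.le_of_mul_le_mul_right h1 hX
  obtain ⟨r, rfl⟩ := Nat.exists_eq_add_of_le' hq
  obtain rfl : P = r ^ 2 + 4 * r + 3 := by nlinarith
  simp only [Nat.add_succ_sub_one, Nat.add_sub_cancel] at h3
  ring_nf at h3
  omega

theorem num_five {k : ℕ} (hN : N ≤ q ^ 7 + q ^ 5 + q ^ 2) (ha : a ≤ q ^ 3)
    (hk : 4 * k ≤ 3 * q ^ 3) (hk' : q = 2 → k ≤ 4)
    (h : q ^ 2 * (q ^ 3 + 1) * (P * q) * q ^ 7 ≤ N * (k * q ^ 2 * a)) : False := by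
  have h1 : N * (k * q ^ 2 * a) ≤ (q ^ 7 + q ^ 5 + q ^ 2) * (k * q ^ 2 * q ^ 3) := by gcongr
  replace h1 := h.trans h1
  rcases hq.eq_or_lt' with rfl | h2
  · have := hk' rfl
    omega
  have h3 : 4 * ((q ^ 7 + q ^ 5 + q ^ 2) * (k * q ^ 2 * q ^ 3)) ≤
      (q ^ 7 + q ^ 5 + q ^ 2) * (3 * q ^ 3 * q ^ 2 * q ^ 3) := by
    rw [mul_left_comm, ← mul_assoc 4, ← mul_assoc 4]
    gcongr
  replace h3 := (Nat.mul_le_mul_left 4 h1).trans h3
  obtain ⟨r, rfl⟩ := Nat.exists_eq_add_of_le' (show 3 ≤ q from h2)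
  obtain rfl : P = r ^ 2 + 6 * r + 8 := by nlinarith
  ring_nf at h3
  omega

theorem num_C (hN : N * P ≤ (q ^ 9 + q ^ 4) * X) (h : C + q ^ 7 * X ≤ N) :
    C * P ≤ (q ^ 7 + q ^ 4) * X := by
  have h1 := (Nat.mul_le_mul_right P h).trans hN
  rw [show q ^ 9 = q ^ 7 * (P + 1) by rw [hP]; ring] at h1
  nlinarith

theorem num_C_lt (hC : C * P ≤ (q ^ 7 + q ^ 4) * X) (hX : 0 < X) : C < q ^ 6 * X := by
  refine Nat.lt_of_mul_lt_mul_right (a := P) (hC.trans_lt ?_)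
  rw [mul_right_comm]
  refine Nat.mul_lt_mul_of_pos_right ?_ hX
  obtain ⟨r, rfl⟩ := Nat.exists_eq_add_of_le' hq
  obtain rfl : P = r ^ 2 + 4 * r + 3 := by nlinarith
  ring_nf
  omega

theorem num_one (hC : C * P ≤ (q ^ 7 + q ^ 4) * X) (hX : q ^ 2 ≤ X) (hab : b * a = q ^ 6 * X)
    (h1 : 2 * (P * (q ^ 2 + 1) * (X * q) * (P * (X * q))) ≤ C * b)
    (h2 : P * (q ^ 2 + 1) * (X * q) * b ≤ C * a) : False := by
  have h3 : P * (q ^ 2 + 1) * (X * q) * (2 * (P * (q ^ 2 + 1) * (X * q) * (P * (X * q)))) ^ 2 ≤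
      C ^ 3 * (q ^ 6 * X) := by
    refine (Nat.mul_le_mul_left _ (Nat.pow_le_pow_left h1 2)).trans ?_
    rw [← hab, show C ^ 3 * (b * a) = C * a * (C ^ 2 * b) by ring, show _ * (C * b) ^ 2 =
      P * (q ^ 2 + 1) * (X * q) * b * (C ^ 2 * b) by ring]
    exact Nat.mul_le_mul_right _ h2
  have h4 := (Nat.mul_le_mul_right (P ^ 3) h3).trans ((show _ = (C * P) ^ 3 * (q ^ 6 * X) by
    ring).trans_le (Nat.mul_le_mul_right _ (Nat.pow_le_pow_left hC 3)))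
  rw [show _ * P ^ 3 = 4 * P ^ 8 * (q ^ 2 + 1) ^ 3 * X * (q ^ 5 * X ^ 4) by ring,
    show _ * (q ^ 6 * X) = q ^ 11 * (q ^ 3 + 1) ^ 3 * q ^ 2 * (q ^ 5 * X ^ 4) by ring] at h4
  have h5 := Nat.le_of_mul_le_mul_right ((Nat.mul_le_mul_left _ hX).trans
    (Nat.le_of_mul_le_mul_right h4 (by
      have : 0 < X := by omega
      positivity))) (by positivity)
  obtain ⟨r, rfl⟩ := Nat.exists_eq_add_of_le' hq
  obtain rfl : P = r ^ 2 + 4 * r + 3 := by nlinarith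
  ring_nf at h5
  omega

end Num

end CL.Coop
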