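/-
Minimal degrees of unitary groups: regular points and rich points.
-/
import Mathlib
import Cfsg.Agent.KSG.CoopU2

set_option autoImplicit false

namespace CL.Coop

open Module CL.Witt CL.Witt.Form CL.Root MulAction Submodule FormType CL.Uni

variable {F : Type*} [Field F] [Fintype F] {q : ℕ} {hF : Fintype.card F = q ^ 2} {V : Type*}
  [AddCommGroup V] [Module F V] [FiniteDimensional F V] {f : Form (HT hF) V}
  {Ω : Type*} [MulAction (V ≃ₗ[F] V) Ω] [Finite Ω] {u u' v w x x' y y' z z' : V}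
  {ω ω' ω₁ ω₂ : Ω} {ψ χ : AddChar F ℂ} {s t d τ ν : ℕ} {b : F}

variable (hF) in
include hF in
theorem card_le_of_line {A : AddSubgroup V} (h : ∀ y ∈ A, y ∈ F ∙ x) : Nat.card A ≤ q ^ 2 := by
  have : Finite (F ∙ x) := Module.finite_of_finite F
  refine (Nat.card_le_card_of_injective (fun y : A => (⟨y, h y y.2⟩ : F ∙ x)) fun a b h =>
    Subtype.ext (congrArg Subtype.val h :)).trans ((card_submodule_eq_pow _).trans_le ?_)
  rw [← card_sq hF]
  exact (Nat.pow_le_pow_right Nat.card_pos (Tv.finrank_span_single_le x)).trans_eq (pow_one _)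

/-- The numerical hypotheses. -/
structure Hyp (f : Form (HT hF) V) (N d s τ ν : ℕ) : Prop where
  hN : N * (q ^ 2 - 1) ≤ (q ^ 9 + q ^ 4) * (q ^ 2) ^ (finrank F V - 5)
  h5 : finrank F V = 5 → N ≤ q ^ 7 + q ^ 5 + q ^ 2
  hd : ∀ X, f.TotSing X → finrank F X ≤ d + 1
  hs : Nat.card {v // f.q v = 0} =
    (q ^ 2 - 1) * ((q ^ 2) ^ (finrank F V - 2) * q) + q ^ 2 * (s + 1)
  hτ : q ^ 2 + τ + (q ^ 2 - 1) * ((q ^ 2) ^ (finrank F V - 4) * q) ≤ s + 1
  hν : ν * ((q ^ 2) ^ d - 1) * ((q ^ 2) ^ d - q ^ 2) ≤ s * τ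
  hν₁ : 2 ≤ d → N * (q ^ 2) ^ d < ν * (q ^ 7 * (q ^ 2) ^ (finrank F V - 5))
  hν₂ : 2 ≤ d → q ^ 6 * (q ^ 2) ^ (finrank F V - 5) ≤ ν * (q ^ 2) ^ d

variable (hf : f.Nondeg) (hn : 5 ≤ finrank F V) {hu : f.q u = 0} (hu' : f.q u' = 0)
  (huu : f.B u u' = 1)
include hf hn hu' huu

theorem pow_eq : Nat.card F ^ (finrank F V - 2) = q ^ 6 * (q ^ 2) ^ (finrank F V - 5) := by
  rw [card_sq hF, show finrank F V - 2 = 3 + (finrank F V - 5) by omega, pow_add, ← pow_mul]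

theorem card_orbit_herm (ω : Ω) : Nat.card (orbit (f.U u) ω) *
    (Nat.card (Aw f hu u' ω) * Nat.card (Zw f hu ω)) = q ^ 7 * (q ^ 2) ^ (finrank F V - 5) := by
  have : Finite V := Module.finite_of_finite F
  rw [card_orbit huu, card_Wp hf hu hu' huu, pow_eq hf hn hu' huu, card_ker_π]
  ring

theorem exists_chi (hb : (HT hF).π b = 0) (hb' : b ∉ Zw f hu ω₁) : ∃ χ ψ : AddChar F ℂ,
    (∀ a ∈ Zw f hu ω₁, χ a = 1) ∧ χ b ≠ 1 ∧ ψ ≠ 1 ∧ (∀ ω' ∈ Sc f hu u' χ ω ω₁,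
      ∀ x ∈ Aw f hu u' ω', ∀ y ∈ Aw f hu u' ω', ψ (f.B x y) = 1) ∧
    (q - 1) * (Nat.card (Zw f hu ω₁) * Nat.card (Sc f hu u' χ ω ω₁)) ≤
      Nat.card (orbit f.E ω) * (q - Nat.card (Zw f hu ω₁)) := by
  have : Finite V := Module.finite_of_finite F
  obtain ⟨χ, h1, h2⟩ := exists_char hb'
  have h0 : b ≠ 0 := fun h => hb' (h ▸ zero_mem _)
  have h3 : sig hF b = -b := eq_neg_of_add_eq_zero_right hb
  obtain ⟨c, hc⟩ := exists_sub_σ_eq (sig_ne_id hF) (sig_sig hF) (a := b) hb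
  refine ⟨χ, χ.compAddMonoidHom (AddMonoidHom.id F - (sig hF).toAddMonoidHom), h1, h2,
    fun h => h2 (by rw [← hc]; exact DFunLike.congr_fun h c), fun ω' h x hx y hy => h.2 _ (by
      simpa [f.herm_symm x y] using sub_mem_Zw hx hy), ?_⟩
  let F₀ := (HT hF).π.ker.comap (AddMonoidHom.mulLeft b)
  have h4 : ∀ y, y ∈ F₀ ↔ sig hF y = y := fun y => by
    change b * y + sig hF (b * y) = 0 ↔ _
    rw [map_mul, h3, neg_mul, ← sub_eq_add_neg, ← mul_sub, mul_eq_zero_iff_left h0, sub_eq_zero,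
      eq_comm]
  have h5 : Nat.card F₀ = q := (Nat.card_congr ((Equiv.mulLeft₀ b h0).subtypeEquiv
    fun _ => Iff.rfl)).trans (card_ker_π hF)
  obtain ⟨y, hy, hy0⟩ := exists_perp_pair_q_eq (sig_ne_id hF) hf (by omega) hu hu' huu
    (map_one _)
  have h6 : y ∈ Wp f u u' := f.mem_perp_span_pair.mpr ⟨hy, hy0.1⟩
  have h7 : y ≠ 0 := fun h => by simp [h, f.q_zero] at hy0
  obtain ⟨k, hk, h8⟩ := torus_le (hu := hu) (u' := u') (χ := χ) (ω := ω) (ω₁ := ω₁)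
    (L := {y // y ∈ F₀ ∧ y ≠ 0}) Subtype.val Subtype.val_injective F₀ (fun l => ⟨l.2.1, by
      obtain ⟨c, hc⟩ := Tv.exists_norm_eq_of_involution (sig_ne_id hF) (sig_sig hF)
        (b := l.1⁻¹) (by rw [map_inv₀, (h4 _).mp l.2.1])
      obtain ⟨g, hg, -⟩ := lv_vec (sig_ne_id hF) hf hn hu hu' huu h6 h6 h7 h7 (c := c)
        (fun h => l.2.2 (by simpa [h, eq_comm] using hc)) rfl
      exact ⟨g, c, hg, by rw [show (HT hF).σ c * c = _ from hc, mul_inv_cancel₀ l.2.2]⟩⟩)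
    fun a ha h => not_not.mp fun h0 => h2 (by
      simpa [mul_div_cancel₀, h0] using h (b / a) ((h4 _).mpr (by
        rw [map_div₀, h3, show sig hF a = -a from eq_neg_of_add_eq_zero_right ha, neg_div_neg_eq])))
  rw [card_ne_zero_sub, h5] at h8
  rw [h5] at hk
  rw [mul_comm (Nat.card (Zw f hu ω₁)), ← mul_assoc]
  refine (Nat.mul_le_mul_right _ (h8.trans (Nat.mul_le_mul (card_Cl_le ω₁) (min_le_left _ _)))).trans
    (le_of_eq ?_)
  rw [mul_assoc, tsub_mul, hk, one_mul]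

theorem exists_pair {A : AddSubgroup V} (hA : q ^ 2 < Nat.card A ∨ ∀ w ∈ A, ∃ y ∈ A, y ∉ F ∙ w) :
    ∃ y ∈ A, ∃ z ∈ A, y ≠ 0 ∧ z ∉ F ∙ y ∧
      ((f.q y ≠ 0 ∨ f.B y z ≠ 0) ∨ ∀ y ∈ A, ∀ z ∈ A, f.B y z = 0) := by
  replace hA : ∀ w ∈ A, ∃ y ∈ A, y ∉ F ∙ w := hA.elim (fun h w _ => by
    by_contra! h1
    exact h.not_ge (card_le_of_line hF h1)) id
  by_cases h : ∃ y ∈ A, f.q y ≠ 0
  · obtain ⟨y, hy, h⟩ := h
    obtain ⟨z, hz, h1⟩ := hA y hy
    exact ⟨y, hy, z, hz, fun h0 => h (h0 ▸ f.q_zero), h1, Or.inl (Or.inl h)⟩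
  push Not at h
  by_cases h1 : ∀ y ∈ A, ∀ z ∈ A, f.B y z = 0
  · obtain ⟨y, hy, h2⟩ := hA 0 (zero_mem _)
    obtain ⟨z, hz, h3⟩ := hA y hy
    exact ⟨y, hy, z, hz, fun h0 => h2 (by simp [h0]), h3, Or.inr h1⟩
  push Not at h1
  obtain ⟨y, hy, z, hz, h1⟩ := h1
  refine ⟨y, hy, z, hz, fun h0 => h1 (by simp [h0]), fun h2 => h1 ?_, Or.inl (Or.inr h1)⟩
  obtain ⟨c, rfl⟩ := mem_span_singleton.mp h2
  rw [B_smul_right, f.B_self_eq_zero (h y hy), mul_zero]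

theorem five_II (h5 : finrank F V = 5) (hN : Nat.card (orbit f.E ω) ≤ q ^ 7 + q ^ 5 + q ^ 2)
    (h₀ : ω₁ ∈ orbit f.E ω) (hb : (HT hF).π b = 0) (hχ : ∀ a ∈ Zw f hu ω₁, χ a = 1)
    (hχ' : χ b ≠ 1) (hψ : ψ ≠ 1) (hA : ∀ ω' ∈ Sc f hu u' χ ω ω₁,
      ∀ x ∈ Aw f hu u' ω', ∀ y ∈ Aw f hu u' ω', ψ (f.B x y) = 1)
    (ha : Nat.card (Aw f hu u' ω₁) ≤ q ^ 3) (ha' : q ^ 2 < Nat.card (Aw f hu u' ω₁))
    (key : ∀ s c, s * Nat.card (orbit (f.U u) ω₁) ≤ Nat.card (Sc f hu u' χ ω ω₁) * c →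
      s * q ^ 7 ≤ Nat.card (orbit f.E ω) * (c * Nat.card (Aw f hu u' ω₁))) : False := by
  have : Finite V := Module.finite_of_finite F
  have hq := two_le_q hF
  have hP : q ^ 2 - 1 + 1 = q ^ 2 := Nat.sub_add_cancel (Nat.one_le_pow _ _ (by omega))
  have hS : ∀ g, Lv f u u' g 1 → ∀ ω' ∈ orbit (f.U u) ω₁, g • ω' ∈ Sc f hu u' χ ω ω₁ :=
    fun g hg ω' h => hg.mem_Sc (by simp) (orbit_U_le_Sc h₀ hχ h)
  have hD : ∀ g, Lv f u u' g 1 → ∀ ω : Ω, ∀ x ∈ Aw f hu u' ω, g x ∈ Aw f hu u' (g • ω) :=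
    fun g hg ω x hx => by simpa using hg.mem_Aw hx
  have hk : ∀ {x}, f.q x ≠ 0 → ∃ k, 4 * k ≤ 3 * q ^ 3 ∧ (q = 2 → k ≤ 4) ∧ ∀ ω' ∈ Sc f hu u' χ ω ω₁,
      Nat.card {v // v ∈ Aw f hu u' ω' ∧ f.q v = f.q x} ≤ k := fun {x} hx => by
    refine ⟨if q = 2 then 4 else 3 * q ^ 3 / 4, by split_ifs with h; subst h; all_goals omega,
      fun h => by rw [if_pos h], fun ω' h => ?_⟩
    rcases isEmpty_or_nonempty {v // v ∈ Aw f hu u' ω' ∧ f.q v = f.q x} with h1 | ⟨v, h1, h2⟩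
    · simp
    have h3 := card_norm_le (f := f) h1
    rw [h.1.2.1, h2] at h3
    rcases isEmpty_or_nonempty {y // y ∈ Aw f hu u' ω' ∧ (HT hF).π (f.B y v) = -f.q x} with
      h4 | ⟨y, h4, h6⟩
    · rw [Nat.card_of_isEmpty (α := {y // y ∈ _ ∧ (HT hF).π _ = _})] at h3
      split_ifs with h5
      · subst h5
        omega
      · omega
    have h7 := card_fiber_mul_le (Aw f hu u' ω') ((HT hF).π.comp ((bil f).flip v)) (-f.q x)
      (k := 2) fun _ _ _ => by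
        have : Finite ((Aw f hu u' ω').map ((HT hF).π.comp ((bil f).flip v))) := inferInstance
        exact Finite.one_lt_card_iff_nontrivial.mpr ⟨⟨⟨_, y, h4, rfl⟩, 0, fun h' =>
          hx (neg_eq_zero.mp (h6.symm.trans (congrArg Subtype.val h')))⟩⟩
    rw [h.1.2.1] at h7
    change Nat.card {y // y ∈ Aw f hu u' ω' ∧ (HT hF).π (f.B y v) = -f.q x} * 2 ≤ _ at h7
    rw [if_neg fun h8 => ?_]
    · omega
    have h9 := card_mul_two_le (A := Zw f hu ω') (B := (HT hF).π.ker) (fun a ha => ha.1)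
      fun h9 => hχ' (h.2 b (h9 hb))
    have h10 := sub_mem_Zw h4 h1
    rw [card_ker_π] at h9
    rw [AddSubgroup.eq_bot_of_card_le _ (show Nat.card (Zw f hu ω') ≤ 1 by omega),
      AddSubgroup.mem_bot] at h10
    have h11 : (2 : F) = 0 := two_eq_zero_of_not_odd (by rw [hF, h8]; decide)
    rw [herm_π, ← f.herm_symm] at h6
    exact hx (by linear_combination h6 - h10 - f.B v y * h11)
  have hW := fun (ω' : Ω) x (hx : x ∈ Aw f hu u' ω') => Aw_le hx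
  obtain ⟨x, hx, hx0⟩ : ∃ x ∈ Aw f hu u' ω₁, f.q x ≠ 0 := by
    by_contra! h
    obtain ⟨y, hy, z, hz, h0, h1, h2⟩ := exists_pair hf hn hu' huu (Or.inl ha')
    refine ha'.not_ge ((card_le_of_sing hf h5.le hu hu' huu (hW _) h hy hz
      fun h3 => h1 ?_).trans_eq (by rw [card_ker_π]))
    exact mem_line_of_max hf h5.le hu hu' huu (hW _ y hy) (hW _ z hz) h0 (h y hy) (h z hz) h3
  have h1 : ∀ {y}, f.q y ≠ 0 → y ≠ 0 := fun h h0 => h (h0 ▸ f.q_zero)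
  have ht := fun {y'} (hy : y' ∈ Wp f u u') (h : f.q y' ≠ 0) z e => by
    simpa [h5] using tau_herm hf hn hu hu' huu hy (h1 h) (Or.inr h) z e
  by_cases h : ∃ y ∈ Aw f hu u' ω₁, ∃ z ∈ Aw f hu u' ω₁, f.q y ≠ 0 ∧
      f.q y * f.q z ≠ sig hF (f.B y z) * f.B y z
  · obtain ⟨y, hy, z, hz, h2, h3⟩ := h
    obtain ⟨k, hk₁, hk₂, hk₃⟩ := hk h2
    refine num_five hq hP hN ha hk₁ hk₂ (key _ _ (pair_herm hf hn hu hu' huu hS hD (hW _ y hy)
      (hW _ z hz) (h1 h2) (fun h => h3 ?_) (fun ω' h => Aw_eq_of_orbit h ▸ ⟨hy, hz⟩) (Or.inr h3)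
      (sig_five hf hu hu' huu h5 h2) (fun y' h _ h' => ht h (h' ▸ h2) _ _) hk₃
      fun ω' h y' h4 h6 => ?_))
    · obtain ⟨c, rfl⟩ := mem_span_singleton.mp h
      rw [Tv.herm_q_smul, B_smul_right, map_mul, ← herm_q, Tv.herm_σ_q]
      ring
    let A := Aw f hu u' ω' ⊓ (bil f y').ker
    have h7 : Nat.card {v // v ∈ Aw f hu u' ω' ∧ f.B y' v = f.B y z} ≤ Nat.card A := by
      rcases isEmpty_or_nonempty {v // v ∈ Aw f hu u' ω' ∧ f.B y' v = f.B y z} with h7 | ⟨v, h7, h8⟩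
      · simp
      exact Nat.card_le_card_of_injective (fun w => ⟨w - v, AddSubgroup.sub_mem _ w.2.1 h7, by
        simp [w.2.2, h8]⟩) fun a b h => Subtype.ext (sub_left_injective (congrArg Subtype.val h :))
    have h8 := card_sq_le hf hu hu' huu hψ (A := A) (fun x hx => hW _ x hx.1)
      (fun p : A × F => p.1.1 + p.2 • y') (fun p => ⟨add_mem (hW _ _ p.1.2.1)
        (smul_mem _ _ (hW _ _ h4)), fun x hx => by
          simpa [f.B_eq_zero_symm hx.2] using hA ω' h x hx.1 _ p.1.2.1⟩) fun p p' h => by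
      have h8 : p.2 = p'.2 := by
        have := congrArg (f.B y') h
        simp only [map_add, map_smul, show f.B y' p.1.1 = 0 from p.1.2.2,
          show f.B y' p'.1.1 = 0 from p'.1.2.2, zero_add, smul_eq_mul, ← herm_q] at this
        exact mul_right_cancel₀ (h6 ▸ h2) this
      exact Prod.ext (Subtype.ext (by simpa [h8] using h)) h8
    rw [Nat.card_prod, card_sq hF, h5, mul_right_comm, show (q ^ 2) ^ (5 - 2) =
      q ^ 2 * q ^ 2 * q ^ 2 by ring] at h8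
    exact h7.trans (Nat.mul_self_le_mul_self_iff.mp (Nat.le_of_mul_le_mul_right h8 (by positivity)))
  push Not at h
  obtain ⟨k, hk₁, hk₂, hk₃⟩ := hk hx0
  obtain ⟨y, hy, h2⟩ : ∃ y ∈ Aw f hu u' ω₁, y ∉ F ∙ x := by
    by_contra! h2
    exact ha'.not_ge (card_le_of_line hF h2)
  let e := f.q x • y - f.B x y • x
  have he : ∀ z ∈ Aw f hu u' ω₁, f.B z e = 0 := fun z hz => by
    simp only [e, map_sub, map_smul, smul_eq_mul]
    linear_combination degen _ hx hx0 h hz hy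
  have he0 : e ≠ 0 := fun h3 => h2 ((smul_mem_iff _ hx0).mp
    (sub_eq_zero.mp h3 ▸ smul_mem _ _ (mem_span_singleton_self x)))
  have heW : e ∈ Wp f u u' := sub_mem (smul_mem _ _ (hW _ y hy)) (smul_mem _ _ (hW _ x hx))
  have heq : f.q e = 0 := by
    rw [herm_q]
    change f.B (f.q x • y - f.B x y • x) e = 0
    rw [B_sub_left, B_smul_left, B_smul_left, he x hx, he y hy, mul_zero, mul_zero, sub_zero]
  refine num_five hq hP hN ha hk₁ hk₂ (key _ _ (pair_cover (F := F) (fun ω v => v ∈ Aw f hu u' ω)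
    (fun ω v => ∀ z ∈ Aw f hu u' ω, f.B z v = 0) (sig_five hf hu hu' huu h5 hx0)
    (fun y' h => ht h.1 (h.2.2 ▸ hx0) 0 0) (fun x' e' h3 h4 => ?_)
    (fun ω' h => le_trans (card_le_of_subset fun v h => ⟨h.1, h.2.2.2⟩) (hk₃ ω' h))
    fun ω' h3 x' h4 h6 => ?_))
  · obtain ⟨g, c, hg, rfl, rfl⟩ := lv_flag (sig_ne_id hF) hf hn hu hu' huu h5.le (hW _ x hx) h3.1
      heW h4.1 (h1 hx0) h3.2.1 he0 (fun h => h4.2.1 (h ▸ zero_mem _)) h3.2.2 heq
      (h4.2.2.1.trans f.q_zero) (he x hx) h4.2.2.2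
    refine ⟨g, fun ω' h => ⟨hS g hg ω' h, hD g hg _ x (Aw_eq_of_orbit h ▸ hx), fun z hz => ?_⟩⟩
    have h5 := hD g⁻¹ (by simpa using hg.inv) _ z hz
    rw [inv_smul_smul, Aw_eq_of_orbit h] at h5
    rw [B_smul_right, f.B_eq_zero_symm ((B_apply_left (E_le_O hg.mem) _ _).trans
      (f.B_eq_zero_symm (he _ h5))), mul_zero]
  obtain ⟨z, hz, h7⟩ : ∃ z ∈ Aw f hu u' ω', z ∉ F ∙ x' := by
    by_contra! h7
    exact ha'.not_ge (h3.1.2.1.ge.trans (card_le_of_line hF h7))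
  have h8 := hf.finrank_add_finrank_perp (span F (Set.range ![z, x', u', u]))
  rw [finrank_span_eq_card (Tv.li4 (fun h => by simp [h] at huu) (fun h => by
    obtain ⟨c, rfl⟩ := mem_span_singleton.mp h
    simp [f.B_self_eq_zero hu] at huu) (not_mem_of_Wp hu hu' huu h6.1 h6.2.1) fun h => h7 (by
      simpa using mem_pair_of_Wp hu hu' huu (hW _ z hz) h6.1 h6.1 (by simpa using h))),
    Fintype.card_fin] at h8
  refine (card_le_of_subset (p' := (· ∈ f.perp (span F (Set.range ![z, x', u', u]))))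
    fun v hv => f.mem_perp_span.mpr ?_).trans ((card_submodule_eq_pow _).trans_le ?_)
  · simpa [hv.1 z hz, hv.1 x' h4, and_comm] using f.mem_perp_span_pair.mp hv.2.1
  · rw [show finrank F (f.perp (span F (Set.range ![z, x', u', u]))) = 1 by omega, pow_one,
      card_sq hF]

variable (H : Hyp f (Nat.card (orbit f.E ω)) d s τ ν) (h₀ : ω₁ ∈ orbit f.E ω)
include H h₀

theorem reg_of_II (hb : (HT hF).π b = 0) (hb' : b ∉ Zw f hu ω₁) :
    (∀ x ∈ Aw f hu u' ω₁, x = 0) ∧ ∀ a ∈ Zw f hu ω₁, a = 0 := by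
  have : Finite V := Module.finite_of_finite F
  have hq := two_le_q hF
  have hP : q ^ 2 - 1 + 1 = q ^ 2 := Nat.sub_add_cancel (Nat.one_le_pow _ _ (by omega))
  obtain ⟨χ, ψ, hχ, hχ', hψ, hA, h1⟩ := exists_chi (ω := ω) hf hn hu' huu hb hb'
  have h2 := card_orbit_herm (hu := hu) hf hn hu' huu ω₁
  have hz : 0 < Nat.card (Zw f hu ω₁) := Nat.card_pos
  have h3 := Nat.le_of_mul_le_mul_left (h1.trans ((Nat.mul_le_mul_left _
    (tsub_le_tsub_left hz q)).trans (mul_comm _ _).le)) (by omega)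
  have key : ∀ s c, s * Nat.card (orbit (f.U u) ω₁) ≤ Nat.card (Sc f hu u' χ ω ω₁) * c →
      s * (q ^ 7 * (q ^ 2) ^ (finrank F V - 5)) ≤
        Nat.card (orbit f.E ω) * (c * Nat.card (Aw f hu u' ω₁)) := fun s c h => by
    rw [← h2, ← mul_assoc]
    refine (Nat.mul_le_mul_right _ h).trans (le_trans (le_of_eq ?_) (Nat.mul_le_mul_right _ h3))
    ring
  have hsub := orbit_U_le_Sc (u' := u') h₀ hχ
  have hW := fun (ω' : Ω) x (hx : x ∈ Aw f hu u' ω') => Aw_le hx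
  have hS : ∀ g, Lv f u u' g 1 → ∀ ω' ∈ orbit (f.U u) ω₁, g • ω' ∈ Sc f hu u' χ ω ω₁ :=
    fun g hg ω' h => hg.mem_Sc (by simp) (hsub h)
  have hD : ∀ g, Lv f u u' g 1 → ∀ ω : Ω, ∀ x ∈ Aw f hu u' ω, g x ∈ Aw f hu u' (g • ω) :=
    fun g hg ω x hx => by simpa using hg.mem_Aw hx
  have hX : (q ^ 2) ^ (finrank F V - 5) = (q ^ (finrank F V - 5)) ^ 2 := pow_right_comm ..
  have ha : Nat.card (Aw f hu u' ω₁) ≤ q ^ 3 * q ^ (finrank F V - 5) := by
    have := card_sq_le hf hu hu' huu hψ (hW ω₁) (fun x : Aw f hu u' ω₁ => x.1) (fun x =>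
      ⟨hW _ _ x.2, fun y hy => hA ω₁ (hsub (mem_orbit_self _)) y hy x x.2⟩) Subtype.val_injective
    rw [pow_eq hf hn hu' huu, hX] at this
    exact Nat.mul_self_le_mul_self_iff.mp (this.trans_eq (by ring))
  have h4 : ∀ x ∈ Aw f hu u' ω₁, x = 0 := fun x hx => not_not.mp fun hx0 => by
    by_cases h4 : Nat.card (Aw f hu u' ω₁) ≤ q ^ 2
    · exact num_vec hq hP H.hN (by positivity) h4 (key _ _ (vec_herm hf hn hu hu' huu hS hD
        (hW _ x hx) hx0 (fun ω' h => Aw_eq_of_orbit h ▸ hx) (fun ω' h => h.1.2.1.le)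
        (sig_herm hf hn hu hu' huu x)))
    rcases hn.eq_or_lt' with h5 | h6
    · exact five_II hf hn hu' huu h5 (H.h5 h5) h₀ hb hχ hχ' hψ hA (by simpa [h5] using ha)
        (not_le.mp h4) fun s c h => by simpa [h5] using key s c h
    obtain ⟨y, hy, z, hz, h0, h5, h7 | h7⟩ := exists_pair hf hn hu' huu (Or.inl (not_le.mp h4))
    · have h8 := pair_half hf hn hu hu' huu hS hD (hW _ y hy) (hW _ z hz) h0 h5
        (fun ω' h => Aw_eq_of_orbit h ▸ ⟨hy, hz⟩) h7 (Or.inl h6) (fun ω' h => h.1.2.1.le)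
        (sig_six hf hn hu hu' huu h6 y) fun y' h h' _ =>
          tau_herm hf hn hu hu' huu h h' (Or.inl h6) _ _
      rw [← mul_assoc] at h8
      have h9 := key _ _ h8
      rw [mul_assoc 2, hX] at h9
      exact num_pair hq hP (hX ▸ H.hN) (Nat.le_self_pow (by omega) q) ha h9
    obtain ⟨h8, h9, h10⟩ := flag_herm hf hn hu hu' huu hS hD h6 hW h0 h5 (mem_orbit_self ω₁)
      (fun ω' h => Aw_eq_of_orbit h) hy hz h7 (fun ω' h => h.1.2.1) H.hd
      (card_sing_Wp hf hu hu' huu (by rw [card_sq hF, card_ker_π, H.hs])) H.hτ H.hν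
    have h11 := (key _ _ h10).trans (Nat.mul_le_mul_left _
      (Nat.mul_le_mul (tsub_le_tsub_right h9 1) h9))
    rw [mul_right_comm, mul_comm (_ - 1), ← mul_assoc _ (_ ^ d)] at h11
    exact (H.hν₁ h8).not_ge (Nat.le_of_mul_le_mul_right h11 (Nat.sub_pos_of_lt
      (Nat.one_lt_pow (by omega) (by nlinarith))))
  refine ⟨h4, fun a ha => not_not.mp fun h0 => num_Z hq hP H.hN (by positivity) (le_trans ?_
    (h1.trans (Nat.mul_le_mul_left _ (tsub_le_tsub_left (two_le_card ha h0) q))))⟩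
  have h5 : Nat.card (Aw f hu u' ω₁) = 1 := by
    rw [(AddSubgroup.eq_bot_iff_forall _).mpr h4, AddSubgroup.card_bot]
  rw [← h2, h5, one_mul, mul_comm (Nat.card (orbit _ _))]
  exact Nat.mul_le_mul_left _ (Nat.mul_le_mul_left _ (card_le_of_subset hsub))

theorem rich_of_I (hZ : ∀ a, (HT hF).π a = 0 → a ∈ Zw f hu ω₁) (h₂ : ω₂ ∈ orbit f.E ω)
    (hA₂ : ∀ x ∈ Aw f hu u' ω₂, x = 0) (hZ₂ : ∀ a ∈ Zw f hu ω₂, a = 0) :
    ∃ w, Rich f (stabilizer (V ≃ₗ[F] V) ω₁) u w ∧ (finrank F V = 5 → f.q w = 0) := by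
  have : Finite V := Module.finite_of_finite F
  have hq := two_le_q hF
  have hP : q ^ 2 - 1 + 1 = q ^ 2 := Nat.sub_add_cancel (Nat.one_le_pow _ _ (by omega))
  obtain ⟨ψ, hψ⟩ := exists_psi (F := F)
  have hz : Nat.card (Zw f hu ω₁) = q := by
    rw [show Zw f hu ω₁ = (HT hF).π.ker from le_antisymm (fun a ha => ha.1) hZ, card_ker_π]
  have hz₂ : Nat.card (Zw f hu ω₂) = 1 := by
    rw [(AddSubgroup.eq_bot_iff_forall _).mpr hZ₂, AddSubgroup.card_bot]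
  have h1 := card_add_le (S := orbit f.E ω) (S₁ := Cl f hu u' ω ω₁) (fun _ h => h.1)
    (orbit_U_le (u := u) h₂) fun ω' h h' => by
      have := h.2.2
      rw [Zw_eq_of_orbit h'] at this
      omega
  have h2 := card_orbit_herm (hu := hu) hf hn hu' huu ω₂
  rw [(AddSubgroup.eq_bot_iff_forall _).mpr hA₂, AddSubgroup.card_bot, hz₂, mul_one, mul_one] at h2
  rw [h2] at h1
  have hC := num_C hq hP H.hN h1
  have hC' := num_C_lt hq hP hC (by positivity)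
  have hab := (card_Bn (hu := hu) hf hu' huu hψ ω₁).trans ((card_Wp hf hu hu' huu).trans
    (pow_eq hf hn hu' huu))
  have ho : Nat.card (orbit (f.U u) ω₁) = Nat.card (Bn f ψ u u' (Aw f hu u' ω₁)) := by
    have := card_orbit_herm (hu := hu) hf hn hu' huu ω₁
    rw [hz, pow_succ q 6, mul_right_comm, ← hab, ← mul_assoc] at this
    exact Nat.eq_of_mul_eq_mul_right Nat.card_pos (Nat.eq_of_mul_eq_mul_right (by omega) this)
  have hsub := orbit_U_le_Cl (hu := hu) (u' := u') (ω₁ := ω₁) ⟨h₀, rfl, rfl⟩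
  have hS : ∀ g, Lv f u u' g 1 → ∀ ω' ∈ orbit (f.U u) ω₁, g • ω' ∈ Cl f hu u' ω ω₁ :=
    fun g hg ω' h => hg.mem_Cl' (hsub h)
  have hD : ∀ g, Lv f u u' g 1 → ∀ ω : Ω, ∀ x ∈ Bn f ψ u u' (Aw f hu u' ω),
      g x ∈ Bn f ψ u u' (Aw f hu u' (g • ω)) := fun g hg ω x hx => by simpa using hg.mem_Bn hx
  have hW := fun (ω' : Ω) x (hx : x ∈ Bn f ψ u u' (Aw f hu u' ω')) => hx.1
  have hb := fun ω' (h : ω' ∈ Cl f hu u' ω ω₁) => card_Bn_Cl hf hu' huu hψ h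
  have hb0 : 0 < Nat.card (Bn f ψ u u' (Aw f hu u' ω₁)) := Nat.card_pos
  have h5 : finrank F V = 5 → Nat.card (Cl f hu u' ω ω₁) ≤ q ^ 2 * (q ^ 3 + 1) := fun h => by
    have := H.h5 h
    rw [h] at h1
    ring_nf at h1 this ⊢
    omega
  have h3 : finrank F V = 5 → ∀ y ∈ Bn f ψ u u' (Aw f hu u' ω₁), f.q y = 0 :=
    fun h y hy => not_not.mp fun h3 => by
      have h4 := (vec_herm hf hn hu hu' huu hS hD hy.1 (fun h0 => h3 (h0 ▸ f.q_zero))
        (fun ω' h => Aw_eq_of_orbit h ▸ hy) (fun ω' h => (hb ω' h).le)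
        (sig_five hf hu hu' huu h h3)).trans (Nat.mul_le_mul_right _ (h5 h))
      have := Nat.le_of_mul_le_mul_left h4 (by positivity)
      omega
  by_cases h : ∃ w ∈ Bn f ψ u u' (Aw f hu u' ω₁), ∀ y ∈ Bn f ψ u u' (Aw f hu u' ω₁), y ∈ F ∙ w
  · obtain ⟨w, hw, h⟩ := h
    exact ⟨w, rich_of_Bn hf hu' huu hψ (fun a ha => (hZ a ha).2)
      (f.mem_perp_span_pair.mp hw.1).1 h, fun h => h3 h w hw⟩
  push Not at h
  exfalso
  obtain ⟨y, hy, z, hz, h0, h4, h7⟩ := exists_pair hf hn hu' huu (Or.inr h)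
  rcases hn.eq_or_lt' with h6 | h6
  · have h8 : f.B y z ≠ 0 := fun h8 => h4 (mem_line_of_max hf h6.le hu hu' huu hy.1 hz.1 h0
      (h3 h6 y hy) (h3 h6 z hz) h8)
    have h9 := pair_half hf hn hu hu' huu hS hD hy.1 hz.1 h0 h4
      (fun ω' h => Aw_eq_of_orbit h ▸ ⟨hy, hz⟩) (Or.inr h8) (Or.inr (by
        simpa [h3 h6 y hy] using h8)) (fun ω' h => (hb ω' h).le) (sig_herm hf hn hu hu' huu y)
      fun y' h h' h'' => (le_card_fiber' hf hu hu' huu h h' (h''.trans (h3 h6 y hy)) 0 h8).trans_eq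
        (by rw [map_zero, h3 h6 z hz])
    have h10 := card_le_of_sing hf h6.le hu hu' huu (hW _) (h3 h6) hy hz h8
    rw [ho, ← mul_assoc, ← mul_assoc _ (Nat.card _), card_sq hF] at h9
    rw [card_ker_π] at h9 h10
    have h11 := (Nat.le_of_mul_le_mul_right h9 hb0).trans (Nat.mul_le_mul (h5 h6) h10)
    rw [h6] at h11
    generalize q ^ 2 - 1 = P at hP h11
    obtain ⟨r, rfl⟩ := Nat.exists_eq_add_of_le' hq
    obtain rfl : P = r ^ 2 + 4 * r + 3 := by nlinarith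
    ring_nf at h11
    omega
  rcases h7 with h7 | h7
  · have h8 := pair_half hf hn hu hu' huu hS hD hy.1 hz.1 h0 h4
      (fun ω' h => Aw_eq_of_orbit h ▸ ⟨hy, hz⟩) h7 (Or.inl h6) (fun ω' h => (hb ω' h).le)
      (sig_six hf hn hu hu' huu h6 y) fun y' h h' _ =>
        tau_herm hf hn hu hu' huu h h' (Or.inl h6) _ _
    rw [ho, ← mul_assoc, ← mul_assoc _ (Nat.card _)] at h8
    obtain ⟨x, hx, hx0⟩ : ∃ x ∈ Aw f hu u' ω₁, x ≠ 0 := by
      by_contra! h9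
      rw [← ho, (AddSubgroup.eq_bot_iff_forall _).mpr h9, AddSubgroup.card_bot, mul_one] at hab
      exact hC'.not_ge (hab.ge.trans (card_le_of_subset hsub))
    have h9 := vec_herm hf hn hu hu' huu hS (D := fun ω => Aw f hu u' ω)
      (fun g hg ω x hx => by simpa using hg.mem_Aw hx) (Aw_le hx) hx0
      (fun ω' h => Aw_eq_of_orbit h ▸ hx) (fun ω' h => h.2.1.le) (sig_six hf hn hu hu' huu h6 x)
    exact num_one hq hP hC (Nat.le_self_pow (by omega) _) hab (Nat.le_of_mul_le_mul_right h8 hb0)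
      (ho ▸ h9.trans (Nat.mul_le_mul_left _ (Nat.sub_le _ _)))
  obtain ⟨h8, h9, h10⟩ := flag_herm hf hn hu hu' huu hS hD h6 hW h0 h4 (mem_orbit_self ω₁)
    (fun ω' h => by rw [Aw_eq_of_orbit h]) hy hz h7 hb H.hd
    (card_sing_Wp hf hu hu' huu (by rw [card_sq hF, card_ker_π, H.hs])) H.hτ H.hν
  have h11 := mul_le_of_le_pred hb0 h9 (ho ▸ h10)
  rw [mul_right_comm] at h11
  exact hC'.not_ge ((H.hν₂ h8).trans (Nat.le_of_mul_le_mul_right h11 (Nat.sub_pos_of_lt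
    (Nat.one_lt_pow (by omega) (by nlinarith)))))

end CL.Coop
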