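/-
Minimal degrees of unitary groups: the main theorem.
-/
import Mathlib
import Cfsg.Agent.KSG.CoopU3

set_option autoImplicit false

namespace CL.Coop

open Module CL.Witt CL.Witt.Form CL.Root MulAction Submodule FormType CL.Uni

section Gen

variable {F : Type*} [Field F] {T : FormType F} {V : Type*} [AddCommGroup V] [Module F V]
  [FiniteDimensional F V] [Finite F] {f : Form T V} {K : Subgroup (V ≃ₗ[F] V)} {u w y z : V}

theorem Rich.exists_fix_five (hf : f.Nondeg) (hn : finrank F V ≤ 5) (ha : ∃ a, a ≠ 0 ∧ T.π a = 0)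
    (hK : K ≤ f.O) (hE : ¬ f.E ≤ K) (hd : Dich f K)
    (hd' : ∀ z w, Rich f K z w → ∃ w, Rich f K z w ∧ f.q w = 0) (h : Rich f K u w) :
    (∃ w : V, w ≠ 0 ∧ f.q w = 0 ∧ ∀ g ∈ K, ∃ c : F, g w = c • w) ∨ ∃ y z, y ≠ 0 ∧ z ∉ F ∙ y ∧
      f.q y = 0 ∧ f.q z = 0 ∧ f.B y z = 0 ∧ ∀ g ∈ K, ∀ v ∈ span F {y, z}, g v ∈ span F {y, z} := by
  have key : ∀ {y z : V}, (∀ g ∈ K, g y ∈ span F {y, z} ∧ g z ∈ span F {y, z}) →
      ∀ g ∈ K, ∀ v ∈ span F {y, z}, g v ∈ span F {y, z} := fun h g hg v hv => by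
    obtain ⟨a, b, rfl⟩ := mem_span_pair.mp hv
    rw [map_add, map_smul, map_smul]
    exact add_mem (smul_mem _ _ (h g hg).1) (smul_mem _ _ (h g hg).2)
  by_cases h1 : ∃ x, Rich f K x 0
  · obtain ⟨x, hx⟩ := h1
    have h1 : ∀ {x y}, Rich f K x 0 → Rich f K y 0 → f.B x y = 0 := fun hx hy =>
      not_not.mp fun h => hE (hf.E_le_of_B_ne hx.q0 hy.q0 h hx.U_le hy.U_le)
    have h2 : ∀ {x}, Rich f K x 0 → ∀ g ∈ K, Rich f K (g x) 0 := fun hx g hg => by
      simpa using hx.conj hg (hK hg)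
    by_cases h3 : ∀ g ∈ K, g x ∈ F ∙ x
    · exact Or.inl ⟨x, hx.ne, hx.q0, fun g hg => (mem_span_singleton.mp (h3 g hg)).imp fun _ => .symm⟩
    push Not at h3
    obtain ⟨g, hg, h3⟩ := h3
    have h4 := h2 hx g hg
    have h5 : ∀ {v}, Rich f K v 0 → v ∈ span F {x, g x} := fun hv =>
      mem_pair_of_max hf hn hx.ne h3 hx.q0 h4.q0 hv.q0 (h1 hx h4) (h1 hx hv) (h1 h4 hv)
    exact Or.inr ⟨x, g x, hx.ne, h3, hx.q0, h4.q0, h1 hx h4, key fun g' hg' =>
      ⟨h5 (h2 hx g' hg'), h5 (h2 h4 g' hg')⟩⟩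
  push Not at h1
  have h2 : ∀ {x w}, Rich f K x w → w ∉ F ∙ x := fun {x w} hx hw => by
    obtain ⟨c, rfl⟩ := mem_span_singleton.mp hw
    exact h1 x (hx.mono (by simp) fun y h _ => by simp [h])
  obtain ⟨w, h, hw⟩ := hd' u w h
  have h3 : ∀ v ∈ span F {u, w}, f.q v = 0 ∧ f.B u v = 0 ∧ f.B w v = 0 := fun v hv => by
    obtain ⟨a, b, rfl⟩ := mem_span_pair.mp hv
    simp [f.q_add, f.q_smul, f.B_self_eq_zero, f.B_eq_zero_symm, h.q0, hw, h.perp]
  have h4 : ∀ v ∈ span F {u, w}, v ≠ 0 → ∃ w', Rich f K v w' := fun v hv h0 =>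
    h.of_perp hd (h3 v hv).1 h0 (h3 v hv).2.1 (h3 v hv).2.2
  have h5 := h4 w (subset_span (by simp)) fun h0 => h2 h (h0 ▸ zero_mem _)
  have h6 : ∀ {z w'}, Rich f K z w' → z ∈ span F {u, w} := fun {z w'} hz => by
    obtain ⟨v, hv, h0, h6⟩ : ∃ v ∈ span F {u, w}, v ≠ 0 ∧ f.B z v = 0 := by
      by_cases h6 : f.B z u = 0
      · exact ⟨u, subset_span (by simp), h.ne, h6⟩
      refine ⟨w - (f.B z w / f.B z u) • u, sub_mem (subset_span (by simp))
        (smul_mem _ _ (subset_span (by simp))), fun h0 => h2 h ?_, by simp [h6]⟩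
      exact sub_eq_zero.mp h0 ▸ smul_mem _ _ (mem_span_singleton_self u)
    obtain ⟨w₁, h7⟩ := h4 v hv h0
    obtain ⟨w₁, h7, h8⟩ := hd' v w₁ h7
    have h9 : ∀ {x w'}, Rich f K x w' → f.B x v = 0 → f.B x w₁ = 0 ∧ x ∈ span F {v, w₁} :=
      fun hx h9 => by
        have := h7.perp_dir hf (Or.inr ha) (h1 v) hx (f.B_eq_zero_symm h9)
        exact ⟨this, mem_pair_of_max hf hn h0 (h2 h7) h7.q0 h8 hx.q0 h7.perp
          (f.B_eq_zero_symm h9) (f.B_eq_zero_symm this)⟩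
    have h10 : ∀ x ∈ span F {v, w₁}, f.B x z = 0 := fun x hx => by
      obtain ⟨a, b, rfl⟩ := mem_span_pair.mp hx
      simp [f.B_eq_zero_symm h6, f.B_eq_zero_symm (h9 hz h6).1]
    exact mem_pair_of_max hf hn h.ne (h2 h) h.q0 hw hz.q0 h.perp (h10 u (h9 h (h3 v hv).2.1).2)
      (h10 w (h9 h5.choose_spec (h3 v hv).2.2).2)
  exact Or.inr ⟨u, w, h.ne, h2 h, h.q0, hw, h.perp, key fun g hg =>
    ⟨h6 (h.conj hg (hK hg)), h6 (h5.choose_spec.conj hg (hK hg))⟩⟩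

theorem le_card_perp_sing (hf : f.Nondeg) (h0 : y ≠ 0) (hq : f.q y = 0) {s : ℕ}
    (hs : Nat.card {v // f.q v = 0} = (Nat.card F - 1) *
      (Nat.card F ^ (finrank F V - 2) * Nat.card T.π.ker) + Nat.card F * (s + 1)) :
    Nat.card {z // z ∉ F ∙ y ∧ f.q z = 0 ∧ f.B y z = 0} = Nat.card F * s := by
  have : Finite V := Module.finite_of_finite F
  have h1 := card_value_ne hf (H := ⊥) hq (by simpa using h0) (by simp [perp_bot]) 0 0
  rw [finrank_bot, tsub_zero, T.π.map_zero] at h1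
  rw [card_split _ fun z => f.B y z = 0, card_split _ (· ∈ F ∙ y), ← h1, mul_add, mul_one,
    add_comm, Nat.card_congr (Equiv.subtypeEquivRight (q := fun z => (∀ h ∈ (⊥ : Submodule F V),
      f.B z h = f.B 0 h) ∧ f.q z = 0 ∧ f.B z y ≠ 0) fun z => by
      simp [f.B_eq_zero_comm (x := y)]), add_right_inj, add_comm,
    Nat.card_congr (Equiv.subtypeEquivRight (q := (· ∈ F ∙ y)) fun z => ⟨And.right, fun h => by
      obtain ⟨c, rfl⟩ := mem_span_singleton.mp h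
      exact ⟨⟨f.q_smul_eq_zero hq c, by simp [f.B_self_eq_zero hq]⟩, h⟩⟩),
    show Nat.card {z // z ∈ F ∙ y} = _ from card_span_singleton h0, add_left_inj] at hs
  exact hs ▸ Nat.card_congr (Equiv.subtypeEquivRight fun z => by tauto)

theorem card_le_of_plane {Ω : Type*} [MulAction (V ≃ₗ[F] V) Ω] [Finite Ω] {ω : Ω} (hf : f.Nondeg)
    (h2 : f.Idx2) (hb : (∃ a : F, a ≠ 0 ∧ T.π a = 0) ∨ finrank F V ≠ 4) (h0 : y ≠ 0)
    (h1 : z ∉ F ∙ y) (hy : f.q y = 0) (hz : f.q z = 0) (hB : f.B y z = 0)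
    (h : ∀ g ∈ stabilizer (V ≃ₗ[F] V) ω, ∀ v ∈ span F {y, z}, g v ∈ span F {y, z}) {s : ℕ}
    (hs : Nat.card {v // f.q v = 0} = (Nat.card F - 1) *
      (Nat.card F ^ (finrank F V - 2) * Nat.card T.π.ker) + Nat.card F * (s + 1)) :
    Nat.card {v // v ≠ 0 ∧ f.q v = 0} * (Nat.card F * s) ≤ Nat.card (orbit f.E ω) *
      ((Nat.card F ^ 2 - 1) * (Nat.card F ^ 2 - Nat.card F)) := by
  have : Finite V := Module.finite_of_finite F
  have key : ∀ ω' ∈ orbit f.E ω, ∃ X : Submodule F V, Nat.card X ≤ Nat.card F ^ 2 ∧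
      ∀ v, (∃ g : V ≃ₗ[F] V, g • ω = ω' ∧ g⁻¹ v ∈ span F {y, z}) → v ∈ X := by
    rintro _ ⟨g, rfl⟩
    refine ⟨span F {g.1 y, g.1 z}, (card_submodule_eq_pow _).trans_le (Nat.pow_le_pow_right
      Nat.card_pos (Tv.finrank_span_pair_le _ _)), fun v ⟨g', h3, h4⟩ => ?_⟩
    obtain ⟨a, b, h5⟩ := mem_span_pair.mp (h (g.1⁻¹ * g') (by
      rw [mem_stabilizer_iff, mul_smul, h3]; exact inv_smul_smul _ _) _ h4)
    exact mem_span_pair.mpr ⟨a, b, by simpa using congrArg g.1 h5⟩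
  simpa using pair_cover (F := F) (S := orbit f.E ω) (S₁ := {ω})
    (fun ω' v => ∃ g : V ≃ₗ[F] V, g • ω = ω' ∧ g⁻¹ v ∈ span F {y, z})
    (fun ω' v => ∃ g : V ≃ₗ[F] V, g • ω = ω' ∧ g⁻¹ v ∈ span F {y, z}) le_rfl
    (fun y' h => (le_card_perp_sing hf h.1 h.2 hs).ge) (fun y' z' h3 h4 => by
      obtain ⟨g, hg, rfl, α, β, rfl⟩ := exists_E_flag hf h2 hb hy h3.2 hz h4.2.1 hB h4.2.2 h0 h3.1 h1
        h4.1
      refine ⟨g, fun ω' h => ?_⟩
      rw [h]
      exact ⟨⟨⟨g, hg⟩, rfl⟩, ⟨g, rfl, by simpa using subset_span (by simp)⟩, g, rfl,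
        mem_span_pair.mpr ⟨β, α, by simp [add_comm]⟩⟩)
    (fun ω' h => by
      obtain ⟨X, h3, h4⟩ := key ω' h
      exact (card_le_of_subset fun v hv => ⟨h4 v hv.1, hv.2.1⟩).trans
        ((card_ne_zero_sub X.toAddSubgroup).trans_le (tsub_le_tsub_right h3 1)))
    fun ω' h y' h5 h6 => by
      obtain ⟨X, h3, h4⟩ := key ω' h
      refine (card_le_of_subset fun v hv => ⟨h4 v hv.1, hv.2.1⟩).trans ((card_diff
        (p := (· ∈ X)) (p' := (· ∈ F ∙ y')) fun v hv =>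
          (span_singleton_le_iff_mem _ _).mpr (h4 y' h5) hv).trans_le ?_)
      rw [show Nat.card {z // z ∈ F ∙ y'} = _ from card_span_singleton h6.1]
      exact tsub_le_tsub_right h3 _

end Gen

variable {F : Type*} [Field F] [Fintype F] {q : ℕ} {hF : Fintype.card F = q ^ 2} {V : Type*}
  [AddCommGroup V] [Module F V] [FiniteDimensional F V] {f : Form (HT hF) V}
  {Ω : Type*} [MulAction (V ≃ₗ[F] V) Ω] [Finite Ω] {u u' v w x x' y y' z z' : V}
  {ω ω' ω₁ ω₂ : Ω} {s t d τ ν : ℕ} {b : F}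

variable (hF) in
theorem exists_norm_one : ∃ c : F, sig hF c * c = 1 ∧ c ^ 2 ≠ 1 := by
  by_contra! h
  have h1 := Nat.card_le_card_of_injective (fun ζ : rootsOfUnity (q + 1) F =>
    (⟨ζ.1, h _ ((pow_succ _ _).symm.trans ((mem_rootsOfUnity' _ _).mp ζ.2))⟩ : {c : F // c ^ 2 = 1}))
    fun a b h => Subtype.ext (Units.ext (congrArg Subtype.val h :))
  rw [card_rootsOfUnity_of_dvd hF dvd_rfl] at h1
  have h2 : Nat.card {c : F // c ^ 2 = 1} ≤ 2 :=
    (card_le_of_subset (p' := (· ∈ ({1, -1} : Set F))) fun c hc =>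
      sq_eq_one_iff.mp hc).trans ((Set.ncard_insert_le _ _).trans (by simp))
  have := two_le_q hF
  omega

omit [FiniteDimensional F V] in
theorem exists_ei_eq (hu : f.q u = 0) (hy : f.q y = 0) (h : f.B u y = 0) {μ c : F}
    (hc : (HT hF).π c = 0) (hb : (HT hF).π b = 0) (h0 : b ≠ 0) : ∃ ρ κ : F,
      f.EichOK (y + ρ • u) (κ • u) b ∧
        f.ei u (μ • y) c * f.ei y 0 b = f.ei (y + ρ • u) (κ • u) b := by
  have h1 : sig hF b = -b := eq_neg_of_add_eq_zero_right hb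
  have h2 : sig hF c = -c := eq_neg_of_add_eq_zero_right hc
  obtain ⟨r, hr⟩ := Tv.exists_norm_eq_of_involution (sig_ne_id hF) (sig_sig hF)
    (b := sig hF (μ / b) * (μ / b) - c / b) (by
      simp only [map_sub, map_mul, map_div₀, sig_sig, h1, h2, map_neg]; ring)
  have h3 := f.B_eq_zero_symm h
  have h4 := f.B_self_eq_zero hu
  have h5 : f.EichOK (y + (r - sig hF (μ / b)) • u)
      ((b * (r - sig hF (μ / b)) - sig hF μ) • u) b :=
    ⟨by simp [-sub_smul, f.q_add_smul, hu, hy, h3], by simp [h3, h4],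
      by rw [f.q_smul_eq_zero hu, hb]⟩
  refine ⟨_, _, h5, LinearEquiv.ext fun v => ?_⟩
  rw [LinearEquiv.mul_apply, h5.ei_apply, ei_zero_apply hy hb, EichOK.ei_apply
    ⟨hu, by simp [h], by rw [f.q_smul_eq_zero hy, hc]⟩]
  simp only [map_sub, map_add, map_smul, map_mul, map_div₀, sig_sig, h1, h, herm_ε, map_neg, herm_σ,
    f.B_self_eq_zero hy, B_smul_left, LinearMap.add_apply, smul_eq_mul] at hr ⊢
  match_scalars
  · rfl
  · field_simp
    ring
  · field_simp at hr ⊢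
    linear_combination (-f.B u v) * hr

theorem poor_herm (hf : f.Nondeg) (hn : 5 ≤ finrank F V)
    (hN : Nat.card (orbit f.E ω) < 2 * (q ^ 7 * (q ^ 2) ^ (finrank F V - 5)))
    (hP : ∀ {u u'} (hu : f.q u = 0), f.q u' = 0 → f.B u u' = 1 → ∀ ω' ∈ orbit f.E ω,
      (∀ x ∈ Aw f hu u' ω', x = 0) ∧ ∀ a ∈ Zw f hu ω', a = 0) : False := by
  have : Finite V := Module.finite_of_finite F
  have hσ := sig_ne_id hF
  obtain ⟨u, u', hu, hu', huu⟩ := exists_hyp_pair hσ hf (by omega)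
  have h₀ := mem_orbit_self (M := f.E) ω
  have h1 : ∀ ω' ∈ orbit f.E ω, Nat.card (orbit (f.U u) ω') =
      q ^ 7 * (q ^ 2) ^ (finrank F V - 5) := fun ω' h => by
    have := card_orbit_herm (hu := hu) hf hn hu' huu ω'
    rwa [(AddSubgroup.eq_bot_iff_forall _).mpr (hP hu hu' huu ω' h).1, AddSubgroup.card_bot,
      (AddSubgroup.eq_bot_iff_forall _).mpr (hP hu hu' huu ω' h).2, AddSubgroup.card_bot, mul_one,
      mul_one] at this
  have h2 : ∀ g ∈ f.E, ∃ x, Cy f u u' ω g x := fun g hg => exists_cy hu huu (mem_orbit_of_lt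
    (orbit_U_le h₀) (orbit_U_le (smul_mem_orb hg h₀)) (by
      rwa [h1 _ h₀, h1 _ (smul_mem_orb hg h₀), ← two_mul]))
  obtain ⟨e, he⟩ := exists_isON hσ (nondeg_Wp hf hu hu' huu) (k := 3)
    (by rw [finrank_Wp hf hu hu' huu]; omega)
  have h3 : ∀ i, f.B (e i) (e i) = 1 := he.self
  have h4 : ∀ {i j}, i ≠ j → f.B (e i) (e j) = 0 := he.ne
  have h5 : ∀ i, f.q (e i) ≠ 0 := fun i => by simp [herm_q, h3]
  obtain ⟨μ, hμ⟩ := Tv.exists_norm_eq_of_involution hσ (sig_sig hF) (b := -1) (by simp)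
  obtain ⟨b, hb0, hb⟩ := exists_add_σ_eq_zero hσ (sig_sig hF)
  obtain ⟨c, hc, hc'⟩ := exists_norm_one hF
  have hc0 : c ≠ 0 := fun h => by simp [h] at hc
  let y : V := e 0 + μ • e 1
  have hy : f.q y = 0 := by simp [y, herm_q, h3, h4, herm_σ, ← mul_assoc, mul_comm μ, hμ]
  have hyW : y ∈ Wp f u u' := add_mem (e 0).2 (smul_mem _ _ (e 1).2)
  have ht := eichOK_zero (f := f) hy hb
  obtain ⟨x, hx⟩ := h2 _ (ei_mem_E y 0 b)
  have key : ∀ z ∈ f.perp (span F {u, u', (e 0).1, (e 1).1}), f.q z ≠ 0 → f.B z x = 0 ∧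
      (c - 1) • (f.B (e 0) x • (e 0).1 + f.B (e 1) x • (e 1).1) ∈ F ∙ y := fun z hz hz0 => by
    obtain ⟨r₀, h6, h7, h8⟩ := exists_qr (h5 0) hc
    obtain ⟨r₁, h9, h10, h11⟩ := exists_qr (h5 1) hc
    obtain ⟨r₂, h12, h13, h14⟩ := exists_qr hz0 (d := (c ^ 2)⁻¹) (by
      rw [map_inv₀, ← mul_inv, map_pow, ← mul_pow, hc, one_pow, inv_one])
    simp only [mem_perp_span, Set.forall_mem_insert, Set.mem_singleton_iff, forall_eq] at hz
    have h15 : ∀ v, (r₀ * r₁ * r₂) v = v + (c - 1) • (f.B (e 0) v • (e 0).1 +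
        f.B (e 1) v • (e 1).1) + (((c ^ 2)⁻¹ - 1) / f.q z * f.B z v) • z := fun v => by
      simp only [LinearEquiv.mul_apply, h7, h10, h13, herm_q, h3, map_add, map_smul, hz,
        h4 (show (0 : Fin 3) ≠ 1 by decide), smul_eq_mul]
      module
    have h16 : r₀ * r₁ * r₂ ∈ f.E := E_eq_SO hσ hf ▸ f.mem_SO.mpr ⟨mul_mem (mul_mem h6 h9) h12, by
      rw [det_mul_equiv, det_mul_equiv, h8, h11, h14]
      field_simp⟩
    have h17 := fun i => f.mem_perp_span_pair.mp (e i).2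
    have h18 : (r₀ * r₁ * r₂) y = c • y := by
      simp only [h15, y, map_add, map_smul, h3, h4 (show (0 : Fin 3) ≠ 1 by decide),
        h4 (show (1 : Fin 3) ≠ 0 by decide), f.B_eq_zero_symm hz.2.2.1, f.B_eq_zero_symm hz.2.2.2,
        smul_eq_mul]
      module
    obtain ⟨x', hx'⟩ := h2 _ h16
    have h19 := hx.comm (hP hu hu' huu ω h₀).1 (lv_ei ht hyW (zero_mem _)) (Lv.one h16
      (by simp [h15, f.B_eq_zero_symm, h17, hz]) (by simp [h15, f.B_eq_zero_symm, h17, hz])) hx'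
      (by rw [eq_comm, ← mul_inv_eq_iff_eq_mul, ht.conj_ei (E_le_O h16), h18, map_zero,
        ht.ei_smul_left, smul_zero, herm_σ, hc, one_mul])
    rw [map_one, one_smul, one_smul, ei_zero_apply hy hb, h15] at h19
    have h20 := congrArg (f.B z) h19
    simp only [map_add, map_sub, map_smul, y, f.B_eq_zero_symm hz.2.2.1, f.B_eq_zero_symm hz.2.2.2,
      smul_eq_mul, ← herm_q] at h20
    have h21 : f.B z x = 0 := (mul_eq_zero.mp (show ((c ^ 2)⁻¹ - 1) * f.B z x = 0 by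
      field_simp at h20 ⊢
      linear_combination -h20)).resolve_left (by simpa [sub_eq_zero] using hc')
    refine ⟨h21, mem_span_singleton.mpr ⟨-((HT hF).ε * b * f.B y x'), ?_⟩⟩
    rw [h21, mul_zero, zero_smul] at h19
    linear_combination (norm := module) h19
  have h6 : (e 2).1 ∈ f.perp (span F {u, u', (e 0).1, (e 1).1}) := f.mem_perp_span.mpr (by
    simpa [h4] using f.mem_perp_span_pair.mp (e 2).2)
  have h7 : x ∈ span F {(e 0).1, (e 1).1} := mem_pair_of_Wp hu hu' huu hx.mem (e 0).2 (e 1).2 (by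
    rw [← hf.perp_perp (span F _), mem_perp]
    intro v hv
    by_cases h : f.q v = 0
    swap
    · exact (key v hv h).1
    obtain ⟨a, ha, h8⟩ : ∃ a ≠ 0, (HT hF).π (a * f.B v (e 2)) = 0 := by
      by_cases h8 : f.B v (e 2) = 0
      · exact ⟨1, one_ne_zero, by simp [h8]⟩
      · exact ⟨b / f.B v (e 2), div_ne_zero hb0 h8, by rwa [div_mul_cancel₀ _ h8]⟩
    simpa [(key _ h6 (h5 2)).1] using (key _ (add_mem hv (smul_mem _ a h6)) (by
      simp [f.q_add_smul, h, h8, ha, h5])).1)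
  obtain ⟨α, β, rfl⟩ := mem_span_pair.mp h7
  have h8 := (key _ h6 (h5 2)).2
  simp only [map_add, map_smul, h3, h4 (show (0 : Fin 3) ≠ 1 by decide),
    h4 (show (1 : Fin 3) ≠ 0 by decide), smul_eq_mul, mul_one, mul_zero, add_zero, zero_add] at h8
  obtain ⟨ν, hν⟩ := mem_span_singleton.mp (neg_mem ((smul_mem_iff _ (sub_ne_zero.mpr fun h =>
    hc' (by simp [h]))).mp h8))
  obtain ⟨-, a, h9, h10⟩ := hx
  have h11 := f.mem_perp_span_pair.mp hyW
  obtain ⟨ρ, κ, h12, h13⟩ := exists_ei_eq hu hy h11.1 (μ := ν)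
    ((hν ▸ h9.neg).ha.trans (f.q_smul_eq_zero hy ν)) hb hb0
  rw [hν, ← h9.ei_inv] at h13
  have h14 : f.ei (y + ρ • u) (κ • u) b • ω = ω := by rw [← h13, mul_smul, h10, inv_smul_smul]
  have h15 : u ∉ F ∙ (y + ρ • u) := fun h => by
    obtain ⟨d, hd⟩ := mem_span_singleton.mp h
    have h15 := congrArg (f.B (e 0)) hd
    simp only [y, map_smul, map_add, h3, h4 (show (0 : Fin 3) ≠ 1 by decide), smul_eq_mul,
      f.B_eq_zero_symm (f.mem_perp_span_pair.mp (e 0).2).1, mul_zero, add_zero, mul_one] at h15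
    rw [← hd, h15, zero_smul, B_zero_left] at huu
    exact zero_ne_one huu
  obtain ⟨v', h16, h17⟩ := hf.exists_partner' h12.hu fun h => h15 (by
    have h16 := congrArg (f.B (e 0)) h
    simp [y, h3, h4, f.B_eq_zero_symm (f.mem_perp_span_pair.mp (e 0).2).1] at h16)
  by_cases h18 : κ = 0
  · exact hb0 ((hP h12.hu h16 h17 ω h₀).2 b ⟨hb, by simpa [h18] using h14⟩)
  obtain ⟨w, h19, h20⟩ := exists_mem_Aw (hu := h12.hu) (ω := ω) h16 h17 ⟨b, h12, h14⟩
    (by rwa [smul_mem_iff _ h18])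
  exact h20 ((hP h12.hu h16 h17 ω h₀).1 w h19)

theorem min_herm (hf : f.Nondeg) (hn : 5 ≤ finrank F V) {M : ℕ}
    (H : ∀ N < M, Hyp f N d s τ ν) (h0 : M * (q ^ 2 - 1) < Nat.card {v // f.q v = 0})
    (h1 : M * (q ^ 2 - 1) + Nat.card {v // f.q v = 0} ≤ (q ^ 2) ^ finrank F V)
    (h5 : finrank F V = 5 → (q ^ 2 - 1) * (q ^ 2 + 1) ≤ s)
    (hK : stabilizer (V ≃ₗ[F] V) ω ≤ f.E) (hE : ¬ f.E ≤ stabilizer (V ≃ₗ[F] V) ω) :
    M ≤ Nat.card (orbit f.E ω) := by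
  have : Finite V := Module.finite_of_finite F
  have hσ := sig_ne_id hF
  have hq := two_le_q hF
  have hP : q ^ 2 - 1 + 1 = q ^ 2 := Nat.sub_add_cancel (Nat.one_le_pow _ _ (by omega))
  have hP' : 3 ≤ q ^ 2 - 1 := by have := Nat.pow_le_pow_left hq 2; omega
  have h2 := idx2 hσ hf (by omega)
  by_contra! hlt
  replace H := H _ hlt
  obtain ⟨b, hb0, hb⟩ := exists_add_σ_eq_zero hσ (sig_sig hF)
  have hI : ∀ {u u'} (hu : f.q u = 0), f.q u' = 0 → f.B u u' = 1 → ∀ ω₁ ∈ orbit f.E ω,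
      ((∀ x ∈ Aw f hu u' ω₁, x = 0) ∧ ∀ a ∈ Zw f hu ω₁, a = 0) ∨
      ∃ w, Rich f (stabilizer (V ≃ₗ[F] V) ω₁) u w ∧ (finrank F V = 5 → f.q w = 0) :=
    fun hu hu' huu ω₁ h₁ => by
      by_cases h : ∀ a, (HT hF).π a = 0 → a ∈ Zw f hu ω₁
      · obtain ⟨ω₂, h₂, a, ha, ha'⟩ := exists_Zw_ne (hu := hu) hf h2 hb0 hb
          (fun h => by simp [h] at huu) hE
        obtain ⟨h3, h4⟩ := reg_of_II hf hn hu' huu H h₂ ha ha'
        exact Or.inr (rich_of_I hf hn hu' huu H h₁ h h₂ h3 h4)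
      push Not at h
      obtain ⟨a, ha, ha'⟩ := h
      exact Or.inl (reg_of_II hf hn hu' huu H h₁ ha ha')
  refine poor_herm (ω := ω) hf hn ?_ fun {u u'} hu hu' huu ω' h' =>
    (hI hu hu' huu ω' h').resolve_right fun ⟨w, hw, _⟩ => ?_
  · have h3 := num_C_lt hq hP (num_C (C := Nat.card (orbit f.E ω) -
      q ^ 7 * (q ^ 2) ^ (finrank F V - 5)) hq hP (N := max (Nat.card (orbit f.E ω))
        (q ^ 7 * (q ^ 2) ^ (finrank F V - 5))) (by
        rw [max_mul]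
        refine max_le H.hN ?_
        rw [mul_right_comm]
        refine Nat.mul_le_mul_right _ ?_
        rw [show q ^ 9 = q ^ 7 * q ^ 2 by ring]
        exact (Nat.mul_le_mul_left _ (Nat.sub_le _ _)).trans (Nat.le_add_right _ _))
      (by omega)) (by positivity)
    have h4 := Nat.mul_le_mul_right ((q ^ 2) ^ (finrank F V - 5))
      (Nat.pow_le_pow_right (show 0 < q by omega) (show 6 ≤ 7 by omega))
    omega
  have hD : Dich f (stabilizer (V ≃ₗ[F] V) ω') := fun z x hz hx hx' => by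
    obtain ⟨z', h3, h4⟩ := hf.exists_partner' hx.choose_spec.1.hu hz
    obtain ⟨y, h6, h7⟩ := exists_mem_Aw (hu := hx.choose_spec.1.hu) h3 h4 hx hx'
    exact ((hI _ h3 h4 ω' h').resolve_left fun h => h7 (h.1 y h6)).imp fun _ h => h.1
  have hK' := (stab_le_of_orb hK h').trans E_le_O
  have hfix : ∀ w : V, w ≠ 0 → ¬ ∀ g ∈ stabilizer (V ≃ₗ[F] V) ω', ∃ c : F, g w = c • w :=
    fun w h3 h4 => by
      have h6 := card_le_of_fix (f := f) h4 (p := fun v => v ≠ 0 ∧ (f.q v = 0 ↔ f.q w = 0))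
        (fun v hv => by
          obtain ⟨c, h6, hc⟩ : ∃ c : F, c ≠ 0 ∧ f.q (c • w) = f.q v := by
            by_cases h7 : f.q w = 0
            · exact ⟨1, one_ne_zero, by rw [one_smul, h7, hv.2.mpr h7]⟩
            obtain ⟨c, hc⟩ := Tv.exists_norm_eq_of_involution hσ (sig_sig hF)
              (b := f.q v / f.q w) (by simp [Tv.herm_σ_q])
            exact ⟨c, fun h => div_ne_zero (mt hv.2.mp h7) h7 (by rw [← hc, h, mul_zero]),
              by rw [Tv.herm_q_smul, hc, div_mul_cancel₀ _ h7]⟩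
          obtain ⟨g, hg, h7⟩ := h2.exists_E_apply_eq hf (smul_ne_zero h6 h3) hv.1 hc
          exact ⟨g, hg, c, by rw [← h7, map_smul]⟩) (by simp)
      rw [orbit_eq_iff.mpr h', card_sq hF] at h6
      replace h6 := h6.trans_lt (Nat.mul_lt_mul_of_pos_right hlt (by omega))
      by_cases h7 : f.q w = 0
      · rw [card_zero_succ (F := F) f.q f.q_zero] at h0
        simp only [h7, iff_true] at h6
        omega
      have h8 := card_split (fun _ : V => True) (f.q · = 0)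
      rw [Nat.card_congr (Equiv.subtypeUnivEquiv fun _ => trivial), Module.natCard_eq_pow_finrank
        (K := F), card_sq hF] at h8
      have h9 : Nat.card {v // True ∧ ¬ f.q v = 0} ≤ _ := card_le_of_subset
        (p' := fun v => v ≠ 0 ∧ (f.q v = 0 ↔ f.q w = 0)) fun v hv =>
          ⟨fun h => hv.2 (h ▸ f.q_zero), by simp [hv.2, h7]⟩
      simp only [true_and] at h8 h9
      omega
  rcases hn.eq_or_lt' with h3 | h3
  swap
  · obtain ⟨w, h4, h6⟩ := hw.exists_fix hf (Or.inr ⟨b, hb0, hb⟩) (herm_iso2 hσ f) h3 hK'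
      (not_le_of_orb hE h') hD
    exact hfix w h4 h6
  obtain ⟨w, h4, -, h6⟩ | ⟨y, z, h4, h6, h7, h8, h9, h10⟩ := hw.exists_fix_five hf h3.le
    ⟨b, hb0, hb⟩ hK' (not_le_of_orb hE h') hD fun z w h => by
      obtain ⟨z', h4, h6⟩ := hf.exists_partner' h.q0 h.ne
      exact ((hI h.q0 h4 h6 ω' h').resolve_left fun h7 => hb0 (h7.2 b ⟨hb, h.cen b hb⟩)).imp
        fun _ h => ⟨h.1, h.2 h3⟩
  · exact hfix w h4 h6
  have h11 := card_le_of_plane hf h2 (Or.inl ⟨b, hb0, hb⟩) h4 h6 h7 h8 h9 h10 (s := s)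
    (by rw [card_sq hF, card_ker_π, H.hs])
  rw [orbit_eq_iff.mpr h', card_sq hF] at h11
  rw [card_zero_succ (F := F) f.q f.q_zero] at h0
  have h12 := (Nat.mul_le_mul (Nat.le_of_lt_succ h0) (Nat.mul_le_mul_left _ (h5 h3))).trans h11
  generalize q ^ 2 - 1 = P at *
  rw [← hP, show (P + 1) ^ 2 - 1 = P * (P + 2) from Nat.sub_eq_of_eq_add (by ring),
    show (P + 1) ^ 2 - (P + 1) = (P + 1) * P from Nat.sub_eq_of_eq_add (by ring),
    show M * P * _ = M * (P * (P + 2) * ((P + 1) * P)) by ring] at h12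
  exact hlt.not_ge (Nat.le_of_mul_le_mul_right h12 (by
    have : 0 < P := by omega
    positivity))

end CL.Coop
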