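/-
Minimal degrees of the unitary groups of the standard forms.
-/
import Mathlib
import Cfsg.Agent.KSG.CoopU4

set_option autoImplicit false

namespace CL.Coop

open Module CL.Witt CL.Witt.Form CL.Root MulAction CL.Uni CL.FormCount Cfsg

variable {F : Type*} [Field F] [Fintype F] {q m M : ℕ} (hF : Fintype.card F = q ^ 2)

theorem exists_piSU {n : ℕ} (hn : 2 ≤ n) : ∃ π : (std hF (Fin n)).E →* PSU n F q,
    Function.Surjective π ∧ ∀ g, π g = 1 → ∃ c : F, ∀ v, g.1 v = c • v := by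
  have hf := std_nondeg hF (Fin n)
  obtain ⟨x, hx0, hx⟩ := exists_isotropic (sig_ne_id hF) hf (by simpa using hn)
  exact exists_pi hf (herm_big (sig_ne_id hF) 0) hx hx0
    ((std hF (Fin n)).SO.subtype.comp (suEquiv hF n).toMonoidHom)
    (Subtype.val_injective.comp (suEquiv hF n).injective) (by
      rw [MonoidHom.range_comp, MonoidHom.range_eq_top.mpr (suEquiv hF n).surjective,
        ← MonoidHom.range_eq_map, Subgroup.range_subtype, E_eq_SO (sig_ne_id hF) hf])

theorem index_herm {n : ℕ} (hn : 4 ≤ n) {x : Fin n → F} (hx : x ≠ 0) {s : ℕ}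
    (hs : Nat.card {v // v ≠ 0 ∧ ((std hF (Fin n)).q v = 0 ↔ (std hF (Fin n)).q x = 0)} = s) :
    ∃ H : Subgroup (PSU n F q), H.index = s / (q ^ 2 - 1) := by
  have hf := std_nondeg hF (Fin n)
  have hσ := sig_ne_id hF
  obtain ⟨π, hπ, h1⟩ := exists_piSU hF (n := n) (by omega)
  obtain ⟨H, hH⟩ := exists_index_line π hπ (std hF (Fin n)).E.subtype hx
    (fun g hg => (h1 g hg).imp fun c h => h x)
    (p := fun v => v ≠ 0 ∧ ((std hF (Fin n)).q v = 0 ↔ (std hF (Fin n)).q x = 0))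
    fun v => by
      refine ⟨fun hv => ?_, ?_⟩
      · obtain ⟨c, h6, hc⟩ : ∃ c : F, c ≠ 0 ∧ (std hF (Fin n)).q (c • x) = (std hF (Fin n)).q v := by
          by_cases h7 : (std hF (Fin n)).q x = 0
          · exact ⟨1, one_ne_zero, by rw [one_smul, h7, hv.2.mpr h7]⟩
          obtain ⟨c, hc⟩ := Tv.exists_norm_eq_of_involution hσ (sig_sig hF)
            (b := (std hF (Fin n)).q v / (std hF (Fin n)).q x) (by simp [Tv.herm_σ_q])
          exact ⟨c, fun h => div_ne_zero (mt hv.2.mp h7) h7 (by rw [← hc, h, mul_zero]),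
            by rw [Tv.herm_q_smul, hc, div_mul_cancel₀ _ h7]⟩
        obtain ⟨g, hg, h7⟩ := (idx2 hσ hf (by simpa using hn)).exists_E_apply_eq hf
          (smul_ne_zero h6 hx) hv.1 hc
        exact ⟨⟨g, hg⟩, c, h6, by rw [← h7, map_smul]; rfl⟩
      · rintro ⟨g, c, hc, rfl⟩
        exact ⟨smul_ne_zero hc (by simpa using hx), by
          simp [Tv.herm_q_smul, hc, mem_O_q (E_le_O g.2)]⟩
  rw [hs, card_sq hF] at hH
  have := Nat.pow_le_pow_left (two_le_q hF) 2
  exact ⟨H, (Nat.div_eq_of_eq_mul_left (by omega) hH.symm).symm⟩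

include hF

theorem index_iso {n : ℕ} (hn : 4 ≤ n) {s : ℕ}
    (hs : Nat.card {v : Fin n → F // hermForm n F q v v = 0} = s + 1) :
    ∃ H : Subgroup (PSU n F q), H.index = s / (q ^ 2 - 1) := by
  obtain ⟨x, hx0, hx⟩ := exists_isotropic (sig_ne_id hF) (std_nondeg hF (Fin n))
    (by simp; omega)
  refine index_herm hF hn hx0 (add_left_injective 1 ?_)
  simp only [hx, iff_true]
  exact (card_zero_succ (F := F) _ (std hF (Fin n)).q_zero).symm.trans hs

theorem min_even (hM : M * (q ^ 2 - 1) ≤ (q ^ (2 * m + 6) - 1) * (q ^ (2 * m + 5) + 1))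
    (hM' : M * (q ^ 2 - 1) ≤ (q ^ (2 * m + 6) - 1) * ((q - 1) * q ^ (2 * m + 5)))
    (H : Subgroup (PSU (2 * m + 6) F q)) (hH : H ≠ ⊤) : M ≤ H.index := by
  have hq := two_le_q hF
  obtain ⟨π, hπ, -⟩ := exists_piSU hF (n := 2 * m + 6) (by omega)
  have hf := std_nondeg hF (Fin (2 * m + 6))
  have hn : finrank F (Fin (2 * m + 6) → F) = 2 * m + 6 := by simp
  have hp := fun k => Nat.one_le_pow k q (by omega)
  have hp' := fun k => Nat.one_le_pow k _ (hp 2)
  have h0 : Nat.card {v // (std hF (Fin (2 * m + 6))).q v = 0} =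
      (q ^ (2 * m + 6) - 1) * (q ^ (2 * m + 5) + 1) + 1 :=
    (card_hermForm_eq_zero hF _).trans (by rw [if_pos ⟨m + 3, by ring⟩]; rfl)
  have h1 : M * (q ^ 2 - 1) ≤ q ^ (4 * m + 11) + q ^ (2 * m + 6) := hM.trans (by
    zify [hp]
    ring_nf
    have : (0 : ℤ) ≤ q ^ 5 * q ^ (m * 2) := by positivity
    omega)
  have h2 := Nat.pow_le_pow_right (show 0 < q by omega) (show 2 * m + 6 ≤ 4 * m + 6 by omega)
  refine le_index_of_orbit π hπ (fun K _ ω => min_herm hf (by omega) (d := m + 2)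
    (s := (q ^ (2 * m + 4) - 1) * (q ^ (2 * m + 3) + 1))
    (τ := q ^ 2 * ((q ^ (2 * m + 2) - 1) * (q ^ (2 * m + 1) + 1)))
    (ν := (q ^ (2 * m + 3) + 1) * (q ^ (2 * m + 1) + 1)) (fun N hN => ⟨?_, by omega, fun X hX => by
      have := hX.two_mul_finrank_le hf
      omega, ?_, le_of_eq ?_, le_of_eq ?_, fun _ => ?_, fun _ => ?_⟩) (h0 ▸ Nat.lt_succ_of_le hM) ?_
    (by omega)) H hH
  all_goals try simp only [hn, h0, show 2 * m + 6 - 5 = 2 * m + 1 from rfl,
    show 2 * m + 6 - 2 = 2 * m + 4 from rfl, show 2 * m + 6 - 4 = 2 * m + 2 from rfl]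
  · refine ((Nat.mul_le_mul_right _ hN.le).trans h1).trans ((Nat.add_le_add_left h2 _).trans_eq ?_)
    ring
  · zify [hp]
    ring
  · zify [hp]
    ring
  · zify [hp, hp', Nat.le_self_pow (Nat.succ_ne_zero (m + 1)) (q ^ 2)]
    ring
  · have h3 : M ≤ (q + 1) * q ^ (4 * m + 8) := by
      refine Nat.le_of_mul_le_mul_right ((h1.trans (Nat.add_le_add_left (h2.trans
        (Nat.pow_le_pow_right (by omega) (show _ ≤ 4 * m + 8 by omega))) _)).trans ?_)
        (Nat.sub_pos_of_lt (Nat.one_lt_pow two_ne_zero hq))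
      rw [mul_right_comm, show 4 * m + 11 = 3 + (4 * m + 8) by ring, pow_add, ← add_one_mul]
      refine Nat.mul_le_mul_right _ ?_
      zify [hp]
      nlinarith
    refine (Nat.mul_lt_mul_of_pos_right (hN.trans_le h3) (by positivity)).trans_le ?_
    rw [show (q + 1) * q ^ (4 * m + 8) * (q ^ 2) ^ (m + 2) =
      q ^ (2 * m + 3) * (q + 1) * (q ^ 7 * (q ^ 2) ^ (2 * m + 1)) by ring]
    gcongr
    exacts [Nat.le_succ _, Nat.le_self_pow (by omega) q]
  · refine le_trans (b := q ^ (2 * m + 3) * q ^ (2 * m + 1) * (q ^ 2) ^ (m + 2)) ?_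
      (by gcongr <;> omega)
    simp only [← pow_mul, ← pow_add]
    exact Nat.pow_le_pow_right (by omega) (by omega)
  · refine (Nat.add_le_add_right hM' _).trans_eq ?_
    zify [hp, show 1 ≤ q by omega]
    ring

theorem min_odd' (hM : M * (q ^ 2 - 1) ≤ (q ^ (2 * m + 5) + 1) * (q ^ (2 * m + 4) - 1))
    (H : Subgroup (PSU (2 * m + 5) F q)) (hH : H ≠ ⊤) : M ≤ H.index := by
  have hq := two_le_q hF
  obtain ⟨π, hπ, -⟩ := exists_piSU hF (n := 2 * m + 5) (by omega)
  have hf := std_nondeg hF (Fin (2 * m + 5))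
  have hn : finrank F (Fin (2 * m + 5) → F) = 2 * m + 5 := by simp
  have hp := fun k => Nat.one_le_pow k q (by omega)
  have hp' := fun k => Nat.one_le_pow k _ (hp 2)
  have hP := Nat.sub_pos_of_lt (Nat.one_lt_pow two_ne_zero hq)
  have h0 : Nat.card {v // (std hF (Fin (2 * m + 5))).q v = 0} =
      (q ^ (2 * m + 5) + 1) * (q ^ (2 * m + 4) - 1) + 1 :=
    (card_hermForm_eq_zero hF _).trans (by
      rw [if_neg (Nat.not_even_iff_odd.mpr ⟨m + 2, by ring⟩)]; rfl)
  have h2 : (q ^ (2 * m + 5) + 1) * (q ^ (2 * m + 4) - 1) + 1 ≤ q ^ (4 * m + 9) := by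
    have := Nat.pow_le_pow_right (show 0 < q by omega) (show 2 * m + 4 ≤ 2 * m + 5 by omega)
    zify [hp] at this ⊢
    ring_nf at this ⊢
    omega
  have h1 : M ≤ q ^ (4 * m + 9) := (Nat.le_mul_of_pos_right _ hP).trans (by omega)
  refine le_index_of_orbit π hπ (fun K _ ω => min_herm hf (by omega) (d := m + 1)
    (s := (q ^ (2 * m + 3) + 1) * (q ^ (2 * m + 2) - 1))
    (τ := q ^ 2 * ((q ^ (2 * m + 1) + 1) * (q ^ (2 * m) - 1)))
    (ν := (q ^ (2 * m + 3) + 1) * (q ^ (2 * m + 1) + 1)) (fun N hN => ⟨?_, fun h => ?_, fun X hX => by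
      have := hX.two_mul_finrank_le hf
      omega, ?_, le_of_eq ?_, le_of_eq ?_, fun _ => ?_, fun _ => ?_⟩) (h0 ▸ Nat.lt_succ_of_le hM) ?_
    fun h => ?_) H hH
  all_goals try simp only [hn, h0, show 2 * m + 5 - 5 = 2 * m from rfl,
    show 2 * m + 5 - 2 = 2 * m + 3 from rfl, show 2 * m + 5 - 4 = 2 * m + 1 from rfl]
  · refine ((Nat.mul_le_mul_right _ hN.le).trans (hM.trans ((Nat.le_succ _).trans h2))).trans ?_
    rw [add_mul, show q ^ 9 * (q ^ 2) ^ (2 * m) = q ^ (4 * m + 9) by ring]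
    exact Nat.le_add_right _ _
  · obtain rfl : m = 0 := by omega
    refine Nat.le_of_lt_succ (hN.trans_le (Nat.le_of_mul_le_mul_right (hM.trans_eq ?_) hP))
    zify [hp]
    ring
  · zify [hp]
    ring
  · zify [hp]
    ring
  · zify [hp, hp', Nat.le_self_pow (Nat.succ_ne_zero m) (q ^ 2)]
    ring
  · refine (Nat.mul_lt_mul_of_pos_right (hN.trans_le h1) (by positivity)).trans_le
      (le_trans (b := q ^ (2 * m + 3) * q ^ (2 * m + 1) * (q ^ 7 * (q ^ 2) ^ (2 * m))) ?_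
        (by gcongr <;> omega))
    simp only [← pow_mul, ← pow_add]
    exact Nat.pow_le_pow_right (by omega) (by omega)
  · refine le_trans (b := q ^ (2 * m + 3) * q ^ (2 * m + 1) * (q ^ 2) ^ (m + 1)) ?_
      (by gcongr <;> omega)
    simp only [← pow_mul, ← pow_add]
    exact Nat.pow_le_pow_right (by omega) (by omega)
  · have := Nat.mul_le_mul_right (q ^ (4 * m + 9)) hq
    rw [show (q ^ 2) ^ (2 * m + 5) = q * q ^ (4 * m + 9) by ring]
    omega
  · obtain rfl : m = 0 := by omega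
    rw [mul_comm]
    gcongr
    all_goals omega

end CL.Coop
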