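/-
Minimal degree of the four-dimensional unitary groups: preliminaries.
-/
import Mathlib
import Cfsg.Agent.KSG.CoopS3
import Cfsg.Agent.KSG.CoopU5

set_option autoImplicit false

namespace CL.Coop

open Module CL.Witt CL.Witt.Form CL.Root MulAction Submodule FormType CL.Uni

section Gen

variable {F : Type*} [Field F] {T : FormType F} {V : Type*} [AddCommGroup V] [Module F V]
  {f : Form T V} {u u' v x y z : V} {t : V ≃ₗ[F] V} {Ω : Type*} [MulAction (V ≃ₗ[F] V) Ω]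
  {ω ω₁ : Ω} {c : F} {hu : f.q u = 0}

theorem ei_eq_mul' {a b : F} (h : f.EichOK u y a) (h' : f.EichOK u y b) :
    T.π (b - a) = 0 ∧ f.ei u y b = f.ei u 0 (b - a) * f.ei u y a :=
  have h1 := (h.ei_eq_mul h').1
  ⟨h1, by simp [(eichOK_zero h.hu h1).ei_mul h]⟩

theorem exists_central' (hu' : f.q u' = 0) (huu : f.B u u' = 1) (ht : Lv f u u' t c)
    (hc : T.σ c ≠ 1) (hW : ∀ x ∈ Wp f u u', t x = x)
    (hA : ∀ x ∈ Aw f hu u' ω₁, (T.σ c - 1)⁻¹ • x ∈ Aw f hu u' ω₁)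
    (h : t • ω₁ ∈ orbit (f.U u) ω₁) : ∃ ω₂ ∈ orbit (f.U u) ω₁,
      (∃ b, T.π b = 0 ∧ t • ω₂ = f.ei u 0 b • ω₂) ∧ ∀ l, Lv f u u' l 1 → l u' = u' →
        l • ω₁ ∈ orbit (f.U u) ω₁ → ∃ b, T.π b = 0 ∧ l • ω₂ = f.ei u 0 b • ω₂ ∧
          (T.σ c * c - 1) * b ∈ Zw f hu ω₂ := by
  obtain ⟨x, hx⟩ := exists_cy hu huu h
  have h1 := sub_ne_zero.mpr hc.symm
  obtain ⟨a₀, hw⟩ := exists_eichOK hu (v := (1 - T.σ c)⁻¹ • x) (by simp [hx.2.choose_spec.1.huv])
  obtain ⟨b, hb, h2⟩ := hx.fix ht hw (by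
    rw [map_smul, hW x hx.mem]
    match_scalars
    field_simp
    ring)
  generalize (1 - T.σ c)⁻¹ • x = w at *
  have h3 : f.ei u w a₀ • ω₁ ∈ orbit (f.U u) ω₁ := ⟨⟨_, ei_mem_U u w a₀⟩, rfl⟩
  obtain ⟨h4, h4'⟩ := ei_eq_mul' hw hb
  rw [h4', mul_smul] at h2
  generalize b - a₀ = b₀ at *
  have h5 : Cy f u u' (f.ei u w a₀ • ω₁) t 0 := ⟨by simp, b₀, eichOK_zero hu h4, h2⟩
  refine ⟨_, h3, ⟨b₀, h4, h2⟩, fun l hl hl' ⟨k, hk⟩ => ?_⟩
  obtain ⟨y, hy⟩ := exists_cy hu huu (l := l) (ω := f.ei u w a₀ • ω₁) (by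
    rw [orbit_eq_iff.mpr h3, ← mul_smul, (hl.smul_ei hw).2, mul_smul, ← hk]
    exact ⟨⟨_, ei_mem_U _ _ _⟩ * k, mul_smul _ _ _⟩)
  have h6 : t * l = l * t := by
    ext v
    obtain ⟨p, hp, v, hv, rfl⟩ := mem_sup.mp
      ((f.isCompl_perp_pair hu hu' huu).sup_eq_top ▸ mem_top : v ∈ _)
    obtain ⟨α, β, rfl⟩ := mem_span_pair.mp hp
    obtain ⟨c', -, h6⟩ := ht.right
    simp [hl.left, hl', ht.left, h6, hW v hv, hW _ (hl.perp hv)]
  have h7 := hA _ (Aw_eq_of_orbit h3 ▸ (h6 ▸ h5.mul ht hy).sub_mem (hu := hu) (hy.mul hl h5))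
  rw [← Aw_eq_of_orbit h3, hW y hy.mem, show (T.σ c - 1)⁻¹ • _ = y by
    simp only [map_zero]
    match_scalars
    field_simp [sub_ne_zero.mpr hc]] at h7
  obtain ⟨⟨a, h8, h9⟩, -⟩ := mem_Aw.mp h7
  obtain ⟨-, a', h10, h11⟩ := hy
  obtain ⟨h12, h13⟩ := ei_eq_mul' h8 h10
  rw [h13, mul_smul, h9] at h11
  generalize a' - a = b at *
  generalize f.ei u w a₀ • ω₁ = ω₂ at *
  have h14 : T.π ((T.σ c * c - 1) * b) = 0 := by
    rw [sub_mul, map_sub, T.π_norm, one_mul, h12, mul_zero, sub_zero]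
  refine ⟨b, h12, h11, h14, smul_left_cancel (f.ei u 0 (b₀ + b)) ?_⟩
  have h15 := congrArg (· • ω₂) h6
  simp only [mul_smul, h11, h2] at h15
  rw [smul_smul t, (ht.smul_ei (eichOK_zero hu h12)).2, smul_smul l,
    (hl.smul_ei (eichOK_zero hu h4)).2, mul_smul, mul_smul, h2, h11] at h15
  simp only [map_zero, smul_zero, map_one, one_mul, smul_smul] at h15
  rw [smul_smul, ← ei_zero_add hu (by rw [map_add, h4, h12, add_zero]) h14,
    ei_zero_add hu h4 h12, ← h15, ← ei_zero_add hu (by rw [T.π_norm, h12, mul_zero]) h4]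
  congr 2
  ring

variable [FiniteDimensional F V] (hf : f.Nondeg)
include hf

theorem eq_zero_four (hn : finrank F V ≤ 4) (hu : f.q u = 0) (hu' : f.q u' = 0)
    (huu : f.B u u' = 1) (hx : x ∈ Wp f u u') (hy : y ∈ Wp f u u') (hq : f.q x = 0)
    (h : f.B x y ≠ 0) (hv : v ∈ Wp f u u') (h1 : f.B x v = 0) (h2 : f.B y v = 0) : v = 0 := by
  have h3 := hf.finrank_add_finrank_perp (span F (Set.range ![y, x, u', u]))
  rw [finrank_span_eq_card (Tv.li4 (fun h => by simp [h] at huu) (fun h => by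
    obtain ⟨c, rfl⟩ := mem_span_singleton.mp h
    simp [f.B_self_eq_zero hu] at huu) (not_mem_of_Wp hu hu' huu hx fun h0 => by simp [h0] at h)
    fun h3 => h (by
      obtain ⟨c, rfl⟩ := mem_span_singleton.mp (by
        simpa using mem_pair_of_Wp hu hu' huu hy hx hx (by simpa using h3) : y ∈ F ∙ x)
      simp [f.B_self_eq_zero hq])), Fintype.card_fin] at h3
  refine (Submodule.eq_bot_iff _).mp (Submodule.finrank_eq_zero.mp (by omega)) v
    (show v ∈ f.perp (span F (Set.range ![y, x, u', u])) from f.mem_perp_span.mpr ?_)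
  simpa [h1, h2, and_comm] using f.mem_perp_span_pair.mp hv

variable [Finite F]

theorem small_le [Finite Ω] (hn : finrank F V ≤ 4) (hu : f.q u = 0) (hu' : f.q u' = 0)
    (huu : f.B u u' = 1) (hp : HP f (span F {u, u'})) {S S₁ : Set Ω} {D : Ω → AddSubgroup V}
    {d : ℕ} (hS : ∀ g, Lv f u u' g 1 → ∀ ω ∈ S₁, g • ω ∈ S)
    (hD : ∀ g, Lv f u u' g 1 → ∀ ω, ∀ x ∈ D ω, g x ∈ D (g • ω)) (hx : x ∈ Wp f u u') (h0 : x ≠ 0)
    (h : ∀ ω ∈ S₁, x ∈ D ω) (hd : ∀ ω ∈ S, Nat.card (D ω) = d) :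
    Nat.card T.π.ker * Nat.card S₁ ≤ Nat.card S * (d - 1) := by
  have : Finite V := Module.finite_of_finite F
  obtain ⟨y, hy, h1, h2⟩ : ∃ y ∈ Wp f u u', f.q y = 0 ∧ f.B y x ≠ 0 := by
    obtain ⟨e, h1, e', h2, h3, h4, h5⟩ := hp
    by_contra! h6
    exact h0 (eq_zero_four hf hn hu hu' huu h1 h2 h3 (by simp [h5]) hx (h6 e h1 h3) (h6 e' h2 h4))
  refine cover_gen (F := F) (V := V) (fun ω (b : T.π.ker) => f.ei y 0 b x ∈ D ω) (fun b => ⟨f.ei y 0 b,
    fun ω hω => have h3 := lv_ei (eichOK_zero h1 b.2) hy (zero_mem _)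
      ⟨hS _ h3 ω hω, hD _ h3 ω x (h ω hω)⟩⟩) fun ω hω => ?_
  rw [← hd ω hω, ← card_ne_zero_sub]
  refine Nat.card_le_card_of_injective (fun b => ⟨_, b.2, by simpa using h0⟩) fun b b' h3 =>
    Subtype.ext (Subtype.ext ?_)
  have h4 : y ≠ 0 := fun h => by simp [h] at h2
  simpa [ei_zero_apply h1 b.1.2, ei_zero_apply h1 b'.1.2, smul_left_injective F h4 |>.eq_iff, h2,
    T.ε_ne_zero] using h3

open Pointwise in
theorem index_plane (h2 : f.Idx2) (hb : ∃ a : F, a ≠ 0 ∧ T.π a = 0) {G' : Type*} [Group G']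
    (π : f.E →* G') (hπ : Function.Surjective π) (h1 : ∀ g, π g = 1 → ∃ c : F, ∀ v, g.1 v = c • v)
    {s : ℕ} (hs : Nat.card {v // f.q v = 0} = (Nat.card F - 1) *
      (Nat.card F ^ (finrank F V - 2) * Nat.card T.π.ker) + Nat.card F * (s + 1)) :
    ∃ H : Subgroup G', H.index * ((Nat.card F ^ 2 - 1) * (Nat.card F ^ 2 - Nat.card F)) =
      Nat.card {v // v ≠ 0 ∧ f.q v = 0} * (Nat.card F * s) := by
  have : Finite V := Module.finite_of_finite F
  have : Finite (Submodule F V) := Finite.of_injective _ SetLike.coe_injective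
  obtain ⟨y, y', z, z', h3, -, h4, h5, -, h6, h7, h8, -⟩ := id h2
  have h0 : y ≠ 0 := fun h => by simp [h] at h4
  have h9 : z ∉ F ∙ y := fun h => by
    obtain ⟨c, rfl⟩ := mem_span_singleton.mp h
    simp [h8] at h6
  have h10 : ∀ (g : V ≃ₗ[F] V) (X : Submodule F V) v, v ∈ g • X ↔ g⁻¹ v ∈ X := fun g X v =>
    ⟨fun ⟨w, hw, h⟩ => by simpa [← h] using hw, fun h => ⟨_, h, by simp⟩⟩
  obtain ⟨H, hH⟩ := exists_index_eq π hπ (span F {y, z}) fun g hg => by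
    obtain ⟨c, hc⟩ := h1 g hg
    have h11 : c ≠ 0 := fun h => h0 (by simpa [h] using hc y)
    refine Submodule.ext fun v => (h10 g.1 _ v).trans ?_
    rw [← smul_mem_iff _ h11, ← hc]
    simp
  refine ⟨H, hH ▸ le_antisymm ?_ (card_le_of_plane (ω := span F {y, z}) hf h2 (Or.inl hb) h0 h9 h3
    h5 h7 (fun g hg v hv => by rw [← mem_stabilizer_iff.mp hg, h10]; simpa using hv) hs)⟩
  have h11 := (f.totSing_span (s := {y, z}) (by simp [h3, h5]) (by
    simp [f.B_self_eq_zero, h3, h5, h7, f.B_eq_zero_symm h7]))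
  have h12 : finrank F (span F {y, z}) = 2 := by
    rw [← show Set.range ![z, y] = {y, z} by ext; simp [or_comm],
      finrank_span_eq_card (Tv.li2 h0 h9), Fintype.card_fin]
  have h13 : ∀ X : orbit f.E (span F {y, z}), finrank F X.1 = 2 ∧ f.TotSing X.1 := by
    rintro ⟨_, g, rfl⟩
    exact ⟨(LinearEquiv.finrank_map_eq g.1 _).trans h12,
      h11.map (g := (g.1 : V →ₗ[F] V)) (E_le_O g.2)⟩
  refine (cover (c := 1) {p : V × V | (p.1 ≠ 0 ∧ f.q p.1 = 0) ∧ p.2 ∉ F ∙ p.1 ∧ f.q p.2 = 0 ∧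
    f.B p.1 p.2 = 0} (fun p X => p.1 ∈ X.1 ∧ p.2 ∈ X.1) (fun X => ?_) fun p hp => ?_).trans
    ((mul_one _).trans_le (card_pair_le (P := fun v => v ≠ 0 ∧ f.q v = 0)
      fun y hy => (le_card_perp_sing hf hy.1 hy.2 hs).le))
  · obtain ⟨h14, h15⟩ := h13 X
    rw [← h14, ← card_submodule_eq_pow, ← show _ = Nat.card X.1 - 1 from
      card_ne_zero_sub X.1.toAddSubgroup]
    refine (le_card_pair (R := fun y z => z ∈ X.1 ∧ z ∉ F ∙ y) fun y hy => ?_).trans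
      (card_le_of_subset fun p hp => ⟨⟨⟨hp.1.2, h15.1 _ hp.1.1⟩, hp.2.2, h15.1 _ hp.2.1,
        h15.2 _ hp.1.1 _ hp.2.1⟩, hp.1.1, hp.2.1⟩)
    rw [card_diff fun x hx => (span_singleton_le_iff_mem _ _).mpr hy.1 hx]
    exact tsub_le_tsub_left (card_line_le y) _
  have key : ∀ X : {X : orbit f.E (span F {y, z}) // p.1 ∈ X.1 ∧ p.2 ∈ X.1},
      span F (Set.range ![p.2, p.1]) = X.1.1 := fun X => eq_of_le_of_finrank_le
    (span_le.mpr (by simp [Set.insert_subset_iff, X.2]))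
    (by rw [finrank_span_eq_card (Tv.li2 hp.1.1 hp.2.1), Fintype.card_fin, (h13 _).1])
  exact Finite.card_le_one_iff_subsingleton.mpr ⟨fun X X' =>
    Subtype.ext (Subtype.ext ((key X).symm.trans (key X')))⟩

end Gen

theorem min_sp_four_three {F : Type*} [Field F] [Finite F] {V : Type*} [AddCommGroup V]
    [Module F V] [FiniteDimensional F V] {f : Form (alt F) V} {Ω : Type*}
    [MulAction (V ≃ₗ[F] V) Ω] [Finite Ω] {ω : Ω} (hf : f.Nondeg) (hm : finrank F V = 2 * (1 + 1))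
    (hq : Nat.card F = 3) (hE : ¬ f.E ≤ stabilizer (V ≃ₗ[F] V) ω) :
    27 ≤ Nat.card (orbit f.E ω) := by
  have : Finite V := Module.finite_of_finite F
  obtain ⟨u, c, h⟩ := exists_tv_ne hf hE
  have hu := f.alt_q u
  obtain ⟨u', hu', huu⟩ := hf.exists_partner' hu fun h0 => h (by rw [h0, tv_zero_left, one_smul])
  have h1 := card_mul_two_le (A := Zw f hu ω) le_top fun h1 =>
    h (f.ei_zero_eq_tv u c ▸ (h1 trivial).2)
  rw [AddSubgroup.card_top, hq] at h1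
  have h2 := AddSubgroup.eq_bot_of_card_le (Zw f hu ω) (by omega)
  have h3 := card_orbit (hu := hu) huu ω
  rw [card_Wp_alt hf huu hm, card_ker_alt, h2, AddSubgroup.card_bot, hq, mul_one] at h3
  have h4 : Nat.card (orbit (f.U u) ω) ≤ Nat.card (orbit f.E ω) := card_le_of_subset (orbit_U_le (u := u) (mem_orbit_self (M := f.E) ω))
  by_cases h5 : Aw f hu u' ω = ⊥
  · rw [h5, AddSubgroup.card_bot] at h3
    omega
  obtain ⟨⟨y, hy⟩, h0⟩ := AddSubgroup.ne_bot_iff_exists_ne_zero.mp h5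
  replace h0 : y ≠ 0 := by simpa using h0
  have h6 : Nat.card (Aw f hu u' ω) ≤ 3 := hq ▸ (card_le_of_subset fun x hx =>
    mem_line_of_max hf (by omega) hu hu' huu (Aw_le hy) (Aw_le hx) h0 (f.alt_q _) (f.alt_q _) (by
      have h6 := sub_mem_Zw hy hx
      have := Fintype.ofFinite F
      have h7 := FiniteField.cast_card_eq_zero F
      rw [← Nat.card_eq_fintype_card, hq, Nat.cast_ofNat] at h7
      rw [h2, AddSubgroup.mem_bot, f.alt_symm y] at h6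
      linear_combination f.B y x * h7 - h6)).trans (card_line_le y)
  have h7 := (vec_alt hf huu hm (S := Cl f hu u' ω ω) (D := Aw f hu u')
    (fun g hg ω' h => hg.mem_Cl' (orbit_U_le_Cl ⟨mem_orbit_self ω, rfl, rfl⟩ h))
    (fun g hg ω x hx => by simpa using hg.mem_Aw hx) (Aw_le hy) h0
    (fun ω' h => Aw_eq_of_orbit h ▸ hy) fun ω' h => h.2.1).trans
      (Nat.mul_le_mul (card_Cl_le ω) (tsub_le_tsub_right h6 1))
  have := Nat.mul_le_mul_left (Nat.card (orbit (f.U u) ω)) h6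
  rw [hq] at h7
  omega

section Num

variable {q N S o a z : ℕ} (hq : 3 ≤ q) (hN : N ≤ q ^ 4 + q ^ 3 + q) (ho : o * (a * z) = q ^ 5)
include hq hN ho

theorem num_non {Y : ℕ} (ha : a ≤ q ^ 2) (hz : z * 2 ≤ q)
    (hY : q ^ 4 = (q ^ 2 - 1) * (q + 1) + 1 + Y) (h : Y * o ≤ N * (a - 1)) : False := by
  obtain ⟨r, rfl⟩ := Nat.exists_eq_add_of_le' (show 1 ≤ q by omega)
  rw [show (r + 1) ^ 2 - 1 = r * (r + 2) from Nat.sub_eq_of_eq_add (by ring)] at hY
  obtain rfl : Y = (r + 1) * r * (r * (r + 2)) := by nlinarith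
  have h1 : (r + 1) ^ 4 * r ≤ N * z := Nat.le_of_mul_le_mul_right (c := r * (r + 2) * (r + 1) ^ 2)
    (le_trans (le_of_eq (by rw [mul_assoc _ o, ho]; ring)) ((Nat.mul_le_mul_right (a * z) h).trans
      (le_trans (le_of_eq (by ring)) (Nat.mul_le_mul_left (N * z) (Nat.mul_le_mul
        (show a - 1 ≤ _ from tsub_le_iff_right.mpr (ha.trans_eq (by ring))) ha)))))
    (by have : 0 < r := by omega
        positivity)
  rcases hq.eq_or_lt with h2 | h2
  · obtain rfl : r = 2 := by omega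
    have := Nat.mul_le_mul hN (show z ≤ 1 by omega)
    omega
  obtain ⟨r, rfl⟩ := Nat.exists_eq_add_of_le' (show 3 ≤ r by omega)
  have h3 := (Nat.mul_le_mul_right 2 h1).trans ((mul_assoc _ _ _).trans_le (Nat.mul_le_mul hN hz))
  ring_nf at h3
  omega

theorem num_small4 (hS : z * S ≤ N) (ha : a ≤ q) (h : q * o ≤ S * (a - 1)) : False := by
  obtain ⟨r, rfl⟩ := Nat.exists_eq_add_of_le' (show 1 ≤ q by omega)
  have h1 : (r + 1) * (r + 1) ^ 5 ≤ _ := le_trans (le_of_eq (by rw [← ho]; ring))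
    ((Nat.mul_le_mul_right (a * z) h).trans (le_trans (le_of_eq (by ring))
      (Nat.mul_le_mul (hS.trans hN) (Nat.mul_le_mul (tsub_le_iff_right.mpr ha) ha))))
  ring_nf at h1
  omega

theorem num_class (hS : (q - 1) * (z * S) ≤ N * (q - z)) (h : (q + 1) * o ≤ S) (ha : a ≤ q ^ 2) :
    z = 1 ∧ q ^ 2 < a * 2 := by
  have h1 : (q - 1) * ((q + 1) * q ^ 5) ≤ N * (q - z) * a := le_trans (le_of_eq (by
    rw [← ho]; ring)) ((Nat.mul_le_mul_left ((q - 1) * (a * z)) h).trans (le_trans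
      (le_of_eq (by ring)) (Nat.mul_le_mul_right a hS)))
  have hz : z ≠ 0 := fun h => by
    rw [h, mul_zero, mul_zero] at ho
    exact (pow_ne_zero 5 (by omega)) ho.symm
  obtain ⟨r, rfl⟩ := Nat.exists_eq_add_of_le' (show 2 ≤ q by omega)
  rw [show r + 2 - 1 = r + 1 from rfl] at h1
  refine ⟨not_not.mp fun h2 => ?_, not_le.mp fun h2 => ?_⟩
  · have h3 := h1.trans (Nat.mul_le_mul (Nat.mul_le_mul hN (show _ ≤ r by omega)) ha)
    ring_nf at h3
    omega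
  · have h3 := (Nat.mul_le_mul_right 2 h1).trans ((mul_assoc _ _ _).trans_le (Nat.mul_le_mul
      (Nat.mul_le_mul hN (show _ ≤ r + 1 by omega)) h2))
    ring_nf at h3
    omega

end Num

end CL.Coop
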