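/-
Graded finite groups `(X, s)` whose twisted Frobenius-Schur indicators are all non-negative:
the predicate `Good s X` and its closure properties.
-/
import Mathlib

namespace CL.Fs
open Finset
open scoped ComplexOrder

section defs
variable {G : Type*} [Group G]

/-- `ρ` is multiplicative on the positive part of `X`. -/
structure IsPRep (s : G →* ℤˣ) (X : Subgroup G) {U : Type*} [AddCommGroup U] [Module ℂ U]
    (ρ : G → Module.End ℂ U) : Prop where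
  one : ρ 1 = 1
  mul : ∀ a ∈ X, ∀ b ∈ X, s a = 1 → s b = 1 → ρ (a * b) = ρ a * ρ b

/-- The elements of a subgroup, as a finset. -/
noncomputable def fin [Finite G] (X : Subgroup G) : Finset G :=
  (Set.toFinite (X : Set G)).toFinset

theorem mem_fin [Finite G] {X : Subgroup G} {x : G} : x ∈ fin X ↔ x ∈ X := by
  simp [fin]

theorem card_fin [Finite G] (X : Subgroup G) : (fin X).card = Nat.card X := by
  rw [fin, ← Set.ncard_eq_toFinset_card, ← Nat.card_coe_set_eq]; rfl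

theorem card_fin_pos [Finite G] (X : Subgroup G) : 0 < (fin X).card :=
  card_pos.2 ⟨1, mem_fin.2 X.one_mem⟩

/-- The negative elements of `X`. -/
noncomputable def negs [Finite G] (s : G →* ℤˣ) (X : Subgroup G) : Finset G :=
  (Set.toFinite {x | x ∈ X ∧ s x = -1}).toFinset

theorem mem_negs [Finite G] {s : G →* ℤˣ} {X : Subgroup G} {x : G} :
    x ∈ negs s X ↔ x ∈ X ∧ s x = -1 := by
  simp [negs]

/-- The sum of the squares of the negative elements. -/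
noncomputable def om [Finite G] (s : G →* ℤˣ) (X : Subgroup G) {U : Type*} [AddCommGroup U]
    [Module ℂ U] (ρ : G → Module.End ℂ U) : Module.End ℂ U := ∑ x ∈ negs s X, ρ (x * x)

/-- All eigenvalues of the sum of squares of negative elements are non-negative. -/
def Good [Finite G] (s : G →* ℤˣ) (X : Subgroup G) : Prop :=
  ∀ (U : Type) [AddCommGroup U] [Module ℂ U] [FiniteDimensional ℂ U] (ρ : G → Module.End ℂ U),
    IsPRep s X ρ → ∀ (c : ℂ) (y : U), y ≠ 0 → om s X ρ y = c • y → 0 ≤ c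

theorem sgn_mul_self (s : G →* ℤˣ) (x : G) : s (x * x) = 1 := by
  rw [map_mul]; exact Int.units_mul_self _

theorem sgn_inv (s : G →* ℤˣ) (x : G) : s x⁻¹ = s x := by
  rw [map_inv]; exact Int.units_inv_eq_self _

theorem sgn_conj (s : G →* ℤˣ) (x y : G) : s (x * y * x⁻¹) = s y := by
  rw [map_mul, map_mul, mul_comm (s x), mul_assoc, ← map_mul, mul_inv_cancel, map_one, mul_one]

theorem sgn_conj' (s : G →* ℤˣ) (x y : G) : s (x⁻¹ * y * x) = s y := by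
  simpa using sgn_conj s x⁻¹ y

theorem sgn_or (s : G →* ℤˣ) (x : G) : s x = 1 ∨ s x = -1 := Int.units_eq_one_or _

theorem units_ne : (1 : ℤˣ) ≠ -1 := by decide

theorem IsPRep.mono {s : G →* ℤˣ} {X Y : Subgroup G} {U : Type*} [AddCommGroup U] [Module ℂ U]
    {ρ : G → Module.End ℂ U} (h : IsPRep s Y ρ) (hXY : X ≤ Y) : IsPRep s X ρ :=
  ⟨h.one, fun a ha b hb => h.mul a (hXY ha) b (hXY hb)⟩

theorem IsPRep.mul_inv {s : G →* ℤˣ} {X : Subgroup G} {U : Type*} [AddCommGroup U] [Module ℂ U]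
    {ρ : G → Module.End ℂ U} (h : IsPRep s X ρ) {a : G} (ha : a ∈ X) (hs : s a = 1) :
    ρ a * ρ a⁻¹ = 1 := by
  rw [← h.mul a ha _ (X.inv_mem ha) hs (by rw [sgn_inv, hs]), mul_inv_cancel, h.one]

theorem IsPRep.inv_mul {s : G →* ℤˣ} {X : Subgroup G} {U : Type*} [AddCommGroup U] [Module ℂ U]
    {ρ : G → Module.End ℂ U} (h : IsPRep s X ρ) {a : G} (ha : a ∈ X) (hs : s a = 1) :
    ρ a⁻¹ * ρ a = 1 := by
  simpa using h.mul_inv (X.inv_mem ha) (by rw [sgn_inv, hs])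

end defs

section basic
variable {G : Type*} [Group G] [Finite G] {s : G →* ℤˣ}

theorem eq_of_smul_eq {U : Type*} [AddCommGroup U] [Module ℂ U] {y : U} (hy : y ≠ 0) {a b : ℂ}
    (h : a • y = b • y) : a = b := smul_left_injective ℂ hy h

theorem nonneg_of_mul {k : ℕ} (hk : 0 < k) {c : ℂ} (h : 0 ≤ (k : ℂ) * c) : 0 ≤ c := by
  have hk' : (k : ℂ) ≠ 0 := by exact_mod_cast hk.ne'
  have : c = ((k : ℝ)⁻¹ : ℝ) * ((k : ℂ) * c) := by
    push_cast; rw [← mul_assoc, inv_mul_cancel₀ hk', one_mul]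
  rw [this]
  exact mul_nonneg (Complex.zero_le_real.2 (inv_nonneg.2 (Nat.cast_nonneg k))) h

theorem good_of_no_neg {X : Subgroup G} (h : ∀ x ∈ X, s x = 1) : Good s X := by
  intro U _ _ _ ρ _ c y hy hc
  have : negs s X = ∅ := by
    refine eq_empty_of_forall_notMem fun x hx => ?_
    obtain ⟨h1, h2⟩ := mem_negs.1 hx
    exact units_ne ((h x h1).symm.trans h2)
  rw [om, this, sum_empty, LinearMap.zero_apply, ← zero_smul ℂ y] at hc
  exact (eq_of_smul_eq hy hc).le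

theorem good_of_sq {X : Subgroup G} (h : ∀ x ∈ X, s x = -1 → x * x = 1) : Good s X := by
  intro U _ _ _ ρ hρ c y hy hc
  have : om s X ρ y = ((negs s X).card : ℂ) • y := by
    rw [om, LinearMap.sum_apply, sum_congr rfl (g := fun _ => y), sum_const, Nat.cast_smul_eq_nsmul]
    intro x hx
    obtain ⟨h1, h2⟩ := mem_negs.1 hx
    rw [h x h1 h2, hρ.one]; rfl
  rw [← eq_of_smul_eq hy (this.symm.trans hc)]
  exact Nat.cast_nonneg _

theorem sum_fiber {α β M : Type*} [AddCommMonoid M] (S : Finset α) (T : Finset β) (f : α → β)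
    (hf : ∀ a ∈ S, f a ∈ T) (k : ℕ) [DecidableEq β]
    (hk : ∀ b ∈ T, (S.filter (fun a => f a = b)).card = k) (F : β → M) :
    ∑ a ∈ S, F (f a) = k • ∑ b ∈ T, F b := by
  rw [← sum_fiberwise_of_maps_to hf, smul_sum]
  refine sum_congr rfl fun b hb => ?_
  rw [sum_congr rfl (g := fun _ => F b), sum_const, hk b hb]
  intro a ha
  rw [(mem_filter.1 ha).2]

/-- Transfer of `Good` along a surjective graded homomorphism `X → X'`. -/
theorem Good.of_surj {G' : Type*} [Group G'] [Finite G'] {s' : G' →* ℤˣ} {X : Subgroup G}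
    {X' : Subgroup G'} (f : G → G') (hmap : ∀ x ∈ X, f x ∈ X')
    (hmul : ∀ x ∈ X, ∀ y ∈ X, f (x * y) = f x * f y) (hs : ∀ x ∈ X, s' (f x) = s x)
    (hsurj : ∀ x' ∈ X', ∃ x ∈ X, f x = x') (h : Good s X) : Good s' X' := by
  classical
  intro U _ _ _ ρ hρ c y hy hc
  have f1 : f 1 = 1 := by
    have := hmul 1 X.one_mem 1 X.one_mem
    rw [one_mul] at this
    exact left_eq_mul.1 this
  have finv : ∀ x ∈ X, f x⁻¹ = (f x)⁻¹ := fun x hx => by
    rw [eq_inv_iff_mul_eq_one, ← hmul _ (X.inv_mem hx) _ hx, inv_mul_cancel, f1]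
  set K := (fin X).filter (fun a => f a = 1) with hK
  have hKpos : 0 < K.card := card_pos.2 ⟨1, mem_filter.2 ⟨mem_fin.2 X.one_mem, f1⟩⟩
  have hsum : om s X (fun x => ρ (f x)) = K.card • om s' X' ρ := by
    rw [om, om, ← sum_fiber (negs s X) (negs s' X') f ?_ K.card ?_ (fun b => ρ (b * b))]
    · refine sum_congr rfl fun x hx => ?_
      rw [hmul x (mem_negs.1 hx).1 x (mem_negs.1 hx).1]
    · intro a ha
      obtain ⟨h1, h2⟩ := mem_negs.1 ha
      exact mem_negs.2 ⟨hmap a h1, (hs a h1).trans h2⟩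
    · intro b hb
      obtain ⟨h1, h2⟩ := mem_negs.1 hb
      obtain ⟨x, hx, rfl⟩ := hsurj b h1
      have hsx : s x = -1 := (hs x hx).symm.trans h2
      refine card_bij' (fun a _ => x⁻¹ * a) (fun k _ => x * k) ?_ ?_ ?_ ?_
      · intro a ha
        obtain ⟨h3, h4⟩ := mem_filter.1 ha
        have h5 := (mem_negs.1 h3).1
        refine mem_filter.2 ⟨mem_fin.2 (X.mul_mem (X.inv_mem hx) h5), ?_⟩
        rw [hmul _ (X.inv_mem hx) _ h5, finv x hx, h4, inv_mul_cancel]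
      · intro k hk
        obtain ⟨h3, h4⟩ := mem_filter.1 hk
        have h5 := mem_fin.1 h3
        have h6 : s k = 1 := by rw [← hs k h5, h4, map_one]
        refine mem_filter.2 ⟨mem_negs.2 ⟨X.mul_mem hx h5, ?_⟩, ?_⟩
        · rw [map_mul, hsx, h6, mul_one]
        · rw [hmul _ hx _ h5, h4, mul_one]
      · intro a _; simp
      · intro a _; simp
  have hρ' : IsPRep s X (fun x => ρ (f x)) := ⟨by simp only [f1, hρ.one], fun a ha b hb sa sb => by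
    simp only [hmul a ha b hb]
    exact hρ.mul _ (hmap a ha) _ (hmap b hb) ((hs a ha).trans sa) ((hs b hb).trans sb)⟩
  refine nonneg_of_mul hKpos (h U _ hρ' _ y hy ?_)
  rw [hsum, LinearMap.smul_apply, hc, ← Nat.cast_smul_eq_nsmul ℂ, smul_smul]

/-- Transfer of `Good` backwards along a bijective graded homomorphism `X → X'`. -/
theorem Good.of_inj {G' : Type*} [Group G'] [Finite G'] {s' : G' →* ℤˣ} {X : Subgroup G}
    {X' : Subgroup G'} (f : G → G') (hmap : ∀ x ∈ X, f x ∈ X')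
    (hmul : ∀ x ∈ X, ∀ y ∈ X, f (x * y) = f x * f y) (hs : ∀ x ∈ X, s' (f x) = s x)
    (hinj : ∀ x ∈ X, ∀ y ∈ X, f x = f y → x = y)
    (hsurj : ∀ x' ∈ X', ∃ x ∈ X, f x = x') (h : Good s' X') : Good s X := by
  classical
  choose! g hg hfg using hsurj
  refine Good.of_surj g hg (fun x hx y hy => ?_) (fun x hx => ?_) (fun x hx => ?_) h
  · refine hinj _ (hg _ (X'.mul_mem hx hy)) _ (X.mul_mem (hg x hx) (hg y hy)) ?_
    rw [hfg _ (X'.mul_mem hx hy), hmul _ (hg x hx) _ (hg y hy), hfg x hx, hfg y hy]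
  · rw [← hs _ (hg x hx), hfg x hx]
  · exact ⟨f x, hmap x hx, hinj _ (hg _ (hmap x hx)) _ hx (hfg _ (hmap x hx))⟩

theorem nonneg_of_commute {U : Type*} [AddCommGroup U] [Module ℂ U] [FiniteDimensional ℂ U]
    {A B : Module.End ℂ U} (hAB : A * B = B * A)
    (hA : ∀ (c : ℂ) (y : U), y ≠ 0 → A y = c • y → 0 ≤ c)
    (hB : ∀ (c : ℂ) (y : U), y ≠ 0 → B y = c • y → 0 ≤ c) {c : ℂ} {y : U} (hy : y ≠ 0)
    (h : (A * B) y = c • y) : 0 ≤ c := by
  set E := Module.End.eigenspace (A * B) c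
  have hE : ∀ v ∈ E, A v ∈ E := fun v hv => by
    rw [Module.End.mem_eigenspace_iff] at hv ⊢
    have : (A * B) (A v) = A ((A * B) v) := by
      rw [← Module.End.mul_apply, ← Module.End.mul_apply A (A * B), mul_assoc, ← hAB]
    rw [this, hv, map_smul]
  haveI : Nontrivial E := ⟨⟨⟨y, Module.End.mem_eigenspace_iff.2 h⟩, 0, fun e => hy (congrArg Subtype.val e)⟩⟩
  obtain ⟨a, ha⟩ := Module.End.exists_eigenvalue (A.restrict hE)
  obtain ⟨v, hv⟩ := ha.exists_hasEigenvector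
  have hv0 : (v : U) ≠ 0 := fun e => hv.2 (Subtype.ext e)
  have hv1 : A v = a • (v : U) := congrArg Subtype.val hv.apply_eq_smul
  have hv2 : (A * B) v = c • (v : U) := Module.End.mem_eigenspace_iff.1 v.2
  rw [hAB, Module.End.mul_apply, hv1, map_smul] at hv2
  have ha0 := hA a v hv0 hv1
  by_cases h0 : a = 0
  · rw [h0, zero_smul, ← zero_smul ℂ (v : U)] at hv2
    exact (eq_of_smul_eq hv0 hv2).le
  · have : B v = (a⁻¹ * c) • (v : U) := by
      rw [mul_smul, ← hv2, smul_smul, inv_mul_cancel₀ h0, one_smul]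
    have h2 := hB _ v hv0 this
    have : c = a * (a⁻¹ * c) := by rw [← mul_assoc, mul_inv_cancel₀ h0, one_mul]
    rw [this]
    exact mul_nonneg ha0 h2

/-- The fibre product of two graded groups. -/
def fibP {G₁ G₂ : Type*} [Group G₁] [Group G₂] (s₁ : G₁ →* ℤˣ) (s₂ : G₂ →* ℤˣ)
    (X₁ : Subgroup G₁) (X₂ : Subgroup G₂) : Subgroup (G₁ × G₂) where
  carrier := {x | x.1 ∈ X₁ ∧ x.2 ∈ X₂ ∧ s₁ x.1 = s₂ x.2}
  one_mem' := ⟨X₁.one_mem, X₂.one_mem, by simp⟩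
  mul_mem' := fun ha hb => ⟨X₁.mul_mem ha.1 hb.1, X₂.mul_mem ha.2.1 hb.2.1, by
    simp only [Prod.fst_mul, Prod.snd_mul, map_mul, ha.2.2, hb.2.2]⟩
  inv_mem' := fun ha => ⟨X₁.inv_mem ha.1, X₂.inv_mem ha.2.1, by
    simp only [Prod.fst_inv, Prod.snd_inv, map_inv, ha.2.2]⟩

theorem mem_fibP {G₁ G₂ : Type*} [Group G₁] [Group G₂] {s₁ : G₁ →* ℤˣ} {s₂ : G₂ →* ℤˣ}
    {X₁ : Subgroup G₁} {X₂ : Subgroup G₂} {x : G₁ × G₂} :
    x ∈ fibP s₁ s₂ X₁ X₂ ↔ x.1 ∈ X₁ ∧ x.2 ∈ X₂ ∧ s₁ x.1 = s₂ x.2 := Iff.rfl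

theorem Good.fibP {G₁ G₂ : Type*} [Group G₁] [Group G₂] [Finite G₁] [Finite G₂] {s₁ : G₁ →* ℤˣ}
    {s₂ : G₂ →* ℤˣ} {X₁ : Subgroup G₁} {X₂ : Subgroup G₂} (h₁ : Good s₁ X₁) (h₂ : Good s₂ X₂) :
    Good (s₁.comp (MonoidHom.fst G₁ G₂)) (fibP s₁ s₂ X₁ X₂) := by
  intro U _ _ _ ρ hρ c y hy hc
  have m1 : ∀ a ∈ X₁, s₁ a = 1 → ((a, 1) : G₁ × G₂) ∈ CL.Fs.fibP s₁ s₂ X₁ X₂ := fun a ha sa =>
    ⟨ha, X₂.one_mem, by simp [sa]⟩
  have m2 : ∀ a ∈ X₂, s₂ a = 1 → ((1, a) : G₁ × G₂) ∈ CL.Fs.fibP s₁ s₂ X₁ X₂ := fun a ha sa =>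
    ⟨X₁.one_mem, ha, by simp [sa]⟩
  have r1 : IsPRep s₁ X₁ (fun a => ρ (a, 1)) := ⟨hρ.one, fun a ha b hb sa sb => by
    rw [← hρ.mul _ (m1 a ha sa) _ (m1 b hb sb) (by simpa using sa) (by simpa using sb)]; simp⟩
  have r2 : IsPRep s₂ X₂ (fun a => ρ (1, a)) := ⟨hρ.one, fun a ha b hb sa sb => by
    rw [← hρ.mul _ (m2 a ha sa) _ (m2 b hb sb) (by simp) (by simp)]; simp⟩
  have k1 : ∀ a ∈ negs s₁ X₁, ∀ b ∈ negs s₂ X₂,
      ρ (a * a, 1) * ρ (1, b * b) = ρ (a * a, b * b) := fun a ha b hb => by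
    have ha := (mem_negs.1 ha).1
    have hb := (mem_negs.1 hb).1
    rw [← hρ.mul _ (m1 _ (X₁.mul_mem ha ha) (sgn_mul_self _ _)) _
      (m2 _ (X₂.mul_mem hb hb) (sgn_mul_self _ _)) (by simpa using sgn_mul_self s₁ a) (by simp)]
    simp
  have k2 : ∀ a ∈ negs s₁ X₁, ∀ b ∈ negs s₂ X₂,
      ρ (1, b * b) * ρ (a * a, 1) = ρ (a * a, b * b) := fun a ha b hb => by
    have ha := (mem_negs.1 ha).1
    have hb := (mem_negs.1 hb).1
    rw [← hρ.mul _ (m2 _ (X₂.mul_mem hb hb) (sgn_mul_self _ _)) _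
      (m1 _ (X₁.mul_mem ha ha) (sgn_mul_self _ _)) (by simp) (by simpa using sgn_mul_self s₁ a)]
    simp
  have hneg : negs (s₁.comp (MonoidHom.fst G₁ G₂)) (CL.Fs.fibP s₁ s₂ X₁ X₂) =
      negs s₁ X₁ ×ˢ negs s₂ X₂ := by
    ext ⟨a, b⟩
    simp only [mem_negs, mem_product, mem_fibP, MonoidHom.comp_apply, MonoidHom.coe_fst]
    constructor
    · rintro ⟨⟨h1, h2, h3⟩, h4⟩; exact ⟨⟨h1, h4⟩, h2, h3.symm.trans h4⟩
    · rintro ⟨⟨h1, h4⟩, h2, h3⟩; exact ⟨⟨h1, h2, h4.trans h3.symm⟩, h4⟩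
  have e1 : om s₁ X₁ (fun a => ρ (a, 1)) * om s₂ X₂ (fun a => ρ (1, a)) =
      om (s₁.comp (MonoidHom.fst G₁ G₂)) (CL.Fs.fibP s₁ s₂ X₁ X₂) ρ := by
    rw [om, om, om, hneg, sum_product, sum_mul_sum]
    exact sum_congr rfl fun a ha => sum_congr rfl fun b hb => k1 a ha b hb
  have e2 : om s₂ X₂ (fun a => ρ (1, a)) * om s₁ X₁ (fun a => ρ (a, 1)) =
      om (s₁.comp (MonoidHom.fst G₁ G₂)) (CL.Fs.fibP s₁ s₂ X₁ X₂) ρ := by
    rw [om, om, om, hneg, sum_product_right, sum_mul_sum]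
    exact sum_congr rfl fun b hb => sum_congr rfl fun a ha => k2 a ha b hb
  refine nonneg_of_commute (e1.trans e2.symm) (h₁ U _ r1) (h₂ U _ r2) hy ?_
  rw [e1, hc]

/-- `om` commutes with the positive part. -/
theorem om_comm {X : Subgroup G} {U : Type*} [AddCommGroup U] [Module ℂ U]
    {ρ : G → Module.End ℂ U} (hρ : IsPRep s X ρ) {n : G} (hn : n ∈ X) (sn : s n = 1) :
    om s X ρ * ρ n = ρ n * om s X ρ := by
  rw [om, sum_mul, mul_sum]
  refine sum_bij' (fun x _ => n⁻¹ * x * n) (fun x _ => n * x * n⁻¹) ?_ ?_ ?_ ?_ ?_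
  · intro x hx
    obtain ⟨h1, h2⟩ := mem_negs.1 hx
    exact mem_negs.2 ⟨X.mul_mem (X.mul_mem (X.inv_mem hn) h1) hn, by rw [sgn_conj', h2]⟩
  · intro x hx
    obtain ⟨h1, h2⟩ := mem_negs.1 hx
    exact mem_negs.2 ⟨X.mul_mem (X.mul_mem hn h1) (X.inv_mem hn), by rw [sgn_conj, h2]⟩
  · intro x _; group
  · intro x _; group
  · intro x hx
    obtain ⟨h1, -⟩ := mem_negs.1 hx
    have h3 : n⁻¹ * x * n ∈ X := X.mul_mem (X.mul_mem (X.inv_mem hn) h1) hn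
    rw [← hρ.mul _ (X.mul_mem h1 h1) _ hn (sgn_mul_self _ _) sn,
      ← hρ.mul _ hn _ (X.mul_mem h3 h3) sn (sgn_mul_self _ _)]
    congr 1; group

/-- A common eigenvector of a commuting family. -/
theorem exists_common_eigen {ι U : Type*} [AddCommGroup U] [Module ℂ U] [FiniteDimensional ℂ U]
    (P : ι → Prop) (A : ι → Module.End ℂ U) (E : Submodule ℂ U) (hE : E ≠ ⊥)
    (hinv : ∀ i, P i → ∀ v ∈ E, A i v ∈ E)
    (hcomm : ∀ i j, P i → P j → ∀ v ∈ E, A i (A j v) = A j (A i v)) :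
    ∃ y ∈ E, y ≠ 0 ∧ ∃ lam : ι → ℂ, ∀ i, P i → A i y = lam i • y := by
  classical
  let S : Set (Submodule ℂ U) := {E' | E' ≤ E ∧ E' ≠ ⊥ ∧ ∀ i, P i → ∀ v ∈ E', A i v ∈ E'}
  obtain ⟨E', ⟨h1, h2, h3⟩, hmin⟩ := (wellFounded_lt (α := Submodule ℂ U)).has_min S
    ⟨E, le_rfl, hE, hinv⟩
  have key : ∀ i, P i → ∃ a : ℂ, ∀ v ∈ E', A i v = a • v := fun i hi => by
    haveI : Nontrivial E' := Submodule.nontrivial_iff_ne_bot.2 h2
    obtain ⟨a, ha⟩ := Module.End.exists_eigenvalue ((A i).restrict (h3 i hi))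
    obtain ⟨v, hv⟩ := ha.exists_hasEigenvector
    have hv0 : (v : U) ≠ 0 := fun e => hv.2 (Subtype.ext e)
    have hv1 : A i v = a • (v : U) := congrArg Subtype.val hv.apply_eq_smul
    refine ⟨a, fun w hw => ?_⟩
    have hm : E' ⊓ Module.End.eigenspace (A i) a ∈ S := by
      refine ⟨inf_le_left.trans h1, fun e => hv0 ?_, fun j hj u hu => ⟨h3 j hj u hu.1, ?_⟩⟩
      · have : (v : U) ∈ E' ⊓ Module.End.eigenspace (A i) a :=
          ⟨v.2, Module.End.mem_eigenspace_iff.2 hv1⟩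
        rwa [e, Submodule.mem_bot] at this
      · have h4 := Module.End.mem_eigenspace_iff.1 hu.2
        refine Module.End.mem_eigenspace_iff.2 ?_
        rw [hcomm i j hi hj u (h1 hu.1), h4, map_smul]
    have : E' ⊓ Module.End.eigenspace (A i) a = E' :=
      eq_of_le_of_not_lt inf_le_left (hmin _ hm)
    rw [← this] at hw
    exact Module.End.mem_eigenspace_iff.1 hw.2
  choose! lam hlam using key
  obtain ⟨y, hy, hy0⟩ := Submodule.exists_mem_ne_zero_of_ne_bot h2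
  exact ⟨y, h1 hy, hy0, lam, fun i hi => hlam i hi y hy⟩

/-- Summation over a product `Y = L Q`. -/
theorem sum_negs_mul {M : Type*} [AddCommMonoid M] {Y L Q : Subgroup G} (hL : L ≤ Y) (hQ : Q ≤ Y)
    (hpos : ∀ q ∈ Q, s q = 1) (hY : ∀ y ∈ Y, ∃ l ∈ L, ∃ q ∈ Q, y = l * q) (F : G → M) :
    ∑ l ∈ negs s L, ∑ q ∈ fin Q, F (l * q) = (fin (L ⊓ Q)).card • ∑ x ∈ negs s Y, F x := by
  classical
  rw [← sum_product' (f := fun l q => F (l * q))]
  refine sum_fiber (negs s L ×ˢ fin Q) (negs s Y) (fun p => p.1 * p.2) ?_ _ ?_ F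
  · rintro ⟨l, q⟩ h
    obtain ⟨h1, h2⟩ := mem_product.1 h
    obtain ⟨h3, h4⟩ := mem_negs.1 h1
    have h5 := mem_fin.1 h2
    exact mem_negs.2 ⟨Y.mul_mem (hL h3) (hQ h5), by rw [map_mul, h4, hpos q h5, mul_one]⟩
  · intro x hx
    obtain ⟨h1, h2⟩ := mem_negs.1 hx
    obtain ⟨l, hl, q, hq, rfl⟩ := hY x h1
    have sl : s l = -1 := by rwa [map_mul, hpos q hq, mul_one] at h2
    refine card_bij' (fun p _ => l⁻¹ * p.1) (fun k _ => (l * k, k⁻¹ * q)) ?_ ?_ ?_ ?_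
    · rintro ⟨l', q'⟩ h
      obtain ⟨h3, h4⟩ := mem_filter.1 h
      obtain ⟨h5, h6⟩ := mem_product.1 h3
      refine mem_fin.2 ⟨L.mul_mem (L.inv_mem hl) (mem_negs.1 h5).1, ?_⟩
      have : l⁻¹ * l' = q * q'⁻¹ := by
        have h4 : l' * q' = l * q := h4
        calc l⁻¹ * l' = l⁻¹ * (l' * q') * q'⁻¹ := by group
          _ = q * q'⁻¹ := by rw [h4]; group
      change l⁻¹ * l' ∈ Q
      rw [this]
      exact Q.mul_mem hq (Q.inv_mem (mem_fin.1 h6))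
    · intro k hk
      obtain ⟨h3, h4⟩ := mem_fin.1 hk
      refine mem_filter.2 ⟨mem_product.2 ⟨mem_negs.2 ⟨L.mul_mem hl h3, ?_⟩,
        mem_fin.2 (Q.mul_mem (Q.inv_mem h4) hq)⟩, by group⟩
      rw [map_mul, sl, hpos k h4, mul_one]
    · rintro ⟨l', q'⟩ h
      have h4 : l' * q' = l * q := (mem_filter.1 h).2
      refine Prod.ext (by simp) ?_
      calc (l⁻¹ * l')⁻¹ * q = l'⁻¹ * (l * q) := by group
        _ = q' := by rw [← h4]; group
    · intro k _; simp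

theorem sum_eq_zero_of_mul {Q : Subgroup G} (κ : G → ℂ)
    (hκ : ∀ a ∈ Q, ∀ b ∈ Q, κ (a * b) = κ a * κ b) {a : G} (ha : a ∈ Q) (h1 : κ a ≠ 1) :
    ∑ q ∈ fin Q, κ q = 0 := by
  have : ∑ q ∈ fin Q, κ q = κ a * ∑ q ∈ fin Q, κ q := by
    rw [mul_sum]
    refine sum_bij' (fun x _ => a⁻¹ * x) (fun x _ => a * x) ?_ ?_ ?_ ?_ ?_
    · intro x hx; exact mem_fin.2 (Q.mul_mem (Q.inv_mem ha) (mem_fin.1 hx))
    · intro x hx; exact mem_fin.2 (Q.mul_mem ha (mem_fin.1 hx))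
    · intro x _; simp
    · intro x _; simp
    · intro x hx
      rw [← hκ a ha _ (Q.mul_mem (Q.inv_mem ha) (mem_fin.1 hx))]; simp
  have h2 : (1 - κ a) * ∑ q ∈ fin Q, κ q = 0 := by rw [sub_mul, one_mul, ← this, sub_self]
  exact (mul_eq_zero.1 h2).resolve_left (sub_ne_zero.2 h1.symm)

theorem IsPRep.lam_mul {Y Q : Subgroup G} {U : Type*} [AddCommGroup U] [Module ℂ U]
    {ρ : G → Module.End ℂ U} (hρ : IsPRep s Y ρ) (hQ : Q ≤ Y) (hpos : ∀ q ∈ Q, s q = 1) {y : U}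
    (hy : y ≠ 0) {lam : G → ℂ} (hlam : ∀ q ∈ Q, ρ q y = lam q • y) :
    lam 1 = 1 ∧ ∀ a ∈ Q, ∀ b ∈ Q, lam (a * b) = lam a * lam b := by
  refine ⟨eq_of_smul_eq hy ?_, fun a ha b hb => eq_of_smul_eq hy ?_⟩
  · rw [← hlam 1 Q.one_mem, hρ.one, one_smul]; rfl
  · rw [← hlam _ (Q.mul_mem ha hb), hρ.mul a (hQ ha) b (hQ hb) (hpos a ha) (hpos b hb),
      Module.End.mul_apply, hlam b hb, map_smul, hlam a ha, smul_smul, mul_comm]

/-- The Clifford step: on an eigenvector of `Q`, only the graded stabilizer in `L` contributes. -/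
theorem om_eigen {Y L L' Q : Subgroup G} (hL : L ≤ Y) (hQ : Q ≤ Y)
    (hpos : ∀ q ∈ Q, s q = 1) (hY : ∀ y ∈ Y, ∃ l ∈ L, ∃ q ∈ Q, y = l * q)
    (hnorm : ∀ l ∈ L, ∀ q ∈ Q, l⁻¹ * q * l ∈ Q) {U : Type*} [AddCommGroup U] [Module ℂ U]
    {ρ : G → Module.End ℂ U} (hρ : IsPRep s Y ρ) {y : U} (hy : y ≠ 0) {lam : G → ℂ}
    (hlam : ∀ q ∈ Q, ρ q y = lam q • y) (hL' : L' ≤ L)
    (hst : ∀ l ∈ L, s l = -1 → (l ∈ L' ↔ ∀ q ∈ Q, lam (l⁻¹ * q * l) * lam q = 1)) :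
    (fin (L ⊓ Q)).card • om s Y ρ y = (fin Q).card • om s L' ρ y := by
  classical
  obtain ⟨-, hm⟩ := hρ.lam_mul hQ hpos hy hlam
  rw [om, LinearMap.sum_apply, ← sum_negs_mul hL hQ hpos hY (fun x => ρ (x * x) y), om,
    LinearMap.sum_apply, smul_sum]
  have hsub : negs s L' = (negs s L).filter (fun l => l ∈ L') := by
    ext l
    simp only [mem_filter, mem_negs]
    exact ⟨fun h => ⟨⟨hL' h.1, h.2⟩, h.1⟩, fun h => ⟨h.2, h.1.2⟩⟩
  rw [hsub, sum_filter]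
  refine sum_congr rfl fun l hl => ?_
  obtain ⟨hl, sl⟩ := mem_negs.1 hl
  have e1 : ∀ q ∈ fin Q, ρ (l * q * (l * q)) y = (lam (l⁻¹ * q * l) * lam q) • ρ (l * l) y := by
    intro q hq
    have hq := mem_fin.1 hq
    have h1 := hnorm l hl q hq
    have : l * q * (l * q) = (l * l) * ((l⁻¹ * q * l) * q) := by group
    rw [this, hρ.mul _ (Y.mul_mem (hL hl) (hL hl)) _ (hQ (Q.mul_mem h1 hq)) (sgn_mul_self _ _)
      (hpos _ (Q.mul_mem h1 hq)), Module.End.mul_apply, hlam _ (Q.mul_mem h1 hq), map_smul,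
      hm _ h1 _ hq]
  rw [sum_congr rfl e1, ← sum_smul]
  split_ifs with h
  · rw [sum_congr rfl (g := fun _ => (1 : ℂ)) (fun q hq => (hst l hl sl).1 h q (mem_fin.1 hq)),
      sum_const, nsmul_one, Nat.cast_smul_eq_nsmul]
  · have : ¬ ∀ q ∈ Q, lam (l⁻¹ * q * l) * lam q = 1 := fun h' => h ((hst l hl sl).2 h')
    push Not at this
    obtain ⟨a, ha, h1⟩ := this
    rw [sum_eq_zero_of_mul (fun q => lam (l⁻¹ * q * l) * lam q) ?_ ha h1, zero_smul]
    intro a ha b hb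
    have : l⁻¹ * (a * b) * l = (l⁻¹ * a * l) * (l⁻¹ * b * l) := by group
    simp only [this]
    rw [hm _ (hnorm l hl a ha) _ (hnorm l hl b hb), hm a ha b hb]; ring

theorem eigen_div {U : Type*} [AddCommGroup U] [Module ℂ U] {y z : U} {k m : ℕ} (hm : 0 < m)
    {c : ℂ} (h : k • (c • y) = m • z) : z = ((m : ℂ)⁻¹ * (k * c)) • y := by
  have hm' : (m : ℂ) ≠ 0 := by exact_mod_cast hm.ne'
  rw [mul_smul, mul_smul, Nat.cast_smul_eq_nsmul, h, ← Nat.cast_smul_eq_nsmul ℂ m, smul_smul,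
    inv_mul_cancel₀ hm', one_smul]

theorem nonneg_of_div {k m : ℕ} (hk : 0 < k) (hm : 0 < m) {c : ℂ}
    (h : 0 ≤ (m : ℂ)⁻¹ * (k * c)) : 0 ≤ c := by
  refine nonneg_of_mul hk ?_
  have hm' : (m : ℂ) ≠ 0 := by exact_mod_cast hm.ne'
  have : (k : ℂ) * c = m * ((m : ℂ)⁻¹ * (k * c)) := by
    rw [← mul_assoc, mul_inv_cancel₀ hm', one_mul]
  rw [this]
  exact mul_nonneg (Nat.cast_nonneg _) h

theorem nonneg_of_eigen {Y L L' Q : Subgroup G} (hL : L ≤ Y) (hQ : Q ≤ Y)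
    (hpos : ∀ q ∈ Q, s q = 1) (hY : ∀ y ∈ Y, ∃ l ∈ L, ∃ q ∈ Q, y = l * q)
    (hnorm : ∀ l ∈ L, ∀ q ∈ Q, l⁻¹ * q * l ∈ Q) {U : Type} [AddCommGroup U] [Module ℂ U]
    [FiniteDimensional ℂ U]
    {ρ : G → Module.End ℂ U} (hρ : IsPRep s Y ρ) {y : U} (hy : y ≠ 0) {lam : G → ℂ}
    (hlam : ∀ q ∈ Q, ρ q y = lam q • y) (hL' : L' ≤ L)
    (hst : ∀ l ∈ L, s l = -1 → (l ∈ L' ↔ ∀ q ∈ Q, lam (l⁻¹ * q * l) * lam q = 1))
    (hg : Good s L') {c : ℂ} (hc : om s Y ρ y = c • y) : 0 ≤ c := by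
  have h := om_eigen hL hQ hpos hY hnorm hρ hy hlam hL' hst
  rw [hc] at h
  exact nonneg_of_div (card_fin_pos _) (card_fin_pos _)
    (hg U ρ (hρ.mono (hL'.trans hL)) _ y hy (eigen_div (card_fin_pos _) h))

/-- The eigenspace of `om` is invariant under the positive part. -/
theorem eigenspace_inv {X : Subgroup G} {U : Type*} [AddCommGroup U] [Module ℂ U]
    {ρ : G → Module.End ℂ U} (hρ : IsPRep s X ρ) (c : ℂ) {n : G} (hn : n ∈ X) (sn : s n = 1)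
    {v : U} (hv : om s X ρ v = c • v) : om s X ρ (ρ n v) = c • ρ n v := by
  rw [← Module.End.mul_apply, om_comm hρ hn sn, Module.End.mul_apply, hv, map_smul]

/-- A graded group whose positive part is abelian of odd order is good. -/
theorem good_of_odd {X : Subgroup G}
    (hc : ∀ a ∈ X, ∀ b ∈ X, s a = 1 → s b = 1 → a * b = b * a)
    (ho : ∀ a ∈ X, s a = 1 → ∃ n, Odd n ∧ a ^ n = 1) : Good s X := by
  classical
  intro U _ _ _ ρ hρ c y hy hcy
  set Q := X ⊓ s.ker with hQ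
  have hpos : ∀ q ∈ Q, s q = 1 := fun q hq => hq.2
  obtain ⟨v, hv, hv0, lam, hlam⟩ := exists_common_eigen (fun g => g ∈ Q) ρ
    (Module.End.eigenspace (om s X ρ) c)
    (fun e => hy (by
      have : y ∈ Module.End.eigenspace (om s X ρ) c := Module.End.mem_eigenspace_iff.2 hcy
      rwa [e, Submodule.mem_bot] at this))
    (fun g hg v hv => Module.End.mem_eigenspace_iff.2
      (eigenspace_inv hρ c hg.1 hg.2 (Module.End.mem_eigenspace_iff.1 hv)))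
    (fun a b ha hb v _ => by
      rw [← Module.End.mul_apply, ← hρ.mul a ha.1 b hb.1 ha.2 hb.2, hc a ha.1 b hb.1 ha.2 hb.2,
        hρ.mul b hb.1 a ha.1 hb.2 ha.2, Module.End.mul_apply])
  have hv := Module.End.mem_eigenspace_iff.1 hv
  obtain ⟨l1, hm⟩ := hρ.lam_mul (inf_le_left : Q ≤ X) hpos hv0 hlam
  have hpow : ∀ a ∈ Q, ∀ n : ℕ, lam (a ^ n) = lam a ^ n := fun a ha n => by
    induction n with
    | zero => simpa using l1
    | succ n ih => rw [pow_succ, hm _ (Q.pow_mem ha n) _ ha, ih, pow_succ]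
  have hnorm : ∀ l ∈ X, ∀ q ∈ Q, l⁻¹ * q * l ∈ Q := fun l hl q hq =>
    ⟨X.mul_mem (X.mul_mem (X.inv_mem hl) hq.1) hl, by
      change s _ = 1
      rw [sgn_conj']; exact hq.2⟩
  have hsum : ∑ l ∈ negs s X, ∑ q ∈ fin Q, ρ (l * q * (l * q)) v =
      (fin (X ⊓ Q)).card • om s X ρ v := by
    rw [om, LinearMap.sum_apply]
    exact sum_negs_mul le_rfl inf_le_left hpos (fun y hy => ⟨y, hy, 1, Q.one_mem, by simp⟩)
      (fun x => ρ (x * x) v)
  have key : ∀ l ∈ negs s X, ∃ n : ℕ, ∑ q ∈ fin Q, ρ (l * q * (l * q)) v = (n : ℂ) • v := by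
    intro l hl
    obtain ⟨hl, sl⟩ := mem_negs.1 hl
    have hll : l * l ∈ Q := ⟨X.mul_mem hl hl, sgn_mul_self _ _⟩
    have e1 : ∀ q ∈ fin Q, ρ (l * q * (l * q)) v =
        (lam (l * l) * (lam (l⁻¹ * q * l) * lam q)) • v := by
      intro q hq
      have hq := mem_fin.1 hq
      have h1 := hnorm l hl q hq
      have : l * q * (l * q) = (l * l) * ((l⁻¹ * q * l) * q) := by group
      rw [this, hlam _ (Q.mul_mem hll (Q.mul_mem h1 hq)), hm _ hll _ (Q.mul_mem h1 hq),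
        hm _ h1 _ hq]
    rw [sum_congr rfl e1, ← sum_smul, ← mul_sum]
    by_cases h : ∀ q ∈ Q, lam (l⁻¹ * q * l) * lam q = 1
    · have h2 : lam (l * l) = 1 := by
        have h3 := h _ hll
        rw [show l⁻¹ * (l * l) * l = l * l by group, ← pow_two] at h3
        obtain ⟨n, ⟨k, rfl⟩, hn⟩ := ho _ hll.1 hll.2
        have h4 := hpow _ hll (2 * k + 1)
        rwa [hn, l1, pow_succ, pow_mul, h3, one_pow, one_mul, eq_comm] at h4
      refine ⟨(fin Q).card, ?_⟩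
      rw [h2, one_mul, sum_congr rfl (g := fun _ => (1 : ℂ)) (fun q hq => h q (mem_fin.1 hq)),
        sum_const, nsmul_one]
    · push Not at h
      obtain ⟨a, ha, h1⟩ := h
      refine ⟨0, ?_⟩
      rw [sum_eq_zero_of_mul (fun q => lam (l⁻¹ * q * l) * lam q) ?_ ha h1, mul_zero, Nat.cast_zero]
      intro a ha b hb
      have : l⁻¹ * (a * b) * l = (l⁻¹ * a * l) * (l⁻¹ * b * l) := by group
      simp only [this]
      rw [hm _ (hnorm l hl a ha) _ (hnorm l hl b hb), hm a ha b hb]; ring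
  choose! n hn using key
  rw [sum_congr rfl hn, ← sum_smul, hv, ← Nat.cast_smul_eq_nsmul ℂ, smul_smul] at hsum
  refine nonneg_of_mul (card_fin_pos (X ⊓ Q)) ?_
  rw [← eq_of_smul_eq hv0 hsum]
  exact sum_nonneg fun l _ => Nat.cast_nonneg _

end basic
end CL.Fs
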