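/-
Hermitian / quadratic spaces over finite commutative rings of characteristic two with involution:
the data `HD`, the graded isometry group `M`, duality and ring-theoretic facts.
-/
import Cfsg.Agent.KSG.FsGood

namespace CL.Fs
open Finset

/-- Hermitian-quadratic data on an `R`-module `V`. -/
structure HD (R V : Type*) [CommRing R] [AddCommGroup V] [Module R V] where
  σ : R →+* R
  σσ : ∀ r, σ (σ r) = r
  two : (2 : R) = 0
  frob : ∃ k, ∀ r : R, r ^ (2 ^ (k + 1)) = r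
  τ : R →+ ZMod 2
  τσ : ∀ r, τ (σ r) = τ r
  τnd : ∀ r, (∀ x, τ (x * r) = 0) → r = 0
  h : V → V → R
  h_add : ∀ x y z, h (x + y) z = h x z + h y z
  h_smul : ∀ (r : R) x y, h (r • x) y = r * h x y
  h_symm : ∀ x y, h y x = σ (h x y)
  nd : ∀ x, (∀ y, h x y = 0) → x = 0
  Q : V → ZMod 2
  Q_add : ∀ x y, Q (x + y) = Q x + Q y + τ (h x y)
  span : ∀ r : R, r ∈ AddSubgroup.closure
    {x | ∃ k a : R, σ k = k ∧ a * σ a = 1 ∧ (∀ v, Q (a • v) = Q v) ∧ x = k * a}

theorem z2_add_self (a : ZMod 2) : a + a = 0 := by revert a; decide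

theorem z2_eq_of_add {a b : ZMod 2} (h : a + b = 0) : a = b := by revert a b; decide

/-- Solving a linear system over `ZMod 2` with a non-degenerate pairing. -/
theorem exists_dual {A P : Type*} [AddCommGroup A] [Finite A] [AddCommGroup P]
    (hA : ∀ a : A, a + a = 0) (hP : ∀ a : P, a + a = 0) (b : A →+ A →+ ZMod 2)
    (hb : ∀ y, (∀ x, b x y = 0) → y = 0) (f : P →+ A) (g : P →+ ZMod 2)
    (hfg : ∀ p, f p = 0 → g p = 0) : ∃ w, ∀ p, b (f p) w = g p := by
  letI : Module (ZMod 2) A := AddCommGroup.zmodModule (fun x => by rw [two_nsmul, hA])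
  letI : Module (ZMod 2) P := AddCommGroup.zmodModule (fun x => by rw [two_nsmul, hP])
  haveI : Module.Finite (ZMod 2) A := Module.Finite.of_finite
  let f' : P →ₗ[ZMod 2] A := f.toZModLinearMap 2
  let g' : P →ₗ[ZMod 2] ZMod 2 := g.toZModLinearMap 2
  have hk : LinearMap.ker f' ≤ LinearMap.ker g' := fun p hp => hfg p hp
  obtain ⟨φ, hφ⟩ := LinearMap.exists_extend
    (((LinearMap.ker f').liftQ g' hk).comp f'.quotKerEquivRange.symm.toLinearMap)
  let B : A →ₗ[ZMod 2] Module.Dual (ZMod 2) A :=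
    (AddMonoidHom.toZModLinearMap 2
      { toFun := fun w => (b.flip w).toZModLinearMap 2
        map_zero' := by ext x; simp
        map_add' := fun u v => by ext x; simp })
  have hB : Function.Injective B := by
    rw [← LinearMap.ker_eq_bot, LinearMap.ker_eq_bot']
    intro w hw
    exact hb w fun x => congr($hw x)
  have hs : Function.Surjective B :=
    (LinearMap.injective_iff_surjective_of_finrank_eq_finrank Subspace.dual_finrank_eq.symm).1 hB
  obtain ⟨w, hw⟩ := hs φ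
  refine ⟨w, fun p => ?_⟩
  have h1 : b (f p) w = φ (f p) := congr($hw (f p))
  have h2 := congr($hφ ⟨f' p, LinearMap.mem_range_self _ p⟩)
  simp only [LinearMap.comp_apply, Submodule.subtype_apply, LinearEquiv.coe_coe] at h2
  rw [LinearMap.quotKerEquivRange_symm_apply_image, Submodule.mkQ_apply, Submodule.liftQ_apply] at h2
  exact h1.trans h2

namespace HD
variable {R V : Type*} [CommRing R] [AddCommGroup V] [Module R V] (D : HD R V)

include D in
theorem add_self (r : R) : r + r = 0 := by rw [← two_mul, D.two, zero_mul]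

include D in
theorem vadd_self (v : V) : v + v = 0 := by rw [← two_smul R, D.two, zero_smul]

include D in
theorem eq_of_add {a b : R} (h : a + b = 0) : a = b := by
  rw [← add_zero a, ← D.add_self b, ← add_assoc, h, zero_add]

include D in
theorem veq_of_add {a b : V} (h : a + b = 0) : a = b := by
  rw [← add_zero a, ← D.vadd_self b, ← add_assoc, h, zero_add]

@[simp] theorem h_zero_left (y : V) : D.h 0 y = 0 := by
  have := D.h_smul 0 0 y
  rwa [zero_smul, zero_mul] at this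

theorem h_add_right (x y z : V) : D.h x (y + z) = D.h x y + D.h x z := by
  rw [D.h_symm, D.h_add, map_add, ← D.h_symm, ← D.h_symm]

theorem h_smul_right (r : R) (x y : V) : D.h x (r • y) = D.σ r * D.h x y := by
  rw [D.h_symm, D.h_smul, map_mul, ← D.h_symm]

@[simp] theorem h_zero_right (y : V) : D.h y 0 = 0 := by
  rw [D.h_symm, h_zero_left, map_zero]

theorem h_eq_zero_comm {x y : V} (h : D.h x y = 0) : D.h y x = 0 := by
  rw [D.h_symm, h, map_zero]

theorem σ_h (x y : V) : D.σ (D.h x y) = D.h y x := (D.h_symm x y).symm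

theorem nd' (y : V) (hy : ∀ x, D.h x y = 0) : y = 0 := D.nd y fun x => D.h_eq_zero_comm (hy x)

theorem Q_zero : D.Q 0 = 0 := by
  have := D.Q_add 0 0
  rw [add_zero, h_zero_left, map_zero, add_zero, z2_add_self] at this
  exact this

theorem τ_self (x : V) : D.τ (D.h x x) = 0 := by
  have := D.Q_add x x
  rw [D.vadd_self, Q_zero, z2_add_self, zero_add] at this
  exact this.symm

theorem τ_tr (r : R) : D.τ (r + D.σ r) = 0 := by rw [map_add, D.τσ, z2_add_self]

theorem τ_ext {a b : R} (h : ∀ x, D.τ (x * a) = D.τ (x * b)) : a = b :=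
  D.eq_of_add (D.τnd _ fun x => by rw [mul_add, map_add, h, z2_add_self])

include D in
theorem pow_two_pow_add (a b : R) (n : ℕ) : (a + b) ^ (2 ^ n) = a ^ (2 ^ n) + b ^ (2 ^ n) := by
  induction n with
  | zero => simp
  | succ n ih =>
    rw [pow_succ, pow_mul, pow_mul, pow_mul, ih]
    linear_combination (a ^ 2 ^ n * b ^ 2 ^ n) * D.two

include D in
theorem exists_sqrt (r : R) : ∃ t, t * t = r := by
  obtain ⟨k, hk⟩ := D.frob
  exact ⟨r ^ 2 ^ k, by rw [← pow_two, ← pow_mul, ← pow_succ, hk]⟩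

include D in
theorem eq_zero_of_mul_self {r : R} (h : r * r = 0) : r = 0 := by
  obtain ⟨k, hk⟩ := D.frob
  rw [← hk r, pow_succ', pow_mul, pow_two, h, zero_pow (by positivity)]

include D in
theorem exists_odd_pow : ∃ n, Odd n ∧ ∀ r : R, r * r ^ n = r := by
  obtain ⟨k, hk⟩ := D.frob
  have h1 : 1 ≤ 2 ^ (k + 1) := Nat.one_le_two_pow
  refine ⟨2 ^ (k + 1) - 1, ?_, fun r => ?_⟩
  · exact Nat.Even.sub_odd h1 (Nat.even_pow.2 ⟨even_two, by omega⟩) odd_one
  · rw [← pow_succ', Nat.sub_add_cancel h1, hk]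

/-- The semilinearity attached to a sign. -/
def sg (ε : ℤˣ) : R →+* R := if ε = 1 then RingHom.id R else D.σ

@[simp] theorem sg_one (r : R) : D.sg 1 r = r := by simp [sg]

@[simp] theorem sg_neg (r : R) : D.sg (-1) r = D.σ r := by
  rw [sg, if_neg units_ne.symm]

theorem sg_mul (a b : ℤˣ) (r : R) : D.sg (a * b) r = D.sg a (D.sg b r) := by
  rcases Int.units_eq_one_or a with rfl | rfl <;> rcases Int.units_eq_one_or b with rfl | rfl <;>
    simp [D.σσ]

theorem sg_sg (a : ℤˣ) (r : R) : D.sg a (D.sg a r) = r := by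
  rw [← sg_mul, Int.units_mul_self, sg_one]

theorem sg_σ (a : ℤˣ) (r : R) : D.sg a (D.σ r) = D.σ (D.sg a r) := by
  rcases Int.units_eq_one_or a with rfl | rfl <;> simp

theorem τ_sg (a : ℤˣ) (r : R) : D.τ (D.sg a r) = D.τ r := by
  rcases Int.units_eq_one_or a with rfl | rfl <;> simp [D.τσ]

theorem sg_inv (a : ℤˣ) : D.sg a⁻¹ = D.sg a := by rw [Int.units_inv_eq_self]

theorem sg_of_symm (a : ℤˣ) {r : R} (h : D.σ r = r) : D.sg a r = r := by
  rcases Int.units_eq_one_or a with rfl | rfl <;> simp [h]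

/-- The graded group of semilinear isometries fixing `s0`. -/
def M (s0 : V) : Subgroup (Equiv.Perm V × ℤˣ) where
  carrier := {x | (∀ u v, x.1 (u + v) = x.1 u + x.1 v) ∧
    (∀ (r : R) v, x.1 (r • v) = D.sg x.2 r • x.1 v) ∧ (∀ v, D.Q (x.1 v) = D.Q v) ∧ x.1 s0 = s0}
  one_mem' := ⟨fun _ _ => rfl, fun r v => by simp, fun _ => rfl, rfl⟩
  mul_mem' := by
    rintro a b ⟨a1, a2, a3, a4⟩ ⟨b1, b2, b3, b4⟩
    refine ⟨fun u v => ?_, fun r v => ?_, fun v => ?_, ?_⟩ <;>
      simp only [Prod.fst_mul, Prod.snd_mul, Equiv.Perm.mul_apply]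
    · rw [b1, a1]
    · rw [b2, a2, sg_mul]
    · rw [a3, b3]
    · rw [b4, a4]
  inv_mem' := by
    rintro a ⟨a1, a2, a3, a4⟩
    refine ⟨fun u v => ?_, fun r v => ?_, fun v => ?_, ?_⟩ <;>
      simp only [Prod.fst_inv, Prod.snd_inv]
    · apply a.1.injective
      rw [a1]; simp
    · apply a.1.injective
      rw [a2, sg_inv, sg_sg]; simp
    · rw [← a3]; simp
    · apply a.1.injective
      rw [a4]; simp

section mem
variable {D} {s0 : V} {x : Equiv.Perm V × ℤˣ}

theorem M_add (hx : x ∈ D.M s0) (u v : V) : x.1 (u + v) = x.1 u + x.1 v := hx.1 u v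

theorem M_smul (hx : x ∈ D.M s0) (r : R) (v : V) : x.1 (r • v) = D.sg x.2 r • x.1 v := hx.2.1 r v

theorem M_Q (hx : x ∈ D.M s0) (v : V) : D.Q (x.1 v) = D.Q v := hx.2.2.1 v

theorem M_s0 (hx : x ∈ D.M s0) : x.1 s0 = s0 := hx.2.2.2

theorem M_zero (hx : x ∈ D.M s0) : x.1 0 = 0 := by
  have := M_smul hx 0 0
  rwa [zero_smul, map_zero (D.sg x.2), zero_smul] at this

theorem h_of_semi {ε : ℤˣ} {f : V → V} (h1 : ∀ u v, f (u + v) = f u + f v)
    (h2 : ∀ (r : R) v, f (r • v) = D.sg ε r • f v) (h3 : ∀ v, D.Q (f v) = D.Q v) (u v : V) :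
    D.h (f u) (f v) = D.sg ε (D.h u v) := by
  have k : ∀ u v, D.τ (D.h (f u) (f v)) = D.τ (D.h u v) := fun u v => by
    have e := h3 (u + v)
    rw [h1, D.Q_add, D.Q_add, h3, h3] at e
    exact add_left_cancel e
  refine D.τ_ext fun r => ?_
  rw [← D.h_smul, ← D.sg_sg ε r, ← h2, k, D.h_smul, ← map_mul, τ_sg]

theorem M_h (hx : x ∈ D.M s0) (u v : V) : D.h (x.1 u) (x.1 v) = D.sg x.2 (D.h u v) :=
  h_of_semi hx.1 hx.2.1 hx.2.2.1 u v

theorem exists_M [Finite V] (ε : ℤˣ) (f : V → V) (h1 : ∀ u v, f (u + v) = f u + f v)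
    (h2 : ∀ (r : R) v, f (r • v) = D.sg ε r • f v) (h3 : ∀ v, D.Q (f v) = D.Q v) (h4 : f s0 = s0) :
    ∃ x ∈ D.M s0, x.2 = ε ∧ ∀ v, x.1 v = f v := by
  have hi : Function.Injective f := fun u v huv => by
    refine D.veq_of_add (D.nd _ fun y => ?_)
    have e := h_of_semi h1 h2 h3 (u + v) y
    rw [h1, huv, D.vadd_self, h_zero_left] at e
    rw [← D.sg_sg ε (D.h (u + v) y), ← e, map_zero]
  exact ⟨(Equiv.ofBijective f (Finite.injective_iff_bijective.1 hi), ε), ⟨h1, h2, h3, h4⟩, rfl,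
    fun _ => rfl⟩

theorem ext' {x y : Equiv.Perm V × ℤˣ} (h2 : x.2 = y.2) (h1 : ∀ v, x.1 v = y.1 v) : x = y :=
  Prod.ext (Equiv.ext h1) h2

theorem mul_ap (x y : Equiv.Perm V × ℤˣ) (v : V) : (x * y).1 v = x.1 (y.1 v) := rfl

theorem ap_inv (x : Equiv.Perm V × ℤˣ) (v : V) : x.1 (x⁻¹.1 v) = v := by simp

theorem inv_ap (x : Equiv.Perm V × ℤˣ) (v : V) : x⁻¹.1 (x.1 v) = v := by simp

theorem snd_inv' (x : Equiv.Perm V × ℤˣ) : x⁻¹.2 = x.2 := Int.units_inv_eq_self _

end mem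

/-- The pairing `τ ∘ h`. -/
def bil : V →+ V →+ ZMod 2 := AddMonoidHom.mk' (fun x => AddMonoidHom.mk' (fun y => D.τ (D.h x y))
  (fun y z => by rw [h_add_right, map_add])) (fun x y => by ext z; simp [D.h_add])

theorem exists_dualV [Finite V] {P : Type*} [AddCommGroup P] (hP : ∀ a : P, a + a = 0)
    (f : P →+ V) (g : P →+ ZMod 2) (hfg : ∀ p, f p = 0 → g p = 0) :
    ∃ w, ∀ p, D.τ (D.h (f p) w) = g p :=
  exists_dual D.vadd_self hP D.bil (fun y hy => D.nd' y fun x => D.τnd _ fun r => by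
    rw [← D.h_smul]; exact hy _) f g hfg

theorem exists_dualR [Finite R] (g : R →+ ZMod 2) : ∃ z, ∀ r, D.τ (r * z) = g r :=
  exists_dual D.add_self D.add_self (AddMonoidHom.mul.compr₂ D.τ) (fun y hy => D.τnd y hy)
    (AddMonoidHom.id R) g (fun p hp => by rw [show p = 0 from hp, map_zero])

/-- No proper symmetric idempotents. -/
def Simple : Prop := ∀ e : R, e * e = e → D.σ e = e → e = 0 ∨ e = 1

/-- `s` generates a free module. -/
def Free (R : Type*) [CommRing R] [Module R V] (s : V) : Prop := ∀ r : R, r • s = 0 → r = 0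

/-- `s` generates a totally singular submodule. -/
def Sing (s : V) : Prop := ∀ r : R, D.Q (r • s) = 0

/-- `z` is a value of the quadratic form at `w`. -/
def Par (w : V) (z : R) : Prop := ∀ r : R, D.Q (r • w) = D.τ (r * D.σ r * z)

/-- Admissible fixed vectors: anisotropic and with trivial involution. -/
def Adm (s0 : V) : Prop := (∀ r : R, D.σ r • s0 = r • s0) ∧ ∀ r : R, D.Sing (r • s0) → r • s0 = 0

theorem adm_zero : D.Adm 0 := ⟨fun r => by simp, fun r _ => by simp⟩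

variable {D}

theorem Par.tr {w : V} {z : R} (h : D.Par w z) : z + D.σ z = D.h w w := by
  refine D.τ_ext fun r => ?_
  have e := h (r + 1)
  have e1 := h 1
  rw [one_smul] at e1
  rw [add_smul, D.Q_add, h r, one_smul, e1, D.h_smul] at e
  have e2 : (r + 1) * D.σ (r + 1) * z = r * D.σ r * z + 1 * D.σ 1 * z + (r * z + D.σ r * z) := by
    simp only [map_add, map_one]; ring
  rw [e2, map_add, map_add] at e
  rw [add_left_cancel e, mul_add, map_add, map_add, ← D.τσ (D.σ r * z), map_mul D.σ, D.σσ]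

theorem Sing.par {s : V} (h : D.Sing s) : D.Par s 0 := fun r => by rw [h r, mul_zero, map_zero]

theorem Par.sing {s : V} (h : D.Par s 0) : D.Sing s := fun r => by rw [h r, mul_zero, map_zero]

theorem Sing.h_self {s : V} (h : D.Sing s) : D.h s s = 0 := by
  rw [← h.par.tr, map_zero, add_zero]

theorem Sing.smul {s : V} (h : D.Sing s) (r : R) : D.Sing (r • s) := fun t => by
  rw [smul_smul]; exact h _

theorem Sing.Q {s : V} (h : D.Sing s) : D.Q s = 0 := by simpa using h 1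

theorem Par.add {w w' : V} {z z' : R} (h : D.Par w z) (h' : D.Par w' z') :
    D.Par (w + w') (z + z' + D.h w' w) := fun r => by
  rw [smul_add, D.Q_add, h, h', D.h_smul, h_smul_right, ← D.τσ (r * (D.σ r * D.h w w')), map_mul D.σ,
    map_mul D.σ, D.σσ, σ_h, ← map_add, ← map_add]
  congr 1; ring

theorem Par.smul {w : V} {z : R} (h : D.Par w z) (a : R) : D.Par (a • w) (a * D.σ a * z) :=
  fun r => by rw [smul_smul, h, map_mul D.σ]; congr 1; ring

theorem Par.σ {w : V} {z : R} (h : D.Par w z) : D.Par w (D.σ z) := fun r => by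
  rw [h, ← D.τσ, map_mul D.σ, map_mul D.σ, D.σσ, mul_comm (D.σ r)]

theorem par_tr (x : R) : D.Par 0 (x + D.σ x) := fun r => by
  rw [smul_zero, Q_zero, ← D.τ_tr (r * D.σ r * x), map_mul, map_mul, D.σσ]
  congr 1; ring

theorem Par.map {s0 : V} {x : Equiv.Perm V × ℤˣ} (hx : x ∈ D.M s0) {w : V} {z : R}
    (h : D.Par w z) : D.Par (x.1 w) (D.sg x.2 z) := fun r => by
  obtain ⟨t, rfl⟩ : ∃ t, r = D.sg x.2 t := ⟨_, (D.sg_sg x.2 r).symm⟩
  rw [← M_smul hx, M_Q hx, h, ← sg_σ, ← map_mul, ← map_mul, τ_sg]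

theorem Sing.map {s0 : V} {x : Equiv.Perm V × ℤˣ} (hx : x ∈ D.M s0) {w : V}
    (h : D.Sing w) : D.Sing (x.1 w) := by
  have := h.par.map hx
  rw [map_zero] at this
  exact this.sing

theorem Simple.exists_one (hS : D.Simple) {r : R} (hr : r ≠ 0) :
    ∃ i j : R, i * r + j * D.σ r = 1 := by
  obtain ⟨n, ⟨m, rfl⟩, hn⟩ := D.exists_odd_pow
  set f := r ^ (2 * m + 1) with hf
  have hff : f * f = f := by
    calc f * f = r ^ (2 * m) * (r * r ^ (2 * m + 1)) := by rw [hf]; ring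
      _ = f := by rw [hn, hf, pow_succ]
  have hσ : D.σ f * D.σ f = D.σ f := by rw [← map_mul, hff]
  have hg : (f + D.σ f + f * D.σ f) * (f + D.σ f + f * D.σ f) = f + D.σ f + f * D.σ f := by
    linear_combination (1 + D.σ f * D.σ f + 2 * D.σ f) * hff + (1 + 3 * f) * hσ +
      (3 * f * D.σ f) * D.two
  rcases hS _ hg (by simp only [map_add, map_mul, D.σσ]; ring) with h0 | h1
  · exfalso
    apply hr
    have : f = 0 := by linear_combination f * h0 - (1 + D.σ f) * hff - (f * D.σ f) * D.two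
    rw [← hn r, ← hf, this, mul_zero]
  · refine ⟨r ^ (2 * m) * (1 + D.σ f), D.σ (r ^ (2 * m)), ?_⟩
    rw [← map_mul, ← pow_succ, ← hf]
    calc r ^ (2 * m) * (1 + D.σ f) * r + D.σ f = (r ^ (2 * m) * r) * (1 + D.σ f) + D.σ f := by ring
      _ = _ := by rw [← pow_succ, ← hf]; linear_combination h1

theorem Simple.free (hS : D.Simple) {s : V} (hs : s ≠ 0) (h : ∀ r : R, r • s = 0 → D.σ r • s = 0) :
    Free R s := fun r hr => by
  by_contra h0
  obtain ⟨i, j, hij⟩ := hS.exists_one h0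
  apply hs
  rw [← one_smul R s, ← hij, add_smul, mul_smul, mul_smul, hr, h r hr, smul_zero, smul_zero,
    add_zero]

theorem Simple.unit (hS : D.Simple) {k : R} (hk : k ≠ 0) (h : D.σ k = k) :
    ∃ i, D.σ i = i ∧ i * k = 1 := by
  obtain ⟨i, j, hij⟩ := hS.exists_one hk
  have e : (i + j) * k = 1 := by rw [← hij, h]; ring
  refine ⟨i + j, ?_, e⟩
  have e' : D.σ (i + j) * k = 1 := by rw [← h, ← map_mul, e, map_one]
  linear_combination (i + j) * e' - D.σ (i + j) * e

theorem Adm.free (hS : D.Simple) {s0 : V} (h : D.Adm s0) (h0 : s0 ≠ 0) : Free R s0 :=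
  hS.free h0 fun r hr => by rw [h.1, hr]

theorem Adm.triv (hS : D.Simple) {s0 : V} (h : D.Adm s0) (h0 : s0 ≠ 0) (r : R) : D.σ r = r :=
  D.eq_of_add (h.free hS h0 _ (by rw [add_smul, h.1, D.vadd_self]))

theorem h_self_of_triv (ht : ∀ r, D.σ r = r) (v : V) : D.h v v = 0 := D.τnd _ fun x => by
  obtain ⟨t, rfl⟩ := D.exists_sqrt x
  have := D.τ_self (t • v)
  rwa [D.h_smul, h_smul_right, ht, ← mul_assoc] at this

theorem Simple.exists_zeta (hS : D.Simple) (hn : ∃ r, D.σ r ≠ r) :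
    ∃ ζ i : R, ζ * D.σ ζ = 1 ∧ (∀ v, D.Q (ζ • v) = D.Q v) ∧ i * (1 + ζ) = 1 := by
  have : ∃ a : R, a * D.σ a = 1 ∧ (∀ v, D.Q (a • v) = D.Q v) ∧ D.σ a ≠ a := by
    by_contra hc
    push Not at hc
    obtain ⟨r, hr⟩ := hn
    apply hr
    refine AddSubgroup.closure_induction (p := fun x _ => D.σ x = x) ?_ ?_ ?_ ?_ (D.span r)
    · rintro x ⟨k, a, hk, ha, hq, rfl⟩
      rw [map_mul, hk, hc a ha hq]
    · exact map_zero _
    · intro x y _ _ hx hy; rw [map_add, hx, hy]
    · intro x _ hx; rw [map_neg, hx]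
  obtain ⟨a, ha, hq, hne⟩ := this
  obtain ⟨i, -, hi⟩ := hS.unit (k := a + D.σ a) (fun e => hne (D.eq_of_add e).symm)
    (by rw [map_add, D.σσ, add_comm])
  refine ⟨a, i * D.σ a * (1 + a), ha, hq, ?_⟩
  linear_combination hi + i * (a + 2) * ha + i * D.two

theorem Simple.exists_delta (hS : D.Simple) (hn : ∃ r, D.σ r ≠ r) :
    ∃ δ : R, δ + D.σ δ = 1 ∧ ∀ v, D.Q v = D.τ (δ * D.h v v) := by
  obtain ⟨ζ, i, h1, h2, h3⟩ := hS.exists_zeta hn
  have h4 : D.σ i * (1 + D.σ ζ) = 1 := by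
    have := congrArg D.σ h3
    rwa [map_mul, map_add, map_one] at this
  refine ⟨D.σ ζ * i * D.σ i, ?_, fun v => ?_⟩
  · simp only [map_mul, D.σσ]
    linear_combination (D.σ i * (1 + D.σ ζ)) * h3 + h4 - i * D.σ i * h1 - i * D.σ i * D.two
  · have e : v = i • v + ζ • i • v := by
      rw [smul_smul, ← add_smul, show i + ζ * i = 1 by linear_combination h3, one_smul]
    conv_lhs => rw [e]
    rw [D.Q_add, h2, z2_add_self, zero_add, h_smul_right, h_smul_right, D.h_smul]
    congr 1; ring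

theorem Simple.exists_par [Finite R] (hS : D.Simple) (w : V) : ∃ z, D.Par w z := by
  by_cases hn : ∃ r, D.σ r ≠ r
  · obtain ⟨δ, -, hδ⟩ := hS.exists_delta hn
    refine ⟨δ * D.h w w, fun r => ?_⟩
    rw [hδ, D.h_smul, h_smul_right]; congr 1; ring
  · push Not at hn
    obtain ⟨k, hk⟩ := D.frob
    obtain ⟨z, hz⟩ := D.exists_dualR (AddMonoidHom.mk' (fun x => D.Q (x ^ 2 ^ k • w)) fun a b => by
      rw [D.pow_two_pow_add, add_smul, D.Q_add, D.h_smul, h_smul_right, h_self_of_triv hn, mul_zero,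
        mul_zero, map_zero, add_zero])
    refine ⟨z, fun r => ?_⟩
    rw [hz, hn, AddMonoidHom.mk'_apply, ← pow_two, ← pow_mul, ← pow_succ', hk]

theorem Simple.sing_of (hS : D.Simple) (hn : ∃ r, D.σ r ≠ r) {w : V} (hw : D.h w w = 0) :
    D.Sing w := fun r => by
  obtain ⟨δ, -, hδ⟩ := hS.exists_delta hn
  rw [hδ, D.h_smul, h_smul_right, hw]; simp

theorem Par.eq_of_triv (ht : ∀ r, D.σ r = r) {w : V} {z z' : R} (h : D.Par w z) (h' : D.Par w z') :
    z = z' := D.τ_ext fun x => by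
  obtain ⟨t, rfl⟩ := D.exists_sqrt x
  have := (h t).symm.trans (h' t)
  rwa [ht] at this

end HD
end CL.Fs
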