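/-
Orthogonal splittings of hermitian-quadratic data and the corresponding product decompositions
of the graded isometry groups.
-/
import Cfsg.Agent.KSG.FsGeo1

namespace CL.Fs
open Finset

/-- The sign of an element of `Perm V × ℤˣ`. -/
abbrev sn (V : Type*) : Equiv.Perm V × ℤˣ →* ℤˣ := MonoidHom.snd _ _

section img
variable {R V : Type*} [CommRing R] [AddCommGroup V] [Module R V]

/-- The restrictions of the elements of `X` to `H`. -/
def img (H : Submodule R V) (X : Subgroup (Equiv.Perm V × ℤˣ)) : Subgroup (Equiv.Perm H × ℤˣ) where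
  carrier := {a | ∃ x ∈ X, x.2 = a.2 ∧ ∀ v : H, (a.1 v : V) = x.1 v}
  one_mem' := ⟨1, X.one_mem, rfl, fun _ => rfl⟩
  mul_mem' := by
    rintro a b ⟨x, hx, x2, x1⟩ ⟨y, hy, y2, y1⟩
    refine ⟨x * y, X.mul_mem hx hy, by rw [Prod.snd_mul, Prod.snd_mul, x2, y2], fun v => ?_⟩
    rw [HD.mul_ap, HD.mul_ap, x1, y1]
  inv_mem' := by
    rintro a ⟨x, hx, x2, x1⟩
    refine ⟨x⁻¹, X.inv_mem hx, by rw [Prod.snd_inv, Prod.snd_inv, x2], fun v => ?_⟩
    apply x.1.injective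
    rw [HD.ap_inv, ← x1, HD.ap_inv]

open Classical in
/-- Restriction to an invariant submodule. -/
noncomputable def rs (H : Submodule R V) (x : Equiv.Perm V × ℤˣ) : Equiv.Perm H × ℤˣ :=
  (if h : ∀ v, x.1 v ∈ H ↔ v ∈ H then x.1.subtypePerm h else 1, x.2)

theorem rs_snd (H : Submodule R V) (x : Equiv.Perm V × ℤˣ) : (rs H x).2 = x.2 := rfl

theorem rs_ap [Finite V] {H : Submodule R V} {x : Equiv.Perm V × ℤˣ} (h : ∀ v ∈ H, x.1 v ∈ H)
    (v : H) : ((rs H x).1 v : V) = x.1 v := by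
  have h' : ∀ v, x.1 v ∈ H ↔ v ∈ H := by
    have hi : Function.Injective (fun v : H => (⟨x.1 v, h v v.2⟩ : H)) := fun a b e =>
      Subtype.ext (x.1.injective (congrArg Subtype.val e))
    intro v
    refine ⟨fun hv => ?_, h v⟩
    obtain ⟨u, hu⟩ := Finite.injective_iff_surjective.1 hi ⟨_, hv⟩
    rw [← x.1.injective (congrArg Subtype.val hu)]
    exact u.2
  simp only [rs, dif_pos h']
  rfl

theorem rs_mul [Finite V] {H : Submodule R V} {x y : Equiv.Perm V × ℤˣ} (hx : ∀ v ∈ H, x.1 v ∈ H)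
    (hy : ∀ v ∈ H, y.1 v ∈ H) : rs H (x * y) = rs H x * rs H y := by
  refine HD.ext' rfl fun v => Subtype.ext ?_
  rw [rs_ap (x := x * y) (fun v hv => hx (y.1 v) (hy v hv)), HD.mul_ap, HD.mul_ap, rs_ap hx, rs_ap hy]

theorem good_img_odd [Finite V] {H : Submodule R V} {X : Subgroup (Equiv.Perm V × ℤˣ)}
    (hc : ∀ x ∈ X, ∀ y ∈ X, x.2 = 1 → y.2 = 1 → ∀ v ∈ H, x.1 (y.1 v) = y.1 (x.1 v))
    (ho : ∀ x ∈ X, x.2 = 1 → ∃ n, Odd n ∧ ∀ v ∈ H, (x ^ n).1 v = v) : Good (sn H) (img H X) := by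
  refine good_of_odd ?_ ?_
  · rintro a ⟨x, hx, x2, x1⟩ b ⟨y, hy, y2, y1⟩ sa sb
    refine HD.ext' (mul_comm _ _) fun v => Subtype.ext ?_
    rw [HD.mul_ap, HD.mul_ap, x1, y1, y1, x1]
    exact hc x hx y hy (x2.trans sa) (y2.trans sb) v v.2
  · rintro a ⟨x, hx, x2, x1⟩ sa
    obtain ⟨n, hn, h⟩ := ho x hx (x2.trans sa)
    have key : ∀ (k : ℕ) (v : H), ((a ^ k).1 v : V) = (x ^ k).1 v := fun k => by
      induction k with
      | zero => intro v; rfl
      | succ k ih => intro v; rw [pow_succ', pow_succ', HD.mul_ap, HD.mul_ap, x1, ih]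
    refine ⟨n, hn, HD.ext' ?_ fun v => Subtype.ext ?_⟩
    · have : a.2 = 1 := sa
      rw [Prod.pow_snd, this, one_pow]; rfl
    · rw [key, h v v.2]; rfl

theorem good_img_sq [Finite V] {H : Submodule R V} {X : Subgroup (Equiv.Perm V × ℤˣ)}
    (h : ∀ x ∈ X, ∀ v ∈ H, x.1 (x.1 v) = v) : Good (sn H) (img H X) := by
  refine good_of_sq ?_
  rintro a ⟨x, hx, -, x1⟩ -
  refine HD.ext' (Int.units_mul_self _) fun v => Subtype.ext ?_
  rw [HD.mul_ap, x1, x1, h x hx v v.2]; rfl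

end img

namespace HD
variable {R V : Type*} [CommRing R] [AddCommGroup V] [Module R V] (D : HD R V)

/-- `p` is the orthogonal projection onto `W`. -/
structure Proj (W : Submodule R V) (p : V →ₗ[R] V) : Prop where
  mem : ∀ v, p v ∈ W
  fix : ∀ w ∈ W, p w = w
  orth : ∀ v, ∀ w ∈ W, D.h (v + p v) w = 0

variable {D} {W : Submodule R V} {p : V →ₗ[R] V}

theorem Proj.idem (hp : D.Proj W p) (v : V) : p (p v) = p v := hp.fix _ (hp.mem v)

theorem Proj.ker (hp : D.Proj W p) (v : V) : p (v + p v) = 0 := by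
  rw [map_add, hp.idem, D.vadd_self]

theorem Proj.split (_hp : D.Proj W p) (v : V) : v + p v + p v = v := by
  rw [add_assoc, D.vadd_self, add_zero]

theorem Proj.orth0 (hp : D.Proj W p) {a w : V} (ha : p a = 0) (hw : w ∈ W) : D.h a w = 0 := by
  have := hp.orth a w hw
  rwa [ha, add_zero] at this

theorem Proj.h_left (hp : D.Proj W p) (v : V) {w : V} (hw : w ∈ W) : D.h (p v) w = D.h v w := by
  have := hp.orth v w hw
  rw [D.h_add] at this
  exact (D.eq_of_add this).symm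

theorem Proj.h_right (hp : D.Proj W p) (v : V) {w : V} (hw : w ∈ W) : D.h w (p v) = D.h w v := by
  rw [D.h_symm, hp.h_left v hw, ← D.h_symm]

theorem Proj.nd (hp : D.Proj W p) (x : V) (hx : x ∈ W) (h : ∀ y ∈ W, D.h x y = 0) : x = 0 :=
  D.nd x fun v => by rw [← hp.h_right v hx, h _ (hp.mem v)]

theorem Proj.Q_split (hp : D.Proj W p) {a w : V} (ha : p a = 0) (hw : w ∈ W) :
    D.Q (a + w) = D.Q a + D.Q w := by
  rw [D.Q_add, hp.orth0 ha hw, map_zero, add_zero]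

theorem Proj.compl (hp : D.Proj W p) : D.Proj (LinearMap.ker p) (LinearMap.id + p) where
  mem v := hp.ker v
  fix w hw := by
    have : p w = 0 := hw
    simp [this]
  orth v a ha := by
    have : v + (LinearMap.id + p : V →ₗ[R] V) v = p v := by
      rw [LinearMap.add_apply, LinearMap.id_apply, ← add_assoc, D.vadd_self, zero_add]
    rw [this]
    exact D.h_eq_zero_comm (hp.orth0 ha (hp.mem v))

/-- The data restricted to an orthogonal summand. -/
def Proj.res (hp : D.Proj W p) : HD R W where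
  σ := D.σ
  σσ := D.σσ
  two := D.two
  frob := D.frob
  τ := D.τ
  τσ := D.τσ
  τnd := D.τnd
  h x y := D.h x y
  h_add x y z := D.h_add x y z
  h_smul r x y := D.h_smul r x y
  h_symm x y := D.h_symm x y
  nd x h := Subtype.ext (hp.nd x x.2 fun y hy => h ⟨y, hy⟩)
  Q x := D.Q x
  Q_add x y := D.Q_add x y
  span r := AddSubgroup.closure_mono (by
    rintro x ⟨k, a, h1, h2, h3, h4⟩
    exact ⟨k, a, h1, h2, fun v => h3 v, h4⟩) (D.span r)

theorem Proj.res_sg (hp : D.Proj W p) (ε : ℤˣ) : hp.res.sg ε = D.sg ε := rfl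

theorem Proj.res_simple (hp : D.Proj W p) (hS : D.Simple) : hp.res.Simple := hS

theorem Proj.res_sing (hp : D.Proj W p) {w : W} : hp.res.Sing w ↔ D.Sing w := Iff.rfl

theorem Proj.res_free {w : W} (h : Free R (w : V)) : Free R w := fun r hr =>
  h r (congrArg Subtype.val hr)

theorem Proj.res_adm (hp : D.Proj W p) {w : W} (h : D.Adm (w : V)) : hp.res.Adm w :=
  ⟨fun r => Subtype.ext (h.1 r), fun r hr => Subtype.ext (h.2 r hr)⟩

theorem Proj.rs_mem [Finite V] (hp : D.Proj W p) {s0 : V} {x : Equiv.Perm V × ℤˣ}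
    (hx : x ∈ D.M s0) (hc : ∀ v, x.1 (p v) = p (x.1 v)) :
    rs W x ∈ hp.res.M ⟨p s0, hp.mem _⟩ := by
  have hW : ∀ v ∈ W, x.1 v ∈ W := fun v hv => by rw [← hp.fix v hv, hc]; exact hp.mem _
  refine ⟨fun u v => Subtype.ext ?_, fun r v => Subtype.ext ?_, fun v => ?_, Subtype.ext ?_⟩
  · rw [Submodule.coe_add, rs_ap hW, rs_ap hW, rs_ap hW, Submodule.coe_add, M_add hx]
  · rw [Submodule.coe_smul, rs_ap hW, rs_ap hW, Submodule.coe_smul, M_smul hx]; rfl
  · change D.Q _ = D.Q _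
    rw [rs_ap hW, M_Q hx]
  · rw [rs_ap hW]
    change x.1 (p s0) = p s0
    rw [hc, M_s0 hx]

theorem Proj.glue [Finite V] (hp : D.Proj W p) {s0 : V} (ε : ℤˣ) (t : V → V)
    (t1 : ∀ u v, t (u + v) = t u + t v) (t2 : ∀ (r : R) v, t (r • v) = D.sg ε r • t v)
    (t3 : ∀ v, p (t v) = 0) (t4 : ∀ v, D.Q (t v) = D.Q (v + p v)) (t5 : t s0 = s0 + p s0)
    {g : Equiv.Perm W × ℤˣ} (hg : g ∈ hp.res.M ⟨p s0, hp.mem _⟩) (hε : g.2 = ε) :
    ∃ m ∈ D.M s0, m.2 = ε ∧ ∀ v, m.1 v = t v + g.1 ⟨p v, hp.mem _⟩ := by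
  refine exists_M ε _ (fun u v => ?_) (fun r v => ?_) (fun v => ?_) ?_
  · have : (⟨p (u + v), hp.mem _⟩ : W) = ⟨p u, hp.mem _⟩ + ⟨p v, hp.mem _⟩ :=
      Subtype.ext (map_add _ _ _)
    rw [this, M_add hg, t1, Submodule.coe_add]; abel
  · have : (⟨p (r • v), hp.mem _⟩ : W) = r • ⟨p v, hp.mem _⟩ := Subtype.ext (map_smul _ _ _)
    rw [this, M_smul hg, t2, Submodule.coe_smul, hε, smul_add]; rfl
  · rw [hp.Q_split (t3 v) (Subtype.prop _), t4]
    have := M_Q hg ⟨p v, hp.mem _⟩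
    change D.Q _ = D.Q (p v) at this
    rw [this, ← hp.Q_split (hp.ker v) (hp.mem v), hp.split]
  · rw [t5, M_s0 hg, hp.split]

theorem Proj.glue' [Finite V] (hp : D.Proj W p) {s0 : V} {x : Equiv.Perm V × ℤˣ}
    (hx : x ∈ D.M s0) (hc : ∀ v, x.1 (p v) = p (x.1 v))
    {g : Equiv.Perm W × ℤˣ} (hg : g ∈ hp.res.M ⟨p s0, hp.mem _⟩) (hε : g.2 = x.2) :
    ∃ m ∈ D.M s0, m.2 = x.2 ∧ (∀ v, p v = 0 → m.1 v = x.1 v) ∧ (∀ w : W, m.1 w = g.1 w) ∧
      ∀ v, m.1 (p v) = p (m.1 v) := by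
  have t3 : ∀ v, p (x.1 (v + p v)) = 0 := fun v => by rw [← hc, hp.ker, M_zero hx]
  obtain ⟨m, hm, m2, m1⟩ := hp.glue x.2 (fun v => x.1 (v + p v))
    (fun u v => by rw [← M_add hx, map_add p]; congr 1; abel)
    (fun r v => by rw [← M_smul hx, map_smul, smul_add]) t3
    (fun v => M_Q hx _) (by rw [M_add hx, hc, M_s0 hx]) hg hε
  have k : ∀ w : W, m.1 w = g.1 w := fun w => by
    have : (⟨p w, hp.mem _⟩ : W) = w := Subtype.ext (hp.fix w w.2)
    rw [m1, this, hp.fix w w.2, D.vadd_self, M_zero hx, zero_add]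
  refine ⟨m, hm, m2, fun v hv => ?_, k, fun v => ?_⟩
  · have : (⟨p v, hp.mem _⟩ : W) = 0 := Subtype.ext hv
    rw [m1, this, M_zero hg, hv, add_zero, Submodule.coe_zero, add_zero]
  · rw [k ⟨p v, hp.mem _⟩, m1, map_add, t3, zero_add, hp.fix _ (Subtype.prop _)]

theorem Proj.good_split [Finite V] (hp : D.Proj W p) {s0 : V} {X : Subgroup (Equiv.Perm V × ℤˣ)}
    (hX : X ≤ D.M s0) (hc : ∀ x ∈ X, ∀ v, x.1 (p v) = p (x.1 v))
    (hcl : ∀ x ∈ X, ∀ m ∈ D.M s0, m.2 = x.2 → (∀ v, p v = 0 → m.1 v = x.1 v) →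
      (∀ v, m.1 (p v) = p (m.1 v)) → m ∈ X)
    (gH : Good (sn (LinearMap.ker p)) (img (LinearMap.ker p) X))
    (gW : Good (sn W) (hp.res.M ⟨p s0, hp.mem _⟩)) : Good (sn V) X := by
  have hW : ∀ x ∈ X, ∀ v ∈ W, x.1 v ∈ W := fun x hx v hv => by
    rw [← hp.fix v hv, hc x hx]; exact hp.mem _
  have hH : ∀ x ∈ X, ∀ v ∈ LinearMap.ker p, x.1 v ∈ LinearMap.ker p := fun x hx v hv => by
    rw [LinearMap.mem_ker] at hv ⊢
    rw [← hc x hx, hv, M_zero (hX hx)]
  refine Good.of_inj (fun x => (rs (LinearMap.ker p) x, rs W x)) (fun x hx => ?_)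
    (fun x hx y hy => ?_) (fun x _ => rfl) (fun x hx y hy e => ?_) ?_ (gH.fibP gW)
  · exact ⟨⟨x, hx, rfl, rs_ap (hH x hx)⟩, hp.rs_mem (hX hx) (hc x hx), rfl⟩
  · rw [rs_mul (hH x hx) (hH y hy), rs_mul (hW x hx) (hW y hy)]; rfl
  · have e1 : rs (LinearMap.ker p) x = rs (LinearMap.ker p) y := congrArg Prod.fst e
    have e2 : rs W x = rs W y := congrArg Prod.snd e
    refine ext' (congrArg (fun a : Equiv.Perm W × ℤˣ => a.2) e2) fun v => ?_
    have h1 := rs_ap (hH x hx) ⟨_, hp.ker v⟩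
    have h2 := rs_ap (hW x hx) ⟨_, hp.mem v⟩
    rw [e1, rs_ap (hH y hy)] at h1
    rw [e2, rs_ap (hW y hy)] at h2
    rw [← hp.split v, M_add (hX hx), M_add (hX hy)]
    exact (congrArg₂ (· + ·) h1 h2).symm
  · rintro ⟨a, g⟩ ⟨⟨x, hx, x2, x1⟩, hg, hs⟩
    obtain ⟨m, hm, m2, m1, m3, m4⟩ := hp.glue' (hX hx) (hc x hx) hg (hs.symm.trans x2.symm)
    have hmX := hcl x hx m hm m2 m1 m4
    refine ⟨m, hmX, Prod.ext (ext' (m2.trans x2) fun v => Subtype.ext ?_)
      (ext' (m2.trans (x2.trans hs)) fun v => Subtype.ext ?_)⟩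
    · rw [rs_ap (hH m hmX), m1 v v.2]; exact (x1 v).symm
    · rw [rs_ap (hW m hmX), m3]

theorem Proj.good_prod [Finite V] (hp : D.Proj W p) {s0 : V}
    (hc : ∀ x ∈ D.M s0, ∀ v, x.1 (p v) = p (x.1 v))
    (gH : Good (sn (LinearMap.ker p)) (hp.compl.res.M ⟨_, hp.compl.mem s0⟩))
    (gW : Good (sn W) (hp.res.M ⟨p s0, hp.mem _⟩)) : Good (sn V) (D.M s0) := by
  by_cases hn : ∃ x ∈ D.M s0, x.2 = -1
  swap
  · push Not at hn
    exact good_of_no_neg fun x hx => (sgn_or (sn V) x).resolve_right (hn x hx)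
  have hc' : ∀ x ∈ D.M s0, ∀ v, x.1 ((LinearMap.id + p : V →ₗ[R] V) v) =
      (LinearMap.id + p : V →ₗ[R] V) (x.1 v) := fun x hx v => by
    simp only [LinearMap.add_apply, LinearMap.id_apply]
    rw [M_add hx, hc x hx]
  refine hp.good_split le_rfl hc (fun _ _ m hm _ _ _ => hm) ?_ gW
  convert gH using 1
  ext a
  constructor
  · rintro ⟨x, hx, x2, x1⟩
    have : a = rs (LinearMap.ker p) x := by
      refine ext' x2.symm fun v => Subtype.ext ?_
      rw [x1, rs_ap]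
      intro v hv
      rw [LinearMap.mem_ker] at hv ⊢
      rw [← hc x hx, hv, M_zero hx]
    rw [this]
    exact hp.compl.rs_mem hx (hc' x hx)
  · intro ha
    obtain ⟨x, hx, hε⟩ : ∃ x ∈ D.M s0, a.2 = x.2 := by
      rcases Int.units_eq_one_or a.2 with h | h
      · exact ⟨1, Subgroup.one_mem _, h⟩
      · obtain ⟨x, hx, h'⟩ := hn
        exact ⟨x, hx, h.trans h'.symm⟩
    obtain ⟨m, hm, m2, -, m3, -⟩ := hp.compl.glue' hx (hc' x hx) ha hε
    exact ⟨m, hm, m2.trans hε.symm, fun v => (m3 v).symm⟩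

variable (D)

/-- The stabilizer of the cyclic submodule generated by `s`. -/
def St [Finite V] (s0 s : V) : Subgroup (Equiv.Perm V × ℤˣ) where
  carrier := {x | x ∈ D.M s0 ∧ ∃ r : R, x.1 s = r • s}
  one_mem' := ⟨Subgroup.one_mem _, 1, (one_smul _ _).symm⟩
  mul_mem' := by
    rintro a b ⟨ha, r, hr⟩ ⟨hb, t, ht⟩
    exact ⟨Subgroup.mul_mem _ ha hb, D.sg a.2 t * r, by rw [mul_ap, ht, M_smul ha, hr, smul_smul]⟩
  inv_mem' := by
    rintro a ⟨ha, r, hr⟩
    refine ⟨Subgroup.inv_mem _ ha, ?_⟩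
    have key : ∀ n : ℕ, ∃ t : R, (a ^ n).1 s = t • s := fun n => by
      induction n with
      | zero => exact ⟨1, (one_smul _ _).symm⟩
      | succ n ih =>
        obtain ⟨t, ht⟩ := ih
        exact ⟨D.sg a.2 t * r, by rw [pow_succ', mul_ap, ht, M_smul ha, hr, smul_smul]⟩
    have : a⁻¹ = a ^ (orderOf a - 1) := by
      rw [eq_comm, eq_inv_iff_mul_eq_one, ← pow_succ, Nat.sub_add_cancel (orderOf_pos a),
        pow_orderOf_eq_one]
    rw [this]
    exact key _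

variable {D}

theorem mem_St [Finite V] {s0 s : V} {x : Equiv.Perm V × ℤˣ} :
    x ∈ D.St s0 s ↔ x ∈ D.M s0 ∧ ∃ r : R, x.1 s = r • s := Iff.rfl

theorem pow_ap {s0 : V} {x : Equiv.Perm V × ℤˣ} (hx : x ∈ D.M s0) (h2 : x.2 = 1) {v : V} {r : R}
    (h : x.1 v = r • v) (n : ℕ) : (x ^ n).1 v = r ^ n • v := by
  induction n with
  | zero => simp
  | succ n ih => rw [pow_succ', mul_ap, ih, M_smul hx, h2, sg_one, h, smul_smul, pow_succ]

include D in
theorem exists_odd_unit : ∃ n, Odd n ∧ ∀ r t : R, r * t = 1 → r ^ n = 1 := by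
  obtain ⟨n, hn, h⟩ := D.exists_odd_pow
  exact ⟨n, hn, fun r t e => by linear_combination t * h r + (1 - r ^ n) * e⟩

/-- The case of a non-isotropic cyclic submodule. -/
theorem good_St_noniso [Finite V] (hS : D.Simple) {s0 s : V} (h0 : D.h s0 s = 0)
    (hs : D.h s s ≠ 0)
    (IH : ∀ (W : Submodule R V) (p : V →ₗ[R] V) (hp : D.Proj W p), s ∉ W → p s0 = s0 →
      Good (sn W) (hp.res.M ⟨p s0, hp.mem _⟩)) : Good (sn V) (D.St s0 s) := by
  have hsy : D.σ (D.h s s) = D.h s s := D.σ_h s s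
  obtain ⟨i, hi, hik⟩ := hS.unit hs hsy
  let W : Submodule R V :=
    { carrier := {w | D.h w s = 0}
      add_mem' := fun {a b} ha hb => by
        change D.h _ _ = 0 at *
        rw [D.h_add, ha, hb, add_zero]
      zero_mem' := D.h_zero_left s
      smul_mem' := fun r a ha => by
        change D.h _ _ = 0 at *
        rw [D.h_smul, ha, mul_zero] }
  let p : V →ₗ[R] V :=
    { toFun := fun v => v + (D.h v s * i) • s
      map_add' := fun u v => by rw [D.h_add]; module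
      map_smul' := fun r v => by rw [D.h_smul, RingHom.id_apply]; module }
  have pa : ∀ v, p v = v + (D.h v s * i) • s := fun v => rfl
  have hp : D.Proj W p := by
    refine ⟨fun v => ?_, fun w hw => ?_, fun v w hw => ?_⟩
    · change D.h _ _ = 0
      rw [pa, D.h_add, D.h_smul, mul_assoc, hik, mul_one, D.add_self]
    · have : D.h w s = 0 := hw
      rw [pa, this, zero_mul, zero_smul, add_zero]
    · rw [pa, ← add_assoc, D.vadd_self, zero_add, D.h_smul, D.h_eq_zero_comm hw, mul_zero]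
  have hr : ∀ x ∈ D.M s0, ∀ r : R, x.1 s = r • s → r * D.σ r = 1 := fun x hx r e => by
    have := M_h hx s s
    rw [e, D.h_smul, h_smul_right, sg_of_symm D _ hsy] at this
    linear_combination i * this + (1 - r * D.σ r) * hik
  have hk : ∀ v, p v = 0 → v = (D.h v s * i) • s := fun v hv => D.veq_of_add hv
  have ps : p s = 0 := by rw [pa, mul_comm, hik, one_smul, D.vadd_self]
  refine hp.good_split (fun x hx => hx.1) ?_ ?_ (good_img_odd ?_ ?_)
    (IH W p hp hs (hp.fix _ h0))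
  · rintro x ⟨hx, r, e⟩ v
    rw [pa, pa, M_add hx, M_smul hx, e, map_mul, ← M_h hx, e, h_smul_right, sg_of_symm D _ hi,
      smul_smul]
    congr 2
    linear_combination (D.h (x.1 v) s * i) * hr x hx r e
  · rintro x ⟨-, r, e⟩ m hm - h1 -
    exact ⟨hm, r, by rw [h1 s ps, e]⟩
  · rintro x ⟨hx, r, e⟩ y ⟨hy, t, e'⟩ x2 y2 v hv
    rw [hk v hv, M_smul hy, M_smul hx, M_smul hx, M_smul hy, e, e', M_smul hx, M_smul hy, e, e',
      x2, y2]
    simp only [sg_one, smul_smul]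
    congr 1; ring
  · rintro x ⟨hx, r, e⟩ x2
    obtain ⟨n, hn, h⟩ := D.exists_odd_unit
    refine ⟨n, hn, fun v hv => ?_⟩
    have : x.1 v = r • v := by
      rw [hk v hv, M_smul hx, x2, sg_one, e, smul_comm]
    rw [pow_ap hx x2 this, h r _ (hr x hx r e), one_smul]

end HD
end CL.Fs
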