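/-
Hyperbolic pairs, Eichler-Siegel transformations and the Levi decomposition of the stabilizer of
a totally singular cyclic submodule.
-/
import Cfsg.Agent.KSG.FsGeo2

namespace CL.Fs
namespace HD
variable {R V : Type*} [CommRing R] [AddCommGroup V] [Module R V] (D : HD R V)

/-- The orthogonal complement of two vectors. -/
def WW (a b : V) : Submodule R V where
  carrier := {w | D.h w a = 0 ∧ D.h w b = 0}
  add_mem' := fun {x y} hx hy => ⟨by rw [D.h_add, hx.1, hy.1, add_zero],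
    by rw [D.h_add, hx.2, hy.2, add_zero]⟩
  zero_mem' := ⟨D.h_zero_left a, D.h_zero_left b⟩
  smul_mem' := fun r x hx => ⟨by rw [D.h_smul, hx.1, mul_zero], by rw [D.h_smul, hx.2, mul_zero]⟩

/-- The projection onto the complement of a hyperbolic pair. -/
def pp (a b : V) : V →ₗ[R] V where
  toFun v := v + D.h v b • a + D.h v a • b
  map_add' u v := by rw [D.h_add, D.h_add]; module
  map_smul' r v := by rw [D.h_smul, D.h_smul, RingHom.id_apply]; module

theorem pp_ap (a b v : V) : D.pp a b v = v + D.h v b • a + D.h v a • b := rfl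

/-- The Eichler-Siegel map. -/
def E (s w : V) (z : R) (v : V) : V := v + D.h v s • w + (D.h v w + D.h v s * z) • s

variable {D}

theorem proj_pp {a b : V} (hab : D.h a b = 1) (ha : D.h a a = 0) (hb : D.h b b = 0) :
    D.Proj (D.WW a b) (D.pp a b) := by
  have hba : D.h b a = 1 := by rw [D.h_symm, hab, map_one]
  refine ⟨fun v => ⟨?_, ?_⟩, fun w hw => ?_, fun v w hw => ?_⟩
  · simp only [pp_ap, D.h_add, D.h_smul, ha, hba]
    linear_combination D.add_self (D.h v a)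
  · simp only [pp_ap, D.h_add, D.h_smul, hb, hab]
    linear_combination D.add_self (D.h v b)
  · rw [pp_ap, hw.1, hw.2]; simp
  · simp only [pp_ap, D.h_add, D.h_smul, D.h_eq_zero_comm hw.1, D.h_eq_zero_comm hw.2]
    linear_combination D.add_self (D.h v w)

theorem eq_pp (a b v : V) : v = D.pp a b v + D.h v b • a + D.h v a • b := by
  rw [pp_ap]
  linear_combination (norm := abel1) -D.vadd_self (D.h v b • a) - D.vadd_self (D.h v a • b)

/-- A hyperbolic pair of singular vectors orthogonal to `s0`. -/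
structure Hyp (D : HD R V) (s0 s s' : V) : Prop where
  simple : D.Simple
  adm : D.Adm s0
  sing : D.Sing s
  sing' : D.Sing s'
  one : D.h s s' = 1
  o : D.h s0 s = 0
  o' : D.h s0 s' = 0

theorem exists_hyp [Finite R] [Finite V] (hS : D.Simple) {s0 s : V} (h0 : D.Adm s0)
    (hf : Free R s) (hs : D.Sing s) (ho : D.h s0 s = 0) : ∃ s', D.Hyp s0 s s' := by
  obtain ⟨u, hu⟩ := D.exists_dualV (P := R × R) (fun a => Prod.ext (D.add_self _) (D.add_self _))
    (AddMonoidHom.mk' (fun a => a.1 • s + a.2 • s0) fun a b => by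
      simp only [Prod.fst_add, Prod.snd_add]; module)
    (D.τ.comp (AddMonoidHom.fst R R)) (fun a ha => by
      have ha : a.1 • s = a.2 • s0 := D.veq_of_add ha
      have h1 : a.2 • s0 = 0 := h0.2 _ (ha ▸ hs.smul _)
      have : a.1 = 0 := hf _ (ha.trans h1)
      simp [this])
  have h1 : D.h s u = 1 := D.τ_ext fun x => by
    have := hu (x, 0)
    simp only [AddMonoidHom.mk'_apply, zero_smul, add_zero, D.h_smul] at this
    rw [this, mul_one]; rfl
  have h2 : D.h s0 u = 0 := D.τnd _ fun x => by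
    have := hu (0, x)
    simp only [AddMonoidHom.mk'_apply, zero_smul, zero_add, D.h_smul] at this
    rw [this]; simp
  obtain ⟨z, hz⟩ := hS.exists_par u
  refine ⟨u + z • s, hS, h0, hs, ?_, ?_, ho, ?_⟩
  · have := hz.add (hs.smul z).par
    rw [D.h_smul, h1, mul_one, add_zero, D.add_self] at this
    exact this.sing
  · rw [h_add_right, h_smul_right, h1, hs.h_self, mul_zero, add_zero]
  · rw [h_add_right, h_smul_right, h2, ho, mul_zero, add_zero]

theorem E_zero (s v : V) : D.E s 0 0 v = v := by simp [E]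

theorem E_add (s w : V) (z : R) (u v : V) : D.E s w z (u + v) = D.E s w z u + D.E s w z v := by
  simp only [E, D.h_add]; module

theorem E_smul (s w : V) (z r : R) (v : V) : D.E s w z (r • v) = r • D.E s w z v := by
  simp only [E, D.h_smul]; module

theorem E_of {s w v : V} (z : R) (h1 : D.h v s = 0) (h2 : D.h v w = 0) : D.E s w z v = v := by
  simp [E, h1, h2]

theorem E_comp {s w w' : V} (hs : D.h s s = 0) (hw : D.h w s = 0) (hw' : D.h w' s = 0) (z z' : R)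
    (v : V) : D.E s w z (D.E s w' z' v) = D.E s (w + w') (z + z' + D.h w' w) v := by
  simp only [E, D.h_add, D.h_smul, h_add_right, hs, hw', D.h_eq_zero_comm hw]
  module

theorem Q_E {s w : V} (hs : D.Sing s) (hw : D.h w s = 0) {z : R} (hz : D.Par w z) (v : V) :
    D.Q (D.E s w z v) = D.Q v := by
  rw [E, D.Q_add, D.Q_add, hz, hs, h_smul_right, h_smul_right, D.h_add, D.h_smul, hw, add_zero,
    add_assoc, add_assoc, ← map_add, ← map_add, add_eq_left,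
    ← D.τ_tr (D.σ (D.h v s) * D.h v w + D.h v s * D.σ (D.h v s) * z)]
  congr 1
  simp only [map_add, map_mul, D.σσ]
  ring

namespace Hyp
variable {s0 s s' : V} (H : D.Hyp s0 s s')
include H

theorem ss : D.h s s = 0 := H.sing.h_self
theorem ss' : D.h s' s' = 0 := H.sing'.h_self
theorem one' : D.h s' s = 1 := by rw [D.h_symm, H.one, map_one]
theorem proj : D.Proj (D.WW s s') (D.pp s s') := proj_pp H.one H.ss H.ss'
theorem s0_mem : s0 ∈ D.WW s s' := ⟨H.o, H.o'⟩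
theorem p_s0 : D.pp s s' s0 = s0 := H.proj.fix _ H.s0_mem
theorem p_s : D.pp s s' s = 0 := by rw [pp_ap, H.one, H.ss, one_smul, D.vadd_self]; simp
theorem p_s' : D.pp s s' s' = 0 := by
  rw [pp_ap, H.one', H.ss', one_smul, zero_smul, add_zero, D.vadd_self]
theorem not_mem [Nontrivial R] : s ∉ D.WW s s' := fun h => one_ne_zero (H.one.symm.trans h.2)
theorem smul_inj {a b : R} (h : a • s = b • s) : a = b := by
  have := congrArg (fun v => D.h v s') h
  simpa only [D.h_smul, H.one, mul_one] using this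

theorem E_s' {w : V} (hw : w ∈ D.WW s s') (z : R) : D.E s w z s' = s' + w + z • s := by
  rw [E, H.one', D.h_eq_zero_comm hw.2, one_smul, zero_add, one_mul]

theorem E_inj {w w' : V} (hw : w ∈ D.WW s s') (hw' : w' ∈ D.WW s s') {z z' : R}
    (h : D.E s w z s' = D.E s w' z' s') : w = w' ∧ z = z' := by
  rw [H.E_s' hw, H.E_s' hw'] at h
  have h1 := congrArg (D.pp s s') h
  simp only [map_add, map_smul, H.p_s, H.p_s', H.proj.fix _ hw, H.proj.fix _ hw', smul_zero,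
    zero_add, add_zero] at h1
  subst h1
  exact ⟨rfl, H.smul_inj (add_left_cancel h)⟩

/-- The unipotent radical. -/
def Qg : Subgroup (Equiv.Perm V × ℤˣ) where
  carrier := {x | x.2 = 1 ∧ ∃ w z, w ∈ D.WW s s' ∧ D.h s0 w = 0 ∧ D.Par w z ∧
    ∀ v, x.1 v = D.E s w z v}
  one_mem' := ⟨rfl, 0, 0, Submodule.zero_mem _, D.h_zero_right _, by simpa using D.par_tr 0,
    fun v => (E_zero s v).symm⟩
  mul_mem' := by
    rintro a b ⟨a2, w, z, h1, h2, h3, h4⟩ ⟨b2, w', z', h1', h2', h3', h4'⟩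
    refine ⟨by rw [Prod.snd_mul, a2, b2, mul_one], w + w', z + z' + D.h w' w,
      Submodule.add_mem _ h1 h1', by rw [h_add_right, h2, h2', add_zero], h3.add h3', fun v => ?_⟩
    rw [mul_ap, h4', h4, E_comp H.ss h1.1 h1'.1]
  inv_mem' := by
    rintro a ⟨a2, w, z, h1, h2, h3, h4⟩
    refine ⟨by rw [snd_inv', a2], w, D.σ z, h1, h2, h3.σ, fun v => a.1.injective ?_⟩
    rw [ap_inv, h4, E_comp H.ss h1.1 h1.1, h3.tr, D.vadd_self, D.add_self, E_zero]

/-- The centre part of the unipotent radical. -/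
def Zg : Subgroup (Equiv.Perm V × ℤˣ) where
  carrier := {x | x.2 = 1 ∧ ∃ z, D.Par 0 z ∧ ∀ v, x.1 v = D.E s 0 z v}
  one_mem' := ⟨rfl, 0, by simpa using D.par_tr 0, fun v => (E_zero s v).symm⟩
  mul_mem' := by
    rintro a b ⟨a2, z, h3, h4⟩ ⟨b2, z', h3', h4'⟩
    refine ⟨by rw [Prod.snd_mul, a2, b2, mul_one], z + z', by simpa using h3.add h3', fun v => ?_⟩
    rw [mul_ap, h4', h4, E_comp H.ss (D.h_zero_left _) (D.h_zero_left _)]; simp
  inv_mem' := by
    rintro a ⟨a2, z, h3, h4⟩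
    refine ⟨by rw [snd_inv', a2], D.σ z, h3.σ, fun v => a.1.injective ?_⟩
    rw [ap_inv, h4, E_comp H.ss (D.h_zero_left _) (D.h_zero_left _), h3.tr]; simp [E_zero]

theorem Z_le_Q : H.Zg ≤ H.Qg := by
  rintro x ⟨x2, z, h1, h2⟩
  exact ⟨x2, 0, z, Submodule.zero_mem _, D.h_zero_right _, h1, h2⟩

theorem Q_pos (x : Equiv.Perm V × ℤˣ) (hx : x ∈ H.Qg) : sn V x = 1 := hx.1

theorem Q_le_St [Finite V] : H.Qg ≤ D.St s0 s := by
  rintro x ⟨x2, w, z, h1, h2, h3, h4⟩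
  refine ⟨⟨fun u v => ?_, fun r v => ?_, fun v => ?_, ?_⟩, 1, ?_⟩
  · rw [h4, h4, h4, E_add]
  · rw [h4, h4, E_smul, x2, sg_one]
  · rw [h4, Q_E H.sing h1.1 h3]
  · rw [h4, E_of _ H.o h2]
  · rw [h4, E_of _ H.ss (D.h_eq_zero_comm h1.1), one_smul]

theorem exists_E [Finite V] {w : V} {z : R} (h1 : w ∈ D.WW s s') (h2 : D.h s0 w = 0)
    (h3 : D.Par w z) : ∃ x ∈ H.Qg, ∀ v, x.1 v = D.E s w z v := by
  obtain ⟨x, -, x2, x1⟩ := exists_M (D := D) (s0 := s0) 1 (D.E s w z) (E_add s w z)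
    (fun r v => by rw [E_smul, sg_one]) (Q_E H.sing h1.1 h3) (E_of _ H.o h2)
  exact ⟨x, ⟨x2, w, z, h1, h2, h3, x1⟩, x1⟩

theorem mem_Z_of {x : Equiv.Perm V × ℤˣ} (hx : x ∈ H.Qg) {z : R}
    (h : ∀ v, x.1 v = D.E s 0 z v) : x ∈ H.Zg := by
  obtain ⟨x2, w, z', h1, -, h3, h4⟩ := hx
  obtain ⟨rfl, rfl⟩ := H.E_inj h1 (Submodule.zero_mem _) ((h4 s').symm.trans (h s'))
  exact ⟨x2, z', h3, h4⟩

theorem eq_zero_of_mem_Z {x : Equiv.Perm V × ℤˣ} (hx : x ∈ H.Zg) {w : V} (hw : w ∈ D.WW s s')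
    {z : R} (h : ∀ v, x.1 v = D.E s w z v) : w = 0 := by
  obtain ⟨-, z', -, h4⟩ := hx
  exact (H.E_inj hw (Submodule.zero_mem _) ((h s').symm.trans (h4 s'))).1

theorem Z_comm (z : Equiv.Perm V × ℤˣ) (hz : z ∈ H.Zg) (q : Equiv.Perm V × ℤˣ) (hq : q ∈ H.Qg) :
    z * q = q * z := by
  obtain ⟨-, a, -, h4⟩ := hz
  obtain ⟨-, w, b, h1, -, -, h4'⟩ := hq
  refine ext' (mul_comm _ _) fun v => ?_
  rw [mul_ap, mul_ap, h4', h4, h4, h4', E_comp H.ss (D.h_zero_left _) h1.1,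
    E_comp H.ss h1.1 (D.h_zero_left _)]
  simp [add_comm]

theorem sq_mem_Z (q : Equiv.Perm V × ℤˣ) (hq : q ∈ H.Qg) : q * q ∈ H.Zg := by
  have hq' := hq
  obtain ⟨-, w, b, h1, -, -, h4⟩ := hq
  refine H.mem_Z_of (Subgroup.mul_mem _ hq' hq') (z := b + b + D.h w w) fun v => ?_
  rw [mul_ap, h4, h4, E_comp H.ss h1.1 h1.1, D.vadd_self]

theorem Z_sq (z : Equiv.Perm V × ℤˣ) (hz : z ∈ H.Zg) : z * z = 1 := by
  obtain ⟨-, a, -, h4⟩ := hz
  refine ext' (Int.units_mul_self _) fun v => ?_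
  rw [mul_ap, h4, h4, E_comp H.ss (D.h_zero_left _) (D.h_zero_left _), D.add_self]
  simp [E_zero]

theorem Q_pgroup : IsPGroup 2 H.Qg := fun q =>
  ⟨2, Subtype.ext (by
    have := H.Z_sq _ (H.sq_mem_Z q q.2)
    simpa [pow_succ, mul_assoc] using this)⟩

theorem comm_ap {a b : Equiv.Perm V × ℤˣ} {w w' : V} {z z' : R} (hw : w ∈ D.WW s s')
    (hw' : w' ∈ D.WW s s') (ha : ∀ v, a.1 v = D.E s w z v)
    (hb : ∀ v, b.1 v = D.E s w' z' v) (v : V) :
    (a * b * a⁻¹ * b⁻¹).1 v = D.E s 0 (D.h w w' + D.h w' w) v := by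
  obtain ⟨u, rfl⟩ := (b * a).1.surjective v
  have : (a * b * a⁻¹ * b⁻¹).1 ((b * a).1 u) = (a * b).1 u := by
    rw [← mul_ap]; congr 2; group
  rw [this, mul_ap, mul_ap, hb, ha, ha, hb, E_comp H.ss hw.1 hw'.1, E_comp H.ss hw'.1 hw.1,
    E_comp H.ss (D.h_zero_left _) (Submodule.add_mem _ hw' hw).1, zero_add, add_comm w' w,
    D.h_zero_right]
  congr 1
  linear_combination -D.add_self (D.h w w')

theorem comm_mem_Z (a : Equiv.Perm V × ℤˣ) (ha : a ∈ H.Qg) (b : Equiv.Perm V × ℤˣ)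
    (hb : b ∈ H.Qg) : a * b * a⁻¹ * b⁻¹ ∈ H.Zg := by
  have hm := H.Qg.mul_mem (H.Qg.mul_mem (H.Qg.mul_mem ha hb) (H.Qg.inv_mem ha)) (H.Qg.inv_mem hb)
  obtain ⟨-, w, z, h1, -, -, h4⟩ := ha
  obtain ⟨-, w', z', h1', -, -, h4'⟩ := hb
  exact H.mem_Z_of hm (H.comm_ap h1 h1' h4 h4')

variable [Finite V]

theorem rr {l : Equiv.Perm V × ℤˣ} (hl : l ∈ D.M s0) {r r' : R} (h : l.1 s = r • s)
    (h' : l.1 s' = r' • s') : r * D.σ r' = 1 := by
  have := M_h hl s s'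
  rwa [h, h', D.h_smul, h_smul_right, H.one, mul_one, map_one] at this

theorem L_comm {l : Equiv.Perm V × ℤˣ} (hl : l ∈ D.St s0 s ⊓ D.St s0 s') (v : V) :
    l.1 (D.pp s s' v) = D.pp s s' (l.1 v) := by
  obtain ⟨⟨hl, r, h⟩, -, r', h'⟩ := hl
  have e := H.rr hl h h'
  have e' : D.σ r * r' = 1 := by rw [← D.σσ r', ← map_mul, e, map_one]
  rw [pp_ap, pp_ap, M_add hl, M_add hl, M_smul hl, M_smul hl, ← M_h hl, ← M_h hl, h, h',
    h_smul_right, h_smul_right, smul_smul, smul_smul]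
  congr 2
  · congr 1; linear_combination (D.h (l.1 v) s') * e
  · linear_combination (D.h (l.1 v) s) * e'

theorem L_mem {l : Equiv.Perm V × ℤˣ} (hl : l ∈ D.St s0 s ⊓ D.St s0 s') {w : V}
    (hw : w ∈ D.WW s s') : l.1 w ∈ D.WW s s' := by
  rw [← H.proj.fix w hw, H.L_comm hl]; exact H.proj.mem _

omit H [Finite V] in
theorem conj_E {l : Equiv.Perm V × ℤˣ} (hl : l ∈ D.M s0) {r : R} (h : l.1 s = r • s) (w : V)
    (z : R) (v : V) : l.1 (D.E s w z v) =
      D.E s (D.σ r • l.1 w) (r * D.σ r * D.sg l.2 z) (l.1 v) := by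
  simp only [E, M_add hl, M_smul hl, map_add, map_mul, ← M_h hl, h, h_smul_right, D.σσ]
  module

theorem conj_ap {l q : Equiv.Perm V × ℤˣ} (hl : l ∈ D.M s0) {r : R} (h : l⁻¹.1 s = r • s) {w : V}
    {z : R} (hq : ∀ v, q.1 v = D.E s w z v) (v : V) : (l⁻¹ * q * l).1 v =
      D.E s (D.σ r • l⁻¹.1 w) (r * D.σ r * D.sg l.2 z) v := by
  rw [mul_ap, mul_ap, hq, conj_E (Subgroup.inv_mem _ hl) h, inv_ap, snd_inv']

theorem norm_Q (l : Equiv.Perm V × ℤˣ) (hl : l ∈ D.St s0 s ⊓ D.St s0 s') (q : Equiv.Perm V × ℤˣ)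
    (hq : q ∈ H.Qg) : l⁻¹ * q * l ∈ H.Qg := by
  obtain ⟨q2, w, z, h1, h2, h3, h4⟩ := hq
  have hl' := Subgroup.inv_mem _ hl
  obtain ⟨hm, r, h⟩ := hl'.1
  refine ⟨(sgn_conj' (sn V) l q).trans q2, _, _, Submodule.smul_mem _ _ (H.L_mem hl' h1), ?_, ?_,
    H.conj_ap hl.1.1 h h4⟩
  · rw [h_smul_right, ← M_s0 hm, M_h hm, h2, map_zero, mul_zero]
  · have := (h3.map hm).smul (D.σ r)
    rwa [D.σσ, mul_comm (D.σ r), snd_inv'] at this

theorem St_eq (y : Equiv.Perm V × ℤˣ) (hy : y ∈ D.St s0 s) :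
    ∃ l ∈ D.St s0 s ⊓ D.St s0 s', ∃ q ∈ H.Qg, y = l * q := by
  suffices h : ∀ x ∈ D.St s0 s, ∃ q ∈ H.Qg, q⁻¹ * x ∈ D.St s0 s ⊓ D.St s0 s' by
    obtain ⟨q, hq, h⟩ := h _ (Subgroup.inv_mem _ hy)
    exact ⟨_, Subgroup.inv_mem _ h, q⁻¹, Subgroup.inv_mem _ hq, by group⟩
  rintro x ⟨hx, r, h⟩
  have e : D.σ r * D.h (x.1 s') s = 1 := by
    have := M_h hx s' s
    rwa [h, h_smul_right, H.one', map_one] at this
  set w := D.σ r • D.pp s s' (x.1 s') with hw
  set z := D.σ r * D.h (x.1 s') s' with hz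
  have hwW : w ∈ D.WW s s' := Submodule.smul_mem _ _ (H.proj.mem _)
  have e2 : D.σ r • x.1 s' = s' + w + z • s := by
    conv_lhs => rw [eq_pp (D := D) s s' (x.1 s')]
    rw [smul_add, smul_add, smul_smul, smul_smul, e, one_smul]; abel
  have h2 : D.h s0 w = 0 := by
    rw [hw, h_smul_right, H.proj.h_right _ H.s0_mem, ← M_s0 hx, M_h hx, H.o', map_zero, mul_zero]
  have h3 : D.Par w z := by
    have k1 : D.Par (D.σ r • x.1 s') 0 := ((H.sing'.map hx).smul _).par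
    have k2 := (k1.add H.sing'.par).add (H.sing.smul z).par
    rw [e2, show s' + w + z • s + s' + z • s = w by
      linear_combination (norm := abel1) D.vadd_self s' + D.vadd_self (z • s)] at k2
    convert k2.σ using 1
    simp only [h_add_right, h_smul_right, D.h_smul, H.ss, H.ss', H.one, H.one',
      D.h_eq_zero_comm hwW.1, D.h_eq_zero_comm hwW.2, map_add, map_mul, D.σσ, map_zero, map_one]
    linear_combination -D.add_self (D.σ z)
  obtain ⟨q, hq, q1⟩ := H.exists_E hwW h2 h3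
  have hm := Subgroup.mul_mem _ (Subgroup.inv_mem _ (H.Q_le_St hq)) ⟨hx, r, h⟩
  refine ⟨q, hq, hm, hm.1, D.h (x.1 s') s, ?_⟩
  rw [mul_ap]
  apply q.1.injective
  rw [ap_inv, q1, E_smul, H.E_s' hwW, ← e2, smul_smul, mul_comm, e, one_smul]

theorem norm_Z (y : Equiv.Perm V × ℤˣ) (hy : y ∈ D.St s0 s) (z : Equiv.Perm V × ℤˣ)
    (hz : z ∈ H.Zg) : y⁻¹ * z * y ∈ H.Zg := by
  obtain ⟨z2, a, h3, h4⟩ := hz
  obtain ⟨hm, r, h⟩ := Subgroup.inv_mem _ hy
  have k := H.conj_ap hy.1 h h4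
  rw [M_zero hm, smul_zero] at k
  refine ⟨(sgn_conj' (sn V) y z).trans z2, _, ?_, k⟩
  have := (h3.map hm).smul (D.σ r)
  rwa [D.σσ, mul_comm (D.σ r), snd_inv', M_zero hm, smul_zero] at this

theorem mem_L {m : Equiv.Perm V × ℤˣ} (hm : m ∈ D.M s0) {x : Equiv.Perm V × ℤˣ}
    (hx : x ∈ D.St s0 s ⊓ D.St s0 s') (h1 : m.1 s = x.1 s) (h2 : m.1 s' = x.1 s') :
    m ∈ D.St s0 s ⊓ D.St s0 s' := by
  obtain ⟨⟨-, r, h⟩, -, r', h'⟩ := hx
  exact ⟨⟨hm, r, h1.trans h⟩, hm, r', h2.trans h'⟩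

/-- Subgroups of the Levi complement that are defined by their action on `s`. -/
theorem good_Lsub {X : Subgroup (Equiv.Perm V × ℤˣ)} (hX : X ≤ D.St s0 s ⊓ D.St s0 s')
    (hcl : ∀ x ∈ X, ∀ m ∈ D.St s0 s ⊓ D.St s0 s', m.2 = x.2 → m.1 s = x.1 s → m ∈ X)
    (gW : Good (sn _) (H.proj.res.M ⟨D.pp s s' s0, H.proj.mem _⟩)) : Good (sn V) X := by
  have hk : ∀ v, D.pp s s' v = 0 → v = D.h v s' • s + D.h v s • s' := fun v hv => by
    conv_lhs => rw [eq_pp (D := D) s s' v, hv, zero_add]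
  refine H.proj.good_split (fun x hx => (hX hx).1.1) (fun x hx => H.L_comm (hX hx))
    (fun x hx m hm m2 m1 _ => hcl x hx m (H.mem_L hm (hX hx) (m1 s H.p_s) (m1 s' H.p_s')) m2
      (m1 s H.p_s)) (good_img_odd ?_ ?_) gW
  · intro x hx y hy x2 y2 v hv
    obtain ⟨⟨hx, r, e⟩, -, r', e'⟩ := hX hx
    obtain ⟨⟨hy, t, f⟩, -, t', f'⟩ := hX hy
    rw [hk v hv]
    simp only [M_add hx, M_add hy, M_smul hx, M_smul hy, e, e', f, f', x2, y2, sg_one]
    module
  · intro x hx x2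
    obtain ⟨⟨hx, r, e⟩, -, r', e'⟩ := hX hx
    obtain ⟨n, hn, h⟩ := D.exists_odd_unit
    refine ⟨n, hn, fun v hv => ?_⟩
    have k := H.rr hx e e'
    have k' : r' * D.σ r = 1 := by rw [← D.σσ r', ← map_mul, mul_comm, k, map_one]
    have hn := Subgroup.pow_mem _ hx n
    rw [hk v hv, M_add hn, M_smul hn, M_smul hn, pow_ap hx x2 e, pow_ap hx x2 e', h r _ k,
      h r' _ k', Prod.pow_snd, x2, one_pow, sg_one, sg_one, one_smul, one_smul]

end Hyp
end HD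
end CL.Fs
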