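/-
The stabilizers in the Levi complement of the characters of the unipotent radical.
-/
import Cfsg.Agent.KSG.FsGeo3

namespace CL.Fs

/-- The stabilizer in `L` of a function on `Q`. -/
def stabS {G : Type*} [Group G] (L Q : Subgroup G) (hn : ∀ l ∈ L, ∀ q ∈ Q, l⁻¹ * q * l ∈ Q)
    (lam : G → ℂ) : Subgroup G where
  carrier := {l | l ∈ L ∧ ∀ q ∈ Q, lam (l⁻¹ * q * l) = lam q}
  one_mem' := ⟨L.one_mem, fun q _ => by simp⟩
  mul_mem' := by
    rintro a b ⟨ha, ha'⟩ ⟨hb, hb'⟩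
    refine ⟨L.mul_mem ha hb, fun q hq => ?_⟩
    rw [show (a * b)⁻¹ * q * (a * b) = b⁻¹ * (a⁻¹ * q * a) * b by group, hb' _ (hn a ha q hq),
      ha' q hq]
  inv_mem' := by
    rintro a ⟨ha, ha'⟩
    refine ⟨L.inv_mem ha, fun q hq => ?_⟩
    rw [← ha' _ (hn _ (L.inv_mem ha) q hq)]; congr 1; group

theorem stabS_iff {G : Type*} [Group G] {L Q : Subgroup G} (hn : ∀ l ∈ L, ∀ q ∈ Q, l⁻¹ * q * l ∈ Q)
    {lam : G → ℂ} (h2 : ∀ q ∈ Q, lam q * lam q = 1) {l : G} (hl : l ∈ L) :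
    l ∈ stabS L Q hn lam ↔ ∀ q ∈ Q, lam (l⁻¹ * q * l) * lam q = 1 := by
  refine ⟨fun h q hq => by rw [h.2 q hq, h2 q hq], fun h => ⟨hl, fun q hq => ?_⟩⟩
  linear_combination lam q * h q hq - lam (l⁻¹ * q * l) * h2 q hq

/-- The non-trivial character of `ZMod 2`. -/
def chi2 (a : ZMod 2) : ℂ := if a = 0 then 1 else -1

theorem chi2_inj {a b : ZMod 2} (h : chi2 a = chi2 b) : a = b := by
  have h1 : (1 : ℂ) ≠ -1 := by norm_num
  unfold chi2 at h
  split_ifs at h with ha hb hb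
  · rw [ha, hb]
  · exact absurd h h1
  · exact absurd h.symm h1
  · revert a b; decide

theorem chi2_add (a b : ZMod 2) : chi2 (a + b) = chi2 a * chi2 b := by
  have : ∀ a : ZMod 2, a = 0 ∨ a = 1 := by decide
  have e : (1 + 1 : ZMod 2) = 0 := by decide
  rcases this a with rfl | rfl <;> rcases this b with rfl | rfl <;> simp [chi2, e]

theorem exists_chi2 {c : ℂ} (h : c * c = 1) : ∃ a, chi2 a = c := by
  rcases mul_self_eq_one_iff.1 h with rfl | rfl
  · exact ⟨0, by simp [chi2]⟩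
  · exact ⟨1, by simp [chi2]⟩

namespace HD
variable {R V : Type*} [CommRing R] [AddCommGroup V] [Module R V] {D : HD R V}
namespace Hyp
variable {s0 s s' : V} (H : D.Hyp s0 s s') [Finite R] [Finite V]
include H

theorem exists_w1 {lam : Equiv.Perm V × ℤˣ → ℂ}
    (hm : ∀ a ∈ H.Qg, ∀ b ∈ H.Qg, lam (a * b) = lam a * lam b) (hZ : ∀ z ∈ H.Zg, lam z = 1) :
    ∃ w1 ∈ D.WW s s', ∀ q ∈ H.Qg, ∀ w ∈ D.WW s s', ∀ z, (∀ v, q.1 v = D.E s w z v) →
      lam q = chi2 (D.τ (D.h w w1)) := by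
  let W0 : AddSubgroup V :=
    { carrier := {w | w ∈ D.WW s s' ∧ D.h s0 w = 0}
      add_mem' := fun ha hb => ⟨Submodule.add_mem _ ha.1 hb.1, by
        rw [h_add_right, ha.2, hb.2, add_zero]⟩
      zero_mem' := ⟨Submodule.zero_mem _, D.h_zero_right _⟩
      neg_mem' := fun {a} ha => by
        rwa [neg_eq_of_add_eq_zero_left (D.vadd_self a)] }
  have hu : ∀ w : W0, ∃ q ∈ H.Qg, ∃ z, ∀ v, q.1 v = D.E s w z v := fun w => by
    obtain ⟨z, hz⟩ := H.simple.exists_par (w : V)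
    obtain ⟨q, hq, h⟩ := H.exists_E w.2.1 w.2.2 hz
    exact ⟨q, hq, z, h⟩
  choose u hu zu hzu using hu
  have key : ∀ q ∈ H.Qg, ∀ (w : W0) z, (∀ v, q.1 v = D.E s w z v) → lam q = lam (u w) := by
    intro q hq w z h
    have h1 := H.sq_mem_Z _ (hu w)
    have h2 : u w * q ∈ H.Zg := H.mem_Z_of (Subgroup.mul_mem _ (hu w) hq)
      (z := zu w + z + D.h w w) fun v => by
        rw [mul_ap, h, hzu, E_comp H.ss w.2.1.1 w.2.1.1, D.vadd_self]
    have h3 := hZ _ h1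
    have h4 := hZ _ h2
    rw [hm _ (hu w) _ (hu w)] at h3
    rw [hm _ (hu w) _ hq] at h4
    linear_combination lam (u w) * h4 - lam q * h3
  have hg : ∀ w : W0, ∃ a, chi2 a = lam (u w) := fun w => exists_chi2 (by
    rw [← hm _ (hu w) _ (hu w), hZ _ (H.sq_mem_Z _ (hu w))])
  choose g hg using hg
  obtain ⟨w1, hw1⟩ := D.exists_dualV (P := W0) (fun a => Subtype.ext (D.vadd_self _)) W0.subtype
    (AddMonoidHom.mk' g fun a b => chi2_inj (by
      rw [chi2_add, hg, hg, hg, ← hm _ (hu a) _ (hu b)]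
      refine (key _ (Subgroup.mul_mem _ (hu a) (hu b)) (a + b) (zu a + zu b + D.h b a) fun v => ?_).symm
      rw [mul_ap, hzu, hzu, E_comp H.ss a.2.1.1 b.2.1.1]; rfl))
    (fun p hp => by
      have : p = 0 := Subtype.ext hp
      rw [this, map_zero])
  refine ⟨D.pp s s' w1, H.proj.mem _, fun q hq w hw z h => ?_⟩
  obtain ⟨-, w', z', h1, h2, -, h4⟩ := id hq
  obtain ⟨rfl, -⟩ := H.E_inj hw h1 ((h s').symm.trans (h4 s'))
  rw [H.proj.h_right _ hw, key q hq ⟨w, hw, h2⟩ z h, ← hg]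
  exact congrArg chi2 (hw1 ⟨w, hw, h2⟩).symm

theorem stab_iff {lam : Equiv.Perm V × ℤˣ → ℂ} {w1 : V}
    (hw1 : ∀ q ∈ H.Qg, ∀ w ∈ D.WW s s', ∀ z, (∀ v, q.1 v = D.E s w z v) →
      lam q = chi2 (D.τ (D.h w w1))) {l : Equiv.Perm V × ℤˣ} (hl : l ∈ D.St s0 s ⊓ D.St s0 s')
    {r : R} (hr : l.1 s = r • s) : l ∈ stabS _ _ H.norm_Q lam ↔
      ∀ w ∈ D.WW s s', D.h s0 w = 0 → D.h w (l.1 w1 + r • w1) = 0 := by
  have hl' := Subgroup.inv_mem _ hl
  obtain ⟨-, ρ, hρ⟩ := hl'.1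
  have hm := hl.1.1
  have e : D.sg l.2 ρ * r = 1 := H.smul_inj (by
    rw [← smul_smul, ← hr, ← M_smul hm, ← hρ, ap_inv, one_smul])
  have e' : D.σ (D.sg l.2 ρ) * D.σ r = 1 := by rw [← map_mul, e, map_one]
  have key : ∀ q ∈ H.Qg, ∀ w ∈ D.WW s s', ∀ z, (∀ v, q.1 v = D.E s w z v) →
      lam (l⁻¹ * q * l) = chi2 (D.τ (D.σ (D.sg l.2 ρ) * D.h w (l.1 w1))) := by
    intro q hq w hw z h
    rw [hw1 _ (H.norm_Q l hl q hq) _ (Submodule.smul_mem _ _ (H.L_mem hl' hw)) _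
      (H.conj_ap hm hρ h), D.h_smul, ← D.τ_sg l.2, map_mul, ← M_h hm, ap_inv, sg_σ]
  constructor
  · rintro ⟨-, h⟩ w hw h0
    have : D.σ (D.sg l.2 ρ) * D.h w (l.1 w1) = D.h w w1 := D.τ_ext fun t => by
      have hw' := Submodule.smul_mem _ t hw
      obtain ⟨z, hz⟩ := H.simple.exists_par (t • w)
      obtain ⟨q, hq, h1⟩ := H.exists_E hw' (by rw [h_smul_right, h0, mul_zero]) hz
      have := chi2_inj (((key q hq _ hw' z h1).symm.trans (h q hq)).trans (hw1 q hq _ hw' z h1))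
      rwa [D.h_smul, D.h_smul, mul_left_comm] at this
    rw [h_add_right, h_smul_right, ← this]
    linear_combination (D.h w (l.1 w1)) * e' + D.add_self (D.h w (l.1 w1))
  · intro h
    refine ⟨hl, fun q hq => ?_⟩
    obtain ⟨-, w, z, h1, h2, -, h4⟩ := id hq
    have := h w h1 h2
    rw [h_add_right, h_smul_right] at this
    rw [key q hq w h1 z h4, hw1 q hq w h1 z h4, D.eq_of_add this, ← mul_assoc, e', one_mul]

omit [Finite R] in
theorem perp0 {y : V} (hy : y ∈ D.WW s s') (h : ∀ w ∈ D.WW s s', D.h s0 w = 0 → D.h w y = 0) :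
    ∃ c : R, y = c • s0 := by
  by_cases h0 : s0 = 0
  · refine ⟨0, ?_⟩
    rw [zero_smul]
    exact H.proj.nd y hy fun w hw => D.h_eq_zero_comm (h w hw (by rw [h0, h_zero_left]))
  have ht := H.adm.triv H.simple h0
  obtain ⟨u, hu⟩ := D.exists_dualV (P := R) D.add_self (LinearMap.toSpanSingleton R V s0).toAddMonoidHom
    D.τ (fun a ha => by rw [H.adm.free H.simple h0 a ha, map_zero])
  have h1 : D.h s0 u = 1 := D.τ_ext fun x => by rw [← D.h_smul, mul_one]; exact hu x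
  have h2 : D.h s0 (D.pp s s' u) = 1 := by rw [H.proj.h_right _ H.s0_mem, h1]
  refine ⟨D.h (D.pp s s' u) y, D.veq_of_add (H.proj.nd _
    (Submodule.add_mem _ hy (Submodule.smul_mem _ _ H.s0_mem)) fun w hw => D.h_eq_zero_comm ?_)⟩
  have := h (w + D.h s0 w • D.pp s s' u)
    (Submodule.add_mem _ hw (Submodule.smul_mem _ _ (H.proj.mem _)))
    (by rw [h_add_right, h_smul_right, h2, ht, mul_one, D.add_self])
  rw [D.h_add, D.h_smul] at this
  rw [h_add_right, h_smul_right, ht, D.h_symm s0 w, ht, mul_comm]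
  exact this

/-- The plane case: `w1` is not orthogonal to `s0`. -/
theorem good_stab_plane {lam : Equiv.Perm V × ℤˣ → ℂ} {w1 : V} (hW : w1 ∈ D.WW s s')
    (hw1 : ∀ q ∈ H.Qg, ∀ w ∈ D.WW s s', ∀ z, (∀ v, q.1 v = D.E s w z v) →
      lam q = chi2 (D.τ (D.h w w1))) (hk : D.h w1 s0 ≠ 0)
    (IH : ∀ (W : Submodule R V) (p : V →ₗ[R] V) (hp : D.Proj W p), s ∉ W → ∀ w0 : W,
      hp.res.Adm w0 → Good (sn W) (hp.res.M w0)) : Good (sn V) (stabS _ _ H.norm_Q lam) := by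
  have h0 : s0 ≠ 0 := fun e => hk (by rw [e, h_zero_right])
  have ht := H.adm.triv H.simple h0
  have hs := h_self_of_triv ht
  have hsg : ∀ ε r, D.sg ε r = r := fun ε r => D.sg_of_symm ε (ht r)
  have hsy : ∀ x y, D.h x y = D.h y x := fun x y => by rw [D.h_symm, ht]
  obtain ⟨i, -, hi⟩ := H.simple.unit hk (ht _)
  haveI : Nontrivial R := ⟨⟨_, _, hk⟩⟩
  obtain ⟨a, ha⟩ : ∃ a, a = i • w1 := ⟨_, rfl⟩
  have haW : a ∈ D.WW s s' := ha ▸ Submodule.smul_mem _ _ hW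
  have hab : D.h a s0 = 1 := by rw [ha, D.h_smul, hi]
  have hp2 := proj_pp hab (hs a) (hs s0)
  have m2 : ∀ w ∈ D.WW s s', D.pp a s0 w ∈ D.WW s s' := fun w hw =>
    Submodule.add_mem _ (Submodule.add_mem _ hw (Submodule.smul_mem _ _ haW))
      (Submodule.smul_mem _ _ H.s0_mem)
  have hp : D.Proj (D.WW s s' ⊓ D.WW a s0) ((D.pp a s0).comp (D.pp s s')) := by
    refine ⟨fun v => ⟨m2 _ (H.proj.mem v), hp2.mem _⟩, fun w hw => ?_, fun v w hw => ?_⟩
    · rw [LinearMap.comp_apply, H.proj.fix w hw.1, hp2.fix w hw.2]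
    · rw [LinearMap.comp_apply, D.h_add, hp2.h_left _ hw.2, H.proj.h_left _ hw.1, D.add_self]
  have key : ∀ l ∈ stabS _ _ H.norm_Q lam, l.1 s = s ∧ l.1 s' = s' ∧ ∃ c : R, l.1 a = a + c • s0 := by
    intro l hl
    obtain ⟨⟨hm, r, hr⟩, -, r', hr'⟩ := id hl.1
    obtain ⟨c, hc⟩ := H.perp0 (Submodule.add_mem _ (H.L_mem hl.1 hW) (Submodule.smul_mem _ r hW))
      ((H.stab_iff hw1 hl.1 hr).1 hl)
    have e1 : r = 1 := by
      have := congrArg (fun v => D.h v s0) hc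
      simp only [D.h_add, D.h_smul, hs, mul_zero] at this
      have e := M_h hm w1 s0
      rw [M_s0 hm, hsg] at e
      rw [e] at this
      linear_combination i * this - (1 + r) * hi - D.two
    have e2 : r' = 1 := by
      have := H.rr hm hr hr'
      rwa [e1, ht, one_mul] at this
    rw [e1, one_smul] at hr hc
    rw [e2, one_smul] at hr'
    refine ⟨hr, hr', i * c, ?_⟩
    rw [ha, M_smul hm, hsg, mul_smul, ← hc, smul_add, add_comm (i • l.1 w1), ← add_assoc,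
      D.vadd_self, zero_add]
  have p0 : (D.pp a s0).comp (D.pp s s') s0 = 0 := by
    rw [LinearMap.comp_apply, H.p_s0, pp_ap, hs, hsy, hab, zero_smul, add_zero, one_smul,
      D.vadd_self]
  refine hp.good_split (fun x hx => hx.1.1.1) ?_ ?_ (good_img_sq ?_) (IH _ _ hp ?_ _ ?_)
  · intro l hl v
    obtain ⟨-, -, c, hc⟩ := key l hl
    have hm := hl.1.1.1
    rw [LinearMap.comp_apply, LinearMap.comp_apply, ← H.L_comm hl.1]
    generalize D.pp s s' v = u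
    have e1 := M_h hm u s0
    have e2 := M_h hm u a
    rw [M_s0 hm, hsg] at e1
    rw [hc, hsg, h_add_right, D.h_smul_right c, ht, e1] at e2
    rw [pp_ap, pp_ap, M_add hm, M_add hm, M_smul hm, M_smul hm, hsg, hsg, hc, M_s0 hm, e1, ← e2]
    linear_combination (norm := module) D.vadd_self ((c * D.h u s0) • s0)
  · intro x hx m hm m2 m1 _
    obtain ⟨h1, h2, c, hc⟩ := key x hx
    have k1 : m.1 s = x.1 s := m1 s (by rw [LinearMap.comp_apply, H.p_s, map_zero])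
    have k2 : m.1 s' = x.1 s' := m1 s' (by rw [LinearMap.comp_apply, H.p_s', map_zero])
    have k3 : m.1 w1 = x.1 w1 := m1 w1 (by
      have : w1 = D.h w1 s0 • a := by rw [ha, smul_smul, mul_comm, hi, one_smul]
      rw [LinearMap.comp_apply, H.proj.fix _ hW, this, map_smul, pp_ap, hab, hs, one_smul,
        D.vadd_self, zero_smul, add_zero, smul_zero])
    have hmL := H.mem_L hm hx.1 k1 k2
    rw [H.stab_iff hw1 hmL (r := 1) (by rw [k1, h1, one_smul]), k3]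
    exact (H.stab_iff hw1 hx.1 (r := 1) (by rw [h1, one_smul])).1 hx
  · intro l hl v hv
    obtain ⟨h1, h2, c, hc⟩ := key l hl
    have hm := hl.1.1.1
    have hv : D.pp a s0 (D.pp s s' v) = 0 := hv
    have e : v = D.h (D.pp s s' v) s0 • a + D.h (D.pp s s' v) a • s0 + D.h v s' • s +
        D.h v s • s' := by
      conv_lhs => rw [eq_pp (D := D) s s' v, eq_pp (D := D) a s0 (D.pp s s' v), hv, zero_add]
    rw [e]
    simp only [M_add hm, M_smul hm, hsg, h1, h2, hc, M_s0 hm]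
    linear_combination (norm := module) D.vadd_self ((D.h (D.pp s s' v) s0 * c) • s0)
  · exact fun h => H.not_mem h.1
  · have : (⟨(D.pp a s0).comp (D.pp s s') s0, hp.mem _⟩ : ↥(D.WW s s' ⊓ D.WW a s0)) = 0 :=
      Subtype.ext p0
    rw [this]; exact adm_zero _

/-- The case where `w1` is orthogonal to `s0`. -/
theorem good_stab_perp {lam : Equiv.Perm V × ℤˣ → ℂ} {w1 : V} (hW : w1 ∈ D.WW s s')
    (hw1 : ∀ q ∈ H.Qg, ∀ w ∈ D.WW s s', ∀ z, (∀ v, q.1 v = D.E s w z v) →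
      lam q = chi2 (D.τ (D.h w w1))) (hk : D.h s0 w1 = 0) (hsg : s0 = 0 ∨ D.Sing w1)
    (IH : Good (sn _) (H.proj.res.M ⟨s0, H.s0_mem⟩))
    (IH' : Free R w1 → Good (sn _) (H.proj.res.St ⟨s0, H.s0_mem⟩ ⟨w1, hW⟩)) :
    Good (sn V) (stabS _ _ H.norm_Q lam) := by
  have e0 : (⟨D.pp s s' s0, H.proj.mem _⟩ : D.WW s s') = ⟨s0, H.s0_mem⟩ := Subtype.ext H.p_s0
  have key : ∀ l ∈ D.St s0 s ⊓ D.St s0 s', ∀ r : R, l.1 s = r • s →
      (l ∈ stabS _ _ H.norm_Q lam ↔ l.1 w1 = r • w1) := by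
    intro l hl r hr
    rw [H.stab_iff hw1 hl hr]
    refine ⟨fun h => ?_, fun h w _ _ => by rw [h, D.vadd_self, h_zero_right]⟩
    obtain ⟨c, hc⟩ := H.perp0 (Submodule.add_mem _ (H.L_mem hl hW) (Submodule.smul_mem _ r hW)) h
    refine D.veq_of_add (hc.trans ?_)
    rcases hsg with h0 | h0
    · rw [h0, smul_zero]
    · refine H.adm.2 c ?_
      have e : l.1 w1 = r • w1 + c • s0 := by rw [← hc, add_comm, add_assoc, D.vadd_self, add_zero]
      have := (h0.map hl.1.1).par.add (h0.smul r).par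
      rw [hc, D.h_smul, e, h_add_right, h_smul_right, h_smul_right, h0.h_self,
        D.h_eq_zero_comm hk] at this
      exact Par.sing (by simpa using this)
  by_cases h1 : w1 = 0
  · refine H.good_Lsub (fun x hx => hx.1) (fun x hx m hm _ _ => ?_) (e0 ▸ IH)
    obtain ⟨r, hr⟩ := hm.1.2
    rw [key m hm r hr, h1, M_zero hm.1.1, smul_zero]
  by_cases hf : Free R w1
  swap
  · refine good_of_no_neg fun l hl => (sgn_or (sn V) l).resolve_right fun hn => hf ?_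
    obtain ⟨⟨hm, r, hr⟩, -, r', hr'⟩ := id hl.1
    have e := (key l hl.1 r hr).1 hl
    refine H.simple.free h1 fun a ha => ?_
    have := M_smul hm a w1
    have hn : l.2 = -1 := hn
    rw [ha, M_zero hm, hn, sg_neg, e, smul_smul] at this
    rw [← one_smul R w1, ← H.rr hm hr hr', smul_smul, ← mul_assoc, mul_comm _ (D.σ r'), mul_smul,
      ← this, smul_zero]
  have hWm : ∀ l ∈ stabS _ _ H.norm_Q lam, ∀ v ∈ D.WW s s', l.1 v ∈ D.WW s s' :=
    fun l hl v hv => H.L_mem hl.1 hv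
  refine Good.of_inj (rs (D.WW s s')) (fun l hl => ?_) (fun x hx y hy => rs_mul (hWm x hx) (hWm y hy))
    (fun _ _ => rfl) (fun x hx y hy e => ?_) ?_ (IH' hf)
  · obtain ⟨r, hr⟩ := hl.1.1.2
    refine ⟨e0 ▸ H.proj.rs_mem hl.1.1.1 (H.L_comm hl.1), r, Subtype.ext ?_⟩
    rw [rs_ap (hWm l hl)]
    exact (key l hl.1 r hr).1 hl
  · have e2 : x.2 = y.2 := congrArg (fun a : Equiv.Perm (D.WW s s') × ℤˣ => a.2) e
    have e1 : ∀ w ∈ D.WW s s', x.1 w = y.1 w := fun w hw => by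
      have := rs_ap (hWm x hx) ⟨w, hw⟩
      rw [e, rs_ap (hWm y hy)] at this
      exact this.symm
    obtain ⟨⟨hm, r, hr⟩, -, r', hr'⟩ := id hx.1
    obtain ⟨⟨hm', t, ht⟩, -, t', ht'⟩ := id hy.1
    have k1 : r = t := D.eq_of_add (hf _ (by
      rw [add_smul, ← (key x hx.1 r hr).1 hx, ← (key y hy.1 t ht).1 hy, e1 _ hW, D.vadd_self]))
    have k2 : r' = t' := by
      have a1 := H.rr hm hr hr'
      have a2 := H.rr hm' ht ht'
      rw [← D.σσ r', ← D.σσ t']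
      congr 1
      linear_combination D.σ t' * a1 - D.σ r' * a2 - D.σ r' * D.σ t' * k1
    refine ext' e2 fun v => ?_
    rw [eq_pp (D := D) s s' v]
    simp only [M_add hm, M_add hm', M_smul hm, M_smul hm', hr, hr', ht, ht', k1, k2, e2,
      e1 _ (H.proj.mem v)]
  · rintro g ⟨hg, r, hr⟩
    obtain ⟨-, ρ, hρ⟩ := Subgroup.inv_mem (H.proj.res.St ⟨s0, H.s0_mem⟩ ⟨w1, hW⟩) ⟨hg, r, hr⟩
    have e : D.sg g.2 ρ * r = 1 := by
      have : (D.sg g.2 ρ * r) • (⟨w1, hW⟩ : D.WW s s') = ⟨w1, hW⟩ := by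
        rw [← smul_smul, ← hr, ← H.proj.res_sg, ← M_smul hg, ← hρ, ap_inv]
      have h2 : (D.sg g.2 ρ * r) • w1 = w1 := congrArg Subtype.val this
      exact D.eq_of_add (hf _ (by rw [add_smul, h2, one_smul, D.vadd_self]))
    set r' := D.σ (D.sg g.2 ρ) with hr'
    have e' : r * D.σ r' = 1 := by rw [hr', D.σσ, mul_comm, e]
    obtain ⟨m, hm, m2, m1⟩ := H.proj.glue (s0 := s0) g.2
      (fun v => (D.sg g.2 (D.h v s') * r) • s + (D.sg g.2 (D.h v s) * r') • s')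
      (fun u v => by simp only [D.h_add, map_add]; module)
      (fun a v => by simp only [D.h_smul, map_mul]; module)
      (fun v => by simp only [map_add, map_smul, H.p_s, H.p_s', smul_zero, add_zero])
      (fun v => by
        have : v + D.pp s s' v = D.h v s' • s + D.h v s • s' := by
          rw [pp_ap, ← add_assoc, ← add_assoc, D.vadd_self, zero_add]
        rw [this, D.Q_add, D.Q_add, H.sing, H.sing, H.sing', H.sing', D.h_smul, D.h_smul,
          h_smul_right, h_smul_right, H.one, ← D.τ_sg g.2 (D.h v s' * _)]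
        simp only [map_mul, map_one, sg_σ]
        congr 2
        linear_combination (D.sg g.2 (D.h v s') * D.σ (D.sg g.2 (D.h v s))) * e')
      (by rw [H.o, H.o', H.p_s0, D.vadd_self]; simp) (e0 ▸ hg) rfl
    have z0 : ∀ v (hv : D.pp s s' v = 0), g.1 ⟨D.pp s s' v, H.proj.mem _⟩ = 0 := fun v hv => by
      rw [show (⟨D.pp s s' v, H.proj.mem _⟩ : D.WW s s') = 0 from Subtype.ext hv, M_zero hg]
    have k1 : m.1 s = r • s := by rw [m1, z0 s H.p_s, H.one, H.ss]; simp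
    have k2 : m.1 s' = r' • s' := by rw [m1, z0 s' H.p_s', H.one', H.ss']; simp
    have k3 : ∀ w : D.WW s s', m.1 w = g.1 w := fun w => by
      rw [m1, w.2.1, w.2.2, show (⟨D.pp s s' w, H.proj.mem _⟩ : D.WW s s') = w from
        Subtype.ext (H.proj.fix _ w.2)]; simp
    have hmL : m ∈ D.St s0 s ⊓ D.St s0 s' := ⟨⟨hm, r, k1⟩, hm, r', k2⟩
    have hmX : m ∈ stabS _ _ H.norm_Q lam := by
      rw [key m hmL r k1, k3 ⟨w1, hW⟩, hr]; rfl
    exact ⟨m, hmX, ext' m2 fun v => Subtype.ext (by rw [rs_ap (hWm m hmX), k3])⟩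

theorem good_stab {lam : Equiv.Perm V × ℤˣ → ℂ}
    (hm : ∀ a ∈ H.Qg, ∀ b ∈ H.Qg, lam (a * b) = lam a * lam b) (hZ : ∀ z ∈ H.Zg, lam z = 1)
    (IH : ∀ (W : Submodule R V) (p : V →ₗ[R] V) (hp : D.Proj W p), s ∉ W → ∀ w0 : W,
      hp.res.Adm w0 → Good (sn W) (hp.res.M w0))
    (IH' : ∀ (W : Submodule R V) (p : V →ₗ[R] V) (hp : D.Proj W p), s ∉ W → ∀ w0 w : W,
      hp.res.Adm w0 → Free R w → hp.res.h w0 w = 0 → (w0 = 0 ∨ hp.res.Sing w) →
      Good (sn W) (hp.res.St w0 w)) [Nontrivial R] : Good (sn V) (stabS _ _ H.norm_Q lam) := by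
  obtain ⟨w1, hW, hw1⟩ := H.exists_w1 hm hZ
  by_cases hk : D.h w1 s0 = 0
  swap
  · exact H.good_stab_plane hW hw1 hk IH
  have hk := D.h_eq_zero_comm hk
  have ha : H.proj.res.Adm ⟨s0, H.s0_mem⟩ := H.proj.res_adm H.adm
  by_cases h0 : s0 = 0
  · exact H.good_stab_perp hW hw1 hk (Or.inl h0) (IH _ _ H.proj H.not_mem _ ha) fun hf =>
      IH' _ _ H.proj H.not_mem _ _ ha (Proj.res_free hf) hk (Or.inl (Subtype.ext h0))
  have ht := H.adm.triv H.simple h0
  obtain ⟨z1, h1⟩ := H.simple.exists_par w1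
  obtain ⟨z0, h2⟩ := H.simple.exists_par s0
  have hz0 : z0 ≠ 0 := fun e => h0 (by
    have := H.adm.2 1 (Sing.smul (Par.sing (e ▸ h2)) 1)
    rwa [one_smul] at this)
  obtain ⟨i, -, hi⟩ := H.simple.unit hz0 (ht _)
  obtain ⟨c, hc⟩ := D.exists_sqrt (i * z1)
  have hs : D.Sing (w1 + c • s0) := by
    have := h1.add (h2.smul c)
    rw [D.h_smul, hk, ht, hc, show z1 + i * z1 * z0 + c * 0 = 0 by
      linear_combination z1 * hi + D.add_self z1] at this
    exact this.sing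
  have hW' : w1 + c • s0 ∈ D.WW s s' := Submodule.add_mem _ hW (Submodule.smul_mem _ _ H.s0_mem)
  have hk' : D.h s0 (w1 + c • s0) = 0 := by
    rw [h_add_right, h_smul_right, hk, h_self_of_triv ht, mul_zero, add_zero]
  refine H.good_stab_perp hW' (fun q hq w hw z h => ?_) hk' (Or.inr hs)
    (IH _ _ H.proj H.not_mem _ ha) fun hf =>
      IH' _ _ H.proj H.not_mem _ _ ha (Proj.res_free hf) hk' (Or.inr hs)
  obtain ⟨-, w', z', k1, k2, -, k4⟩ := id hq
  obtain ⟨rfl, -⟩ := H.E_inj hw k1 ((h s').symm.trans (k4 s'))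
  rw [hw1 q hq w hw z h, h_add_right, h_smul_right, D.h_eq_zero_comm k2, mul_zero, add_zero]

end Hyp
end HD
end CL.Fs
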