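/-
Irreducible matrix representations of groups of Heisenberg type.
-/
import Cfsg.Agent.KSG.FsGood

namespace CL.Fs
open Finset Matrix

variable {G : Type*} [Group G]

/-- An irreducible matrix representation of `Q` over the nondegenerate central character `μ`. -/
structure Hs (Q Z : Subgroup G) (μ : G → ℂ) {ι : Type} [Fintype ι] [DecidableEq ι]
    (θ : G → Matrix ι ι ℂ) : Prop where
  ne : Nonempty ι
  ZQ : Z ≤ Q
  comm : ∀ a ∈ Q, ∀ b ∈ Q, a * b * a⁻¹ * b⁻¹ ∈ Z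
  nd : ∀ a ∈ Q, (∀ b ∈ Q, μ (a * b * a⁻¹ * b⁻¹) = 1) → a ∈ Z
  one : θ 1 = 1
  mul : ∀ a ∈ Q, ∀ b ∈ Q, θ (a * b) = θ a * θ b
  cen : ∀ z ∈ Z, θ z = μ z • 1
  schur : ∀ A : Matrix ι ι ℂ, (∀ x ∈ Q, A * θ x = θ x * A) → ∃ a : ℂ, A = a • 1

theorem sum_fin_mul [Finite G] {M : Type*} [AddCommMonoid M] {Q : Subgroup G} {b : G} (hb : b ∈ Q)
    (F : G → M) : ∑ x ∈ fin Q, F (b * x) = ∑ x ∈ fin Q, F x := by
  refine sum_bij' (fun x _ => b * x) (fun x _ => b⁻¹ * x) ?_ ?_ ?_ ?_ ?_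
  · intro x hx; exact mem_fin.2 (Q.mul_mem hb (mem_fin.1 hx))
  · intro x hx; exact mem_fin.2 (Q.mul_mem (Q.inv_mem hb) (mem_fin.1 hx))
  · intro x _; simp
  · intro x _; simp
  · intro x _; rfl

theorem sum_fin_conj [Finite G] {M : Type*} [AddCommMonoid M] {L Q : Subgroup G}
    (hnorm : ∀ l ∈ L, ∀ q ∈ Q, l⁻¹ * q * l ∈ Q) {g : G} (hg : g ∈ L)
    (F : G → M) : ∑ x ∈ fin Q, F (g⁻¹ * x * g) = ∑ x ∈ fin Q, F x := by
  refine sum_bij' (fun x _ => g⁻¹ * x * g) (fun x _ => g * x * g⁻¹) ?_ ?_ ?_ ?_ ?_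
  · intro x hx; exact mem_fin.2 (hnorm g hg x (mem_fin.1 hx))
  · intro x hx
    have := hnorm _ (L.inv_mem hg) x (mem_fin.1 hx)
    rw [inv_inv] at this
    exact mem_fin.2 this
  · intro x _; group
  · intro x _; group
  · intro x _; rfl

namespace Hs
variable {Q Z : Subgroup G} {μ : G → ℂ} {ι : Type} [Fintype ι] [DecidableEq ι]
  {θ : G → Matrix ι ι ℂ}

theorem mul_inv (h : Hs Q Z μ θ) {a : G} (ha : a ∈ Q) : θ a * θ a⁻¹ = 1 := by
  rw [← h.mul a ha _ (Q.inv_mem ha), mul_inv_cancel, h.one]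

theorem inv_mul (h : Hs Q Z μ θ) {a : G} (ha : a ∈ Q) : θ a⁻¹ * θ a = 1 := by
  rw [← h.mul _ (Q.inv_mem ha) a ha, inv_mul_cancel, h.one]

theorem card_ne (h : Hs Q Z μ θ) : (Fintype.card ι : ℂ) ≠ 0 := by
  have := h.ne
  exact_mod_cast Fintype.card_ne_zero

theorem smul_one_inj (h : Hs Q Z μ θ) {a b : ℂ} (e : a • (1 : Matrix ι ι ℂ) = b • 1) : a = b := by
  have := congrArg trace e
  rw [trace_smul, trace_smul, trace_one, smul_eq_mul, smul_eq_mul] at this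
  exact mul_right_cancel₀ h.card_ne this

theorem mu_mul (h : Hs Q Z μ θ) {a b : G} (ha : a ∈ Z) (hb : b ∈ Z) : μ (a * b) = μ a * μ b := by
  refine h.smul_one_inj ?_
  rw [← h.cen _ (Z.mul_mem ha hb), h.mul a (h.ZQ ha) b (h.ZQ hb), h.cen a ha, h.cen b hb,
    smul_mul_smul_comm, one_mul]

theorem mu_one (h : Hs Q Z μ θ) : μ 1 = 1 := by
  refine h.smul_one_inj ?_
  rw [← h.cen _ Z.one_mem, h.one, one_smul]

theorem mu_inv (h : Hs Q Z μ θ) {a : G} (ha : a ∈ Z) : μ a * μ a⁻¹ = 1 := by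
  rw [← h.mu_mul ha (Z.inv_mem ha), mul_inv_cancel, h.mu_one]

theorem tr0 (h : Hs Q Z μ θ) {x : G} (hx : x ∈ Q) (hZ : x ∉ Z) : trace (θ x) = 0 := by
  have : ¬ ∀ b ∈ Q, μ (x * b * x⁻¹ * b⁻¹) = 1 := fun e => hZ (h.nd x hx e)
  push Not at this
  obtain ⟨b, hb, h1⟩ := this
  have h2 := h.comm x hx b hb
  have e : θ x = μ (x * b * x⁻¹ * b⁻¹) • (θ b * θ x * θ b⁻¹) := by
    rw [← h.mul b hb x hx, ← h.mul _ (Q.mul_mem hb hx) _ (Q.inv_mem hb), ← one_mul (θ (b * x * b⁻¹)),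
      ← smul_mul_assoc, ← h.cen _ h2,
      ← h.mul _ (h.ZQ h2) _ (Q.mul_mem (Q.mul_mem hb hx) (Q.inv_mem hb))]
    congr 1; group
  have e2 := congrArg trace e
  rw [trace_smul, trace_mul_cycle, h.inv_mul hb, one_mul, smul_eq_mul] at e2
  have : (1 - μ (x * b * x⁻¹ * b⁻¹)) * trace (θ x) = 0 := by rw [sub_mul, one_mul, ← e2, sub_self]
  exact (mul_eq_zero.1 this).resolve_left (sub_ne_zero.2 h1.symm)

theorem trZ (h : Hs Q Z μ θ) {z : G} (hz : z ∈ Z) : trace (θ z) = μ z * Fintype.card ι := by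
  rw [h.cen z hz, trace_smul, trace_one, smul_eq_mul]

variable [Finite G]

theorem avg0 (h : Hs Q Z μ θ) (A : Matrix ι ι ℂ) :
    ∑ x ∈ fin Q, θ x * A * θ x⁻¹ = (((fin Q).card : ℂ) / Fintype.card ι * trace A) • 1 := by
  obtain ⟨a, ha⟩ := h.schur (∑ x ∈ fin Q, θ x * A * θ x⁻¹) fun b hb => by
    rw [sum_mul, mul_sum, ← sum_fin_mul hb]
    refine sum_congr rfl fun x hx => ?_
    have hx := mem_fin.1 hx
    rw [h.mul b hb x hx, _root_.mul_inv_rev, h.mul _ (Q.inv_mem hx) _ (Q.inv_mem hb)]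
    simp only [Matrix.mul_assoc, h.inv_mul hb, Matrix.mul_one]
  have e := congrArg trace ha
  rw [trace_sum, sum_congr rfl (g := fun _ => trace A) (fun x hx => by
    rw [trace_mul_cycle, h.inv_mul (mem_fin.1 hx), one_mul]), sum_const, trace_smul, trace_one,
    smul_eq_mul, nsmul_eq_mul] at e
  rw [ha]
  congr 1
  have := h.card_ne
  field_simp
  linear_combination -e

theorem orth0 (h : Hs Q Z μ θ) (i j k l : ι) :
    ∑ x ∈ fin Q, θ x i j * θ x⁻¹ k l =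
      if i = l ∧ j = k then ((fin Q).card : ℂ) / Fintype.card ι else 0 := by
  have e := congrFun (congrFun (h.avg0 (single j k 1)) i) l
  rw [Matrix.sum_apply] at e
  simp only [Matrix.mul_apply, single_apply, Matrix.smul_apply, one_apply, trace, Matrix.diag, smul_eq_mul,
    ite_and, mul_ite, mul_one, mul_zero, sum_ite_eq, mem_univ, if_true, ite_mul, zero_mul] at e
  rw [e]
  by_cases h1 : i = l <;> by_cases h2 : j = k <;> simp [h1, h2, eq_comm]

/-- Sums supported on `Z`. -/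
theorem sum_Z (h : Hs Q Z μ θ) {M : Type*} [AddCommMonoid M] (F : G → M)
    (hF : ∀ x ∈ Q, x ∉ Z → F x = 0) : ∑ x ∈ fin Q, F x = ∑ x ∈ fin Z, F x := by
  refine (sum_subset (fun x hx => mem_fin.2 (h.ZQ (mem_fin.1 hx))) fun x hx hZ => ?_).symm
  exact hF x (mem_fin.1 hx) fun e => hZ (mem_fin.2 e)

theorem card_eq (h : Hs Q Z μ θ) :
    (fin Q).card = Fintype.card ι * (Fintype.card ι * (fin Z).card) := by
  have e1 : ∑ x ∈ fin Q, trace (θ x) * trace (θ x⁻¹) = (fin Q).card := by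
    simp only [trace, Matrix.diag, sum_mul_sum]
    rw [sum_comm]
    rw [sum_congr rfl (g := fun _ => ((fin Q).card : ℂ) / Fintype.card ι)]
    · rw [sum_const, card_univ, nsmul_eq_mul, mul_div_cancel₀ _ h.card_ne]
    · intro i _
      rw [sum_comm]
      simp only [h.orth0, and_self, sum_ite_eq, mem_univ, if_true]
  rw [h.sum_Z _ (fun x hx hZ => by rw [h.tr0 hx hZ, zero_mul]),
    sum_congr rfl (g := fun _ => (Fintype.card ι : ℂ) * Fintype.card ι) (fun z hz => by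
      have hz := mem_fin.1 hz
      rw [h.trZ hz, h.trZ (Z.inv_mem hz)]
      linear_combination (Fintype.card ι : ℂ) * Fintype.card ι * h.mu_inv hz),
    sum_const, nsmul_eq_mul] at e1
  have : ((fin Q).card : ℂ) = Fintype.card ι * (Fintype.card ι * (fin Z).card) := by
    rw [← e1]; ring
  exact_mod_cast this

/-- The constant of the orthogonality relations. -/
noncomputable def kap (Z : Subgroup G) (ι : Type) [Fintype ι] : ℕ := Fintype.card ι * (fin Z).card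

theorem kap_pos (h : Hs Q Z μ θ) : 0 < kap Z ι := by
  have := h.ne
  exact Nat.mul_pos Fintype.card_pos (card_fin_pos Z)

theorem kap_ne (h : Hs Q Z μ θ) : (kap Z ι : ℂ) ≠ 0 := by exact_mod_cast h.kap_pos.ne'

theorem kap_eq (h : Hs Q Z μ θ) : ((fin Q).card : ℂ) / Fintype.card ι = kap Z ι := by
  rw [h.card_eq, kap, Nat.cast_mul, mul_div_cancel_left₀ _ h.card_ne]

theorem avg (h : Hs Q Z μ θ) (A : Matrix ι ι ℂ) :
    ∑ x ∈ fin Q, θ x * A * θ x⁻¹ = ((kap Z ι : ℂ) * trace A) • 1 := by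
  rw [h.avg0, h.kap_eq]

theorem orth (h : Hs Q Z μ θ) (i j k l : ι) :
    ∑ x ∈ fin Q, θ x i j * θ x⁻¹ k l = if i = l ∧ j = k then (kap Z ι : ℂ) else 0 := by
  rw [h.orth0, h.kap_eq]

theorem four (h : Hs Q Z μ θ) (A : Matrix ι ι ℂ) :
    ∑ x ∈ fin Q, trace (A * θ x⁻¹) • θ x = (kap Z ι : ℂ) • A := by
  ext i j
  rw [Matrix.sum_apply]
  simp only [Matrix.smul_apply, smul_eq_mul, trace, Matrix.diag, Matrix.mul_apply, sum_mul]
  rw [sum_comm]
  rw [sum_congr rfl (g := fun l => if i = l then (kap Z ι : ℂ) * A l j else 0)]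
  · simp
  · intro l _
    rw [sum_comm, sum_congr rfl (g := fun k => A l k * if i = l ∧ j = k then (kap Z ι : ℂ) else 0)]
    · by_cases h1 : i = l <;> simp [h1, mul_comm]
    · intro k _
      rw [← h.orth, mul_sum]
      exact sum_congr rfl fun x _ => by ring

theorem four' (h : Hs Q Z μ θ) (B : Matrix ι ι ℂ) :
    ∑ x ∈ fin Q, (θ x⁻¹)ᵀ * Bᵀ * θ x = (kap Z ι : ℂ) • B := by
  ext i j
  rw [Matrix.sum_apply]
  simp only [Matrix.smul_apply, smul_eq_mul, Matrix.mul_apply, sum_mul, transpose_apply]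
  rw [sum_comm]
  rw [sum_congr rfl (g := fun l => if l = i then (kap Z ι : ℂ) * B l j else 0)]
  · simp
  · intro l _
    rw [sum_comm, sum_congr rfl (g := fun k => B l k * if l = i ∧ j = k then (kap Z ι : ℂ) else 0)]
    · by_cases h1 : l = i <;> simp [h1, mul_comm]
    · intro k _
      rw [← h.orth, mul_sum]
      exact sum_congr rfl fun x _ => by ring

theorem ind (h : Hs Q Z μ θ) {P : Matrix ι ι ℂ → Prop} (h0 : P 0)
    (hadd : ∀ A B, P A → P B → P (A + B)) (hsm : ∀ (a : ℂ) A, P A → P (a • A))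
    (hθ : ∀ x ∈ Q, P (θ x)) (A : Matrix ι ι ℂ) : P A := by
  have : A = (kap Z ι : ℂ)⁻¹ • ∑ x ∈ fin Q, trace (A * θ x⁻¹) • θ x := by
    rw [h.four, smul_smul, inv_mul_cancel₀ h.kap_ne, one_smul]
  rw [this]
  refine hsm _ _ (sum_induction _ P hadd h0 fun x hx => hsm _ _ (hθ x (mem_fin.1 hx)))

/-- The linear extension of a map `π` on `Q`. -/
noncomputable def Th (Q Z : Subgroup G) (θ : G → Matrix ι ι ℂ) {R : Type*} [AddCommGroup R]
    [Module ℂ R] (π : G → R) : Matrix ι ι ℂ →ₗ[ℂ] R where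
  toFun A := (kap Z ι : ℂ)⁻¹ • ∑ x ∈ fin Q, trace (A * θ x⁻¹) • π x
  map_add' A B := by simp only [Matrix.add_mul, trace_add, add_smul, sum_add_distrib, smul_add]
  map_smul' a A := by
    simp only [smul_mul_assoc, trace_smul, smul_eq_mul, mul_smul, ← smul_sum, RingHom.id_apply]
    rw [smul_comm]

theorem Th_apply (h : Hs Q Z μ θ) {R : Type*} [AddCommGroup R] [Module ℂ R] {π : G → R}
    (hπ : ∀ x ∈ Q, ∀ z ∈ Z, π (x * z) = μ z • π x) {b : G} (hb : b ∈ Q) :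
    Th Q Z θ π (θ b) = π b := by
  change (kap Z ι : ℂ)⁻¹ • ∑ x ∈ fin Q, trace (θ b * θ x⁻¹) • π x = _
  rw [← sum_fin_mul hb, h.sum_Z, sum_congr rfl (g := fun _ => (Fintype.card ι : ℂ) • π b),
    sum_const, ← Nat.cast_smul_eq_nsmul ℂ, smul_smul, smul_smul, mul_assoc, mul_comm _ (Fintype.card ι : ℂ),
    ← Nat.cast_mul, ← kap, inv_mul_cancel₀ h.kap_ne, one_smul]
  · intro z hz
    have hz := mem_fin.1 hz
    have hq := h.ZQ hz
    rw [_root_.mul_inv_rev, h.mul _ (Q.inv_mem hq) _ (Q.inv_mem hb), ← Matrix.mul_assoc,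
      trace_mul_cycle, h.inv_mul hb, one_mul, h.trZ (Z.inv_mem hz), hπ b hb z hz, smul_smul]
    congr 1
    linear_combination (Fintype.card ι : ℂ) * h.mu_inv hz
  · intro x hx hZ
    rw [_root_.mul_inv_rev, h.mul _ (Q.inv_mem hx) _ (Q.inv_mem hb), ← Matrix.mul_assoc,
      trace_mul_cycle, h.inv_mul hb, one_mul, h.tr0 (Q.inv_mem hx) (fun e => hZ (by simpa using Z.inv_mem e)),
      zero_smul]

theorem Th_mul (h : Hs Q Z μ θ) {R : Type*} [Ring R] [Algebra ℂ R] {π : G → R}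
    (hπ : ∀ x ∈ Q, ∀ z ∈ Z, π (x * z) = μ z • π x)
    (hm : ∀ a ∈ Q, ∀ b ∈ Q, π (a * b) = π a * π b) (A B : Matrix ι ι ℂ) :
    Th Q Z θ π (A * B) = Th Q Z θ π A * Th Q Z θ π B := by
  refine h.ind (P := fun A => Th Q Z θ π (A * B) = Th Q Z θ π A * Th Q Z θ π B) (by simp)
    (fun A A' e e' => ?_) (fun a A e => ?_) (fun x hx => ?_) A
  · simp only [map_add, add_mul, e, e']
  · simp only [smul_mul_assoc, map_smul, e]
  · refine h.ind (P := fun B => Th Q Z θ π (θ x * B) = Th Q Z θ π (θ x) * Th Q Z θ π B) (by simp)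
      (fun A A' e e' => ?_) (fun a A e => ?_) (fun y hy => ?_) B
    · simp only [map_add, mul_add, e, e']
    · simp only [mul_smul_comm, map_smul, e]
    · rw [← h.mul x hx y hy, h.Th_apply hπ hx, h.Th_apply hπ hy, h.Th_apply hπ (Q.mul_mem hx hy),
        hm x hx y hy]

theorem unit_of_ne (h : Hs Q Z μ θ) {π : G → Matrix ι ι ℂ} {I : Matrix ι ι ℂ} (h0 : I ≠ 0)
    (hI : ∀ x ∈ Q, I * θ x = π x * I) : IsUnit I.det := by
  rw [isUnit_iff_ne_zero]
  intro hd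
  obtain ⟨v, hv, hIv⟩ := exists_mulVec_eq_zero_iff.2 hd
  have key : ∀ A : Matrix ι ι ℂ, (I * A) *ᵥ v = 0 := fun A =>
    h.ind (P := fun A => (I * A) *ᵥ v = 0) (by simp)
      (fun A A' e e' => by rw [Matrix.mul_add, add_mulVec, e, e', add_zero])
      (fun a A e => by rw [mul_smul_comm, smul_mulVec, e, smul_zero])
      (fun x hx => by rw [hI x hx, ← mulVec_mulVec, hIv, mulVec_zero]) A
  obtain ⟨k, hk⟩ := Function.ne_iff.1 hv
  refine h0 (Matrix.ext fun i j => ?_)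
  have := congrFun (key (single j k 1)) i
  rw [← mulVec_mulVec, single_mulVec] at this
  simp only [mulVec, dotProduct, Function.update_apply, one_mul, Pi.zero_apply, mul_ite, mul_zero,
    sum_ite_eq', mem_univ, if_true] at this
  exact (mul_eq_zero.1 this).resolve_right hk

theorem exists_int (h : Hs Q Z μ θ) {π : G → Matrix ι ι ℂ}
    (hm : ∀ a ∈ Q, ∀ b ∈ Q, π (a * b) = π a * π b) (hc : ∀ z ∈ Z, π z = μ z • 1) :
    ∃ I : Matrix ι ι ℂ, IsUnit I.det ∧ ∀ x ∈ Q, I * θ x = π x * I := by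
  have hI : ∀ A : Matrix ι ι ℂ, ∀ b ∈ Q, (∑ x ∈ fin Q, π x * A * θ x⁻¹) * θ b =
      π b * ∑ x ∈ fin Q, π x * A * θ x⁻¹ := fun A b hb => by
    rw [sum_mul, mul_sum, ← sum_fin_mul hb]
    refine sum_congr rfl fun x hx => ?_
    have hx := mem_fin.1 hx
    rw [hm b hb x hx, _root_.mul_inv_rev, h.mul _ (Q.inv_mem hx) _ (Q.inv_mem hb)]
    simp only [Matrix.mul_assoc, h.inv_mul hb, Matrix.mul_one]
  by_contra hn
  have h0 : ∀ A : Matrix ι ι ℂ, ∑ x ∈ fin Q, π x * A * θ x⁻¹ = 0 := fun A => by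
    by_contra e
    exact hn ⟨_, h.unit_of_ne e (hI A), hI A⟩
  have h1 : ∀ i k, ∑ x ∈ fin Q, π x i i * θ x⁻¹ k k = 0 := fun i k => by
    have e := congrFun (congrFun (h0 (single i k 1)) i) k
    rw [Matrix.sum_apply] at e
    simpa only [Matrix.mul_apply, single_apply, ite_and, mul_ite, mul_one, mul_zero, sum_ite_eq,
      mem_univ, if_true, ite_mul, zero_mul, sum_ite_eq', Matrix.zero_apply] using e
  have e1 : ∑ x ∈ fin Q, trace (π x) * trace (θ x⁻¹) = 0 := by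
    simp only [trace, Matrix.diag, sum_mul_sum]
    rw [sum_comm]
    refine sum_eq_zero fun i _ => ?_
    rw [sum_comm]
    exact sum_eq_zero fun k _ => h1 i k
  rw [h.sum_Z _ (fun x hx hZ => by
      rw [h.tr0 (Q.inv_mem hx) (fun e => hZ (by simpa using Z.inv_mem e)), mul_zero]),
    sum_congr rfl (g := fun _ => (Fintype.card ι : ℂ) * Fintype.card ι) (fun z hz => by
      have hz := mem_fin.1 hz
      rw [hc z hz, trace_smul, trace_one, smul_eq_mul, h.trZ (Z.inv_mem hz)]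
      linear_combination (Fintype.card ι : ℂ) * Fintype.card ι * h.mu_inv hz),
    sum_const, nsmul_eq_mul] at e1
  have h2 : ((fin Z).card : ℂ) ≠ 0 := by exact_mod_cast (card_fin_pos Z).ne'
  exact mul_ne_zero h2 (mul_ne_zero h.card_ne h.card_ne) e1

omit [Finite G] in
theorem uniq_int (h : Hs Q Z μ θ) {π : G → Matrix ι ι ℂ} {I I' : Matrix ι ι ℂ} (hu : IsUnit I.det)
    (hI : ∀ x ∈ Q, I * θ x = π x * I) (hI' : ∀ x ∈ Q, I' * θ x = π x * I') :
    ∃ a : ℂ, I' = a • I := by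
  obtain ⟨a, ha⟩ := h.schur (I⁻¹ * I') fun x hx => by
    have e : θ x * I⁻¹ = I⁻¹ * π x := by
      calc θ x * I⁻¹ = I⁻¹ * (I * θ x) * I⁻¹ := by
            rw [← Matrix.mul_assoc, nonsing_inv_mul _ hu, Matrix.one_mul]
        _ = I⁻¹ * π x := by
            rw [hI x hx, Matrix.mul_assoc, Matrix.mul_assoc, mul_nonsing_inv _ hu, Matrix.mul_one]
    rw [Matrix.mul_assoc, hI' x hx, ← Matrix.mul_assoc, ← e, Matrix.mul_assoc]
  refine ⟨a, ?_⟩
  rw [← Matrix.mul_one I, ← mul_smul_comm, ← ha, ← Matrix.mul_assoc, mul_nonsing_inv _ hu,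
    Matrix.one_mul]

omit [Finite G] in
theorem map (h : Hs Q Z μ θ) {ι' : Type} [Fintype ι'] [DecidableEq ι']
    (φ : Matrix ι ι ℂ ≃ₐ[ℂ] Matrix ι' ι' ℂ) : Hs Q Z μ (fun x => φ (θ x)) where
  ne := by
    by_contra hn
    rw [not_nonempty_iff] at hn
    have : (1 : Matrix ι ι ℂ) = 0 := φ.injective (Subsingleton.elim _ _)
    have e := congrArg trace this
    rw [trace_one, trace_zero] at e
    exact h.card_ne e
  ZQ := h.ZQ
  comm := h.comm
  nd := h.nd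
  one := by rw [h.one, map_one]
  mul a ha b hb := by rw [h.mul a ha b hb, map_mul]
  cen z hz := by rw [h.cen z hz, map_smul, map_one]
  schur A hA := by
    obtain ⟨a, ha⟩ := h.schur (φ.symm A) fun x hx => φ.injective (by
      rw [map_mul, map_mul, φ.apply_symm_apply, hA x hx])
    exact ⟨a, by rw [← φ.apply_symm_apply A, ha, map_smul, map_one]⟩

end Hs
end CL.Fs
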