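/-
Existence of the Heisenberg representation, the intertwiner of `c` and its odd-rank eigenspace.
-/
import Cfsg.Agent.KSG.FsHeis1

namespace CL.Fs
open Finset Matrix

variable {G : Type*} [Group G]

theorem exists_irr (Q : Subgroup G) {U : Type} [AddCommGroup U] [Module ℂ U] [FiniteDimensional ℂ U]
    [Nontrivial U] {ρ : G → Module.End ℂ U} (h1 : ρ 1 = 1)
    (hm : ∀ a ∈ Q, ∀ b ∈ Q, ρ (a * b) = ρ a * ρ b) :
    ∃ d : ℕ, ∃ θ : G → Matrix (Fin d) (Fin d) ℂ, Nonempty (Fin d) ∧ θ 1 = 1 ∧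
      (∀ a ∈ Q, ∀ b ∈ Q, θ (a * b) = θ a * θ b) ∧
      (∀ g ∈ Q, ∀ a : ℂ, ρ g = a • 1 → θ g = a • 1) ∧
      ∀ A : Matrix (Fin d) (Fin d) ℂ, (∀ x ∈ Q, A * θ x = θ x * A) → ∃ a : ℂ, A = a • 1 := by
  classical
  let S : Set (Submodule ℂ U) := {E | E ≠ ⊥ ∧ ∀ x ∈ Q, ∀ v ∈ E, ρ x v ∈ E}
  obtain ⟨E, ⟨h2, h3⟩, hmin⟩ := (wellFounded_lt (α := Submodule ℂ U)).has_min S
    ⟨⊤, top_ne_bot, fun _ _ _ _ => trivial⟩
  have : Nontrivial E := Submodule.nontrivial_iff_ne_bot.2 h2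
  let r : G → Module.End ℂ E := fun x => if h : x ∈ Q then (ρ x).restrict (h3 x h) else 0
  have hr : ∀ x ∈ Q, ∀ v : E, (r x v : U) = ρ x v := fun x hx v => by
    simp only [r, dif_pos hx, LinearMap.coe_restrict_apply]
  let φ := LinearMap.toMatrixAlgEquiv (Module.finBasis ℂ E)
  refine ⟨Module.finrank ℂ E, fun x => φ (r x), ⟨⟨0, Module.finrank_pos⟩⟩, ?_, fun a ha b hb => ?_,
    fun g hg a e => ?_, fun A hA => ?_⟩
  · have : r 1 = 1 := LinearMap.ext fun v => Subtype.ext (by rw [hr 1 Q.one_mem, h1]; rfl)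
    simp only [this, map_one]
  · have : r (a * b) = r a * r b := LinearMap.ext fun v => Subtype.ext (by
      rw [hr _ (Q.mul_mem ha hb), hm a ha b hb, Module.End.mul_apply, Module.End.mul_apply,
        hr a ha, hr b hb])
    simp only [this, map_mul]
  · have : r g = a • 1 := LinearMap.ext fun v => Subtype.ext (by rw [hr g hg, e]; rfl)
    simp only [this, map_smul, map_one]
  · set f := φ.symm A with hf
    have hc : ∀ x ∈ Q, f * r x = r x * f := fun x hx => φ.injective (by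
      rw [map_mul, map_mul, hf, φ.apply_symm_apply, hA x hx])
    obtain ⟨a, ha⟩ := Module.End.exists_eigenvalue f
    have hS : (Module.End.eigenspace f a).map E.subtype ∈ S := by
      refine ⟨fun e => ha ?_, ?_⟩
      · rwa [← LinearMap.le_ker_iff_map, Submodule.ker_subtype, le_bot_iff] at e
      · rintro x hx _ ⟨v, hv, rfl⟩
        refine ⟨r x v, Module.End.mem_eigenspace_iff.2 ?_, hr x hx v⟩
        rw [← Module.End.mul_apply, hc x hx, Module.End.mul_apply,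
          Module.End.mem_eigenspace_iff.1 hv, map_smul]
    have hE : (Module.End.eigenspace f a).map E.subtype = E :=
      eq_of_le_of_not_lt (Submodule.map_subtype_le _ _) (hmin _ hS)
    have : f = a • 1 := LinearMap.ext fun v => by
      have hv : (v : U) ∈ (Module.End.eigenspace f a).map E.subtype := by rw [hE]; exact v.2
      obtain ⟨w, hw, e⟩ := hv
      obtain rfl : w = v := Subtype.ext e
      exact Module.End.mem_eigenspace_iff.1 hw
    exact ⟨a, by rw [← φ.apply_symm_apply A, ← hf, this, map_smul, map_one]⟩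

theorem idem_basis {ι : Type} [Fintype ι] [DecidableEq ι] (p : Matrix ι ι ℂ) (hp : p * p = p) :
    ∃ n₁ n₂ : ℕ, ∃ φ : Matrix ι ι ℂ ≃ₐ[ℂ] Matrix (Fin n₁ ⊕ Fin n₂) (Fin n₁ ⊕ Fin n₂) ℂ,
      φ p = fromBlocks 1 0 0 0 ∧ trace p = n₁ := by
  set P : Module.End ℂ (ι → ℂ) := toLinAlgEquiv' p with hP
  have hPP : IsIdempotentElem P := by
    change P * P = P
    rw [hP, ← map_mul, hp]
  have hc : IsCompl (LinearMap.range P) (LinearMap.ker P) := LinearMap.IsIdempotentElem.isCompl hPP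
  let b := ((Module.finBasis ℂ (LinearMap.range P)).prod (Module.finBasis ℂ (LinearMap.ker P))).map
    (Submodule.prodEquivOfIsCompl _ _ hc)
  have b1 : ∀ i, P (b (Sum.inl i)) = b (Sum.inl i) := fun i => by
    have : b (Sum.inl i) ∈ LinearMap.range P := by simp [b]
    obtain ⟨v, hv⟩ := this
    rw [← hv, ← Module.End.mul_apply, hPP.eq]
  have b2 : ∀ i, P (b (Sum.inr i)) = 0 := fun i => by
    have : b (Sum.inr i) ∈ LinearMap.ker P := by simp [b]
    exact this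
  have e : LinearMap.toMatrix b b P = fromBlocks 1 0 0 0 := by
    ext i j
    rw [LinearMap.toMatrix_apply]
    rcases j with j | j
    · rw [b1, b.repr_self]
      rcases i with i | i <;> simp [Finsupp.single_apply, one_apply, eq_comm]
    · rw [b2]
      rcases i with i | i <;> simp
  refine ⟨_, _, toLinAlgEquiv'.trans (LinearMap.toMatrixAlgEquiv b), e, ?_⟩
  rw [← trace_toLin'_eq, show toLin' p = P from rfl, LinearMap.trace_eq_matrix_trace ℂ b, e]
  simp [trace]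

theorem not_half {a : ℂ} (ha : IsIntegral ℤ a) : 2 * a ≠ 1 := fun e => by
  have e1 : a = algebraMap ℚ ℂ (1 / 2) := by
    rw [map_div₀, map_one, map_ofNat, eq_div_iff two_ne_zero, mul_comm, e]
  rw [e1, isIntegral_algebraMap_iff (algebraMap ℚ ℂ).injective] at ha
  obtain ⟨n, hn⟩ := IsIntegrallyClosed.algebraMap_eq_of_integral ha
  have h2 : (2 * n : ℚ) = 1 := by
    have : (n : ℚ) = 1 / 2 := hn
    rw [this]; norm_num
  have h3 : 2 * n = 1 := by exact_mod_cast h2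
  omega

theorem exists_odd {ι : Type} [Fintype ι] [DecidableEq ι] {J : Matrix ι ι ℂ} {m : ℕ} (hm : 0 < m)
    (hJ : J ^ m = 1) (ht : trace J * trace (J ^ (m - 1)) = 1) :
    ∃ n₁ n₂ : ℕ, ∃ φ : Matrix ι ι ℂ ≃ₐ[ℂ] Matrix (Fin n₁ ⊕ Fin n₂) (Fin n₁ ⊕ Fin n₂) ℂ,
      Odd n₁ ∧ ∃ f : ℕ → ℂ, fromBlocks 1 0 0 0 = ∑ i ∈ range m, f i • φ J ^ i := by
  have hζ := Complex.isPrimitiveRoot_exp m hm.ne'
  set ζ := Complex.exp (2 * Real.pi * Complex.I / m)
  have hη := hζ.inv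
  have hm' : (m : ℂ) ≠ 0 := by exact_mod_cast hm.ne'
  have hζ0 : ζ ≠ 0 := hζ.ne_zero hm.ne'
  let p : ℕ → Matrix ι ι ℂ := fun k => (m : ℂ)⁻¹ • ∑ i ∈ range m, (ζ⁻¹ ^ k • J) ^ i
  have a1 : ∀ k, (ζ⁻¹ ^ k • J) * p k = p k := fun k => by
    have := mul_geom_sum (ζ⁻¹ ^ k • J) m
    rw [smul_pow, hJ, ← pow_mul, mul_comm k, pow_mul, hη.pow_eq_one, one_pow, one_smul, sub_self,
      sub_mul, one_mul, sub_eq_zero] at this
    simp only [p, mul_smul_comm, this]
  have a2 : ∀ k i, (ζ⁻¹ ^ k • J) ^ i * p k = p k := fun k i => by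
    induction i with
    | zero => simp
    | succ i ih => rw [pow_succ, mul_assoc, a1, ih]
  have a3 : ∀ k, p k * p k = p k := fun k => by
    conv_lhs => lhs; simp only [p]
    rw [smul_mul_assoc, sum_mul, sum_congr rfl (fun i _ => a2 k i), sum_const, card_range,
      ← Nat.cast_smul_eq_nsmul ℂ, smul_smul, inv_mul_cancel₀ hm', one_smul]
  have a4 : ∀ k i, J ^ i * p k = (ζ ^ k) ^ i • p k := fun k i => by
    conv_rhs => rw [← a2 k i]
    rw [smul_pow, smul_mul_assoc, smul_smul, ← mul_pow, ← mul_pow, mul_inv_cancel₀ hζ0, one_pow,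
      one_pow, one_smul]
  have a5 : ∑ k ∈ range m, p k = 1 := by
    simp only [p, ← smul_sum, smul_pow]
    rw [sum_comm]
    simp only [← sum_smul]
    rw [sum_eq_single_of_mem 0 (mem_range.2 hm)]
    · simp [smul_smul, inv_mul_cancel₀ hm']
    · intro i hi h0
      have h1 : ζ⁻¹ ^ i ≠ 1 := hη.pow_ne_one_of_pos_of_lt h0 (mem_range.1 hi)
      have := mul_geom_sum (ζ⁻¹ ^ i) m
      rw [← pow_mul, mul_comm i, pow_mul, hη.pow_eq_one, one_pow, sub_self] at this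
      have h2 := (mul_eq_zero.1 this).resolve_left (sub_ne_zero.2 h1)
      simp only [← pow_mul] at h2 ⊢
      simp only [mul_comm _ i, h2, zero_smul]
  have a6 : ∀ i, trace (J ^ i) = ∑ k ∈ range m, (ζ ^ k) ^ i * trace (p k) := fun i => by
    rw [← mul_one (J ^ i), ← a5, mul_sum, trace_sum]
    exact sum_congr rfl fun k _ => by rw [a4, trace_smul, smul_eq_mul]
  choose n₁ n₂ φ h1 h2 using fun k => idem_basis (p k) (a3 k)
  by_cases ho : ∃ k, Odd (n₁ k)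
  · obtain ⟨k, hk⟩ := ho
    refine ⟨n₁ k, n₂ k, φ k, hk, fun i => (m : ℂ)⁻¹ * (ζ⁻¹ ^ k) ^ i, ?_⟩
    rw [← h1]
    simp only [p, map_smul, map_sum, smul_pow, map_pow, smul_sum, smul_smul]
  · exfalso
    push Not at ho
    have he : ∀ k, ∃ r : ℕ, n₁ k = 2 * r := fun k => by
      obtain ⟨r, hr⟩ := Nat.not_odd_iff_even.1 (ho k)
      exact ⟨r, by omega⟩
    choose r hr using he
    have hi : IsIntegral ℤ ζ := hζ.isIntegral hm
    have i1 : IsIntegral ℤ (∑ k ∈ range m, (ζ ^ k) ^ 1 * (r k : ℂ)) :=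
      IsIntegral.sum _ fun k _ => ((hi.pow _).pow _).mul (isIntegral_natCast _)
    have i2 : IsIntegral ℤ (trace (J ^ (m - 1))) := by
      rw [a6]
      exact IsIntegral.sum _ fun k _ => ((hi.pow _).pow _).mul (h2 k ▸ isIntegral_natCast _)
    refine not_half (i1.mul i2) ?_
    rw [← ht, ← mul_assoc, ← pow_one J, a6, pow_one J, mul_sum]
    congr 1
    exact sum_congr rfl fun k _ => by rw [h2, hr]; push_cast; ring

variable [Finite G]

/-- The canonical intertwiner of `c`. -/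
noncomputable def uu (Q : Subgroup G) (c : G) {ι : Type} [Fintype ι] [DecidableEq ι]
    (θ : G → Matrix ι ι ℂ) : Matrix ι ι ℂ := ∑ x ∈ fin Q, θ (c * x * c⁻¹ * x⁻¹)

namespace Hs
variable {Q Z L : Subgroup G} {μ : G → ℂ} {ι : Type} [Fintype ι] [DecidableEq ι]
  {θ : G → Matrix ι ι ℂ}

theorem exists_odd (h : Hs Q Z μ θ) (hnorm : ∀ l ∈ L, ∀ q ∈ Q, l⁻¹ * q * l ∈ Q)
    (hZL : ∀ l ∈ L, ∀ z ∈ Z, l⁻¹ * z * l ∈ Z ∧ μ (l⁻¹ * z * l) = μ z) {c : G} (hcL : c ∈ L)
    (hfpf : ∀ a ∈ Q, c * a * c⁻¹ * a⁻¹ ∈ Z → a ∈ Z) :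
    ∃ n₁ n₂ : ℕ, ∃ θ' : G → Matrix (Fin n₁ ⊕ Fin n₂) (Fin n₁ ⊕ Fin n₂) ℂ, Hs Q Z μ θ' ∧
      Odd n₁ ∧ ∃ (m : ℕ) (f : ℕ → ℂ), fromBlocks 1 0 0 0 = ∑ i ∈ range m, f i • uu Q c θ' ^ i := by
  have hn : ∀ l ∈ L, ∀ q ∈ Q, l * q * l⁻¹ ∈ Q := fun l hl q hq => by
    simpa using hnorm _ (L.inv_mem hl) q hq
  have hz : ∀ z ∈ Z, c * z * c⁻¹ ∈ Z ∧ μ (c * z * c⁻¹) = μ z := fun z hz => by
    simpa using hZL _ (L.inv_mem hcL) z hz
  have tr1 : ∑ x ∈ fin Q, trace (θ (c * x * c⁻¹ * x⁻¹)) = kap Z ι := by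
    rw [h.sum_Z _ (fun x hx hZ => h.tr0 (Q.mul_mem (hn c hcL x hx) (Q.inv_mem hx))
      (fun e => hZ (hfpf x hx e))), sum_congr rfl (g := fun _ => (Fintype.card ι : ℂ)) (fun z hz' => by
        have hz' := mem_fin.1 hz'
        rw [h.trZ (Z.mul_mem (hz z hz').1 (Z.inv_mem hz')), h.mu_mul (hz z hz').1 (Z.inv_mem hz'),
          (hz z hz').2, h.mu_inv hz', one_mul]), sum_const, nsmul_eq_mul, kap, Nat.cast_mul, mul_comm]
  set u := uu Q c θ with hu
  have hI : ∀ b ∈ Q, u * θ b = θ (c * b * c⁻¹) * u := fun b hb => by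
    rw [hu, uu, sum_mul, mul_sum, ← sum_fin_mul hb]
    refine sum_congr rfl fun x hx => ?_
    have hx := mem_fin.1 hx
    have h1 := Q.mul_mem hb hx
    rw [← h.mul _ (Q.mul_mem (hn c hcL _ h1) (Q.inv_mem h1)) _ hb,
      ← h.mul _ (hn c hcL _ hb) _ (Q.mul_mem (hn c hcL _ hx) (Q.inv_mem hx))]
    congr 1; group
  have hu0 : u ≠ 0 := fun e => h.kap_ne (by rw [← tr1, ← trace_sum, ← uu, ← hu, e, trace_zero])
  have hud := h.unit_of_ne (π := fun b => θ (c * b * c⁻¹)) hu0 hI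
  have hIp : ∀ i : ℕ, ∀ b ∈ Q, u ^ i * θ b = θ (c ^ i * b * (c ^ i)⁻¹) * u ^ i := fun i => by
    induction i with
    | zero => intro b _; simp
    | succ i ih =>
      intro b hb
      rw [pow_succ u, mul_assoc, hI b hb, ← mul_assoc, ih _ (hn c hcL b hb), mul_assoc]
      congr 2
      rw [pow_succ]; group
  set m := orderOf c
  have hm : 0 < m := orderOf_pos c
  obtain ⟨γ', hγ'⟩ := h.schur (u ^ m) fun b hb => by
    rw [hIp m b hb, pow_orderOf_eq_one]; simp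
  have hγ0 : γ' ≠ 0 := fun e => by
    have : IsUnit (u ^ m).det := by rw [det_pow]; exact hud.pow m
    have := h.ne
    rw [hγ', e, zero_smul, det_zero] at *
    simp at *
  obtain ⟨γ, hγ⟩ := IsAlgClosed.exists_pow_nat_eq γ'⁻¹ hm
  set J := γ • u with hJ
  have hJm : J ^ m = 1 := by rw [hJ, smul_pow, hγ', smul_smul, hγ, inv_mul_cancel₀ hγ0, one_smul]
  have hJ1 : J * J ^ (m - 1) = 1 := by rw [← pow_succ', Nat.sub_add_cancel hm, hJm]
  have ht : trace J * trace (J ^ (m - 1)) = 1 := by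
    have e := congrArg (fun A => trace (J * A)) (h.avg (J ^ (m - 1)))
    simp only [mul_sum, trace_sum, mul_smul_comm, trace_smul, mul_one, smul_eq_mul] at e
    rw [sum_congr rfl (g := fun x => trace (θ (c * x * c⁻¹ * x⁻¹))), tr1] at e
    · refine mul_left_cancel₀ h.kap_ne ?_
      linear_combination -e
    · intro x hx
      have hx := mem_fin.1 hx
      have : J * θ x = θ (c * x * c⁻¹) * J := by rw [hJ, smul_mul_assoc, hI x hx, mul_smul_comm]
      rw [← mul_assoc, ← mul_assoc, this, mul_assoc _ J, hJ1, mul_one,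
        ← h.mul _ (hn c hcL x hx) _ (Q.inv_mem hx)]
  obtain ⟨n₁, n₂, φ, ho, f, hf⟩ := CL.Fs.exists_odd hm hJm ht
  refine ⟨n₁, n₂, fun x => φ (θ x), h.map φ, ho, m, fun i => f i * γ ^ i, ?_⟩
  rw [hf, hJ, map_smul, hu, uu, uu, map_sum]
  simp only [smul_pow, smul_smul]

end Hs
end CL.Fs
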