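/-
The Weil corepresentation: non-negativity of twisted indicators over a Heisenberg subgroup.
-/
import Cfsg.Agent.KSG.FsHeis2

namespace CL.Fs
open Finset Matrix
open scoped ComplexOrder

section blocks
variable {α β : Type} [Fintype α] [DecidableEq α] [Fintype β] [DecidableEq β]

/-- The projection on the first block. -/
def pj (α β : Type) [DecidableEq α] : Matrix (α ⊕ β) (α ⊕ β) ℂ := fromBlocks 1 0 0 0

/-- A multiplicative form of degree one. -/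
noncomputable def nrm (a b : ℤ) (A : Matrix (α ⊕ β) (α ⊕ β) ℂ) : ℂ :=
  A.toBlocks₁₁.det ^ a * A.det ^ b

omit [DecidableEq β] in
theorem blk_mul {A : Matrix (α ⊕ β) (α ⊕ β) ℂ} (hA : A * pj α β = pj α β * A)
    (B : Matrix (α ⊕ β) (α ⊕ β) ℂ) : (A * B).toBlocks₁₁ = A.toBlocks₁₁ * B.toBlocks₁₁ := by
  rw [← fromBlocks_toBlocks A, pj, fromBlocks_multiply, fromBlocks_multiply] at hA
  have h1 : A.toBlocks₁₂ = 0 := by simpa using (fromBlocks_inj.1 hA).2.1.symm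
  conv_lhs => rw [← fromBlocks_toBlocks A, ← fromBlocks_toBlocks B, fromBlocks_multiply]
  simp [h1]

theorem nrm_mul (a b : ℤ) {A : Matrix (α ⊕ β) (α ⊕ β) ℂ} (hA : A * pj α β = pj α β * A)
    (B : Matrix (α ⊕ β) (α ⊕ β) ℂ) : nrm a b (A * B) = nrm a b A * nrm a b B := by
  rw [nrm, blk_mul hA, det_mul, det_mul, mul_zpow, mul_zpow, nrm, nrm]; ring

theorem nrm_one (a b : ℤ) : nrm a b (1 : Matrix (α ⊕ β) (α ⊕ β) ℂ) = 1 := by
  rw [nrm, ← fromBlocks_one, toBlocks_fromBlocks₁₁, fromBlocks_one, det_one, det_one,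
    _root_.one_zpow, _root_.one_zpow, one_mul]

theorem nrm_ne (a b : ℤ) {A : Matrix (α ⊕ β) (α ⊕ β) ℂ} (hA : A * pj α β = pj α β * A)
    (hu : IsUnit A.det) : nrm a b A ≠ 0 := fun e => by
  have := nrm_mul a b hA A⁻¹
  rw [mul_nonsing_inv _ hu, nrm_one, e, zero_mul] at this
  exact one_ne_zero this

theorem nrm_tr (a b : ℤ) (A : Matrix (α ⊕ β) (α ⊕ β) ℂ) : nrm a b Aᵀ = nrm a b A := by
  rw [nrm, nrm, det_transpose, show Aᵀ.toBlocks₁₁ = A.toBlocks₁₁ᵀ from rfl, det_transpose]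

theorem nrm_smul {a b : ℤ} (hab : a * Fintype.card α + b * Fintype.card (α ⊕ β) = 1) {t : ℂ}
    (ht : t ≠ 0) (A : Matrix (α ⊕ β) (α ⊕ β) ℂ) : nrm a b (t • A) = t * nrm a b A := by
  rw [nrm, show (t • A).toBlocks₁₁ = t • A.toBlocks₁₁ from rfl, det_smul, det_smul, mul_zpow,
    mul_zpow, ← zpow_natCast, ← zpow_natCast, ← _root_.zpow_mul, ← _root_.zpow_mul, nrm,
    mul_mul_mul_comm,
    ← zpow_add₀ ht, mul_comm _ a, mul_comm _ b, hab, zpow_one]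

end blocks

variable {G : Type*} [Group G] [Finite G] {s : G →* ℤˣ}

theorem exists_weil {L Q Z : Subgroup G} (hnorm : ∀ l ∈ L, ∀ q ∈ Q, l⁻¹ * q * l ∈ Q)
    (h2 : IsPGroup 2 Q) {μ : G → ℂ} (hZ2 : ∀ z ∈ Z, z * z = 1)
    (hZL : ∀ l ∈ L, ∀ z ∈ Z, l⁻¹ * z * l ∈ Z ∧ μ (l⁻¹ * z * l) = μ z) {c : G} (hcL : c ∈ L)
    (hcc : ∀ l ∈ L, l⁻¹ * c * l = if s l = 1 then c else c⁻¹) {n₁ n₂ : ℕ}
    {θ : G → Matrix (Fin n₁ ⊕ Fin n₂) (Fin n₁ ⊕ Fin n₂) ℂ} (h : Hs Q Z μ θ) (ho : Odd n₁)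
    {m : ℕ} {f : ℕ → ℂ} (hf : pj (Fin n₁) (Fin n₂) = ∑ i ∈ range m, f i • uu Q c θ ^ i) :
    ∃ K : G → Matrix (Fin n₁ ⊕ Fin n₂) (Fin n₁ ⊕ Fin n₂) ℂ, K 1 = 1 ∧
      (∀ n ∈ L, s n = 1 → ∀ x ∈ Q, K n * θ x = θ (n⁻¹ * x * n) * K n) ∧
      (∀ n ∈ L, ∀ n' ∈ L, s n = 1 → s n' = 1 → K (n * n') = K n' * K n) ∧
      ∀ l ∈ L, s l = -1 → ∑ x ∈ fin Q, θ (l⁻¹ * x * l * x) =
        (Hs.kap Z (Fin n₁ ⊕ Fin n₂) : ℂ) • K (l * l) := by
  have hn : ∀ l ∈ L, ∀ q ∈ Q, l * q * l⁻¹ ∈ Q := fun l hl q hq => by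
    simpa using hnorm _ (L.inv_mem hl) q hq
  have hcq : ∀ x ∈ Q, c * x * c⁻¹ * x⁻¹ ∈ Q := fun x hx => Q.mul_mem (hn c hcL x hx) (Q.inv_mem hx)
  obtain ⟨a, b, hab⟩ : IsCoprime (Fintype.card (Fin n₁) : ℤ) (Fintype.card (Fin n₁ ⊕ Fin n₂)) := by
    have : Fact (Nat.Prime 2) := ⟨Nat.prime_two⟩
    obtain ⟨k, hk⟩ := IsPGroup.iff_card.1 h2
    have hd : Fintype.card (Fin n₁ ⊕ Fin n₂) ∣ 2 ^ k := by
      rw [← hk, ← card_fin, h.card_eq]; exact dvd_mul_right _ _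
    rw [Nat.isCoprime_iff_coprime, Fintype.card_fin]
    exact Nat.Coprime.coprime_dvd_right hd (ho.coprime_two_right.pow_right k)
  set P := pj (Fin n₁) (Fin n₂)
  set u := uu Q c θ with hu
  -- positive intertwiners commute with `P`
  have c1 : ∀ n ∈ L, s n = 1 → ∀ K, (∀ x ∈ Q, K * θ x = θ (n⁻¹ * x * n) * K) → K * P = P * K := by
    intro n hn' sn K hK
    have e0 := hcc n hn'
    rw [if_pos sn] at e0
    have e1 : Commute K u := by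
      change K * u = u * K
      rw [hu, uu, mul_sum, sum_mul, ← sum_fin_conj hnorm hn' (fun x => θ (c * x * c⁻¹ * x⁻¹) * K)]
      refine sum_congr rfl fun x hx => ?_
      rw [hK _ (hcq x (mem_fin.1 hx))]
      congr 2
      conv_rhs => rw [← e0]
      group
    rw [hf, mul_sum, sum_mul]
    exact sum_congr rfl fun i _ => by rw [mul_smul_comm, smul_mul_assoc, (e1.pow_right i).eq]
  have ex : ∀ n ∈ L, s n = 1 → ∃ K, IsUnit (det K) ∧ nrm a b K = 1 ∧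
      ∀ x ∈ Q, K * θ x = θ (n⁻¹ * x * n) * K := by
    intro n hn' sn
    obtain ⟨I, hI, hI'⟩ := h.exists_int (π := fun x => θ (n⁻¹ * x * n))
      (fun x hx y hy => by
        rw [← h.mul _ (hnorm n hn' x hx) _ (hnorm n hn' y hy)]; congr 1; group)
      (fun z hz => by rw [h.cen _ (hZL n hn' z hz).1, (hZL n hn' z hz).2])
    have h0 := nrm_ne a b (c1 n hn' sn I hI') hI
    refine ⟨(nrm a b I)⁻¹ • I, ?_, ?_, fun x hx => ?_⟩
    · rw [det_smul]; exact ((inv_ne_zero h0).isUnit.pow _).mul hI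
    · rw [nrm_smul hab (inv_ne_zero h0), inv_mul_cancel₀ h0]
    · rw [smul_mul_assoc, hI' x hx, mul_smul_comm]
  choose! K hK1 hK2 hK3 using ex
  have un : ∀ n ∈ L, s n = 1 → ∀ K', nrm a b K' = 1 → IsUnit (det K') →
      (∀ x ∈ Q, K' * θ x = θ (n⁻¹ * x * n) * K') → K' = K n := by
    intro n hn' sn K' e1 e2 e3
    obtain ⟨t, ht⟩ := h.uniq_int (π := fun x => θ (n⁻¹ * x * n)) (hK1 n hn' sn) (hK3 n hn' sn) e3
    have h0 : t ≠ 0 := fun e => by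
      have := h.ne
      rw [ht, e, zero_smul, det_zero] at e2
      exact not_isUnit_zero e2
    rw [ht, nrm_smul hab h0, hK2 n hn' sn, mul_one] at e1
    rw [ht, e1, one_smul]
  refine ⟨K, ?_, hK3, fun n hn' n' hn'' sn sn' => ?_, fun l hl sl => ?_⟩
  · exact (un 1 L.one_mem (map_one s) 1 (nrm_one a b) (by simp) (by simp)).symm
  · refine (un _ (L.mul_mem hn' hn'') (by rw [map_mul, sn, sn', one_mul]) _ ?_ ?_ ?_).symm
    · rw [nrm_mul a b (c1 n' hn'' sn' _ (hK3 n' hn'' sn')), hK2 n hn' sn, hK2 n' hn'' sn', one_mul]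
    · rw [det_mul]; exact (hK1 n' hn'' sn').mul (hK1 n hn' sn)
    · intro x hx
      rw [mul_assoc, hK3 n hn' sn x hx, ← mul_assoc, hK3 n' hn'' sn' _ (hnorm n hn' x hx), mul_assoc]
      congr 2; group
  · obtain ⟨B, hB, hB'⟩ := h.exists_int (π := fun x => (θ (l⁻¹ * x⁻¹ * l))ᵀ)
      (fun x hx y hy => by
        rw [← transpose_mul, ← h.mul _ (hnorm l hl _ (Q.inv_mem hy)) _ (hnorm l hl _ (Q.inv_mem hx))]
        congr 2; group)
      (fun z hz => by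
        rw [h.cen _ (hZL l hl _ (Z.inv_mem hz)).1, (hZL l hl _ (Z.inv_mem hz)).2,
          inv_eq_of_mul_eq_one_right (hZ2 z hz), transpose_smul, transpose_one])
    have e0 := hcc l hl
    rw [if_neg (by rw [sl]; exact units_ne.symm)] at e0
    have e1 : B * u = uᵀ * B := by
      rw [hu, uu, mul_sum, transpose_sum, sum_mul, ← sum_fin_conj hnorm (L.mul_mem hl hcL)
        (fun x => (θ (c * x * c⁻¹ * x⁻¹))ᵀ * B)]
      refine sum_congr rfl fun x hx => ?_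
      rw [hB' _ (hcq x (mem_fin.1 hx))]
      congr 3
      have e2 : c = l * c⁻¹ * l⁻¹ := by rw [← e0]; group
      calc l⁻¹ * (c * x * c⁻¹ * x⁻¹)⁻¹ * l
          = l⁻¹ * x * l * (l⁻¹ * c * l) * (l⁻¹ * x⁻¹ * l) * (l⁻¹ * c * l)⁻¹ := by group
        _ = _ := by rw [e0]; group
    have e2 : ∀ i : ℕ, B * u ^ i = (u ^ i)ᵀ * B := fun i => by
      induction i with
      | zero => simp
      | succ i ih => rw [pow_succ', ← mul_assoc, e1, mul_assoc, ih, ← mul_assoc, ← transpose_mul,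
          ← pow_succ, pow_succ']
    have hP : Pᵀ = P := by simp [P, pj, fromBlocks_transpose]
    have e3 : B * P = P * B := by
      conv_rhs => rw [← hP]
      rw [hf, mul_sum, transpose_sum, sum_mul]
      exact sum_congr rfl fun i _ => by rw [mul_smul_comm, transpose_smul, smul_mul_assoc, e2]
    have e4 : Bᵀ * P = P * Bᵀ := by rw [← hP, ← transpose_mul, ← transpose_mul, e3]
    have hBt : IsUnit Bᵀ.det := by rwa [det_transpose]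
    have e5 : ∀ x ∈ Q, Bᵀ * θ (l⁻¹ * x * l) = (θ x⁻¹)ᵀ * Bᵀ := fun x hx => by
      rw [← transpose_mul, hB' _ (Q.inv_mem hx), inv_inv, transpose_mul, transpose_transpose]
    have canc : ∀ X Y : Matrix (Fin n₁ ⊕ Fin n₂) (Fin n₁ ⊕ Fin n₂) ℂ, Bᵀ * X = Bᵀ * Y → X = Y :=
      fun X Y e => by
        rw [← one_mul X, ← one_mul Y, ← nonsing_inv_mul _ hBt, mul_assoc, mul_assoc, e]
    set w := Bᵀ⁻¹ * B with hw
    have e6 : Bᵀ * w = B := by rw [hw, ← mul_assoc, mul_nonsing_inv _ hBt, one_mul]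
    have e7 : w = K (l * l) := by
      refine un _ (L.mul_mem hl hl) (sgn_mul_self _ _) w ?_ ?_ fun x hx => canc _ _ ?_
      · have := nrm_mul a b e4 w
        rw [e6, nrm_tr] at this
        exact (mul_left_cancel₀ (nrm_ne a b e3 hB) ((mul_one _).trans this)).symm
      · have := hB
        rw [← e6, det_mul] at this
        exact isUnit_of_mul_isUnit_right this
      · rw [← mul_assoc, e6, hB' x hx, ← mul_assoc,
          show (l * l)⁻¹ * x * (l * l) = l⁻¹ * (l⁻¹ * x * l) * l by group, e5 _ (hnorm l hl x hx),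
          mul_assoc _ Bᵀ w, e6]
        congr 3; group
    refine canc _ _ ?_
    rw [← e7, mul_smul_comm, e6, ← h.four', mul_sum]
    refine sum_congr rfl fun x hx => ?_
    have hx := mem_fin.1 hx
    rw [h.mul _ (hnorm l hl x hx) _ hx, ← mul_assoc, e5 x hx]

theorem heis_core {Y L Q Z : Subgroup G} (hL : L ≤ Y) (hQ : Q ≤ Y) (hpos : ∀ q ∈ Q, s q = 1)
    (hY : ∀ y ∈ Y, ∃ l ∈ L, ∃ q ∈ Q, y = l * q) (hnorm : ∀ l ∈ L, ∀ q ∈ Q, l⁻¹ * q * l ∈ Q)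
    (hZQ : Z ≤ Q) (h2 : IsPGroup 2 Q) (μ : G → ℂ) (hZ2 : ∀ z ∈ Z, z * z = 1)
    (hZL : ∀ l ∈ L, ∀ z ∈ Z, l⁻¹ * z * l ∈ Z ∧ μ (l⁻¹ * z * l) = μ z)
    (hcomm : ∀ a ∈ Q, ∀ b ∈ Q, a * b * a⁻¹ * b⁻¹ ∈ Z)
    (hnd : ∀ a ∈ Q, (∀ b ∈ Q, μ (a * b * a⁻¹ * b⁻¹) = 1) → a ∈ Z) (c : G) (hcL : c ∈ L)
    (hcc : ∀ l ∈ L, l⁻¹ * c * l = if s l = 1 then c else c⁻¹)
    (hfpf : ∀ a ∈ Q, c * a * c⁻¹ * a⁻¹ ∈ Z → a ∈ Z) (hg : Good s L) {U : Type} [AddCommGroup U]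
    [Module ℂ U] [FiniteDimensional ℂ U] {ρ : G → Module.End ℂ U} (hρ : IsPRep s Y ρ) {y : U}
    (hy : y ≠ 0) (hμ : ∀ z ∈ Z, ρ z = μ z • 1) {e : ℂ} (he : om s Y ρ y = e • y) : 0 ≤ e := by
  have : Nontrivial U := ⟨⟨y, 0, hy⟩⟩
  have hm : ∀ a ∈ Q, ∀ b ∈ Q, ρ (a * b) = ρ a * ρ b := fun a ha b hb =>
    hρ.mul a (hQ ha) b (hQ hb) (hpos a ha) (hpos b hb)
  obtain ⟨d, θ₀, t1, t2, t3, t4, t5⟩ := exists_irr Q hρ.one hm
  have h₀ : Hs Q Z μ θ₀ := ⟨t1, hZQ, hcomm, hnd, t2, t3, fun z hz => t4 z (hZQ hz) _ (hμ z hz), t5⟩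
  obtain ⟨n₁, n₂, θ, h, ho, m, f, hf⟩ := h₀.exists_odd hnorm hZL hcL hfpf
  obtain ⟨K, k1, k2, k3, k4⟩ := exists_weil hnorm h2 hZ2 hZL hcL hcc h ho hf
  have hπ : ∀ x ∈ Q, ∀ z ∈ Z, ρ (x * z) = μ z • ρ x := fun x hx z hz => by
    rw [hm x hx z (hZQ hz), hμ z hz, mul_smul_comm, mul_one]
  set Θ := Hs.Th Q Z θ ρ
  have T1 : ∀ b ∈ Q, Θ (θ b) = ρ b := fun b hb => h.Th_apply hπ hb
  have T2 : ∀ A B, Θ (A * B) = Θ A * Θ B := h.Th_mul hπ hm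
  have T3 : ∀ n ∈ L, s n = 1 → ∀ A, ρ n * Θ (K n) * Θ A = Θ A * (ρ n * Θ (K n)) := by
    intro n hn sn A
    refine h.ind (P := fun A => ρ n * Θ (K n) * Θ A = Θ A * (ρ n * Θ (K n))) (by simp)
      (fun A A' e e' => ?_) (fun a A e => ?_) (fun x hx => ?_) A
    · simp only [map_add, add_mul, mul_add, e, e']
    · simp only [map_smul, smul_mul_assoc, mul_smul_comm, e]
    · have h1 := hnorm n hn x hx
      rw [mul_assoc, ← T2, k2 n hn sn x hx, T2, T1 _ h1, T1 x hx, ← mul_assoc, ← mul_assoc,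
        ← hρ.mul _ (hL hn) _ (hQ h1) sn (hpos _ h1), ← hρ.mul _ (hQ hx) _ (hL hn) (hpos _ hx) sn]
      congr 2; group
  have hρ' : IsPRep s L (fun n => ρ n * Θ (K n)) := ⟨by
    simp only [k1, hρ.one, one_mul]; rw [← h.one, T1 1 Q.one_mem, hρ.one],
    fun a ha b hb sa sb => by
      simp only [k3 a ha b hb sa sb, T2, hρ.mul a (hL ha) b (hL hb) sa sb]
      rw [mul_assoc (ρ a) (Θ (K a)), ← T3 b hb sb]
      simp only [mul_assoc]⟩
  have key : (fin (L ⊓ Q)).card • om s Y ρ =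
      Hs.kap Z (Fin n₁ ⊕ Fin n₂) • om s L (fun n => ρ n * Θ (K n)) := by
    rw [om, ← sum_negs_mul hL hQ hpos hY (fun x => ρ (x * x)), om, smul_sum]
    refine sum_congr rfl fun l hl => ?_
    obtain ⟨hl, sl⟩ := mem_negs.1 hl
    rw [← Nat.cast_smul_eq_nsmul ℂ, ← mul_smul_comm, ← map_smul, ← k4 l hl sl, map_sum, mul_sum]
    refine sum_congr rfl fun q hq => ?_
    have hq := mem_fin.1 hq
    have h1 := Q.mul_mem (hnorm l hl q hq) hq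
    rw [T1 _ h1, ← hρ.mul _ (hL (L.mul_mem hl hl)) _ (hQ h1) (sgn_mul_self _ _) (hpos _ h1)]
    congr 1; group
  have k5 := congrArg (fun A : Module.End ℂ U => A y) key
  simp only [LinearMap.smul_apply, he] at k5
  exact nonneg_of_div (card_fin_pos _) h.kap_pos (hg U _ hρ' _ y hy (eigen_div h.kap_pos k5))

theorem nonneg_of_heis {G : Type*} [Group G] [Finite G] {s : G →* ℤˣ} {Y L Q Z : Subgroup G}
    (hL : L ≤ Y) (hQ : Q ≤ Y) (hpos : ∀ q ∈ Q, s q = 1)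
    (hY : ∀ y ∈ Y, ∃ l ∈ L, ∃ q ∈ Q, y = l * q) (hnorm : ∀ l ∈ L, ∀ q ∈ Q, l⁻¹ * q * l ∈ Q)
    (hZQ : Z ≤ Q) (h2 : IsPGroup 2 Q) (μ : G → ℂ) (hZc : ∀ z ∈ Z, ∀ q ∈ Q, z * q = q * z)
    (hZ2 : ∀ z ∈ Z, z * z = 1)
    (hZL : ∀ l ∈ L, ∀ z ∈ Z, l⁻¹ * z * l ∈ Z ∧ μ (l⁻¹ * z * l) = μ z)
    (hcomm : ∀ a ∈ Q, ∀ b ∈ Q, a * b * a⁻¹ * b⁻¹ ∈ Z)
    (hnd : ∀ a ∈ Q, (∀ b ∈ Q, μ (a * b * a⁻¹ * b⁻¹) = 1) → a ∈ Z) (c : G) (hcL : c ∈ L)
    (hcs : s c = 1) (hco : Odd (orderOf c))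
    (hcc : ∀ l ∈ L, l⁻¹ * c * l = if s l = 1 then c else c⁻¹)
    (hfpf : ∀ a ∈ Q, c * a * c⁻¹ * a⁻¹ ∈ Z → a ∈ Z) (hg : Good s L) {U : Type} [AddCommGroup U]
    [Module ℂ U] [FiniteDimensional ℂ U] {ρ : G → Module.End ℂ U} (hρ : IsPRep s Y ρ) {y : U}
    (hy : y ≠ 0) (hμ : ∀ z ∈ Z, ρ z y = μ z • y) {e : ℂ} (he : om s Y ρ y = e • y) : 0 ≤ e := by
  classical
  let W : Submodule ℂ U :=
    { carrier := {v | ∀ z ∈ Z, ρ z v = μ z • v}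
      add_mem' := fun ha hb z hz => by rw [map_add, ha z hz, hb z hz, smul_add]
      zero_mem' := fun z _ => by simp
      smul_mem' := fun a v hv z hz => by rw [map_smul, hv z hz, smul_comm] }
  have hW : ∀ n, n ∈ Y ∧ s n = 1 → ∀ v ∈ W, ρ n v ∈ W := by
    rintro n ⟨hn, sn⟩ v hv z hz
    obtain ⟨l, hl, q, hq, rfl⟩ := hY n hn
    obtain ⟨h3, h4⟩ := hZL l hl z hz
    have e1 : z * (l * q) = l * q * (l⁻¹ * z * l) := by
      rw [mul_assoc l q, ← hZc _ h3 q hq]; group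
    rw [← Module.End.mul_apply, ← hρ.mul _ (hQ (hZQ hz)) _ hn (hpos _ (hZQ hz)) sn, e1,
      hρ.mul _ hn _ (hQ (hZQ h3)) sn (hpos _ (hZQ h3)), Module.End.mul_apply, hv _ h3, h4, map_smul]
  let r : G → Module.End ℂ W := fun n => if h : n ∈ Y ∧ s n = 1 then (ρ n).restrict (hW n h) else 0
  have hr : ∀ n ∈ Y, s n = 1 → ∀ v : W, (r n v : U) = ρ n v := fun n hn sn v => by
    simp only [r, dif_pos (And.intro hn sn), LinearMap.coe_restrict_apply]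
  have hrρ : IsPRep s Y r := ⟨LinearMap.ext fun v => Subtype.ext (by
      rw [hr 1 Y.one_mem (map_one s), hρ.one]; rfl),
    fun a ha b hb sa sb => LinearMap.ext fun v => Subtype.ext (by
      rw [hr _ (Y.mul_mem ha hb) (by rw [map_mul, sa, sb, one_mul]), hρ.mul a ha b hb sa sb,
        Module.End.mul_apply, Module.End.mul_apply, hr a ha sa, hr b hb sb])⟩
  refine heis_core hL hQ hpos hY hnorm hZQ h2 μ hZ2 hZL hcomm hnd c hcL hcc hfpf hg hrρ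
    (y := ⟨y, hμ⟩) (fun e => hy (congrArg Subtype.val e)) (fun z hz => LinearMap.ext fun v =>
      Subtype.ext ?_) (Subtype.ext ?_)
  · rw [hr z (hQ (hZQ hz)) (hpos z (hZQ hz)), v.2 z hz]; rfl
  · rw [om, LinearMap.sum_apply, Submodule.coe_sum, Submodule.coe_smul, ← he, om,
      LinearMap.sum_apply]
    exact sum_congr rfl fun x hx =>
      hr _ (Y.mul_mem (mem_negs.1 hx).1 (mem_negs.1 hx).1) (sgn_mul_self _ _) _

end CL.Fs
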