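/-
Twisted invariant bilinear forms and the twisted Frobenius-Schur indicator.
-/
import Cfsg.Agent.KSG.FsGood
import Cfsg.Agent.CHAR.FS

namespace CL.Fs
open Finset Cfsg CL.Char Module
open scoped ComplexOrder

section lin
variable {U : Type*} [AddCommGroup U] [Module ℂ U]

/-- `B ↦ ((v, w) ↦ B (f v) (g w))`. -/
def cmpF (f g : Module.End ℂ U) : Module.End ℂ (U →ₗ[ℂ] U →ₗ[ℂ] ℂ) where
  toFun B := B.compl₁₂ f g
  map_add' _ _ := by ext; simp
  map_smul' _ _ := by ext; simp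

/-- `B ↦ ((v, w) ↦ B (g w) (f v))`. -/
def swpF (f g : Module.End ℂ U) : Module.End ℂ (U →ₗ[ℂ] U →ₗ[ℂ] ℂ) where
  toFun B := B.flip.compl₁₂ f g
  map_add' _ _ := by ext; simp
  map_smul' _ _ := by ext; simp

theorem cmpF_apply (f g : Module.End ℂ U) (B : U →ₗ[ℂ] U →ₗ[ℂ] ℂ) (v w : U) :
    cmpF f g B v w = B (f v) (g w) := rfl

theorem swpF_apply (f g : Module.End ℂ U) (B : U →ₗ[ℂ] U →ₗ[ℂ] ℂ) (v w : U) :
    swpF f g B v w = B (g w) (f v) := rfl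

theorem trace_swpF [FiniteDimensional ℂ U] (f g : Module.End ℂ U) :
    LinearMap.trace ℂ _ (swpF f g) = LinearMap.trace ℂ _ (g * f) := by
  classical
  set b := Module.finBasis ℂ U
  rw [← LinearMap.trace_conj' _ (LinearMap.toMatrix₂ b b), trace_matrix_end,
    LinearMap.trace_eq_matrix_trace ℂ b, LinearMap.toMatrix_mul, Matrix.trace]
  refine sum_congr rfl fun i _ => ?_
  rw [Matrix.diag_apply, Matrix.mul_apply]
  refine sum_congr rfl fun j _ => ?_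
  rw [LinearEquiv.conj_apply_apply, LinearMap.toMatrix₂_apply, swpF_apply,
    LinearMap.toMatrix₂_symm, Matrix.toLinearMap₂_apply, LinearMap.toMatrix_apply,
    LinearMap.toMatrix_apply]
  simp [Matrix.single_apply, ite_and]

theorem trace_eq_of_pairing {W W' : Type*} [AddCommGroup W] [Module ℂ W] [AddCommGroup W']
    [Module ℂ W'] [FiniteDimensional ℂ W] [FiniteDimensional ℂ W'] (B : W →ₗ[ℂ] W' →ₗ[ℂ] ℂ)
    (h1 : Function.Injective B) (h2 : Function.Injective B.flip) (f : Module.End ℂ W)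
    (g : Module.End ℂ W') (h : ∀ v w, B (f v) w = B v (g w)) :
    LinearMap.trace ℂ _ f = LinearMap.trace ℂ _ g := by
  have e1 : finrank ℂ W ≤ finrank ℂ (Module.Dual ℂ W') := LinearMap.finrank_le_finrank_of_injective h1
  have e2 : finrank ℂ W' ≤ finrank ℂ (Module.Dual ℂ W) := LinearMap.finrank_le_finrank_of_injective h2
  rw [Subspace.dual_finrank_eq] at e2
  have e3 : finrank ℂ W = finrank ℂ (Module.Dual ℂ W') :=
    le_antisymm e1 (by rwa [Subspace.dual_finrank_eq])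
  let e : W ≃ₗ[ℂ] Module.Dual ℂ W' := LinearMap.linearEquivOfInjective B h1 e3
  rw [← LinearMap.trace_conj' f e, ← LinearMap.trace_transpose' g]
  congr 1
  refine LinearMap.ext fun l => ?_
  obtain ⟨v, rfl⟩ := e.surjective l
  rw [LinearEquiv.conj_apply_apply, e.symm_apply_apply]
  ext w
  exact h v w

theorem exists_trace_idem [FiniteDimensional ℂ U] {P : Module.End ℂ U} (h : P * P = P) :
    LinearMap.trace ℂ _ P = finrank ℂ (LinearMap.range P) :=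
  ((LinearMap.isProj_range_iff_isIdempotentElem P).2 h).trace

end lin

section forms
variable {G : Type*} [Group G] {s : G →* ℤˣ} {X : Subgroup G} {σ : G}
variable {U : Type*} [AddCommGroup U] [Module ℂ U] {ρ : G → Module.End ℂ U}

/-- Twisted invariance of a bilinear form. -/
def InvF (s : G →* ℤˣ) (X : Subgroup G) (σ : G) (ρ : G → Module.End ℂ U)
    (B : U →ₗ[ℂ] U →ₗ[ℂ] ℂ) : Prop :=
  ∀ n ∈ X, s n = 1 → ∀ v w, B (ρ (σ * n * σ⁻¹) v) (ρ n w) = B v w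

/-- Twisted skew-symmetry of a bilinear form. -/
def SkewF (σ : G) (ρ : G → Module.End ℂ U) (B : U →ₗ[ℂ] U →ₗ[ℂ] ℂ) : Prop :=
  ∀ v w, B (ρ (σ * σ) w) v = -B v w

/-- Submodules invariant under the positive part. -/
def StabP (s : G →* ℤˣ) (X : Subgroup G) (ρ : G → Module.End ℂ U) (W : Submodule ℂ U) : Prop :=
  ∀ n ∈ X, s n = 1 → ∀ v ∈ W, ρ n v ∈ W

theorem IsPRep.mul_apply (hρ : IsPRep s X ρ) {a b : G} (ha : a ∈ X) (hb : b ∈ X) (sa : s a = 1)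
    (sb : s b = 1) (v : U) : ρ a (ρ b v) = ρ (a * b) v := by
  rw [hρ.mul a ha b hb sa sb]; rfl

theorem IsPRep.apply_inv_apply (hρ : IsPRep s X ρ) {a : G} (ha : a ∈ X) (sa : s a = 1) (v : U) :
    ρ a (ρ a⁻¹ v) = v := by
  rw [← Module.End.mul_apply, hρ.mul_inv ha sa]; rfl

theorem IsPRep.inv_apply_apply (hρ : IsPRep s X ρ) {a : G} (ha : a ∈ X) (sa : s a = 1) (v : U) :
    ρ a⁻¹ (ρ a v) = v := by
  rw [← Module.End.mul_apply, hρ.inv_mul ha sa]; rfl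

theorem conj_mem' (hσ : σ ∈ X) {n : G} (hn : n ∈ X) : σ * n * σ⁻¹ ∈ X :=
  X.mul_mem (X.mul_mem hσ hn) (X.inv_mem hσ)

theorem InvF.adj (hρ : IsPRep s X ρ) {B : U →ₗ[ℂ] U →ₗ[ℂ] ℂ} (hB : InvF s X σ ρ B) {n : G}
    (hn : n ∈ X) (sn : s n = 1) (v w : U) : B (ρ (σ * n⁻¹ * σ⁻¹) v) w = B v (ρ n w) := by
  rw [← hB n⁻¹ (X.inv_mem hn) (by rw [sgn_inv, sn]) v (ρ n w), hρ.inv_apply_apply hn sn]

theorem InvF.mono {Y : Subgroup G} {B : U →ₗ[ℂ] U →ₗ[ℂ] ℂ} (hB : InvF s Y σ ρ B) (h : X ≤ Y) :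
    InvF s X σ ρ B := fun n hn => hB n (h hn)

theorem InvF.sub_smul {B B' : U →ₗ[ℂ] U →ₗ[ℂ] ℂ} (hB : InvF s X σ ρ B) (hB' : InvF s X σ ρ B')
    (a : ℂ) : InvF s X σ ρ (B - a • B') := fun n hn sn v w => by
  simp only [LinearMap.sub_apply, LinearMap.smul_apply, hB n hn sn, hB' n hn sn]

theorem InvF.swp (hρ : IsPRep s X ρ) (hσ : σ ∈ X) {B : U →ₗ[ℂ] U →ₗ[ℂ] ℂ} (hB : InvF s X σ ρ B) :
    InvF s X σ ρ (swpF 1 (ρ (σ * σ)) B) := fun n hn sn v w => by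
  simp only [swpF_apply, Module.End.one_apply]
  have h1 := conj_mem' hσ hn
  have h2 : s (σ * n * σ⁻¹) = 1 := by rw [sgn_conj, sn]
  rw [← hB _ h1 h2 (ρ (σ * σ) w) v, hρ.mul_apply (X.mul_mem hσ hσ) hn (sgn_mul_self _ _) sn,
    hρ.mul_apply (conj_mem' hσ h1) (X.mul_mem hσ hσ) (by rw [sgn_conj, h2]) (sgn_mul_self _ _)]
  congr 3; group

theorem InvF.swp_swp (hσ : σ ∈ X) {B : U →ₗ[ℂ] U →ₗ[ℂ] ℂ} (hB : InvF s X σ ρ B) (v w : U) :
    B (ρ (σ * σ) v) (ρ (σ * σ) w) = B v w := by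
  have := hB _ (X.mul_mem hσ hσ) (sgn_mul_self _ _) v w
  rwa [show σ * (σ * σ) * σ⁻¹ = σ * σ by group] at this

/-- Change of the negative reference element. -/
theorem exists_change (hρ : IsPRep s X ρ) (hσ : σ ∈ X) (sσ : s σ = -1) {τ : G} (hτ : τ ∈ X)
    (sτ : s τ = -1) {B : U →ₗ[ℂ] U →ₗ[ℂ] ℂ} (hB : InvF s X σ ρ B) (hs : SkewF σ ρ B)
    (hi : Function.Injective B) :
    ∃ B' : U →ₗ[ℂ] U →ₗ[ℂ] ℂ, InvF s X τ ρ B' ∧ SkewF τ ρ B' ∧ Function.Injective B' := by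
  obtain ⟨m, rfl⟩ : ∃ m, τ = σ * m := ⟨σ⁻¹ * τ, by group⟩
  have hm : m ∈ X := by simpa using X.mul_mem (X.inv_mem hσ) hτ
  have sm : s m = 1 := by
    rw [map_mul, sσ] at sτ
    simpa using sτ
  refine ⟨cmpF 1 (ρ m) B, fun n hn sn v w => ?_, fun v w => ?_, ?_⟩
  · simp only [cmpF_apply, Module.End.one_apply]
    have h1 := conj_mem' hm hn
    have h2 : s (m * n * m⁻¹) = 1 := by rw [sgn_conj, sn]
    rw [← hB _ h1 h2 v (ρ m w), hρ.mul_apply hm hn sm sn, hρ.mul_apply h1 hm h2 sm]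
    congr 3 <;> group
  · simp only [cmpF_apply, Module.End.one_apply]
    rw [← hs v (ρ m w), ← hB m hm sm (ρ (σ * σ) (ρ m w)) v,
      hρ.mul_apply (X.mul_mem hσ hσ) hm (sgn_mul_self _ _) sm,
      hρ.mul_apply (conj_mem' hσ hm) (X.mul_mem (X.mul_mem hσ hσ) hm) (by rw [sgn_conj, sm])
        (by rw [map_mul, sgn_mul_self, sm, one_mul])]
    congr 3; group
  · rw [injective_iff_map_eq_zero] at hi ⊢
    intro v hv
    refine hi v (LinearMap.ext fun w => ?_)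
    have := congr($hv (ρ m⁻¹ w))
    rwa [cmpF_apply, hρ.apply_inv_apply hm sm] at this

theorem SkewF.flip_inj (hρ : IsPRep s X ρ) (hσ : σ ∈ X) {B : U →ₗ[ℂ] U →ₗ[ℂ] ℂ}
    (hs : SkewF σ ρ B) (hi : Function.Injective B) : Function.Injective B.flip := by
  rw [injective_iff_map_eq_zero] at hi ⊢
  intro w hw
  have : ρ (σ * σ) w = 0 := hi _ (LinearMap.ext fun v => by
    rw [hs v w, show B v w = 0 from congr($hw v)]; simp)
  rw [← hρ.inv_apply_apply (X.mul_mem hσ hσ) (sgn_mul_self _ _) w, this, map_zero]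

theorem InvF.eq_zero_or_inj (hρ : IsPRep s X ρ) (hσ : σ ∈ X)
    (hirr : ∀ W, StabP s X ρ W → W = ⊥ ∨ W = ⊤) {B : U →ₗ[ℂ] U →ₗ[ℂ] ℂ} (hB : InvF s X σ ρ B) :
    B = 0 ∨ Function.Injective B := by
  have key : StabP s X ρ (LinearMap.ker B) := fun n hn sn v hv => by
    refine LinearMap.mem_ker.2 (LinearMap.ext fun w => ?_)
    have := hB.adj hρ (n := σ⁻¹ * n⁻¹ * σ) (X.mul_mem (X.mul_mem (X.inv_mem hσ) (X.inv_mem hn)) hσ)
      (by rw [sgn_conj', sgn_inv, sn]) v w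
    rw [show σ * (σ⁻¹ * n⁻¹ * σ)⁻¹ * σ⁻¹ = n by group, LinearMap.mem_ker.1 hv] at this
    exact this
  rcases hirr _ key with h | h
  · exact Or.inr (LinearMap.ker_eq_bot.1 h)
  · exact Or.inl (LinearMap.ker_eq_top.1 h)

variable [Finite G]

/-- The averaging operator on forms. -/
noncomputable def avF (s : G →* ℤˣ) (X : Subgroup G) (σ : G) (ρ : G → Module.End ℂ U) :
    Module.End ℂ (U →ₗ[ℂ] U →ₗ[ℂ] ℂ) :=
  ((fin (X ⊓ s.ker)).card : ℂ)⁻¹ • ∑ n ∈ fin (X ⊓ s.ker), cmpF (ρ (σ * n * σ⁻¹)) (ρ n)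

theorem avF_apply (B : U →ₗ[ℂ] U →ₗ[ℂ] ℂ) (v w : U) : avF s X σ ρ B v w =
    ((fin (X ⊓ s.ker)).card : ℂ)⁻¹ * ∑ n ∈ fin (X ⊓ s.ker), B (ρ (σ * n * σ⁻¹) v) (ρ n w) := by
  simp only [avF, LinearMap.smul_apply, LinearMap.sum_apply, cmpF_apply, smul_eq_mul]

theorem invF_avF (hρ : IsPRep s X ρ) (hσ : σ ∈ X) (B : U →ₗ[ℂ] U →ₗ[ℂ] ℂ) :
    InvF s X σ ρ (avF s X σ ρ B) := fun m hm sm v w => by
  rw [avF_apply, avF_apply]
  congr 1
  have hm' : m ∈ X ⊓ s.ker := ⟨hm, sm⟩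
  refine sum_bij' (fun n _ => n * m) (fun n _ => n * m⁻¹) ?_ ?_ ?_ ?_ ?_
  · intro n hn; exact mem_fin.2 (mul_mem (mem_fin.1 hn) hm')
  · intro n hn; exact mem_fin.2 (mul_mem (mem_fin.1 hn) (inv_mem hm'))
  · intro n _; simp
  · intro n _; simp
  · intro n hn
    obtain ⟨h1, h2⟩ := mem_fin.1 hn
    have h2 : s n = 1 := h2
    rw [hρ.mul_apply h1 hm h2 sm, hρ.mul_apply (conj_mem' hσ h1) (conj_mem' hσ hm)
      (by rw [sgn_conj, h2]) (by rw [sgn_conj, sm])]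
    congr 3; group

theorem InvF.avF_eq {B : U →ₗ[ℂ] U →ₗ[ℂ] ℂ} (hB : InvF s X σ ρ B) : avF s X σ ρ B = B := by
  ext v w
  have : ((fin (X ⊓ s.ker)).card : ℂ) ≠ 0 := by exact_mod_cast (card_fin_pos _).ne'
  rw [avF_apply, sum_congr rfl (g := fun _ => B v w)
    (fun n hn => hB n ((mem_fin (X := X ⊓ s.ker)).1 hn).1 ((mem_fin (X := X ⊓ s.ker)).1 hn).2 v w), sum_const, nsmul_eq_mul,
    ← mul_assoc, inv_mul_cancel₀ this, one_mul]

theorem trace_swp_avF [FiniteDimensional ℂ U] (hρ : IsPRep s X ρ) (hσ : σ ∈ X) (sσ : s σ = -1) :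
    LinearMap.trace ℂ _ (swpF 1 (ρ (σ * σ)) * avF s X σ ρ) =
      ((fin (X ⊓ s.ker)).card : ℂ)⁻¹ * LinearMap.trace ℂ _ (om s X ρ) := by
  rw [avF, mul_smul_comm, map_smul, mul_sum, map_sum, om, map_sum, smul_eq_mul]
  congr 1
  refine sum_bij' (fun n _ => σ * n) (fun x _ => σ⁻¹ * x) ?_ ?_ ?_ ?_ ?_
  · intro n hn
    obtain ⟨h1, h2⟩ := mem_fin.1 hn
    exact mem_negs.2 ⟨X.mul_mem hσ h1, by rw [map_mul, sσ, show s n = 1 from h2, mul_one]⟩
  · intro x hx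
    obtain ⟨h1, h2⟩ := mem_negs.1 hx
    refine mem_fin.2 ⟨X.mul_mem (X.inv_mem hσ) h1, ?_⟩
    change s _ = 1
    rw [map_mul, sgn_inv, sσ, h2]; simp
  · intro n _; simp
  · intro n _; simp
  · intro n hn
    obtain ⟨h1, h2⟩ := mem_fin.1 hn
    have h2 : s n = 1 := h2
    have h3 : s (σ * n * σ⁻¹) = 1 := by rw [sgn_conj, h2]
    have : swpF 1 (ρ (σ * σ)) * cmpF (ρ (σ * n * σ⁻¹)) (ρ n) =
        swpF (ρ n) (ρ (σ * n * σ⁻¹) * ρ (σ * σ)) := rfl
    rw [this, trace_swpF, ← hρ.mul _ (conj_mem' hσ h1) _ (X.mul_mem hσ hσ) h3 (sgn_mul_self _ _),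
      ← hρ.mul _ (X.mul_mem (conj_mem' hσ h1) (X.mul_mem hσ hσ)) _ h1
        (by rw [map_mul, h3, sgn_mul_self, one_mul]) h2]
    congr 2; group

theorem trace_om [FiniteDimensional ℂ U] {c : ℂ} (hc : ∀ v, om s X ρ v = c • v) :
    LinearMap.trace ℂ _ (om s X ρ) = finrank ℂ U * c := by
  rw [show om s X ρ = c • (1 : Module.End ℂ U) from LinearMap.ext hc, map_smul,
    LinearMap.trace_one, smul_eq_mul, mul_comm]

/-- A negative (or non-real) eigenvalue produces a skew form. -/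
theorem exists_skew [FiniteDimensional ℂ U] [Nontrivial U] (hρ : IsPRep s X ρ) (hσ : σ ∈ X)
    (sσ : s σ = -1) {c : ℂ} (hc : ∀ v, om s X ρ v = c • v) (hneg : ¬ 0 ≤ c) :
    ∃ B : U →ₗ[ℂ] U →ₗ[ℂ] ℂ, B ≠ 0 ∧ InvF s X σ ρ B ∧ SkewF σ ρ B := by
  by_contra hcon
  push Not at hcon
  have h1 : swpF 1 (ρ (σ * σ)) * avF s X σ ρ = avF s X σ ρ := by
    refine LinearMap.ext fun B => ?_
    have hB := invF_avF hρ hσ B
    by_contra hne
    refine hcon _ (fun e => hne ?_) (hB.sub_smul (hB.swp hρ hσ) 1) fun v w => ?_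
    · rw [one_smul, sub_eq_zero] at e
      exact e.symm
    · simp only [LinearMap.sub_apply, one_smul, swpF_apply, Module.End.one_apply, hB.swp_swp hσ]
      ring
  have h2 := trace_swp_avF hρ hσ sσ
  rw [h1, trace_om hc, exists_trace_idem (LinearMap.ext fun B => (invF_avF hρ hσ B).avF_eq)] at h2
  exact hneg (nonneg_of_div finrank_pos (card_fin_pos _) (h2 ▸ Nat.cast_nonneg _))

end forms

section good
variable {G : Type*} [Group G] [Finite G] {s : G →* ℤˣ} {X : Subgroup G} {σ : G}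
variable {U : Type} [AddCommGroup U] [Module ℂ U] [FiniteDimensional ℂ U]
  {ρ : G → Module.End ℂ U}

/-- An irreducible representation of a good group carries no skew form. -/
theorem eq_zero_of_skew [Nontrivial U] (hg : Good s X) (hρ : IsPRep s X ρ) (hσ : σ ∈ X)
    (sσ : s σ = -1) (hirr : ∀ W, StabP s X ρ W → W = ⊥ ∨ W = ⊤) {B : U →ₗ[ℂ] U →ₗ[ℂ] ℂ}
    (hB : InvF s X σ ρ B) (hs : SkewF σ ρ B) : B = 0 := by
  by_contra hB0
  have hi := (hB.eq_zero_or_inj hρ hσ hirr).resolve_left hB0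
  let e : U ≃ₗ[ℂ] Module.Dual ℂ U :=
    LinearMap.linearEquivOfInjective B hi Subspace.dual_finrank_eq.symm
  have uniq : ∀ B', InvF s X σ ρ B' → ∃ a : ℂ, B' = a • B := fun B' hB' => by
    obtain ⟨a, ha⟩ := Module.End.exists_eigenvalue ((e.symm : _ →ₗ[ℂ] U) ∘ₗ B')
    obtain ⟨v, hv⟩ := ha.exists_hasEigenvector
    refine ⟨a, sub_eq_zero.1 (((hB'.sub_smul hB a).eq_zero_or_inj hρ hσ hirr).resolve_right
      fun h => hv.2 (h ?_))⟩
    have h1 : e.symm (B' v) = a • v := hv.apply_eq_smul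
    have h2 : B' v = a • B v := by
      rw [LinearEquiv.symm_apply_eq, map_smul] at h1
      exact h1
    rw [map_zero, LinearMap.sub_apply, h2, LinearMap.smul_apply, sub_self]
  have h1 : swpF 1 (ρ (σ * σ)) * avF s X σ ρ = (-1 : ℂ) • avF s X σ ρ := by
    refine LinearMap.ext fun B' => ?_
    obtain ⟨a, ha⟩ := uniq _ (invF_avF hρ hσ B')
    rw [Module.End.mul_apply, LinearMap.smul_apply, ha]
    ext v w
    simp only [swpF_apply, Module.End.one_apply, LinearMap.smul_apply, hs v w, smul_eq_mul]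
    ring
  obtain ⟨c, hc⟩ := Module.End.exists_eigenvalue (om s X ρ)
  obtain ⟨y, hy⟩ := hc.exists_hasEigenvector
  have h0 : 0 ≤ c := hg U ρ hρ c y hy.2 hy.apply_eq_smul
  have htop : Module.End.eigenspace (om s X ρ) c = ⊤ :=
    (hirr _ fun n hn sn v hv => Module.End.mem_eigenspace_iff.2
      (eigenspace_inv hρ c hn sn (Module.End.mem_eigenspace_iff.1 hv))).resolve_left hc
  have h2 := trace_swp_avF hρ hσ sσ
  rw [h1, trace_om (c := c) (fun v => Module.End.mem_eigenspace_iff.1 (htop ▸ Submodule.mem_top)),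
    map_smul, exists_trace_idem (LinearMap.ext fun B => (invF_avF hρ hσ B).avF_eq), smul_eq_mul,
    neg_one_mul] at h2
  have h3 : (0 : ℂ) ≤ -(finrank ℂ (LinearMap.range (avF s X σ ρ)) : ℂ) := by
    rw [h2]
    refine mul_nonneg ?_ (mul_nonneg (Nat.cast_nonneg _) h0)
    rw [← Complex.ofReal_natCast, ← Complex.ofReal_inv]
    exact Complex.zero_le_real.2 (inv_nonneg.2 (Nat.cast_nonneg _))
  have h4 : finrank ℂ (LinearMap.range (avF s X σ ρ)) = 0 := by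
    have : (finrank ℂ (LinearMap.range (avF s X σ ρ)) : ℂ) = 0 :=
      le_antisymm (neg_nonneg.1 h3) (Nat.cast_nonneg _)
    exact_mod_cast this
  rw [Submodule.finrank_eq_zero] at h4
  have h5 : B ∈ LinearMap.range (avF s X σ ρ) := ⟨B, hB.avF_eq⟩
  rw [h4] at h5
  exact hB0 h5

end good

end CL.Fs
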