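/-
The parity argument for twisted Frobenius-Schur indicators: auxiliary averaging lemmas.
-/
import Cfsg.Agent.KSG.FsGood
import Cfsg.Agent.CHAR.Prod
import Cfsg.Agent.CHAR.PermChar
import Cfsg.Agent.CHAR.Values
import Cfsg.Agent.BLK.PPart

namespace CL.Fs
open Finset Cfsg CL.Char CL.Blk MulAction

/-- Complex numbers with an odd multiple that is an algebraic integer. -/
def O2 : AddSubmonoid ℂ where
  carrier := {x | ∃ m : ℕ, Odd m ∧ IsIntegral ℤ ((m : ℂ) * x)}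
  zero_mem' := ⟨1, odd_one, by simpa using isIntegral_zero⟩
  add_mem' := by
    rintro x y ⟨m, hm, hx⟩ ⟨n, hn, hy⟩
    refine ⟨m * n, hm.mul hn, ?_⟩
    have : ((m * n : ℕ) : ℂ) * (x + y) = n * (m * x) + m * (n * y) := by push_cast; ring
    rw [this]
    exact ((isIntegral_natCast n).mul hx).add ((isIntegral_natCast m).mul hy)

theorem half_not_mem_O2 : (2⁻¹ : ℂ) ∉ O2 := by
  rintro ⟨m, hm, h⟩
  have h1 : IsIntegral ℤ (algebraMap ℚ ℂ ((m : ℚ) * 2⁻¹)) := by
    convert h using 1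
    simp
  rw [isIntegral_algebraMap_iff (algebraMap ℚ ℂ).injective] at h1
  obtain ⟨z, hz⟩ := IsIntegrallyClosed.isIntegral_iff.1 h1
  have h2 : (2 * z : ℚ) = m := by
    have : (z : ℚ) = (m : ℚ) * 2⁻¹ := hz
    rw [this]; ring
  have h3 : (2 * z : ℤ) = m := by exact_mod_cast h2
  obtain ⟨k, rfl⟩ := hm
  push_cast at h3
  omega

theorem sum_div_mem {K Ω : Type*} [Group K] [Finite K] [Fintype Ω] (a : K → Ω → Ω)
    (a1 : ∀ ω, a 1 ω = ω) (amul : ∀ k l ω, a (k * l) ω = a k (a l ω)) (A : AddSubmonoid ℂ)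
    (F : Ω → ℂ) (hF : ∀ k ω, F (a k ω) = F ω)
    (h : ∀ ω, (Nat.card {k // a k ω = ω} : ℂ)⁻¹ * F ω ∈ A) :
    (Nat.card K : ℂ)⁻¹ * ∑ ω, F ω ∈ A := by
  classical
  letI : MulAction K Ω := { smul := a, one_smul := a1, mul_smul := amul }
  have hsm : ∀ k ω, k • ω = a k ω := fun _ _ => rfl
  letI : Fintype (orbitRel.Quotient K Ω) := Fintype.ofFinite _
  rw [← sum_fiberwise univ (fun ω => (Quotient.mk'' ω : orbitRel.Quotient K Ω)) F, mul_sum]
  refine A.sum_mem fun q _ => ?_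
  induction q using Quotient.inductionOn' with
  | h ω₀ =>
  have e1 : (univ.filter fun ω => (Quotient.mk'' ω : orbitRel.Quotient K Ω) = Quotient.mk'' ω₀) =
      (orbit K ω₀).toFinset := by
    ext ω
    simp only [mem_filter, mem_univ, true_and, Set.mem_toFinset]
    rw [Quotient.eq'', orbitRel_apply]
  rw [e1, sum_congr rfl (g := fun _ => F ω₀), sum_const, nsmul_eq_mul]
  · have e2 : (orbit K ω₀).toFinset.card * Nat.card {k // a k ω₀ = ω₀} = Nat.card K := by
      rw [← Set.ncard_eq_toFinset_card', ← index_stabilizer]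
      exact (stabilizer K ω₀).index_mul_card
    have hK : (Nat.card K : ℂ) ≠ 0 := card_ne_zero K
    have e3 : ((orbit K ω₀).toFinset.card : ℂ) * Nat.card {k // a k ω₀ = ω₀} = Nat.card K := by
      exact_mod_cast e2
    have h4 : (Nat.card {k // a k ω₀ = ω₀} : ℂ) ≠ 0 := fun e => hK (by rw [← e3, e, mul_zero])
    convert h ω₀ using 1
    rw [← mul_assoc]
    congr 1
    field_simp
    exact e3
  · intro ω hω
    obtain ⟨k, rfl⟩ := Set.mem_toFinset.1 hω
    exact hF k ω₀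

theorem isIntegral_avg {A B : Type*} [Group A] [Group B] [Finite A] [Fintype B] {θ : A × B → ℂ}
    (hθ : IsGeneralizedCharacter (A × B) θ) (a : A) :
    IsIntegral ℤ ((Nat.card B : ℂ)⁻¹ * ∑ t, θ (a, t)) := by
  have key : ∀ χ : A × B → ℂ, IsCharacter (A × B) χ →
      IsIntegral ℤ ((Nat.card B : ℂ)⁻¹ * ∑ t, χ (a, t)) := by
    intro χ hχ
    refine hχ.induction_on (P := fun χ => IsIntegral ℤ ((Nat.card B : ℂ)⁻¹ * ∑ t, χ (a, t)))
      (by simpa using isIntegral_zero) ?_ ?_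
    · intro ψ hψ
      obtain ⟨α, β, hα, hβ, rfl⟩ := isIrrCharacter_prod_iff.1 hψ
      obtain ⟨n, hn⟩ := hβ.isCharacter.exists_nat_inner isCharacter_one'
      rw [classInner_one_right] at hn
      simp only
      rw [← mul_sum, mul_left_comm, hn]
      exact (hα.isIntegral a).mul (isIntegral_natCast n)
    · intro x y _ _ hx hy
      simp only [Pi.add_apply, sum_add_distrib, mul_add]
      exact hx.add hy
  obtain ⟨x, y, hx, hy, rfl⟩ := hθ
  simp only [Pi.sub_apply, sum_sub_distrib, mul_sub]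
  exact (key x hx).sub (key y hy)

theorem exists_poly_inv {H : Type*} [Group H] {π : H → ℂ} (hπ : IsGeneralizedCharacter H π)
    (A : Finset ℕ) : ∃ Q : ℂ → ℂ, IsGeneralizedCharacter H (fun h => Q (π h)) ∧
      IsGeneralizedCharacter H (fun h => ∏ a ∈ A, ((a : ℂ) - π h)) ∧
      ∀ z, z * Q z = ∏ a ∈ A, (a : ℂ) - ∏ a ∈ A, ((a : ℂ) - z) := by
  classical
  induction A using Finset.induction_on with
  | empty => exact ⟨fun _ => 0, isGen_zero, by simpa using isGen_one, by simp⟩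
  | insert a A ha ih =>
    obtain ⟨Q, h1, h2, h3⟩ := ih
    refine ⟨fun z => a * Q z + ∏ a ∈ A, ((a : ℂ) - z), ?_, ?_, fun z => ?_⟩
    · exact ((isCharacter_natCast a).isGen.mul h1).add h2
    · simp only [prod_insert ha]
      exact ((isCharacter_natCast a).isGen.sub hπ).mul h2
    · simp only [prod_insert ha]
      linear_combination (a : ℂ) * h3 z

section tw
variable {G : Type*} [Group G]

/-- The twisted conjugation action. -/
def tw (s : G →* ℤˣ) (x g : G) : G := x * g ^ (s x : ℤ) * x⁻¹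

theorem tw_one (s : G →* ℤˣ) (g : G) : tw s 1 g = g := by simp [tw]

theorem tw_mul (s : G →* ℤˣ) (x y g : G) : tw s (x * y) g = tw s x (tw s y g) := by
  simp only [tw, map_mul, Units.val_mul, conj_zpow, ← zpow_mul, mul_comm (s y : ℤ)]
  group

theorem tw_pos {s : G →* ℤˣ} {x : G} (h : s x = 1) (g : G) : tw s x g = x * g * x⁻¹ := by
  simp [tw, h]

theorem tw_neg {s : G →* ℤˣ} {x : G} (h : s x = -1) (g : G) : tw s x g = x * g⁻¹ * x⁻¹ := by
  simp [tw, h]

theorem tw_inv_tw (s : G →* ℤˣ) (x g : G) : tw s x⁻¹ (tw s x g) = g := by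
  rw [← tw_mul, inv_mul_cancel, tw_one]

theorem tw_tw_inv (s : G →* ℤˣ) (x g : G) : tw s x (tw s x⁻¹ g) = g := by
  rw [← tw_mul, mul_inv_cancel, tw_one]

theorem sgn_tw (s : G →* ℤˣ) (x g : G) : s (tw s x g) = s g := by
  rcases sgn_or s x with h | h
  · rw [tw_pos h, sgn_conj]
  · rw [tw_neg h, sgn_conj, sgn_inv]

theorem orderOf_tw (s : G →* ℤˣ) (x g : G) : orderOf (tw s x g) = orderOf g := by
  rcases sgn_or s x with h | h
  · rw [tw_pos h, orderOf_conj']
  · rw [tw_neg h, orderOf_conj', orderOf_inv]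

theorem tw_mem {s : G →* ℤˣ} {X : Subgroup G} {x g : G} (hx : x ∈ X) (hg : g ∈ X) :
    tw s x g ∈ X := X.mul_mem (X.mul_mem hx (X.zpow_mem hg _)) (X.inv_mem hx)

theorem tw_mem_iff {s : G →* ℤˣ} {P : Subgroup G} {x g : G} :
    tw s x g ∈ P ↔ x * g * x⁻¹ ∈ P := by
  rcases sgn_or s x with h | h
  · rw [tw_pos h]
  · rw [tw_neg h, ← P.inv_mem_iff]; simp [mul_assoc]

theorem tw_mul_of_commute (s : G →* ℤˣ) (x : G) {u b : G} (h : Commute u b) :
    tw s x (u * b) = tw s x u * tw s x b := by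
  simp only [tw, h.mul_zpow]; group

theorem commute_tw (s : G →* ℤˣ) (x : G) {u b : G} (h : Commute u b) :
    Commute (tw s x u) (tw s x b) := by
  rw [Commute, SemiconjBy, ← tw_mul_of_commute s x h, ← tw_mul_of_commute s x h.symm, h.eq]

theorem tw_inv (s : G →* ℤˣ) (x g : G) : tw s x g⁻¹ = (tw s x g)⁻¹ := by
  simp only [tw, inv_zpow]; group

theorem card_eq_two_mul [Finite G] {s : G →* ℤˣ} {X : Subgroup G} {σ : G} (hσ : σ ∈ X)
    (sσ : s σ = -1) : Nat.card X = 2 * Nat.card ↥(X ⊓ s.ker) := by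
  have h1 : X.map s = ⊤ := by
    rw [eq_top_iff]
    intro z _
    rcases Int.units_eq_one_or z with rfl | rfl
    · exact one_mem _
    · exact ⟨σ, hσ, sσ⟩
  have h2 : s.ker.relIndex X = 2 := by
    rw [Subgroup.relIndex_ker, h1, Subgroup.card_top, Nat.card_eq_fintype_card,
      Fintype.card_units_int]
  have h3 : Nat.card (s.ker.subgroupOf X) = Nat.card ↥(X ⊓ s.ker) := by
    rw [← Subgroup.inf_subgroupOf_left]
    exact Nat.card_congr (Subgroup.subgroupOfEquivOfLe inf_le_left).toEquiv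
  rw [← h2, ← h3]
  exact ((s.ker.subgroupOf X).index_mul_card).symm

/-- The twisted centralizer. -/
def twC (s : G →* ℤˣ) (X : Subgroup G) (b : G) : Subgroup G where
  carrier := {x | x ∈ X ∧ tw s x b = b}
  one_mem' := ⟨X.one_mem, tw_one s b⟩
  mul_mem' := fun hx hy => ⟨X.mul_mem hx.1 hy.1, by rw [tw_mul, hy.2, hx.2]⟩
  inv_mem' := fun {x} hx => ⟨X.inv_mem hx.1, by
    conv_lhs => rw [← hx.2]
    exact tw_inv_tw s x b⟩

theorem commute_of_twC {s : G →* ℤˣ} {X : Subgroup G} {b u : G} (hu : u ∈ twC s X b)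
    (su : s u = 1) : Commute u b := by
  have := hu.2
  rw [tw_pos su] at this
  exact mul_inv_eq_iff_eq_mul.1 this

end tw

open Classical in
/-- Averaging over the positive `2`-elements, reduced to a Sylow `2`-subgroup. -/
theorem sylow_avg {K : Type*} [Group K] [Fintype K] (s : K →* ℤˣ) (P : Sylow 2 K) (h : K → ℂ)
    (hh : ∀ k u, s u = 1 → h (tw s k u) = h u) :
    ∃ (m : ℕ) (w : K → ℂ), Odd m ∧ IsGeneralizedCharacter K w ∧ (∀ k, w k⁻¹ = w k) ∧
      m * ((Nat.card K : ℂ)⁻¹ * ∑ u with (s u = 1 ∧ ∃ k, orderOf u = 2 ^ k), h u) =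
        (Nat.card P : ℂ)⁻¹ * ∑ t with (s t = 1 ∧ t ∈ (P : Subgroup K)), w t * h t := by
  set π : K → ℕ := fun u => Nat.card (fixedBy (K ⧸ (P : Subgroup K)) u) with hπ
  set E := univ.filter fun u : K => s u = 1 ∧ ∃ k, orderOf u = 2 ^ k with hE
  obtain ⟨Q, h1, -, h3⟩ := exists_poly_inv (isCharacter_perm K (K ⧸ (P : Subgroup K))).isGen
    (E.image π)
  have hw : ∀ k u, Q (π (tw s k u)) = Q (π u) := by
    intro k u
    have hc := h1.isClassFunction
    rcases sgn_or s k with e | e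
    · rw [tw_pos e]; exact hc u k
    · rw [tw_neg e]
      refine (hc u⁻¹ k).trans ?_
      simp only [hπ, fixedBy_inv]
  refine ⟨∏ a ∈ E.image π, a, fun u => Q (π u), ?_, h1, fun k => by simp only [hπ, fixedBy_inv], ?_⟩
  · refine Finset.prod_induction _ Odd (fun _ _ => Odd.mul) odd_one fun a ha => ?_
    obtain ⟨u, hu, rfl⟩ := mem_image.1 ha
    obtain ⟨-, k, hk⟩ := (mem_filter.1 hu).2
    have h4 := card_fixedBy_pow_modEq (X := K ⧸ (P : Subgroup K)) 2 k u
    rw [← hk, pow_orderOf_eq_one, fixedBy_one_eq_univ, Nat.card_univ] at h4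
    have h5 := P.not_dvd_index
    rw [Subgroup.index] at h5
    rw [Nat.odd_iff]
    have h6 : Nat.card (K ⧸ (P : Subgroup K)) % 2 = π u % 2 := h4
    omega
  · have hP : (Nat.card P : ℂ) ≠ 0 := card_ne_zero P
    have hK : (Nat.card K : ℂ) ≠ 0 := card_ne_zero K
    have e1 : ∀ u ∈ E, ((∏ a ∈ E.image π, a : ℕ) : ℂ) = π u * Q (π u) := by
      intro u hu
      rw [h3, Finset.prod_eq_zero (f := fun a : ℕ => (a : ℂ) - π u) (mem_image_of_mem π hu)
        (sub_self _), sub_zero]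
      push_cast; rfl
    have e2 : ∀ u, (Nat.card P : ℂ) * π u = ∑ k : K, if k⁻¹ * u * k ∈ (P : Subgroup K) then 1 else 0 := by
      intro u
      have := card_mul_card_fixedBy_quotient (P : Subgroup K) u
      rw [Nat.subtype_card (p := fun k : K => k⁻¹ * u * k ∈ (P : Subgroup K))
        (univ.filter fun k : K => k⁻¹ * u * k ∈ (P : Subgroup K)) (by simp)] at this
      rw [sum_boole]
      exact_mod_cast this
    have e3 : ∀ k : K, ∑ u ∈ E, (if k⁻¹ * u * k ∈ (P : Subgroup K) then 1 else 0) * (Q (π u) * h u) =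
        ∑ t with (s t = 1 ∧ t ∈ (P : Subgroup K)), Q (π t) * h t := by
      intro k
      simp only [ite_mul, one_mul, zero_mul]
      rw [← sum_filter]
      symm
      refine sum_bij' (fun t _ => tw s k t) (fun u _ => tw s k⁻¹ u) ?_ ?_ ?_ ?_ ?_
      · intro t ht
        obtain ⟨h4, h5⟩ := (mem_filter.1 ht).2
        refine mem_filter.2 ⟨mem_filter.2 ⟨mem_univ _, by rw [sgn_tw, h4], ?_⟩, ?_⟩
        · rw [orderOf_tw]
          exact pElt_of_mem_isPGroup Nat.prime_two P.isPGroup' h5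
        · have : tw s k⁻¹ (tw s k t) ∈ (P : Subgroup K) := by rw [tw_inv_tw]; exact h5
          simpa using tw_mem_iff.1 this
      · intro u hu
        obtain ⟨h4, h5⟩ := mem_filter.1 hu
        refine mem_filter.2 ⟨mem_univ _, by rw [sgn_tw, (mem_filter.1 h4).2.1], ?_⟩
        exact (tw_mem_iff (P := (P : Subgroup K))).2 (by simpa using h5)
      · intro t _; exact tw_inv_tw s k t
      · intro t _; exact tw_tw_inv s k t
      · intro t ht
        rw [hw, hh k t (mem_filter.1 ht).2.1]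
    have e4 : (Nat.card P : ℂ) * (((∏ a ∈ E.image π, a : ℕ) : ℂ) * ∑ u ∈ E, h u) =
        Nat.card K * ∑ t with (s t = 1 ∧ t ∈ (P : Subgroup K)), Q (π t) * h t := by
      rw [mul_sum, mul_sum, sum_congr rfl (g := fun u => ∑ k : K,
        (if k⁻¹ * u * k ∈ (P : Subgroup K) then 1 else 0) * (Q (π u) * h u)), sum_comm, sum_congr rfl fun k _ => e3 k,
        sum_const, card_univ, nsmul_eq_mul, Nat.card_eq_fintype_card]
      intro u hu
      rw [← sum_mul, ← e2, e1 u hu]; ring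
    field_simp
    linear_combination e4

section par
variable {G : Type*} [Group G] [Finite G] {s : G →* ℤˣ} {X : Subgroup G}

theorem apply_tw {φ : G → ℂ} (hφ : IsCharacter ↥(X ⊓ s.ker) (fun n => φ n))
    (hdag : ∀ x ∈ X, s x = -1 → ∀ n ∈ X, s n = 1 → φ (x * n⁻¹ * x⁻¹) = φ n)
    {x n : G} (hx : x ∈ X) (hn : n ∈ X) (sn : s n = 1) : φ (tw s x n) = φ n := by
  rcases sgn_or s x with h | h
  · rw [tw_pos h]
    exact hφ.isClassFunction ⟨n, hn, sn⟩ ⟨x, hx, h⟩
  · rw [tw_neg h, hdag x hx h n hn sn]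

open Classical in
theorem local_mem {φ : G → ℂ} (hφ : IsCharacter ↥(X ⊓ s.ker) (fun n => φ n))
    (hdag : ∀ x ∈ X, s x = -1 → ∀ n ∈ X, s n = 1 → φ (x * n⁻¹ * x⁻¹) = φ n)
    {b : G} (hb : b ∈ X) (sb : s b = 1)
    (hloc : ∀ T ≤ X, IsPGroup 2 T → (∀ t ∈ T, t * b * t⁻¹ = if s t = 1 then b else b⁻¹) →
      ∀ τ ∈ T, s τ = -1 → ∃ (N' : Subgroup G) (D : G → ℂ), b ∈ N' ∧ T ⊓ s.ker ≤ N' ∧
        IsCharacter N' (fun n => D n) ∧ ∀ n ∈ N', φ n = D n + D (τ * n⁻¹ * τ⁻¹)) :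
    (Nat.card (twC s X b) : ℂ)⁻¹ * ∑ u ∈ (fin X).filter
      (fun u => s u = 1 ∧ (∃ k, orderOf u = 2 ^ k) ∧ Commute u b), φ (u * b) * φ (u * b)⁻¹ ∈ O2 := by
  set K := twC s X b with hK
  letI : Fintype K := Fintype.ofFinite _
  obtain ⟨P⟩ : Nonempty (Sylow 2 K) := inferInstance
  set s' : K →* ℤˣ := s.comp K.subtype with hs'
  have htw : ∀ k u : K, ((tw s' k u : K) : G) = tw s k u := fun k u => by simp [tw, hs']
  have hmul : ∀ k u : K, s u = 1 → tw s k u * b = tw s k (u * b) := fun k u su => by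
    rw [tw_mul_of_commute s k (commute_of_twC u.2 su), k.2.2]
  have hphi : ∀ k u : K, s u = 1 → φ (tw s k u * b)⁻¹ = φ (u * b)⁻¹ := fun k u su => by
    rw [hmul k u su, ← tw_inv, apply_tw hφ hdag k.2.1 (X.inv_mem (X.mul_mem u.2.1 hb))]
    rw [sgn_inv, map_mul, su, sb, one_mul]
  obtain ⟨m, w, hm, hw, hwi, e⟩ := sylow_avg s' P (fun u => φ (u * b) * φ (u * b)⁻¹) (by
    intro k u su
    simp only [htw]
    rw [hphi k u su, hmul k u su, apply_tw hφ hdag k.2.1 (X.mul_mem u.2.1 hb)]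
    rw [map_mul, show s u = 1 from su, sb, one_mul])
  have hwt : ∀ k u, w (tw s' k u) = w u := by
    intro k u
    rcases sgn_or s' k with h | h
    · rw [tw_pos h, hw.isClassFunction]
    · rw [tw_neg h, hw.isClassFunction, hwi]
  refine ⟨m, hm, ?_⟩
  have e1 : ∑ u ∈ (fin X).filter (fun u => s u = 1 ∧ (∃ k, orderOf u = 2 ^ k) ∧ Commute u b),
      φ (u * b) * φ (u * b)⁻¹ = ∑ u : K with (s' u = 1 ∧ ∃ k, orderOf u = 2 ^ k),
        φ (u * b) * φ (u * b)⁻¹ := by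
    symm
    refine sum_bij (fun u _ => (u : G)) ?_ ?_ ?_ ?_
    · intro u hu
      obtain ⟨h1, h2⟩ := (mem_filter.1 hu).2
      exact mem_filter.2 ⟨mem_fin.2 u.2.1, h1, by simpa using h2, commute_of_twC u.2 h1⟩
    · intro u _ v _ h; exact Subtype.ext h
    · intro u hu
      obtain ⟨h1, h2, h3, h4⟩ := mem_filter.1 hu
      refine ⟨⟨u, mem_fin.1 h1, ?_⟩, mem_filter.2 ⟨mem_univ _, h2, by
        simpa only [← Subgroup.orderOf_coe] using h3⟩, rfl⟩
      rw [tw_pos h2, h4.eq, mul_inv_cancel_right]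
    · intro u _; rfl
  rw [e1, e]
  set B : Subgroup K := (P : Subgroup K) ⊓ s'.ker with hB
  have hBc : ∀ t : B, Commute ((t : K) : G) b := fun t => commute_of_twC (t : K).2 t.2.2
  let ι : Subgroup.zpowers b × B →* G :=
    (Subgroup.zpowers b).subtype.noncommCoprod (K.subtype.comp B.subtype) (by
      rintro ⟨_, i, rfl⟩ t
      exact (hBc t).symm.zpow_left i)
  have hι : ∀ t : B, ι (⟨b, Subgroup.mem_zpowers b⟩, t) = ((t : K) : G) * b := fun t =>
    (hBc t).symm.eq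
  have hιm : ∀ N' : Subgroup G, b ∈ N' → (∀ t : B, ((t : K) : G) ∈ N') → ∀ x, ι x ∈ N' := by
    rintro N' h1 h2 ⟨⟨_, i, rfl⟩, t⟩
    exact N'.mul_mem (N'.zpow_mem h1 i) (h2 t)
  have hN := hιm (X ⊓ s.ker) ⟨hb, sb⟩ (fun t => ⟨(t : K).2.1, t.2.2⟩)
  have int : ∀ (N' : Subgroup G) (D : G → ℂ), b ∈ N' → (∀ t : B, ((t : K) : G) ∈ N') →
      IsCharacter N' (fun n => D n) → IsIntegral ℤ ((Nat.card B : ℂ)⁻¹ *
        ∑ t : B, w t * (D (((t : K) : G) * b) * φ (((t : K) : G) * b)⁻¹)) := by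
    intro N' D h1 h2 h3
    have g1 := hw.comp (B.subtype.comp (MonoidHom.snd (Subgroup.zpowers b) B))
    have g2 := (h3.comp (ι.codRestrict N' (hιm N' h1 h2))).isGen
    have g3 := (hφ.comp (ι.codRestrict _ hN)).inv.isGen
    have := isIntegral_avg (g1.mul (g2.mul g3)) ⟨b, Subgroup.mem_zpowers b⟩
    simp only [Pi.mul_apply, MonoidHom.codRestrict_apply, map_inv, hι] at this
    exact this
  have e2 : ∀ f : K → ℂ, ∑ t with (s' t = 1 ∧ t ∈ (P : Subgroup K)), f t = ∑ t : B, f t :=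
    fun f => sum_subtype _ (fun t => by simp [hB, and_comm]) f
  rw [e2]
  by_cases hneg : ∃ τ ∈ (P : Subgroup K), s' τ = -1
  · obtain ⟨τ, hτ, sτ⟩ := hneg
    obtain ⟨N', D, h1, h2, h3, h4⟩ := hloc ((P : Subgroup K).map K.subtype)
      (by rintro _ ⟨t, -, rfl⟩; exact t.2.1) (P.isPGroup'.map _) (by
        rintro _ ⟨t, -, rfl⟩
        have h5 : tw s (K.subtype t) b = b := t.2.2
        split_ifs with h
        · rwa [tw_pos h] at h5
        · rw [tw_neg ((sgn_or s _).resolve_left h)] at h5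
          conv_rhs => rw [← h5]
          simp [mul_assoc]) τ ⟨τ, hτ, rfl⟩ sτ
    have h5 : ∀ t : B, ((t : K) : G) ∈ N' := fun t => h2 ⟨⟨t, t.2.1, rfl⟩, t.2.2⟩
    have hτB : ∀ k ∈ (P : Subgroup K), ∀ t : B, tw s' k t ∈ B := fun k hk t =>
      ⟨tw_mem hk t.2.1, by
        change s' _ = 1
        rw [sgn_tw]; exact t.2.2⟩
    let ε : B ≃ B := ⟨fun t => ⟨_, hτB τ hτ t⟩, fun t => ⟨_, hτB τ⁻¹ (inv_mem hτ) t⟩,
      fun t => Subtype.ext (tw_inv_tw _ _ _), fun t => Subtype.ext (tw_tw_inv _ _ _)⟩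
    have e3 : ∑ t : B, w t * (φ (((t : K) : G) * b) * φ (((t : K) : G) * b)⁻¹) =
        2 * ∑ t : B, w t * (D (((t : K) : G) * b) * φ (((t : K) : G) * b)⁻¹) := by
      rw [two_mul]
      nth_rewrite 2 [← Equiv.sum_comp ε (fun t : B => w t * (D (((t : K) : G) * b) *
        φ (((t : K) : G) * b)⁻¹))]
      rw [← sum_add_distrib]
      refine sum_congr rfl fun t _ => ?_
      have h6 : ((ε t : K) : G) = tw s τ (t : K) := htw τ t
      have h7 : w (ε t) = w t := hwt τ t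
      rw [h6, h7, hphi τ t t.2.2, hmul τ t t.2.2, tw_neg (show s τ = -1 from sτ),
        h4 _ (N'.mul_mem (h5 t) h1)]
      ring
    rw [e3, show Nat.card P = 2 * Nat.card B from card_eq_two_mul hτ sτ]
    convert int N' D h1 h5 h3 using 1
    have := card_ne_zero B
    push_cast
    field_simp
  · have : (P : Subgroup K) = B := by
      refine le_antisymm (fun t ht => ⟨ht, ?_⟩) inf_le_left
      exact (sgn_or s' t).resolve_right fun h => hneg ⟨t, ht, h⟩
    have h1 : Nat.card P = Nat.card B := by rw [← this]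
    rw [h1]
    exact int (X ⊓ s.ker) φ ⟨hb, sb⟩ (fun t => ⟨(t : K).2.1, t.2.2⟩) hφ

/-- The parity obstruction. -/
theorem parity {σ : G} (hσ : σ ∈ X) (sσ : s σ = -1) {φ : G → ℂ}
    (hφ : IsCharacter ↥(X ⊓ s.ker) (fun n => φ n))
    (hdag : ∀ x ∈ X, s x = -1 → ∀ n ∈ X, s n = 1 → φ (x * n⁻¹ * x⁻¹) = φ n)
    (hloc : ∀ b ∈ X, s b = 1 → Odd (orderOf b) → ∀ T ≤ X, IsPGroup 2 T →
      (∀ t ∈ T, t * b * t⁻¹ = if s t = 1 then b else b⁻¹) →
      ∀ τ ∈ T, s τ = -1 → ∃ (N' : Subgroup G) (D : G → ℂ), b ∈ N' ∧ T ⊓ s.ker ≤ N' ∧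
        IsCharacter N' (fun n => D n) ∧ ∀ n ∈ N', φ n = D n + D (τ * n⁻¹ * τ⁻¹)) :
    ∑ n ∈ fin (X ⊓ s.ker), φ n * φ n⁻¹ ≠ Nat.card ↥(X ⊓ s.ker) := by
  classical
  intro hsum
  letI : Fintype G := Fintype.ofFinite G
  set E : G → Finset G := fun b => (fin X).filter
    (fun u => s u = 1 ∧ (∃ k, orderOf u = 2 ^ k) ∧ Commute u b) with hE
  set Ω := univ.filter fun b : G => b ∈ X ∧ s b = 1 ∧ Odd (orderOf b) with hΩ
  set F : G → ℂ := fun b => if b ∈ X ∧ s b = 1 ∧ Odd (orderOf b) then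
    ∑ u ∈ E b, φ (u * b) * φ (u * b)⁻¹ else 0 with hF
  have h1 := sum_div_mem (K := X) (fun x g => tw s x g) (tw_one s) (fun x y => tw_mul s x y) O2 F
    (fun x b => ?_) (fun b => ?_)
  · have h2 : ∑ b, F b = ∑ n ∈ fin (X ⊓ s.ker), φ n * φ n⁻¹ := by
      rw [hF, ← sum_filter, sum_sigma']
      refine sum_bij (fun p _ => p.2 * p.1) ?_ ?_ ?_ ?_
      · rintro ⟨b, u⟩ h
        obtain ⟨h3, h4⟩ := mem_sigma.1 h
        obtain ⟨h5, h6, -⟩ := (mem_filter.1 h3).2
        obtain ⟨h7, h8, -⟩ := mem_filter.1 h4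
        refine mem_fin.2 ⟨X.mul_mem (mem_fin.1 h7) h5, ?_⟩
        change s (u * b) = 1
        rw [map_mul, h6, h8, one_mul]
      · rintro ⟨b, u⟩ h ⟨b', u'⟩ h' e
        obtain ⟨h3, h4⟩ := mem_sigma.1 h
        obtain ⟨h3', h4'⟩ := mem_sigma.1 h'
        obtain ⟨-, -, h5⟩ := (mem_filter.1 h3).2
        obtain ⟨-, -, h6, h7⟩ := mem_filter.1 h4
        obtain ⟨-, -, h5'⟩ := (mem_filter.1 h3').2
        obtain ⟨-, -, h6', h7'⟩ := mem_filter.1 h4'
        have e : u * b = u' * b' := e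
        have p1 := isPPart_mul h7 h6 h5.not_two_dvd_nat
        have p2 := isPPart_mul h7' h6' h5'.not_two_dvd_nat
        have e1 : u = u' := p1.unique Nat.prime_two (by rw [show u * b = u' * b' from e]; exact p2)
        subst e1
        obtain rfl : b = b' := mul_left_cancel e
        rfl
      · intro n hn
        have hn := mem_fin.1 hn
        obtain ⟨u, hu⟩ := exists_isPPart Nat.prime_two n
        have hu1 : u ∈ X ⊓ s.ker := hu.mem Nat.prime_two hn
        have hb : u⁻¹ * n ∈ X ⊓ s.ker := mul_mem (inv_mem hu1) hn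
        refine ⟨⟨u⁻¹ * n, u⟩, mem_sigma.2 ⟨mem_filter.2 ⟨mem_univ _, hb.1, hb.2, ?_⟩,
          mem_filter.2 ⟨mem_fin.2 hu1.1, hu1.2, hu.pElt, ?_⟩⟩, by simp⟩
        · exact Nat.not_even_iff_odd.1 fun h => hu.pReg h.two_dvd
        · exact (Commute.refl u).inv_right.mul_right hu.commute
      · intro p _; rfl
    rw [h2, hsum, card_eq_two_mul hσ sσ] at h1
    refine half_not_mem_O2 ?_
    convert h1 using 1
    have := card_ne_zero ↥(X ⊓ s.ker)
    push_cast
    field_simp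
  · have hiff : tw s x b ∈ X ↔ b ∈ X := ⟨fun h => by
      simpa only [tw_inv_tw] using tw_mem (s := s) (X.inv_mem x.2) h, tw_mem x.2⟩
    simp only [hF, sgn_tw, orderOf_tw, hiff]
    split_ifs with h
    · symm
      refine sum_bij' (fun u _ => tw s x u) (fun u _ => tw s (x : G)⁻¹ u) ?_ ?_ ?_ ?_ ?_
      · intro u hu
        obtain ⟨h3, h4, h5, h6⟩ := mem_filter.1 hu
        exact mem_filter.2 ⟨mem_fin.2 (tw_mem x.2 (mem_fin.1 h3)), by rwa [sgn_tw],
          by rwa [orderOf_tw], commute_tw s x h6⟩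
      · intro u hu
        obtain ⟨h3, h4, h5, h6⟩ := mem_filter.1 hu
        exact mem_filter.2 ⟨mem_fin.2 (tw_mem (X.inv_mem x.2) (mem_fin.1 h3)), by rwa [sgn_tw],
          by rwa [orderOf_tw], by simpa only [tw_inv_tw] using commute_tw s (x : G)⁻¹ h6⟩
      · intro u _; exact tw_inv_tw _ _ _
      · intro u _; exact tw_tw_inv _ _ _
      · intro u hu
        obtain ⟨h3, h4, h5, h6⟩ := mem_filter.1 hu
        have h7 : u * b ∈ X := X.mul_mem (mem_fin.1 h3) h.1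
        have h8 : s (u * b) = 1 := by rw [map_mul, h4, h.2.1, one_mul]
        rw [← tw_mul_of_commute s x h6, ← tw_inv, apply_tw hφ hdag x.2 h7 h8,
          apply_tw hφ hdag x.2 (X.inv_mem h7) (by rw [sgn_inv, h8])]
    · rfl
  · simp only [hF]
    split_ifs with h
    · have e : Nat.card {k : X // tw s k b = b} = Nat.card (twC s X b) :=
        Nat.card_congr ⟨fun k => ⟨k.1, k.1.2, k.2⟩, fun k => ⟨⟨k.1, k.2.1⟩, k.2.2⟩,
          fun _ => rfl, fun _ => rfl⟩
      rw [e]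
      convert local_mem hφ hdag h.1 h.2.1 (hloc b h.1 h.2.1 h.2.2)
    · rw [mul_zero]; exact O2.zero_mem

end par

end CL.Fs
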