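/-
A graded version of the Brauer-Witt reduction: a graded finite group is good as soon as all its
twisted `2`-elementary subgroups lie in good subgroups.
-/
import Cfsg.Agent.KSG.FsLocA
import Cfsg.Agent.KSG.FsLocP

namespace CL.Fs
open Finset Cfsg CL.Char Module
open scoped ComplexOrder

section res
variable {G : Type*} [Group G] {s : G →* ℤˣ} {X : Subgroup G} {σ : G}
variable {U : Type*} [AddCommGroup U] [Module ℂ U] {ρ : G → Module.End ℂ U}

open Classical in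
/-- Restriction to a submodule. -/
noncomputable def resP (ρ : G → Module.End ℂ U) (W : Submodule ℂ U) (g : G) : Module.End ℂ W :=
  if h : ∀ v ∈ W, ρ g v ∈ W then (ρ g).restrict h else 0

theorem resP_apply {W : Submodule ℂ U} {g : G} (h : ∀ v ∈ W, ρ g v ∈ W) (v : W) :
    (resP ρ W g v : U) = ρ g v := by
  rw [resP, dif_pos h]; rfl

theorem IsPRep.resP (hρ : IsPRep s X ρ) {W : Submodule ℂ U} (hW : StabP s X ρ W) :
    IsPRep s X (resP ρ W) := by
  refine ⟨?_, fun a ha b hb sa sb => ?_⟩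
  · ext v
    rw [resP_apply (hW 1 X.one_mem (map_one s)), hρ.one]; rfl
  · ext v
    rw [resP_apply (hW _ (X.mul_mem ha hb) (by rw [map_mul, sa, sb, one_mul])),
      Module.End.mul_apply, resP_apply (hW a ha sa), resP_apply (hW b hb sb),
      hρ.mul_apply ha hb sa sb]

theorem om_resP [Finite G] {W : Submodule ℂ U} (hW : StabP s X ρ W) (v : W) :
    (om s X (resP ρ W) v : U) = om s X ρ v := by
  rw [om, om, LinearMap.sum_apply, LinearMap.sum_apply, Submodule.coe_sum]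
  refine sum_congr rfl fun x hx => ?_
  have := (mem_negs.1 hx).1
  exact resP_apply (hW _ (X.mul_mem this this) (sgn_mul_self _ _)) v

theorem exists_irrP [FiniteDimensional ℂ U] {E : Submodule ℂ U} (hE : StabP s X ρ E)
    (h0 : E ≠ ⊥) : ∃ W ≤ E, W ≠ ⊥ ∧ StabP s X ρ W ∧
      ∀ W', StabP s X (resP ρ W) W' → W' = ⊥ ∨ W' = ⊤ := by
  obtain ⟨W, ⟨h1, h2, h3⟩, hmin⟩ := (wellFounded_lt (α := Submodule ℂ U)).has_min
    {W | W ≤ E ∧ W ≠ ⊥ ∧ StabP s X ρ W} ⟨E, le_rfl, h0, hE⟩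
  refine ⟨W, h1, h2, h3, fun W' hW' => or_iff_not_imp_left.2 fun hb => ?_⟩
  have h4 : W'.map W.subtype ≤ W := Submodule.map_subtype_le W W'
  have h5 : W'.map W.subtype = W := eq_of_le_of_not_lt h4 (hmin _ ⟨h4.trans h1, fun e => hb
    (Submodule.map_injective_of_injective W.injective_subtype (by rw [e, Submodule.map_bot])), by
      rintro n hn sn _ ⟨v, hv, rfl⟩
      exact ⟨_, hW' n hn sn v hv, resP_apply (h3 n hn sn) v⟩⟩)
  exact Submodule.map_injective_of_injective W.injective_subtype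
    (by rw [h5, Submodule.map_top, Submodule.range_subtype])

/-- The representation of the positive part. -/
def IsPRep.toRep (hρ : IsPRep s X ρ) : Representation ℂ ↥(X ⊓ s.ker) U where
  toFun n := ρ n
  map_one' := hρ.one
  map_mul' a b := hρ.mul a a.2.1 b b.2.1 a.2.2 b.2.2

theorem IsPRep.isCharacter [FiniteDimensional ℂ U] (hρ : IsPRep s X ρ) :
    IsCharacter ↥(X ⊓ s.ker) (fun n => LinearMap.trace ℂ U (ρ n)) :=
  isCharacter_character hρ.toRep

theorem IsPRep.exists_compl [Finite G] [FiniteDimensional ℂ U] (hρ : IsPRep s X ρ)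
    {W : Submodule ℂ U} (hW : StabP s X ρ W) : ∃ W', StabP s X ρ W' ∧ IsCompl W W' ∧
      ∀ n ∈ X, s n = 1 → LinearMap.trace ℂ U (ρ n) =
        LinearMap.trace ℂ W (CL.Fs.resP ρ W n) + LinearMap.trace ℂ W' (CL.Fs.resP ρ W' n) := by
  obtain ⟨W', h⟩ := exists_isCompl_subrep (ρ := hρ.toRep) ⟨W, fun n v hv => hW n n.2.1 n.2.2 v hv⟩
  have hW' : StabP s X ρ W'.toSubmodule := fun n hn sn v hv =>
    W'.apply_mem_toSubmodule ⟨n, hn, sn⟩ hv
  refine ⟨W'.toSubmodule, hW', isCompl_toSubmodule h, fun n hn sn => ?_⟩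
  have := congrFun (character_eq_add_of_isCompl h) ⟨n, hn, sn⟩
  refine this.trans ?_
  rw [Pi.add_apply, Representation.character, Representation.character]
  congr 2
  · ext v; exact (resP_apply (hW n hn sn) v).symm
  · ext v; exact (resP_apply (hW' n hn sn) v).symm

end res

section main
variable {G : Type*} [Group G] [Finite G] {s : G →* ℤˣ} {X : Subgroup G} {σ : G}
variable {U : Type} [AddCommGroup U] [Module ℂ U] [FiniteDimensional ℂ U]
  {ρ : G → Module.End ℂ U}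

/-- A skew form for a good group is hyperbolic. -/
theorem exists_hyperbolic (hg : Good s X) (hρ : IsPRep s X ρ) (hσ : σ ∈ X) (sσ : s σ = -1)
    {B : U →ₗ[ℂ] U →ₗ[ℂ] ℂ} (hB : InvF s X σ ρ B) (hs : SkewF σ ρ B)
    (hi : Function.Injective B) : ∃ D : G → ℂ, IsCharacter ↥(X ⊓ s.ker) (fun n => D n) ∧
      ∀ n ∈ X ⊓ s.ker, LinearMap.trace ℂ U (ρ n) = D n + D (σ * n⁻¹ * σ⁻¹) := by
  obtain ⟨W, ⟨h1, h2⟩, hmax⟩ := (wellFounded_gt (α := Submodule ℂ U)).has_min
    {W | StabP s X ρ W ∧ ∀ v ∈ W, ∀ w ∈ W, B v w = 0}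
    ⟨⊥, fun n _ _ v hv => by rw [(Submodule.mem_bot ℂ).1 hv, map_zero]; exact zero_mem _,
      fun v hv w _ => by rw [(Submodule.mem_bot ℂ).1 hv, map_zero]; rfl⟩
  obtain ⟨W', h3, h4, h5⟩ := hρ.exists_compl h1
  have hσ2 : σ * σ ∈ X := X.mul_mem hσ hσ
  let O : Submodule ℂ U := W' ⊓ ⨅ v ∈ W, LinearMap.ker (B v)
  have hO : ∀ w, w ∈ O ↔ w ∈ W' ∧ ∀ v ∈ W, B v w = 0 := fun w => by
    simp [O, Submodule.mem_iInf]
  have hO0 : O = ⊥ := by
    by_contra h0
    have hOs : StabP s X ρ O := fun n hn sn w hw => by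
      obtain ⟨h6, h7⟩ := (hO w).1 hw
      refine (hO _).2 ⟨h3 n hn sn w h6, fun v hv => ?_⟩
      rw [← hB.adj hρ hn sn]
      exact h7 _ (h1 _ (conj_mem' hσ (X.inv_mem hn)) (by rw [sgn_conj, sgn_inv, sn]) v hv)
    obtain ⟨V, k1, k2, k3, k4⟩ := exists_irrP hOs h0
    haveI : Nontrivial V := Submodule.nontrivial_iff_ne_bot.2 k2
    have k5 : B.compl₁₂ V.subtype V.subtype = 0 := by
      refine eq_zero_of_skew hg (hρ.resP k3) hσ sσ k4 (fun n hn sn v w => ?_) (fun v w => ?_)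
      · simp only [LinearMap.compl₁₂_apply, Submodule.subtype_apply]
        rw [resP_apply (k3 n hn sn), resP_apply (k3 _ (conj_mem' hσ hn) (by rw [sgn_conj, sn])),
          hB n hn sn]
      · simp only [LinearMap.compl₁₂_apply, Submodule.subtype_apply]
        rw [resP_apply (k3 _ hσ2 (sgn_mul_self _ _)), hs]
    have k6 : ∀ v ∈ V, ∀ w ∈ V, B v w = 0 := fun v hv w hw => congr($k5 ⟨v, hv⟩ ⟨w, hw⟩)
    have k7 : ∀ v ∈ W, ∀ w ∈ V, B v w = 0 := fun v hv w hw => ((hO w).1 (k1 hw)).2 v hv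
    have k8 : ∀ v ∈ V, ∀ w ∈ W, B v w = 0 := fun v hv w hw => by
      rw [← hB.swp_swp hσ, hs, k7 _ (h1 _ hσ2 (sgn_mul_self _ _) w hw) v hv, neg_zero]
    refine hmax (W ⊔ V) ⟨fun n hn sn v hv => ?_, fun v hv w hw => ?_⟩ ?_
    · obtain ⟨a, ha, b, hb, rfl⟩ := Submodule.mem_sup.1 hv
      rw [map_add]
      exact Submodule.add_mem_sup (h1 n hn sn a ha) (k3 n hn sn b hb)
    · obtain ⟨a, ha, b, hb, rfl⟩ := Submodule.mem_sup.1 hv
      obtain ⟨a', ha', b', hb', rfl⟩ := Submodule.mem_sup.1 hw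
      simp only [map_add, LinearMap.add_apply, h2 a ha a' ha', k7 a ha b' hb', k8 b hb a' ha',
        k6 b hb b' hb', add_zero]
    · refine left_lt_sup.2 fun h => k2 ?_
      exact (le_inf h (k1.trans inf_le_left)).trans h4.disjoint.le_bot |> le_bot_iff.1
  refine ⟨fun n => LinearMap.trace ℂ W (resP ρ W n), (hρ.resP h1).isCharacter, fun n hn => ?_⟩
  obtain ⟨hn, sn⟩ := hn
  have sn : s n = 1 := sn
  rw [h5 n hn sn]
  congr 1
  symm
  refine trace_eq_of_pairing (B.compl₁₂ W.subtype W'.subtype) ?_ ?_ _ _ fun v w => ?_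
  · rw [injective_iff_map_eq_zero] at hi ⊢
    intro v hv
    refine Subtype.ext (hi v (LinearMap.ext fun w => ?_))
    obtain ⟨a, ha, b, hb, rfl⟩ := Submodule.mem_sup.1 (h4.sup_eq_top ▸ Submodule.mem_top : w ∈ W ⊔ W')
    rw [map_add, h2 v v.2 a ha, show B v b = 0 from congr($hv ⟨b, hb⟩)]
    simp
  · rw [injective_iff_map_eq_zero]
    intro w hw
    have : (w : U) ∈ O := (hO w).2 ⟨w.2, fun v hv => congr($hw ⟨v, hv⟩)⟩
    rw [hO0] at this
    exact Subtype.ext this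
  · simp only [LinearMap.compl₁₂_apply, Submodule.subtype_apply]
    rw [resP_apply (h3 n hn sn), resP_apply (h1 _ (conj_mem' hσ (X.inv_mem hn))
      (by rw [sgn_conj, sgn_inv, sn])), hB.adj hρ hn sn]

end main

theorem good_of_local {G : Type*} [Group G] [Finite G] {s : G →* ℤˣ} {X : Subgroup G}
    (h : ∀ b ∈ X, s b = 1 → Odd (orderOf b) → ∀ T : Subgroup G, T ≤ X → IsPGroup 2 T →
      (∃ t ∈ T, s t = -1) → (∀ t ∈ T, t * b * t⁻¹ = if s t = 1 then b else b⁻¹) →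
      ∃ X' ≤ X, b ∈ X' ∧ T ≤ X' ∧ Good s X') : Good s X := by
  classical
  by_cases hneg : ∃ σ ∈ X, s σ = -1
  swap
  · exact good_of_no_neg fun x hx => (sgn_or s x).resolve_right fun e => hneg ⟨x, hx, e⟩
  obtain ⟨σ, hσ, sσ⟩ := hneg
  intro U _ _ _ ρ hρ c y hy hc
  by_contra hc0
  obtain ⟨W, h1, h2, h3, h4⟩ := exists_irrP (s := s) (X := X) (ρ := ρ)
    (E := Module.End.eigenspace (om s X ρ) c)
    (fun n hn sn v hv => Module.End.mem_eigenspace_iff.2
      (eigenspace_inv hρ c hn sn (Module.End.mem_eigenspace_iff.1 hv)))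
    (fun e => hy (by
      have : y ∈ Module.End.eigenspace (om s X ρ) c := Module.End.mem_eigenspace_iff.2 hc
      rwa [e, Submodule.mem_bot] at this))
  haveI : Nontrivial W := Submodule.nontrivial_iff_ne_bot.2 h2
  have hρ' := hρ.resP h3
  obtain ⟨B, hB0, hB, hs⟩ := exists_skew hρ' hσ sσ (c := c) (fun v => Subtype.ext (by
    rw [om_resP h3]; exact Module.End.mem_eigenspace_iff.1 (h1 v.2))) hc0
  have hi := (hB.eq_zero_or_inj hρ' hσ h4).resolve_left hB0
  refine parity hσ sσ (φ := fun n => LinearMap.trace ℂ W (resP ρ W n)) hρ'.isCharacter ?_ ?_ ?_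
  · intro x hx sx n hn sn
    obtain ⟨B', k1, k2, k3⟩ := exists_change hρ' hσ sσ hx sx hB hs hi
    exact trace_eq_of_pairing B' k3 (k2.flip_inj hρ' hx k3) _ _ (k1.adj hρ' hn sn)
  · intro b hb sb ho T hT h2T hact τ hτ sτ
    obtain ⟨X', k1, k2, k3, k4⟩ := h b hb sb ho T hT h2T ⟨τ, hτ, sτ⟩ hact
    obtain ⟨B', k5, k6, k7⟩ := exists_change hρ' hσ sσ (hT hτ) sτ hB hs hi
    obtain ⟨D, k8, k9⟩ := exists_hyperbolic k4 (hρ'.mono k1) (k3 hτ) sτ (k5.mono k1) k6 k7
    exact ⟨X' ⊓ s.ker, D, ⟨k2, sb⟩, inf_le_inf_right _ k3, k8, k9⟩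
  · letI : Fintype ↥(X ⊓ s.ker) := Fintype.ofFinite _
    haveI : hρ'.toRep.IsIrreducible := (isIrreducible_iff _).2 ⟨inferInstance, fun V hV =>
      h4 V fun n hn sn => hV ⟨n, hn, sn⟩⟩
    have k1 := isIrrCharacter_character hρ'.toRep
    have k2 := card_mul_classInner hρ'.toRep.character hρ'.toRep.character
    rw [k1.inner_self, mul_one] at k2
    rw [k2, sum_subtype (p := fun n => n ∈ X ⊓ s.ker) _ (fun _ => mem_fin)]
    refine sum_congr rfl fun n _ => ?_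
    rw [← k1.apply_inv]
    rfl

end CL.Fs
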