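/-
The stabilizer of a totally singular free cyclic submodule is good.
-/
import Cfsg.Agent.KSG.FsGeo4
import Cfsg.Agent.KSG.FsHeis
import Cfsg.Agent.KSG.FsLocal

namespace CL.Fs
open scoped ComplexOrder
namespace HD
variable {R V : Type*} [CommRing R] [AddCommGroup V] [Module R V] {D : HD R V}
namespace Hyp
variable {s0 s s' : V} (H : D.Hyp s0 s s') [Finite R] [Finite V]
include H

theorem nonneg_heis (hn : ∃ r, D.σ r ≠ r)
    (gW : Good (sn _) (H.proj.res.M ⟨D.pp s s' s0, H.proj.mem _⟩))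
    {U : Type} [AddCommGroup U] [Module ℂ U] [FiniteDimensional ℂ U]
    {ρ : Equiv.Perm V × ℤˣ → Module.End ℂ U} (hρ : IsPRep (sn V) (D.St s0 s) ρ) {y : U}
    (hy : y ≠ 0) {μ : Equiv.Perm V × ℤˣ → ℂ} (hμ : ∀ z ∈ H.Zg, ρ z y = μ z • y)
    (hne : ∃ z ∈ H.Zg, μ z ≠ 1) {c : ℂ} (hc : om (sn V) (D.St s0 s) ρ y = c • y) : 0 ≤ c := by
  have hZY : H.Zg ≤ D.St s0 s := H.Z_le_Q.trans H.Q_le_St
  have hZp : ∀ z ∈ H.Zg, sn V z = 1 := fun z hz => hz.1
  obtain ⟨μ1, μm⟩ := hρ.lam_mul hZY hZp hy hμ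
  have μ2 : ∀ z ∈ H.Zg, μ z * μ z = 1 := fun z hz => by rw [← μm z hz z hz, H.Z_sq z hz, μ1]
  have h0 : s0 = 0 := by
    by_contra h0
    obtain ⟨r, hr⟩ := hn
    exact hr (H.adm.triv H.simple h0 r)
  have o0 : ∀ w, D.h s0 w = 0 := fun w => by rw [h0, h_zero_left]
  set Yμ := stabS _ _ H.norm_Z μ with hYμ
  have hYY : Yμ ≤ D.St s0 s := fun x hx => hx.1
  have k := om_eigen (L := D.St s0 s) (L' := Yμ) le_rfl hZY hZp
    (fun y hy => ⟨y, hy, 1, Subgroup.one_mem _, (mul_one y).symm⟩) H.norm_Z hρ hy hμ hYY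
    (fun l hl _ => stabS_iff H.norm_Z μ2 hl)
  rw [hc] at k
  refine nonneg_of_div (card_fin_pos (D.St s0 s ⊓ H.Zg)) (card_fin_pos H.Zg) ?_
  have hQY : H.Qg ≤ Yμ := fun q hq => ⟨H.Q_le_St hq, fun z hz => by
    rw [mul_assoc, H.Z_comm z hz q hq, inv_mul_cancel_left]⟩
  obtain ⟨ζ, i, z1, z2, z3⟩ := H.simple.exists_zeta hn
  obtain ⟨δ, hδ, -⟩ := H.simple.exists_delta hn
  have hp := H.proj
  -- the central element of odd order
  have hF : ∀ a b : R, ∀ v, (fun v => v + (1 + a) • D.pp s s' v) (v + (1 + b) • D.pp s s' v) =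
      v + (1 + a * b) • D.pp s s' v := fun a b v => by
    simp only [map_add, map_smul, hp.idem]
    linear_combination (norm := module) D.vadd_self ((1 + a + b) • D.pp s s' v)
  obtain ⟨c0, hc0, c2, c1⟩ := exists_M (D := D) (s0 := s0) 1
    (fun v => v + (1 + ζ) • D.pp s s' v) (fun u v => by rw [map_add]; module)
    (fun r v => by rw [map_smul, sg_one]; module)
    (fun v => by
      rw [add_smul, one_smul, ← add_assoc, hp.Q_split (hp.ker v) (Submodule.smul_mem _ _ (hp.mem v)),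
        z2, ← hp.Q_split (hp.ker v) (hp.mem v), hp.split])
    (by rw [h0]; simp)
  have cs : c0.1 s = s := by rw [c1, H.p_s, smul_zero, add_zero]
  have cs' : c0.1 s' = s' := by rw [c1, H.p_s', smul_zero, add_zero]
  have cL : c0 ∈ D.St s0 s ⊓ D.St s0 s' :=
    ⟨⟨hc0, 1, by rw [cs, one_smul]⟩, hc0, 1, by rw [cs', one_smul]⟩
  have cinv : ∀ v, c0⁻¹.1 v = v + (1 + D.σ ζ) • D.pp s s' v := fun v => by
    apply c0.1.injective
    rw [ap_inv, c1]
    have := hF ζ (D.σ ζ) v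
    rw [z1, D.add_self, zero_smul, add_zero] at this
    exact this.symm
  have cE : ∀ w ∈ D.WW s s', ∀ z v, c0.1 (D.E s w z v) = D.E s (ζ • w) z (c0.1 v) := by
    intro w hw z v
    rw [conj_E hc0 (r := 1) (by rw [cs, one_smul]), c2, c1 w, hp.fix w hw, add_smul, one_smul,
      ← add_assoc, D.vadd_self]
    simp
  have cY : c0 ∈ Yμ := ⟨cL.1, fun z hz => by
    obtain ⟨k2, a, -, k4⟩ := hz
    congr 1
    refine ext' (sgn_conj' (sn V) c0 z) fun v => ?_
    rw [mul_ap, mul_ap, k4, k4]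
    apply c0.1.injective
    rw [ap_inv, cE 0 (Submodule.zero_mem _), smul_zero]⟩
  refine nonneg_of_heis (Y := Yμ) (L := (D.St s0 s ⊓ D.St s0 s') ⊓ Yμ) (Q := H.Qg) (Z := H.Zg)
    inf_le_right hQY H.Q_pos ?_ (fun l hl => H.norm_Q l hl.1) H.Z_le_Q H.Q_pgroup μ H.Z_comm H.Z_sq
    (fun l hl z hz => ⟨H.norm_Z l hl.1.1 z hz, hl.2.2 z hz⟩) H.comm_mem_Z ?_ c0 ⟨cL, cY⟩ c2 ?_ ?_ ?_
    (H.good_Lsub inf_le_left ?_ gW) (hρ.mono hYY) hy hμ (eigen_div (card_fin_pos _) k)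
  · intro y hy
    obtain ⟨l, hl, q, hq, rfl⟩ := H.St_eq y hy.1
    refine ⟨l, ⟨hl, ?_⟩, q, hq, rfl⟩
    simpa using Subgroup.mul_mem _ hy (Subgroup.inv_mem _ (hQY hq))
  · intro a ha h
    obtain ⟨-, w, z, h1, -, -, h4⟩ := id ha
    by_cases hw : w = 0
    · subst hw
      exact H.mem_Z_of ha h4
    exfalso
    obtain ⟨w', hw', hne'⟩ : ∃ w' ∈ D.WW s s', D.h w' w ≠ 0 := by
      by_contra hcon
      push Not at hcon
      exact hw (hp.nd w h1 fun y hy => D.h_eq_zero_comm (hcon y hy))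
    obtain ⟨i, j, hij⟩ := H.simple.exists_one hne'
    obtain ⟨z0, hz0, hne⟩ := hne
    obtain ⟨k2, k, k3, k4⟩ := id hz0
    have hk : D.σ k = k := by
      have := k3.tr
      rw [h_zero_left] at this
      exact (D.eq_of_add this).symm
    set t := δ * k * i + D.σ (δ * k * j) with ht
    have hw'' := Submodule.smul_mem _ t hw'
    obtain ⟨z', hz'⟩ := H.simple.exists_par (t • w')
    obtain ⟨b, hb, b1⟩ := H.exists_E hw'' (o0 _) hz'
    apply hne
    rw [← h b hb]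
    congr 1
    refine ext' (k2.trans (H.comm_mem_Z a ha b hb).1.symm) fun v => ?_
    rw [k4, H.comm_ap h1 hw'' h4 b1]
    congr 1
    have hij' := congrArg D.σ hij
    rw [D.h_smul, h_smul_right, D.h_symm w' w, ht]
    simp only [map_add, map_mul, D.σσ, hk, map_one] at hij' ⊢
    linear_combination -k * hδ - δ * k * hij - D.σ δ * k * hij'
  · obtain ⟨n, hn, h⟩ := D.exists_odd_unit
    have key : ∀ m : ℕ, ∀ v, (c0 ^ m).1 v = v + (1 + ζ ^ m) • D.pp s s' v := fun m => by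
      induction m with
      | zero => intro v; rw [pow_zero, pow_zero, D.add_self, zero_smul, add_zero]; rfl
      | succ m ih => intro v; rw [pow_succ', mul_ap, ih, c1, pow_succ']; exact hF _ _ v
    refine Odd.of_dvd_nat hn (orderOf_dvd_of_pow_eq_one (ext' ?_ fun v => ?_))
    · rw [Prod.pow_snd, c2, one_pow]; rfl
    · rw [key, h ζ _ z1, D.add_self, zero_smul, add_zero]; rfl
  · intro l hl
    have hm := hl.1.1.1
    split_ifs with h
    · refine ext' (sgn_conj' (sn V) l c0) fun v => l.1.injective ?_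
      have h : l.2 = 1 := h
      rw [mul_ap, mul_ap, ap_inv, c1, c1, M_add hm, M_smul hm, H.L_comm hl.1, h, sg_one]
    · refine ext' ((sgn_conj' (sn V) l c0).trans (snd_inv' c0).symm) fun v => l.1.injective ?_
      have h : l.2 = -1 := (sgn_or (sn V) l).resolve_left h
      rw [mul_ap, mul_ap, ap_inv, c1, cinv, M_add hm, M_smul hm, H.L_comm hl.1, h, sg_neg, map_add,
        map_one, D.σσ]
  · intro a ha h
    obtain ⟨-, w, z, h1, -, h3, h4⟩ := id ha
    have : ζ • w + w = 0 := by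
      refine H.eq_zero_of_mem_Z h (Submodule.add_mem _ (Submodule.smul_mem _ _ h1) h1)
        (z := z + D.σ z + D.h w (ζ • w)) fun v => ?_
      rw [← E_comp H.ss (Submodule.smul_mem _ ζ h1).1 h1.1]
      obtain ⟨u, rfl⟩ := (a * c0).1.surjective v
      have e : (c0 * a * c0⁻¹ * a⁻¹).1 ((a * c0).1 u) = (c0 * a).1 u := by
        rw [← mul_ap]; congr 2; group
      rw [e, mul_ap, mul_ap, h4, h4, cE w h1, E_comp H.ss h1.1 h1.1, D.vadd_self,
        add_comm (D.σ z), h3.tr, D.add_self, E_zero]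
    have hw : w = 0 := by
      rw [← one_smul R w, ← z3, mul_smul, add_smul, one_smul, add_comm, this, smul_zero]
    subst hw
    exact H.mem_Z_of ha h4
  · intro x hx m hm m2 m1
    refine ⟨hm, hm.1, fun z hz => ?_⟩
    rw [← hx.2.2 z hz]
    obtain ⟨-, a, -, k4⟩ := hz
    obtain ⟨-, r, hr⟩ := Subgroup.inv_mem _ hx.1.1
    have hr' : m⁻¹.1 s = r • s := by
      apply m.1.injective
      rw [ap_inv, M_smul hm.1.1, m2, m1, ← M_smul hx.1.1.1, ← hr, ap_inv]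
    congr 1
    refine ext' ((sgn_conj' (sn V) m z).trans (sgn_conj' (sn V) x z).symm) fun v => ?_
    rw [H.conj_ap hm.1.1 hr' k4, H.conj_ap hx.1.1.1 hr k4, m2,
      M_zero (Subgroup.inv_mem _ hm.1.1), M_zero (Subgroup.inv_mem _ hx.1.1.1)]

theorem good_St [Nontrivial R]
    (IH : ∀ (W : Submodule R V) (p : V →ₗ[R] V) (hp : D.Proj W p), s ∉ W → ∀ w0 : W,
      hp.res.Adm w0 → Good (sn W) (hp.res.M w0))
    (IH' : ∀ (W : Submodule R V) (p : V →ₗ[R] V) (hp : D.Proj W p), s ∉ W → ∀ w0 w : W,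
      hp.res.Adm w0 → Free R w → hp.res.h w0 w = 0 → (w0 = 0 ∨ hp.res.Sing w) →
      Good (sn W) (hp.res.St w0 w)) : Good (sn V) (D.St s0 s) := by
  intro U _ _ _ ρ hρ c y hy hc
  have hZY : H.Zg ≤ D.St s0 s := H.Z_le_Q.trans H.Q_le_St
  have hmul : ∀ a ∈ H.Qg, ∀ b ∈ H.Qg, ∀ v, ρ a (ρ b v) = ρ (a * b) v := fun a ha b hb v => by
    rw [hρ.mul a (H.Q_le_St ha) b (H.Q_le_St hb) ha.1 hb.1]; rfl
  obtain ⟨y1, hy1, hy10, μ, hμ⟩ := exists_common_eigen (fun g => g ∈ H.Zg) ρ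
    (Module.End.eigenspace (om (sn V) (D.St s0 s) ρ) c)
    (fun e => hy (by
      have : y ∈ Module.End.eigenspace (om (sn V) (D.St s0 s) ρ) c :=
        Module.End.mem_eigenspace_iff.2 hc
      rwa [e, Submodule.mem_bot] at this))
    (fun g hg v hv => Module.End.mem_eigenspace_iff.2
      (eigenspace_inv hρ c (hZY hg) hg.1 (Module.End.mem_eigenspace_iff.1 hv)))
    (fun a b ha hb v _ => by
      rw [hmul a (H.Z_le_Q ha) b (H.Z_le_Q hb), hmul b (H.Z_le_Q hb) a (H.Z_le_Q ha),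
        H.Z_comm a ha b (H.Z_le_Q hb)])
  have hy1 := Module.End.mem_eigenspace_iff.1 hy1
  by_cases hne : ∃ z ∈ H.Zg, μ z ≠ 1
  · refine H.nonneg_heis ?_ (IH _ _ H.proj H.not_mem _ (H.proj.res_adm ?_)) hρ hy10 hμ hne hy1
    · by_contra hcon
      push Not at hcon
      obtain ⟨z, hz, h⟩ := hne
      obtain ⟨z2, a, h3, h4⟩ := id hz
      have : a = 0 := h3.eq_of_triv hcon (by simpa using D.par_tr 0)
      have : z = 1 := ext' z2 fun v => by rw [h4, this, E_zero]; rfl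
      exact h (this ▸ (hρ.lam_mul hZY (fun z hz => hz.1) hy10 hμ).1)
    · change D.Adm (D.pp s s' s0)
      rw [H.p_s0]; exact H.adm
  push Not at hne
  let E1 : Submodule ℂ U :=
    { carrier := {v | om (sn V) (D.St s0 s) ρ v = c • v ∧ ∀ z ∈ H.Zg, ρ z v = v}
      add_mem' := fun ha hb => ⟨by rw [map_add, ha.1, hb.1, smul_add], fun z hz => by
        rw [map_add, ha.2 z hz, hb.2 z hz]⟩
      zero_mem' := ⟨by simp, fun z _ => by simp⟩
      smul_mem' := fun r a ha => ⟨by rw [map_smul, ha.1, smul_comm], fun z hz => by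
        rw [map_smul, ha.2 z hz]⟩ }
  obtain ⟨y2, hy2, hy20, lam, hlam⟩ := exists_common_eigen (fun g => g ∈ H.Qg) ρ E1
    (fun e => hy10 (by
      have : y1 ∈ E1 := ⟨hy1, fun z hz => by rw [hμ z hz, hne z hz, one_smul]⟩
      rwa [e, Submodule.mem_bot] at this))
    (fun g hg v hv => ⟨eigenspace_inv hρ c (H.Q_le_St hg) hg.1 hv.1, fun z hz => by
      rw [hmul z (H.Z_le_Q hz) g hg, H.Z_comm z hz g hg, ← hmul g hg z (H.Z_le_Q hz), hv.2 z hz]⟩)
    (fun a b ha hb v hv => by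
      have hz := H.comm_mem_Z _ (Subgroup.inv_mem _ ha) _ (Subgroup.inv_mem _ hb)
      rw [hmul a ha b hb, hmul b hb a ha, show a * b = b * a * (a⁻¹ * b⁻¹ * a⁻¹⁻¹ * b⁻¹⁻¹) by group,
        ← hmul _ (Subgroup.mul_mem _ hb ha) _ (H.Z_le_Q hz), hv.2 _ hz])
  obtain ⟨-, hm⟩ := hρ.lam_mul H.Q_le_St H.Q_pos hy20 hlam
  have hZ : ∀ z ∈ H.Zg, lam z = 1 := fun z hz => eq_of_smul_eq hy20 (by
    rw [← hlam z (H.Z_le_Q hz), hy2.2 z hz, one_smul])
  exact nonneg_of_eigen (L' := stabS _ _ H.norm_Q lam) inf_le_left H.Q_le_St H.Q_pos H.St_eq H.norm_Q hρ hy20 hlam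
    (fun x hx => hx.1) (fun l hl _ => stabS_iff H.norm_Q (fun q hq => by
      rw [← hm q hq q hq, hZ _ (H.sq_mem_Z q hq)]) hl) (H.good_stab hm hZ IH IH') hy2.1

end Hyp
end HD
end CL.Fs
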