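/-
Change of rings for hermitian-quadratic data: adjoining an abelian group of odd order, and
passing to a primitive symmetric idempotent.
-/
import Cfsg.Agent.KSG.FsGeo2

namespace CL.Fs
namespace HD
open MonoidAlgebra
variable {R V : Type*} [CommRing R] [AddCommGroup V] [Module R V] (D : HD R V)

section ext
variable {C : Type*} [CommGroup C] [Finite C] (φ : C →* Module.End R V)

/-- The module structure over the group algebra. -/
@[reducible] noncomputable def gmod : Module (MonoidAlgebra R C) V :=
  Module.compHom V (MonoidAlgebra.lift R (Module.End R V) C φ).toRingHom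

omit [Finite C] in
theorem gmod_single (g : C) (r : R) (v : V) :
    (letI := gmod φ; (single g r : MonoidAlgebra R C) • v) = r • φ g v := by
  change MonoidAlgebra.lift R (Module.End R V) C φ (single g r) v = _
  rw [lift_single]; rfl

/-- The involution of the group algebra. -/
noncomputable def gσ (C : Type*) [CommGroup C] : MonoidAlgebra R C →+* MonoidAlgebra R C :=
  liftNCRingHom (singleOneRingHom.comp D.σ) ((of R C).comp invMonoidHom) fun _ _ => Commute.all _ _

omit [Finite C] in
theorem gσ_single (g : C) (r : R) : D.gσ C (single g r) = single g⁻¹ (D.σ r) := by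
  rw [gσ, liftNCRingHom_single]
  change single 1 (D.σ r) * single g⁻¹ 1 = _
  rw [single_mul_single, one_mul, mul_one]

omit [Finite C] in
theorem gσ_coeff (x : MonoidAlgebra R C) (a : C) : (D.gσ C x).coeff a = D.σ (x.coeff a⁻¹) := by
  classical
  induction x using induction_linear with
  | zero => simp
  | add x y hx hy => simp [hx, hy]
  | single g r =>
    rw [gσ_single, coeff_single, coeff_single, Finsupp.single_apply, Finsupp.single_apply]
    by_cases h : g⁻¹ = a
    · rw [if_pos h, if_pos (by rw [← h, inv_inv])]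
    · rw [if_neg h, if_neg (fun e => h (by rw [e, inv_inv])), map_zero]

/-- The hermitian form with values in the group algebra. -/
noncomputable def gh (x y : V) : MonoidAlgebra R C :=
  ofCoeff (Finsupp.equivFunOnFinite.symm fun a => D.h x (φ a y))

theorem gh_coeff (x y : V) (a : C) : (D.gh φ x y).coeff a = D.h x (φ a y) := rfl

omit [Finite C] in
theorem h_φ (hQ : ∀ g v, D.Q (φ g v) = D.Q v) (g : C) (x y : V) :
    D.h (φ g x) y = D.h x (φ g⁻¹ y) := by
  have := h_of_semi (D := D) (ε := 1) (f := φ g) (map_add _) (fun r v => by rw [map_smul, sg_one])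
    (hQ g) x (φ g⁻¹ y)
  rwa [← Module.End.mul_apply, ← map_mul, mul_inv_cancel, map_one, sg_one] at this

/-- The data over the group algebra. -/
noncomputable def gext (hQ : ∀ g v, D.Q (φ g v) = D.Q v) (hodd : Odd (Nat.card C)) :
    @HD (MonoidAlgebra R C) V _ _ (gmod φ) :=
  letI := gmod φ
  { σ := D.gσ C
    σσ := fun r => MonoidAlgebra.ext (Finsupp.ext fun a => by
      rw [gσ_coeff, gσ_coeff, inv_inv, D.σσ])
    two := by rw [ofNat_def, D.two, single_zero]
    frob := by
      obtain ⟨k, hk⟩ := D.frob
      have hc : Nat.Coprime 2 (Nat.card C) := Nat.coprime_two_left.2 hodd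
      have ht : 0 < (k + 1) * Nat.totient (Nat.card C) :=
        Nat.mul_pos k.succ_pos (Nat.totient_pos.2 Nat.card_pos)
      refine ⟨(k + 1) * Nat.totient (Nat.card C) - 1, fun x => ?_⟩
      rw [Nat.sub_add_cancel ht]
      have h2 : (2 : MonoidAlgebra R C) = 0 := by rw [ofNat_def, D.two, single_zero]
      have hadd : ∀ (n : ℕ) (a b : MonoidAlgebra R C), (a + b) ^ 2 ^ n = a ^ 2 ^ n + b ^ 2 ^ n := by
        intro n a b
        induction n with
        | zero => simp
        | succ n ih =>
          rw [pow_succ, pow_mul, pow_mul, pow_mul, ih]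
          linear_combination (a ^ 2 ^ n * b ^ 2 ^ n) * h2
      induction x using induction_linear with
      | zero => exact zero_pow (by positivity)
      | add x y hx hy => rw [hadd, hx, hy]
      | single g r =>
        rw [single_pow]
        congr 1
        · have h1 : 2 ^ ((k + 1) * Nat.totient (Nat.card C)) ≡ 1 [MOD Nat.card C] := by
            rw [mul_comm, pow_mul]
            simpa using (Nat.ModEq.pow_totient hc).pow (k + 1)
          conv_rhs => rw [← pow_one g]
          exact pow_eq_pow_iff_modEq.2 (h1.of_dvd (orderOf_dvd_natCard g))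
        · generalize Nat.totient (Nat.card C) = m
          induction m with
          | zero => simp
          | succ m ih => rw [mul_add, mul_one, pow_add, pow_mul, ih, hk]
    τ := AddMonoidHom.mk' (fun x => D.τ (x.coeff 1)) fun a b => by simp
    τσ := fun r => by
      simp only [AddMonoidHom.mk'_apply]
      rw [gσ_coeff, inv_one, D.τσ]
    τnd := fun r hr => MonoidAlgebra.ext (Finsupp.ext fun a => D.τnd _ fun t => by
      have := hr (single a⁻¹ t)
      simpa using this)
    h := D.gh φ
    h_add := fun x y z => MonoidAlgebra.ext (Finsupp.ext fun a => by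
      simp only [coeff_add, Finsupp.add_apply, gh_coeff, D.h_add])
    h_smul := fun r x y => by
      induction r using induction_linear with
      | zero => exact MonoidAlgebra.ext (Finsupp.ext fun a => by simp [gh_coeff])
      | add r t hr ht =>
        rw [add_mul, ← hr, ← ht, add_smul]
        exact MonoidAlgebra.ext (Finsupp.ext fun a => by
          simp only [coeff_add, Finsupp.add_apply, gh_coeff, D.h_add])
      | single g r =>
        refine MonoidAlgebra.ext (Finsupp.ext fun a => ?_)
        rw [coeff_single_mul_apply, gh_coeff, gh_coeff, gmod_single, D.h_smul, D.h_φ φ hQ, map_mul]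
        rfl
    h_symm := fun x y => MonoidAlgebra.ext (Finsupp.ext fun a => by
      rw [gσ_coeff, gh_coeff, gh_coeff, ← D.h_φ φ hQ, σ_h])
    nd := fun x hx => D.nd x fun y => by
      have := D.gh_coeff φ x y 1
      rw [hx y, map_one φ] at this
      exact this.symm
    Q := D.Q
    Q_add := fun x y => by
      simp only [AddMonoidHom.mk'_apply]
      rw [gh_coeff, map_one, D.Q_add]; rfl
    span := fun r => by
      induction r using induction_linear with
      | zero => exact zero_mem _
      | add r t hr ht => exact add_mem hr ht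
      | single g r =>
        refine AddSubgroup.closure_induction (p := fun r _ => single g r ∈ _) ?_ ?_ ?_ ?_ (D.span r)
        · rintro x ⟨k, a, h1, h2, h3, rfl⟩
          refine AddSubgroup.subset_closure ⟨single 1 k, single g a, ?_, ?_, fun v => ?_, ?_⟩
          · rw [gσ_single, inv_one, h1]
          · rw [gσ_single, single_mul_single, mul_inv_cancel, h2]; rfl
          · rw [gmod_single, h3, hQ]
          · rw [single_mul_single, one_mul]
        · simp only [single_zero]; exact zero_mem _
        · intro x y _ _ hx hy; simp only [single_add]; exact add_mem hx hy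
        · intro x _ hx; simp only [single_neg]; exact neg_mem hx }

variable (hQ : ∀ g v, D.Q (φ g v) = D.Q v) (hodd : Odd (Nat.card C))

theorem gext_sg (ε : ℤˣ) (g : C) (r : R) :
    (letI := gmod φ; (D.gext φ hQ hodd).sg ε (single g r)) =
      single (if ε = 1 then g else g⁻¹) (D.sg ε r) := by
  letI := gmod φ
  rcases Int.units_eq_one_or ε with rfl | rfl
  · rw [sg_one, sg_one, if_pos rfl]
  · rw [sg_neg, sg_neg, if_neg units_ne.symm]; exact D.gσ_single g r

theorem gext_le (s0 : V) : (letI := gmod φ; (D.gext φ hQ hodd).M s0) ≤ D.M s0 := by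
  letI := gmod φ
  rintro x ⟨h1, h2, h3, h4⟩
  refine ⟨h1, fun r v => ?_, h3, h4⟩
  have := h2 (single 1 r) v
  rwa [gext_sg, gmod_single, gmod_single, inv_one, ite_self, map_one] at this

theorem mem_gext {s0 : V} {x : Equiv.Perm V × ℤˣ} (hx : x ∈ D.M s0)
    (h : ∀ g v, x.1 (φ g v) = φ (if x.2 = 1 then g else g⁻¹) (x.1 v)) :
    x ∈ (letI := gmod φ; (D.gext φ hQ hodd).M s0) := by
  letI := gmod φ
  refine ⟨hx.1, fun r v => ?_, hx.2.2.1, hx.2.2.2⟩
  induction r using induction_linear with
  | zero => rw [zero_smul, M_zero hx, map_zero, zero_smul]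
  | add r t hr ht => rw [add_smul, M_add hx, hr, ht, map_add, add_smul]
  | single g r => rw [gext_sg, gmod_single, gmod_single, M_smul hx, h]

theorem gext_adm {s0 : V} (h0 : D.Adm s0) (h : ∀ g, φ g s0 = s0) :
    (letI := gmod φ; (D.gext φ hQ hodd).Adm s0) := by
  letI := gmod φ
  refine ⟨fun r => ?_, fun r hr => ?_⟩
  · induction r using induction_linear with
    | zero => rw [map_zero]
    | add r t hr ht => rw [add_smul, map_add, add_smul, hr, ht]
    | single g r =>
      change D.gσ C _ • s0 = _
      rw [gσ_single, gmod_single, gmod_single, h, h, h0.1]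
  · obtain ⟨a, ha⟩ : ∃ a : R, r • s0 = a • s0 := by
      clear hr
      induction r using induction_linear with
      | zero => exact ⟨0, by rw [zero_smul, zero_smul]⟩
      | add r t hr ht =>
        obtain ⟨a, ha⟩ := hr
        obtain ⟨b, hb⟩ := ht
        exact ⟨a + b, by rw [add_smul, add_smul, ha, hb]⟩
      | single g r => exact ⟨r, by rw [gmod_single, h]⟩
    rw [ha] at hr ⊢
    refine h0.2 a fun t => ?_
    have := hr (single 1 t)
    rwa [gmod_single, map_one] at this

end ext

section quot

/-- The annihilator of `e`. -/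
def ann (e : R) : Ideal R where
  carrier := {x | e * x = 0}
  add_mem' := fun {a b} ha hb => by
    change e * _ = 0 at *
    rw [mul_add, ha, hb, add_zero]
  zero_mem' := mul_zero e
  smul_mem' := fun c a ha => by
    change e * _ = 0 at *
    rw [smul_eq_mul, mul_left_comm, ha, mul_zero]

variable {e : R} (hv : ∀ v : V, e • v = v)

include hv in
theorem torsion_ann : Module.IsTorsionBySet R V (ann e) := fun v a => by
  have : e * a.1 = 0 := a.2
  rw [← hv v, smul_smul, mul_comm, this, zero_smul]

include D in
theorem mk_eq_iff {a b : R} : Ideal.Quotient.mk (ann e) a = Ideal.Quotient.mk (ann e) b ↔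
    e * a = e * b := by
  rw [Ideal.Quotient.eq]
  change e * (a - b) = 0 ↔ _
  rw [mul_sub, sub_eq_zero]

/-- The data over the quotient by the annihilator of a symmetric idempotent. -/
noncomputable def quot (he : e * e = e) (hσ : D.σ e = e) :
    @HD (R ⧸ ann e) V _ _ (torsion_ann hv).module :=
  letI := (torsion_ann hv).module
  { σ := Ideal.quotientMap (ann e) D.σ fun x hx => by
      change e * D.σ x = 0
      rw [← hσ, ← map_mul, show e * x = 0 from hx, map_zero]
    σσ := fun r => by
      obtain ⟨r, rfl⟩ := Ideal.Quotient.mk_surjective r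
      rw [Ideal.quotientMap_mk, Ideal.quotientMap_mk, D.σσ]
    two := by rw [← map_ofNat (Ideal.Quotient.mk (ann e)) 2, D.two, map_zero]
    frob := by
      obtain ⟨k, hk⟩ := D.frob
      refine ⟨k, fun r => ?_⟩
      obtain ⟨r, rfl⟩ := Ideal.Quotient.mk_surjective r
      rw [← map_pow, hk]
    τ := QuotientAddGroup.lift (ann e).toAddSubgroup (D.τ.comp (AddMonoidHom.mulLeft e))
      fun x hx => by
        change D.τ (e * x) = 0
        rw [show e * x = 0 from hx, map_zero]
    τσ := fun r => by
      obtain ⟨r, rfl⟩ := Ideal.Quotient.mk_surjective r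
      rw [Ideal.quotientMap_mk]
      change D.τ (e * D.σ r) = D.τ (e * r)
      rw [← D.τσ (e * r), map_mul D.σ, hσ]
    τnd := fun r hr => by
      obtain ⟨r, rfl⟩ := Ideal.Quotient.mk_surjective r
      refine Ideal.Quotient.eq_zero_iff_mem.2 (D.τnd _ fun x => ?_)
      have : D.τ (e * (x * r)) = 0 := hr (Ideal.Quotient.mk _ x)
      rwa [mul_left_comm] at this
    h := fun x y => Ideal.Quotient.mk _ (D.h x y)
    h_add := fun x y z => by rw [D.h_add, map_add]
    h_smul := fun r x y => by
      obtain ⟨r, rfl⟩ := Ideal.Quotient.mk_surjective r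
      rw [← map_mul, ← D.h_smul]; rfl
    h_symm := fun x y => by rw [Ideal.quotientMap_mk, σ_h]
    nd := fun x hx => D.nd x fun y => by
      have : e * D.h x y = 0 := Ideal.Quotient.eq_zero_iff_mem.1 (hx y)
      rwa [← D.h_smul, hv] at this
    Q := D.Q
    Q_add := fun x y => by
      change _ = _ + D.τ (e * D.h x y)
      rw [← D.h_smul, hv, D.Q_add]
    span := fun r => by
      obtain ⟨r, rfl⟩ := Ideal.Quotient.mk_surjective r
      refine AddSubgroup.closure_induction (p := fun r _ => Ideal.Quotient.mk (ann e) r ∈ _)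
        ?_ ?_ ?_ ?_ (D.span r)
      · rintro x ⟨k, a, h1, h2, h3, rfl⟩
        refine AddSubgroup.subset_closure ⟨Ideal.Quotient.mk _ k, Ideal.Quotient.mk _ a, ?_, ?_,
          h3, map_mul _ _ _⟩
        · rw [Ideal.quotientMap_mk, h1]
        · rw [Ideal.quotientMap_mk, ← map_mul, h2, map_one]
      · simp only [map_zero]; exact zero_mem _
      · intro x y _ _ hx hy; simp only [map_add]; exact add_mem hx hy
      · intro x _ hx; simp only [map_neg]; exact neg_mem hx }

variable (he : e * e = e) (hσ : D.σ e = e)

theorem quot_σ (r : R) : (letI := (torsion_ann hv).module;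
    (D.quot hv he hσ).σ (Ideal.Quotient.mk _ r)) = Ideal.Quotient.mk _ (D.σ r) := rfl

theorem quot_sg (ε : ℤˣ) (r : R) : (letI := (torsion_ann hv).module;
    (D.quot hv he hσ).sg ε (Ideal.Quotient.mk _ r)) = Ideal.Quotient.mk _ (D.sg ε r) := by
  letI := (torsion_ann hv).module
  rcases Int.units_eq_one_or ε with rfl | rfl
  · rw [sg_one, sg_one]
  · rw [sg_neg, sg_neg, quot_σ]

theorem quot_M (s0 : V) : (letI := (torsion_ann hv).module; (D.quot hv he hσ).M s0) = D.M s0 := by
  letI := (torsion_ann hv).module
  ext x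
  constructor
  · rintro ⟨h1, h2, h3, h4⟩
    refine ⟨h1, fun r v => ?_, h3, h4⟩
    have := h2 (Ideal.Quotient.mk _ r) v
    rwa [quot_sg] at this
  · rintro ⟨h1, h2, h3, h4⟩
    refine ⟨h1, fun r v => ?_, h3, h4⟩
    obtain ⟨r, rfl⟩ := Ideal.Quotient.mk_surjective r
    rw [quot_sg]
    exact h2 r v

theorem quot_adm {s0 : V} (h0 : D.Adm s0) :
    (letI := (torsion_ann hv).module; (D.quot hv he hσ).Adm s0) := by
  letI := (torsion_ann hv).module
  refine ⟨fun r => ?_, fun r hr => ?_⟩
  · obtain ⟨r, rfl⟩ := Ideal.Quotient.mk_surjective r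
    rw [quot_σ]
    exact h0.1 r
  · obtain ⟨r, rfl⟩ := Ideal.Quotient.mk_surjective r
    exact h0.2 r fun t => hr (Ideal.Quotient.mk _ t)

theorem quot_simple (hp : ∀ f, f * f = f → D.σ f = f → e * f = 0 ∨ e * f = e) :
    (letI := (torsion_ann hv).module; (D.quot hv he hσ).Simple) := by
  letI := (torsion_ann hv).module
  intro f h1 h2
  obtain ⟨f, rfl⟩ := Ideal.Quotient.mk_surjective f
  rw [← map_mul, D.mk_eq_iff] at h1
  rw [quot_σ, D.mk_eq_iff] at h2
  rcases hp (e * f) (by linear_combination (f * f) * he + h1) (by rw [map_mul, hσ, h2]) with h | h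
  · left
    rw [← map_zero (Ideal.Quotient.mk (ann e)), D.mk_eq_iff]
    linear_combination h - f * he
  · right
    rw [← map_one (Ideal.Quotient.mk (ann e)), D.mk_eq_iff]
    linear_combination h - f * he

end quot

theorem exists_prim [Finite R] [Nontrivial V] : ∃ e : R, e * e = e ∧ D.σ e = e ∧
    (∃ v : V, e • v ≠ 0) ∧ ∀ f, f * f = f → D.σ f = f → e * f = 0 ∨ e * f = e := by
  let r : R → R → Prop := fun f g => f ≠ g ∧ f * g = f
  haveI : IsTrans R r := ⟨fun a b c h1 h2 => ⟨fun e => h1.1 (by
      rw [← h1.2, e, mul_comm, h2.2]), by rw [← h1.2, mul_assoc, h2.2]⟩⟩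
  haveI : Std.Irrefl r := ⟨fun a h => h.1 rfl⟩
  obtain ⟨v0, hv0⟩ := exists_ne (0 : V)
  obtain ⟨e, ⟨h1, h2, v, h3⟩, hmin⟩ := (Finite.wellFounded_of_trans_of_irrefl r).has_min
    {e | e * e = e ∧ D.σ e = e ∧ ∃ v : V, e • v ≠ 0}
    ⟨1, one_mul 1, map_one _, v0, by rwa [one_smul]⟩
  refine ⟨e, h1, h2, ⟨v, h3⟩, fun f f1 f2 => ?_⟩
  have key : ∀ g, g * g = g → D.σ g = g → g • v ≠ 0 → g * e = g → g = e := fun g g1 g2 g3 g4 => by
    by_contra hne
    exact hmin g ⟨g1, g2, v, g3⟩ ⟨hne, g4⟩
  by_cases h : (e * f) • v = 0
  · left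
    have := key (e + e * f) (by linear_combination (1 + 2 * f + f * f) * h1 + e * f1 + e * f * D.two)
      (by rw [map_add, map_mul, h2, f2]) (by rwa [add_smul, h, add_zero])
      (by linear_combination (1 + f) * h1)
    simpa using this
  · right
    exact key _ (by linear_combination (f * f) * h1 + e * f1) (by rw [map_mul, h2, f2]) h
      (by linear_combination f * h1)

variable {D}

theorem proj_idem {e : R} (he : e * e = e) (hσ : D.σ e = e) :
    D.Proj (LinearMap.ker (LinearMap.lsmul R V e)) (LinearMap.lsmul R V (1 + e)) := by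
  refine ⟨fun v => ?_, fun w hw => ?_, fun v w hw => ?_⟩
  · rw [LinearMap.mem_ker, LinearMap.lsmul_apply, LinearMap.lsmul_apply, smul_smul, mul_add,
      mul_one, he, D.add_self, zero_smul]
  · have : e • w = 0 := hw
    rw [LinearMap.lsmul_apply, add_smul, this, one_smul, add_zero]
  · have : e • w = 0 := hw
    rw [LinearMap.lsmul_apply, add_smul, one_smul, ← add_assoc, D.vadd_self, zero_add, D.h_smul,
      ← hσ, ← h_smul_right, this, h_zero_right]

theorem Adm.smul {s0 : V} (h : D.Adm s0) (a : R) : D.Adm (a • s0) :=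
  ⟨fun r => by rw [smul_comm, h.1, smul_comm], fun r hr => by
    rw [smul_smul] at hr ⊢
    exact h.2 _ hr⟩

end HD
end CL.Fs
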