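/-
The graded isometry groups of hermitian-quadratic data are good: the induction.
-/
import Cfsg.Agent.KSG.FsGeo5
import Cfsg.Agent.KSG.FsGeo6

namespace CL.Fs
universe u

theorem exists_card_two_pow {A : Type*} [AddCommGroup A] [Finite A] (h : ∀ a : A, a + a = 0) :
    ∃ k, Nat.card A = 2 ^ k := by
  have : IsPGroup 2 (Multiplicative A) := fun a => ⟨1, by
    rw [pow_one, pow_two]; exact congrArg Multiplicative.ofAdd (h a.toAdd)⟩
  exact (IsPGroup.iff_card (G := Multiplicative A)).1 this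

theorem exists_fixed {V : Type*} [Finite V] {T : Subgroup (Equiv.Perm V × ℤˣ)}
    (hT : IsPGroup 2 T) (P : V → Prop) (hP : ∀ t ∈ T, ∀ v, P v → P (t.1 v))
    (hc : 2 ∣ Nat.card {v // P v}) {a : V} (ha : P a) (hfa : ∀ t ∈ T, t.1 a = a) :
    ∃ b, P b ∧ b ≠ a ∧ ∀ t ∈ T, t.1 b = b := by
  letI : MulAction T {v // P v} :=
    { smul := fun t v => ⟨t.1.1 v.1, hP t.1 t.2 v.1 v.2⟩
      one_smul := fun _ => rfl
      mul_smul := fun _ _ _ => rfl }
  obtain ⟨b, hb, hab⟩ := hT.exists_fixed_point_of_prime_dvd_card_of_fixed_point {v // P v} hc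
    (a := ⟨a, ha⟩) (fun t => Subtype.ext (hfa t.1 t.2))
  exact ⟨b.1, b.2, fun e => hab (Subtype.ext e.symm), fun t ht => congrArg Subtype.val (hb ⟨t, ht⟩)⟩

theorem good_of_subsingleton {V : Type*} [Finite V] [Subsingleton V]
    (X : Subgroup (Equiv.Perm V × ℤˣ)) : Good (sn V) X :=
  good_of_sq fun _ _ _ => Prod.ext (Subsingleton.elim _ _) (Int.units_mul_self _)

theorem card_lt_of {R V : Type*} [CommRing R] [AddCommGroup V] [Module R V] [Finite V]
    {W : Submodule R V} {s : V} (h : s ∉ W) : Nat.card W < Nat.card V :=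
  Finite.card_subtype_lt (p := fun v => v ∈ W) h

namespace HD
section step
variable {R V : Type*} [CommRing R] [AddCommGroup V] [Module R V] {D : HD R V} [Finite R] [Finite V]

omit [Finite V] in
theorem exists_sing (hS : D.Simple) {s0 : V} (h0 : D.Adm s0) (hne : s0 ≠ 0) {w : V}
    (hk : D.h s0 w = 0) : ∃ c : R, D.Sing (w + c • s0) := by
  have ht := h0.triv hS hne
  obtain ⟨z1, h1⟩ := hS.exists_par w
  obtain ⟨z0, h2⟩ := hS.exists_par s0
  have hz0 : z0 ≠ 0 := fun e => hne (by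
    have := h0.2 1 (Sing.smul (Par.sing (e ▸ h2)) 1)
    rwa [one_smul] at this)
  obtain ⟨i, -, hi⟩ := hS.unit hz0 (ht _)
  obtain ⟨c, hc⟩ := D.exists_sqrt (i * z1)
  have := h1.add (h2.smul c)
  rw [D.h_smul, hk, ht, hc, show z1 + i * z1 * z0 + c * 0 = 0 by
    linear_combination z1 * hi + D.add_self z1] at this
  exact ⟨c, this.sing⟩

omit [Finite R] [Finite V] in
theorem adm_of_not_sing (hS : D.Simple) {s : V} (h1 : D.h s s = 0) (h2 : ¬ D.Sing s) :
    (∀ r, D.σ r = r) ∧ D.Adm s := by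
  have ht : ∀ r, D.σ r = r := by
    by_contra hcon
    push Not at hcon
    exact h2 (hS.sing_of hcon h1)
  refine ⟨ht, fun r => by rw [ht], fun r hr => ?_⟩
  by_contra hne
  obtain ⟨i, -, hi⟩ := hS.unit (k := r) (fun e => hne (by rw [e, zero_smul])) (ht r)
  have := hr.smul i
  rw [smul_smul, hi, one_smul] at this
  exact h2 this

omit [Finite R] [Finite V] in
include D in
theorem eq_one_of_sq {r : R} (h : r * r = 1) : r = 1 :=
  D.eq_of_add (D.eq_zero_of_mul_self (by linear_combination h + (r + 1) * D.two))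

theorem St_eq_M (hS : D.Simple) {s : V} (h1 : D.h s s = 0) (h2 : ¬ D.Sing s) :
    D.St 0 s = D.M s := by
  obtain ⟨ht, -⟩ := adm_of_not_sing hS h1 h2
  ext x
  constructor
  · rintro ⟨hx, r, hr⟩
    obtain ⟨z, hz⟩ := hS.exists_par s
    have hz0 : z ≠ 0 := fun e => h2 (Par.sing (e ▸ hz))
    obtain ⟨i, -, hi⟩ := hS.unit hz0 (ht z)
    have e1 := hz.map hx
    rw [hr, sg_of_symm D _ (ht z)] at e1
    have e2 := e1.eq_of_triv ht (hz.smul r)
    rw [ht] at e2
    have : r = 1 := D.eq_one_of_sq (by linear_combination -i * e2 + (1 - r * r) * hi)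
    exact ⟨hx.1, hx.2.1, hx.2.2.1, by rw [hr, this, one_smul]⟩
  · intro hx
    exact ⟨⟨hx.1, hx.2.1, hx.2.2.1, M_zero hx⟩, 1, by rw [M_s0 hx, one_smul]⟩

theorem simple_step [Nontrivial V] (hS : D.Simple) {s0 : V} (h0 : D.Adm s0)
    {b : Equiv.Perm V × ℤˣ} (hb : b ∈ D.M s0) (b2 : b.2 = 1) {β : R} (hβ : ∀ v, b.1 v = β • v)
    {T : Subgroup (Equiv.Perm V × ℤˣ)} (hTM : T ≤ D.M s0) (hT : IsPGroup 2 T)
    (hneg : ∃ t ∈ T, t.2 = -1)
    (hSig : ∀ s, Free R s → D.h s0 s = 0 → (D.Sing s ∨ D.h s s ≠ 0) → Good (sn V) (D.St s0 s))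
    (hc : s0 = 0 → ∀ s, s ≠ 0 → D.Adm s → Good (sn V) (D.M s)) :
    ∃ X' ≤ D.M s0, b ∈ X' ∧ T ≤ X' ∧ Good (sn V) X' := by
  have fin : ∀ s, (∀ t ∈ T, t.1 s = s) → Good (sn V) (D.St s0 s) →
      ∃ X' ≤ D.M s0, b ∈ X' ∧ T ≤ X' ∧ Good (sn V) X' := fun s hs hg =>
    ⟨D.St s0 s, fun x hx => hx.1, ⟨hb, β, hβ s⟩, fun t ht => ⟨hTM ht, 1, by rw [hs t ht, one_smul]⟩, hg⟩
  by_cases hne : s0 = 0
  · obtain ⟨k, hk⟩ := exists_card_two_pow D.vadd_self
    obtain ⟨s, -, hs, hf⟩ := exists_fixed hT (fun _ => True) (fun _ _ _ _ => trivial) (by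
      rw [Nat.card_congr (Equiv.subtypeUnivEquiv fun _ => trivial), hk]
      refine dvd_pow_self 2 fun e => ?_
      rw [e, pow_zero] at hk
      exact Finite.one_lt_card.ne' hk) (a := 0) trivial (fun t ht => M_zero (hTM ht))
    have hfree : Free R s := hS.free hs fun a ha => by
      obtain ⟨t, ht, t2⟩ := hneg
      have := M_smul (hTM ht) a s
      rwa [ha, M_zero (hTM ht), t2, sg_neg, hf t ht, eq_comm] at this
    by_cases h : D.Sing s ∨ D.h s s ≠ 0
    · exact fin s hf (hSig s hfree (by rw [hne, h_zero_left]) h)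
    · push Not at h
      refine fin s hf ?_
      rw [hne, St_eq_M hS h.2 h.1]
      exact hc hne s hs (adm_of_not_sing hS h.2 h.1).2
  have ht := h0.triv hS hne
  have hsg : ∀ ε r, D.sg ε r = r := fun ε r => D.sg_of_symm ε (ht r)
  have hss := h_self_of_triv ht
  have hfr := h0.free hS hne
  by_cases hpl : ∀ v, D.h s0 v = 0 → ∃ c : R, v = c • s0
  · refine ⟨_, le_rfl, hb, hTM, good_of_sq fun x hx _ => ext' (Int.units_mul_self _) fun v => ?_⟩
    obtain ⟨c, hc⟩ := hpl (x.1 v + v) (by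
      have := M_h hx s0 v
      rw [M_s0 hx, hsg] at this
      rw [h_add_right, this, D.add_self])
    have e : x.1 v = v + c • s0 := by rw [← hc, add_comm (x.1 v), ← add_assoc, D.vadd_self, zero_add]
    rw [mul_ap, e, M_add hx, M_smul hx, M_s0 hx, hsg, e, add_assoc, D.vadd_self, add_zero]; rfl
  push Not at hpl
  obtain ⟨v0, hv0, hv1⟩ := hpl
  let A : AddSubgroup V :=
    { carrier := {v | D.h s0 v = 0}
      add_mem' := fun {a b} ha hb => by
        change D.h _ _ = 0 at *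
        rw [h_add_right, ha, hb, add_zero]
      zero_mem' := D.h_zero_right _
      neg_mem' := fun {a} ha => by rwa [neg_eq_of_add_eq_zero_left (D.vadd_self a)] }
  have hA : ∀ v c, D.h s0 v = 0 → D.h s0 (v + c • s0) = 0 := fun v (c : R) hv => by
    rw [h_add_right, h_smul_right, hv, hss, mul_zero, add_zero]
  have hbij : Function.Bijective (fun p : {v // D.h s0 v = 0 ∧ D.Sing v} × R =>
      (⟨p.1.1 + p.2 • s0, hA _ _ p.1.2.1⟩ : A)) := by
    constructor
    · rintro ⟨⟨v, hv, hs⟩, c⟩ ⟨⟨w, hw, hs'⟩, d⟩ e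
      have e : v + c • s0 = w + d • s0 := congrArg Subtype.val e
      have e1 : (c + d) • s0 = v + w := by
        linear_combination (norm := module) e + D.vadd_self (d • s0) - D.vadd_self v
      have e2 : w = v + (c + d) • s0 := by rw [e1, ← add_assoc, D.vadd_self, zero_add]
      have := hs.par.add hs'.par
      rw [← e1, e2, D.h_add, D.h_smul, hss, hv] at this
      have e3 : c + d = 0 := hfr _ (h0.2 _ (Par.sing (by simpa using this)))
      rw [e3, zero_smul, add_zero] at e2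
      exact Prod.ext (Subtype.ext e2.symm) (D.eq_of_add e3)
    · rintro ⟨v, hv⟩
      obtain ⟨c, hc⟩ := exists_sing hS h0 hne hv
      exact ⟨⟨⟨_, hA v c hv, hc⟩, c⟩, Subtype.ext (by
        change v + c • s0 + c • s0 = v
        rw [add_assoc, D.vadd_self, add_zero])⟩
  obtain ⟨k, hk⟩ := exists_card_two_pow (A := A) fun a => Subtype.ext (D.vadd_self _)
  have hcard := Nat.card_congr (Equiv.ofBijective _ hbij)
  rw [Nat.card_prod, hk] at hcard
  have sing0 : D.Sing 0 := fun r => by rw [smul_zero, Q_zero]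
  obtain ⟨s, ⟨hs1, hs2⟩, hs, hf⟩ := exists_fixed hT (fun v => D.h s0 v = 0 ∧ D.Sing v)
    (fun t ht v hv => ⟨by rw [← M_s0 (hTM ht), M_h (hTM ht), hv.1, map_zero], hv.2.map (hTM ht)⟩)
    (by
      obtain ⟨j, -, hj⟩ := (Nat.dvd_prime_pow Nat.prime_two).1 (Dvd.intro _ hcard)
      rw [hj]
      refine dvd_pow_self 2 fun e => ?_
      rw [e, pow_zero] at hj
      obtain ⟨c, hc⟩ := exists_sing hS h0 hne hv0
      have := (Nat.card_eq_one_iff_unique.1 hj).1.elim ⟨_, hA v0 c hv0, hc⟩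
        ⟨0, D.h_zero_right _, sing0⟩
      exact hv1 c (D.veq_of_add (congrArg Subtype.val this)))
    (a := 0) ⟨D.h_zero_right _, sing0⟩ (fun t ht => M_zero (hTM ht))
  exact fin s hf (hSig s (hS.free hs fun a ha => by rw [ht, ha]) hs1 (Or.inl hs2))

end step
end HD

/-- All graded isometry groups on `V` are good. -/
def Gam (V : Type u) [AddCommGroup V] [Finite V] : Prop :=
  ∀ (R : Type u) [CommRing R] [Finite R] [Module R V] (D : HD R V) (s0 : V), D.Adm s0 →
    Good (sn V) (D.M s0)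

/-- All stabilizers of free cyclic submodules of `V` are good. -/
def Sig (V : Type u) [AddCommGroup V] [Finite V] : Prop :=
  ∀ (R : Type u) [CommRing R] [Finite R] [Module R V] (D : HD R V) (s0 s : V), D.Simple →
    D.Adm s0 → HD.Free R s → D.h s0 s = 0 → (s0 = 0 ∨ D.Sing s) → Good (sn V) (D.St s0 s)

section ind
variable {V : Type u} [AddCommGroup V] [Finite V] [Nontrivial V]
  (IH : ∀ (W : Type u) [AddCommGroup W] [Finite W], Nat.card W < Nat.card V → Gam W ∧ Sig W)
include IH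

theorem sig_main {R : Type u} [CommRing R] [Finite R] [Module R V] {D : HD R V} (hS : D.Simple)
    {s0 : V} (h0 : D.Adm s0) (s : V) (hf : HD.Free R s) (ho : D.h s0 s = 0)
    (h : D.Sing s ∨ D.h s s ≠ 0) : Good (sn V) (D.St s0 s) := by
  haveI : Nontrivial R := Module.nontrivial R V
  rcases h with h | h
  · obtain ⟨s', H⟩ := HD.exists_hyp hS h0 hf h ho
    exact H.good_St (fun W p hp hs w0 hw => (IH W (card_lt_of hs)).1 R hp.res w0 hw)
      (fun W p hp hs w0 w h1 h2 h3 h4 =>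
        (IH W (card_lt_of hs)).2 R hp.res w0 w (hp.res_simple hS) h1 h2 h3 h4)
  · exact HD.good_St_noniso hS ho h fun W p hp hs e =>
      (IH W (card_lt_of hs)).1 R hp.res _ (hp.res_adm (by change D.Adm (p s0); rwa [e]))

theorem gam_step {R : Type u} [CommRing R] [Finite R] [Module R V] (D : HD R V) {s0 : V}
    (h0 : D.Adm s0)
    (hc : s0 = 0 → ∀ (S : Type u) [CommRing S] [Finite S] [Module S V] (D' : HD S V) (s : V),
      s ≠ 0 → D'.Adm s → Good (sn V) (D'.M s)) : Good (sn V) (D.M s0) := by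
  refine good_of_local fun b hb b2 hbo T hTM hT hneg hTb => ?_
  have b2 : b.2 = 1 := b2
  letI : CommGroup (Subgroup.zpowers b) :=
    { (inferInstance : Group (Subgroup.zpowers b)) with mul_comm := mul_comm' }
  have hC : ∀ g : Subgroup.zpowers b, g.1 ∈ D.M s0 ∧ g.1.2 = 1 := by
    rintro ⟨g, n, rfl⟩
    exact ⟨Subgroup.zpow_mem _ hb n, by simp only [Prod.pow_snd, b2, one_zpow]⟩
  let φ : Subgroup.zpowers b →* Module.End R V :=
    { toFun := fun g =>
        { toFun := g.1.1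
          map_add' := HD.M_add (hC g).1
          map_smul' := fun r v => by rw [HD.M_smul (hC g).1, (hC g).2, HD.sg_one]; rfl }
      map_one' := rfl
      map_mul' := fun _ _ => rfl }
  have hQ : ∀ g v, D.Q (φ g v) = D.Q v := fun g v => HD.M_Q (hC g).1 v
  have hodd : Odd (Nat.card (Subgroup.zpowers b)) := by rwa [Nat.card_zpowers]
  letI := HD.gmod φ
  haveI : Finite (MonoidAlgebra R (Subgroup.zpowers b)) :=
    Finite.of_equiv _ (MonoidAlgebra.coeffEquiv.trans Finsupp.equivFunOnFinite).symm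
  have hle := D.gext_le φ hQ hodd s0
  have h0' := D.gext_adm φ hQ hodd h0 fun g => HD.M_s0 (hC g).1
  have key : ∀ x ∈ D.M s0, (x * b * x⁻¹ = if x.2 = 1 then b else b⁻¹) →
      x ∈ (D.gext φ hQ hodd).M s0 := by
    intro x hx h
    refine D.mem_gext φ hQ hodd hx ?_
    rintro ⟨g, n, rfl⟩ v
    have e : x * b ^ n = (if x.2 = 1 then b ^ n else (b ^ n)⁻¹) * x := by
      rw [← mul_inv_eq_iff_eq_mul, ← conj_zpow, h]
      split_ifs
      · rfl
      · rw [inv_zpow]
    have := congrArg (fun y : Equiv.Perm V × ℤˣ => y.1 v) e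
    split_ifs at this ⊢ <;> exact this
  have hb' := key b hb (by rw [if_pos b2]; simp)
  have hT' : T ≤ (D.gext φ hQ hodd).M s0 := fun t ht => key t (hTM ht) (hTb t ht)
  have hβ : ∀ v, b.1 v = (MonoidAlgebra.single ⟨b, Subgroup.mem_zpowers b⟩ 1 :
      MonoidAlgebra R (Subgroup.zpowers b)) • v := fun v => by
    rw [HD.gmod_single, one_smul]; rfl
  generalize D.gext φ hQ hodd = D' at hle h0' hb' hT'
  obtain ⟨e, e1, e2, ⟨v, hv⟩, e3⟩ := D'.exists_prim
  by_cases hall : ∀ v : V, e • v = v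
  · letI := (HD.torsion_ann hall).module
    haveI : Finite (MonoidAlgebra R (Subgroup.zpowers b) ⧸ HD.ann e) :=
      Finite.of_surjective _ Ideal.Quotient.mk_surjective
    have hM := D'.quot_M hall e1 e2 s0
    have hS := D'.quot_simple hall e1 e2 e3
    have ha := D'.quot_adm hall e1 e2 h0'
    obtain ⟨X', h1, h2, h3, h4⟩ := HD.simple_step hS ha (hM ▸ hb') b2
      (β := Ideal.Quotient.mk _ _) hβ (hM ▸ hT') hT hneg (sig_main IH hS ha)
      (fun h s => hc h _ _ s)
    exact ⟨X', (h1.trans hM.le).trans hle, h2, h3, h4⟩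
  · push Not at hall
    obtain ⟨w, hw⟩ := hall
    have hp := HD.proj_idem (D := D') e1 e2
    refine ⟨_, hle, hb', hT', hp.good_prod (fun x hx v => ?_) ?_ ?_⟩
    · rw [LinearMap.lsmul_apply, LinearMap.lsmul_apply, HD.M_smul hx, map_add, map_one,
        D'.sg_of_symm _ e2]
    · refine (IH _ (card_lt_of (s := w) fun h => hw ?_)).1 _ _ _ (hp.compl.res_adm ?_)
      · rw [LinearMap.mem_ker, LinearMap.lsmul_apply, add_smul, one_smul] at h
        exact (D'.veq_of_add h).symm
      · have := h0'.smul (1 + (1 + e))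
        rwa [add_smul, one_smul] at this
    · exact (IH _ (card_lt_of (s := v) hv)).1 _ _ _ (hp.res_adm (h0'.smul _))

theorem gam_of_IH : Gam V := fun _ _ _ _ D _ h0 =>
  gam_step IH D h0 fun _ _ _ _ _ D' _ hs ha => gam_step IH D' ha fun e => absurd e hs

theorem sig_of_IH : Sig V := by
  intro R _ _ _ D s0 s hS h0 hf ho h
  by_cases h' : D.Sing s ∨ D.h s s ≠ 0
  · exact sig_main IH hS h0 s hf ho h'
  · push Not at h'
    rw [h.resolve_right h'.1, HD.St_eq_M hS h'.2 h'.1]
    exact gam_of_IH IH R D s (HD.adm_of_not_sing hS h'.2 h'.1).2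

end ind

theorem gam_sig (n : ℕ) : ∀ (V : Type u) [AddCommGroup V] [Finite V], Nat.card V = n →
    Gam V ∧ Sig V := by
  induction n using Nat.strong_induction_on with
  | _ n ih =>
    intro V _ _ hn
    rcases subsingleton_or_nontrivial V with h | h
    · exact ⟨fun _ _ _ _ _ _ _ => good_of_subsingleton _,
        fun _ _ _ _ _ _ _ _ _ _ _ _ => good_of_subsingleton _⟩
    · have IH : ∀ (W : Type u) [AddCommGroup W] [Finite W], Nat.card W < Nat.card V →
          Gam W ∧ Sig W := fun W _ _ hW => ih _ (hn ▸ hW) W rfl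
      exact ⟨gam_of_IH IH, sig_of_IH IH⟩

/-- The graded isometry group of any hermitian-quadratic data is good. -/
theorem HD.good_M {R V : Type u} [CommRing R] [AddCommGroup V] [Module R V] [Finite R] [Finite V]
    (D : HD R V) {s0 : V} (h0 : D.Adm s0) : Good (sn V) (D.M s0) :=
  (gam_sig _ V rfl).1 R D s0 h0

end CL.Fs
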