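/- Reality of isometries in characteristic two: the orthogonally indecomposable case. -/
import Mathlib
import Cfsg.Agent.KSG.OrthClassify

set_option autoImplicit false
set_option linter.unusedSectionVars false

namespace CL.Real2

open Module QuadraticMap Polynomial

variable {F V : Type*} [Field F] [AddCommGroup V] [Module F V] {Q : QuadraticForm F V}

/-- An involution inverting `f` all of whose fixed vectors are norms. -/
structure Good (Q : QuadraticForm F V) (P : Prop) (f t : V →ₗ[F] V) : Prop where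
  sq : ∀ x, t (t x) = x
  iso : ∀ x y, polar Q (t x) (t y) = polar Q x y
  q : P → ∀ x, Q (t x) = Q x
  inv : ∀ x, f (t (f x)) = t x
  nrm : ∀ x, t x = x → ∃ y, x = y + t y

theorem exists_last {R M : Type*} [Ring R] [AddCommGroup M] [Module R M] {n : R} (hn : IsNilpotent n)
    {m : M} (hm : m ≠ 0) : ∃ k : ℕ, n ^ k • m ≠ 0 ∧ n • n ^ k • m = 0 := by
  obtain ⟨N, hN⟩ := hn
  by_contra! h
  have : ∀ k : ℕ, n ^ k • m ≠ 0 := fun k => by
    induction k with
    | zero => simpa using hm
    | succ k ih => rw [pow_succ', mul_smul]; exact h k ih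
  exact this N (by rw [hN, zero_smul])

theorem nondeg (h : ∀ u, (∀ w, polar Q u w = 0) → u = 0) : (polarBilin Q).Nondegenerate :=
  ⟨h, fun u e => h u fun w => by rw [polar_comm]; exact e w⟩

theorem exists_dual [FiniteDimensional F V] (h : ∀ u, (∀ w, polar Q u w = 0) → u = 0) {M : Type*}
    [AddCommGroup M] [Module F M] (Φ : M →ₗ[F] V) (φ : M →ₗ[F] F) (e : ∀ m, Φ m = 0 → φ m = 0) :
    ∃ v, ∀ m, polar Q v (Φ m) = φ m := by
  obtain ⟨f, hf⟩ := (LinearMap.range_dualMap_eq_dualAnnihilator_ker Φ).ge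
    ((Submodule.mem_dualAnnihilator φ).2 e)
  obtain ⟨v, rfl⟩ := (LinearMap.BilinForm.toDual (polarBilin Q) (nondeg h)).surjective f
  exact ⟨v, fun m => LinearMap.congr_fun hf m⟩

variable {R : Type*} [CommRing R] [Algebra F R] [Module R V] [IsScalarTower F R V]

/-- The algebra generated by an isometry of an orthogonally indecomposable space. -/
structure Cx (Q : QuadraticForm F V) (g : R) (σ : R →ₐ[F] R) : Prop where
  two : (2 : F) = 0
  nd : ∀ u, (∀ w, polar Q u w = 0) → u = 0
  adj : ∀ (r : R) u w, polar Q (r • u) w = polar Q u (σ r • w)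
  fa : ∀ r : R, (∀ u : V, r • u = 0) → r = 0
  inv : g * σ g = 1
  gen : ∀ r, ∃ p : F[X], aeval g p = r
  int : IsIntegral F g
  ind : ∀ U : Submodule R V, (∀ u ∈ U, (∀ w ∈ U, polar Q u w = 0) → u = 0) → U = ⊥ ∨ U = ⊤

namespace Cx

variable {g : R} {σ : R →ₐ[F] R} (C : Cx Q g σ) {P : Prop}
include C

theorem twoR : (2 : R) = 0 := by rw [← map_ofNat (algebraMap F R) 2, C.two, map_zero]

theorem addV (u : V) : u + u = 0 := by rw [← two_smul F, C.two, zero_smul]

theorem alt (u : V) : polar Q u u = 0 := by rw [polar_self, two_nsmul, ← two_mul, C.two, zero_mul]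

theorem adj' (r : R) (u w : V) : polar Q u (r • w) = polar Q (σ r • u) w := by
  rw [polar_comm, C.adj, polar_comm]

theorem eq_of {a b : R} (h : ∀ u w : V, polar Q (a • u) w = polar Q (b • u) w) : a = b :=
  sub_eq_zero.1 (C.fa _ fun u => C.nd _ fun w => by rw [sub_smul, polar_sub_left, h, sub_self])

theorem ss (r : R) : σ (σ r) = r := C.eq_of fun u w => by rw [← C.adj', ← C.adj]

theorem sym (r : R) (u w : V) : polar Q u (σ r • w) = polar Q w (r • u) := by
  rw [← C.adj, polar_comm]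

theorem induct {M : R → Prop} (h0 : ∀ c, M (algebraMap F R c)) (h1 : ∀ a b, M a → M b → M (a + b))
    (h2 : ∀ a, M a → M (a * g)) (r : R) : M r := by
  obtain ⟨p, rfl⟩ := C.gen r
  induction p using Polynomial.induction_on with
  | C c => rw [aeval_C]; exact h0 c
  | add p q hp hq => rw [map_add]; exact h1 _ _ hp hq
  | monomial n c h => rw [pow_succ, ← mul_assoc, map_mul, aeval_X]; exact h2 _ h

theorem ev (r : R) : ∃ c f, r = algebraMap F R c + (g + 1) * f := by
  induction r using C.induct with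
  | h0 c => exact ⟨c, 0, by simp⟩
  | h1 a b ha hb =>
    obtain ⟨c, f, rfl⟩ := ha
    obtain ⟨d, e, rfl⟩ := hb
    exact ⟨c + d, f + e, by rw [map_add]; ring⟩
  | h2 a ha =>
    obtain ⟨c, f, rfl⟩ := ha
    exact ⟨c, algebraMap F R c + f * g, by linear_combination (- algebraMap F R c) * C.twoR⟩

theorem swap (hP : P → ∀ u, Q (g • u) = Q u) {v w : V} (hs : ∀ u, ∃ a b : R, u = a • v + b • w)
    (h : ∀ r : R, polar Q w (r • w) = polar Q v (r • v)) (hq : P → Q w = Q v) :
    ∃ t : V →ₗ[F] V, (∀ a b : R, t (a • v + b • w) = σ a • w + σ b • v) ∧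
      ((∀ x, t x = x → ∃ y, x = y + t y) → Good Q P (Algebra.lsmul F F V g) t) := by
  let L : V → R →ₗ[F] V := fun v => (LinearMap.toSpanSingleton R V v).restrictScalars F
  let Γ := (L v).coprod (L w)
  let Γ' := ((L w).comp σ.toLinearMap).coprod ((L v).comp σ.toLinearMap)
  have e1 : ∀ p q : R × R, polar Q (σ p.1 • w + σ p.2 • v) (σ q.1 • w + σ q.2 • v) =
      polar Q (p.1 • v + p.2 • w) (q.1 • v + q.2 • w) := fun ⟨a, b⟩ ⟨c, d⟩ => by
    have k : ∀ (a c : R) (v w : V), polar Q (σ a • v) (σ c • w) = polar Q w ((c * σ a) • v) :=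
      fun a c v w => by rw [C.sym, mul_smul, C.adj', polar_comm, C.adj', C.ss, polar_comm]
    have k' : ∀ (a c : R) (v w : V), polar Q (a • v) (c • w) = polar Q v ((c * σ a) • w) :=
      fun a c v w => by rw [C.adj, mul_comm, mul_smul]
    simp only [polar_add_left, polar_add_right, k, k', h]
  have e2 : ∀ u, ∃ p : R × R, σ p.1 • w + σ p.2 • v = u := fun u => by
    obtain ⟨a, b, rfl⟩ := hs u
    exact ⟨(σ b, σ a), by rw [C.ss, C.ss, add_comm]⟩
  obtain ⟨s, hs'⟩ := Γ.exists_rightInverse_of_surjective (LinearMap.range_eq_top.2 fun u => by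
    obtain ⟨a, b, rfl⟩ := hs u
    exact ⟨(a, b), rfl⟩)
  have e3 : ∀ a b : R, (Γ' ∘ₗ s) (a • v + b • w) = σ a • w + σ b • v := fun a b =>
    sub_eq_zero.1 (C.nd _ fun y => by
      obtain ⟨q, rfl⟩ := e2 y
      have : (s (a • v + b • w)).1 • v + (s (a • v + b • w)).2 • w = _ := LinearMap.congr_fun hs' _
      have h2 := e1 (s (a • v + b • w)) q
      rw [this] at h2
      rw [polar_sub_left, e1 (a, b)]
      exact sub_eq_zero.2 h2)
  refine ⟨_, e3, fun hn => ?_⟩
  generalize Γ' ∘ₗ s = t at e3 hn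
  have e4 : ∀ x, g • t (g • x) = t x := fun x => by
    obtain ⟨a, b, rfl⟩ := hs x
    simp only [smul_add, smul_smul, e3, map_mul, ← mul_assoc, C.inv, one_mul]
  refine ⟨fun x => ?_, fun x y => ?_, fun p x => ?_, e4, hn⟩
  · obtain ⟨a, b, rfl⟩ := hs x
    rw [e3, add_comm, e3, C.ss, C.ss, add_comm]
  · obtain ⟨a, b, rfl⟩ := hs x
    obtain ⟨c, d, rfl⟩ := hs y
    rw [e3, e3, e1 (a, b) (c, d)]
  have ad : ∀ x y, Q (t x) = Q x → Q (t y) = Q y → Q (t (x + y)) = Q (x + y) := fun x y hx hy => by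
    rw [map_add, QuadraticMap.map_add Q, QuadraticMap.map_add Q, hx, hy]
    obtain ⟨a, b, rfl⟩ := hs x
    obtain ⟨c, d, rfl⟩ := hs y
    rw [e3, e3, e1 (a, b) (c, d)]
  have sm : ∀ x, Q (t x) = Q x → ∀ r : R, Q (t (r • x)) = Q (r • x) := fun x hx r => by
    induction r using C.induct with
    | h0 c => rw [algebraMap_smul, map_smul, Q.map_smul, Q.map_smul, hx]
    | h1 a b ha hb => rw [add_smul]; exact ad _ _ ha hb
    | h2 a ha => rw [mul_comm, mul_smul, ← hP p, e4, hP p, ha]
  obtain ⟨a, b, rfl⟩ := hs x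
  refine ad _ _ (sm _ ?_ _) (sm _ ?_ _)
  · simpa [hq p] using congrArg Q (e3 1 0)
  · simpa [hq p] using congrArg Q (e3 0 1)

theorem socle [Nontrivial V] : ∃ p π : R, π ≠ 0 ∧ p * π = 0 ∧ (∀ c, p * c = 0 → ∃ d, c = d * π) ∧
    ∀ c, c * π ≠ 0 → ∃ d, d * (c * π) = π := by
  have : Nontrivial R := (Module.nontrivial R V)
  obtain ⟨p, hp, q, e⟩ := WfDvdMonoid.exists_irreducible_factor (minpoly.not_isUnit F g)
    (minpoly.ne_zero C.int)
  have e0 : aeval g p * aeval g q = 0 := by rw [← map_mul, ← e, minpoly.aeval]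
  refine ⟨_, _, fun h => hp.not_isUnit ?_, e0, fun c h => ?_, fun c h => ?_⟩
  · have := minpoly.dvd F g h
    rw [e] at this
    exact isUnit_of_dvd_one ((mul_dvd_mul_iff_right (right_ne_zero_of_mul
      (e ▸ minpoly.ne_zero C.int))).1 (by rwa [one_mul]))
  · obtain ⟨c, rfl⟩ := C.gen c
    have := minpoly.dvd F g ((map_mul _ _ _).trans h)
    rw [e] at this
    obtain ⟨d, rfl⟩ := (mul_dvd_mul_iff_left hp.ne_zero).1 this
    exact ⟨aeval g d, by rw [map_mul, mul_comm]⟩
  · obtain ⟨c, rfl⟩ := C.gen c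
    obtain ⟨a, b, e1⟩ := (hp.coprime_iff_not_dvd (n := c)).2 (by
      rintro ⟨d, rfl⟩
      exact h (by rw [map_mul, mul_right_comm, e0, zero_mul]))
    have := congrArg (aeval g) e1
    rw [map_add, map_mul, map_mul, map_one] at this
    exact ⟨aeval g b, by linear_combination aeval g q * this - aeval g a * e0⟩

variable [FiniteDimensional F V]

theorem nil {s π : R} (hs : σ s = s) (h0 : π ≠ 0) (h : s * π = 0) : IsNilpotent s := by
  have : IsArtinian R V := isArtinian_of_tower F inferInstance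
  obtain ⟨N, h1, h2⟩ := ((LinearMap.eventually_codisjoint_ker_pow_range_pow
    (Algebra.lsmul R R V s)).and (Filter.eventually_gt_atTop 0)).exists
  rw [← map_pow] at h1
  rcases C.ind (LinearMap.ker (Algebra.lsmul R R V (s ^ N))) (fun u hu e => C.nd _ fun w => by
    obtain ⟨a, ha, _, ⟨b, rfl⟩, rfl⟩ := Submodule.mem_sup.1 (h1.eq_top.ge (Submodule.mem_top (x := w)))
    change s ^ N • u = 0 at hu
    change polar Q u (a + s ^ N • b) = 0
    rw [polar_add_right, e a ha, C.adj', map_pow, hs, hu, polar_zero_left, add_zero]) with e | e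
  · refine (h0 (C.fa _ fun u => e.le (?_ : s ^ N • π • u = 0))).elim
    obtain ⟨N, rfl⟩ := Nat.exists_eq_succ_of_ne_zero h2.ne'
    rw [smul_smul, pow_succ, mul_assoc, h, mul_zero, zero_smul]
  · exact ⟨N, C.fa _ fun u => e.ge (Submodule.mem_top (x := u))⟩

theorem cyc [Finite F] (hP : P → ∀ u, Q (g • u) = Q u) {v : V} (hs : ∀ u, ∃ a : R, u = a • v) :
    ∃ t, Good Q P (Algebra.lsmul F F V g) t := by
  rcases subsingleton_or_nontrivial V with h | h
  · exact ⟨0, fun _ => Subsingleton.elim _ _, fun x y => by rw [Subsingleton.elim x 0]; simp,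
      fun _ x => by rw [Subsingleton.elim x 0]; simp, fun _ => Subsingleton.elim _ _,
      fun x _ => ⟨0, Subsingleton.elim _ _⟩⟩
  obtain ⟨n, hn⟩ := Nat.exists_eq_succ_of_ne_zero (finrank_pos (R := F) (M := V)).ne'
  have ev := CL.Orth.even_finrank_of_two_eq_zero (nondeg C.nd) C.two
  have ip : ∀ k, σ (g ^ k) * g ^ k = 1 := fun k => by rw [map_pow, ← mul_pow, mul_comm, C.inv, one_pow]
  obtain ⟨t, e, k⟩ := C.swap hP (v := v) (w := g ^ n • v) (fun u => by
      obtain ⟨a, rfl⟩ := hs u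
      exact ⟨a, 0, by simp⟩)
    (fun r => by rw [C.adj, smul_smul, smul_smul, mul_right_comm, ip, one_mul]) fun p => by
      clear hn
      induction n with
      | zero => simp
      | succ n ih => rw [pow_succ', mul_smul, hP p, ih]
  let b := basisOfTopLeSpanOfCardEqFinrank (R := F) (fun i : Fin (n + 1) => g ^ i.1 • v) (fun u _ => by
    obtain ⟨a, rfl⟩ := hs u
    obtain ⟨p, rfl⟩ := C.gen a
    have h1 := (Algebra.lsmul F F V g).aeval_eq_aeval_mod_charpoly p
    have h2 := (Algebra.lsmul F F V g).charpoly_natDegree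
    have h3 := natDegree_modByMonic_lt p (Algebra.lsmul F F V g).charpoly_monic fun e => by
      rw [e, hn] at h2; simp at h2
    rw [aeval_algHom_apply, aeval_algHom_apply, aeval_eq_sum_range' (h3.trans_eq (h2.trans hn))] at h1
    have h4 := LinearMap.congr_fun h1 v
    rw [Algebra.lsmul_apply, Algebra.lsmul_apply] at h4
    rw [h4, Finset.sum_smul]
    exact Submodule.sum_mem _ fun i hi => by
      rw [smul_assoc]
      exact Submodule.smul_mem _ _ (Submodule.subset_span ⟨⟨i, Finset.mem_range.1 hi⟩, rfl⟩))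
    (by rw [hn, Fintype.card_fin])
  have hb : ∀ i, b i = g ^ i.1 • v := fun i => congrFun (coe_basisOfTopLeSpanOfCardEqFinrank _ _ _) i
  have tb : ∀ i, t (b i) = b i.rev := fun i => by
    have := e (g ^ i.1) 0
    rw [zero_smul, add_zero, map_zero, zero_smul, add_zero, smul_smul] at this
    rw [hb, hb, this, Fin.val_rev, show g ^ n = g ^ i.1 * g ^ (n + 1 - (i.1 + 1)) by
      rw [← pow_add]; congr 1; omega, ← mul_assoc, ip, one_mul]
  let δ := b.constr F fun i => if i < i.rev then b i else 0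
  have hδ : δ + t ∘ₗ δ ∘ₗ t = LinearMap.id := b.ext fun i => by
    simp only [LinearMap.add_apply, LinearMap.comp_apply, tb, δ, Basis.constr_basis, Fin.rev_rev,
      LinearMap.id_apply]
    rcases lt_trichotomy i i.rev with h | h | h
    · simp [h, h.not_gt]
    · have := congrArg Fin.val h
      rw [Fin.val_rev] at this
      rw [hn] at ev
      obtain ⟨m, hm⟩ := ev
      omega
    · simp [h, h.not_gt, tb]
  exact ⟨t, k fun x hx => ⟨δ x, by simpa [hx] using (LinearMap.congr_fun hδ x).symm⟩⟩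

end Cx

end CL.Real2
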