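/- Reality of isometries in characteristic two: the unipotent bicyclic case. -/
import Mathlib
import Cfsg.Agent.KSG.Real2A

set_option autoImplicit false
set_option linter.unusedSectionVars false

namespace CL.Real2.Cx

open Module QuadraticMap Polynomial

variable {F V : Type*} [Field F] [AddCommGroup V] [Module F V] {Q : QuadraticForm F V}
  {R : Type*} [CommRing R] [Algebra F R] [Module R V] [IsScalarTower F R V]
  {g : R} {σ : R →ₐ[F] R} (C : Cx Q g σ) {P : Prop}
include C

theorem lemK {π : R} (h : ∀ (v : V) r, polar Q v ((r * π) • v) = 0)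
    (hs : ∀ c, (g + 1) * c = 0 → ∃ d, c = d * π) (z : V) {r : R} (hr : σ r = r) :
    polar Q z (r • z) = 0 := by
  let y := (g + 1) * σ (g + 1)
  let T : R → Prop := fun a => σ a = a ∧ ∀ k : ℕ, polar Q z ((y ^ k * a) • z) = 0
  have t0 : ∀ c, T (algebraMap F R c) := fun c => ⟨σ.commutes c, fun k => by
    rw [mul_comm, mul_smul, algebraMap_smul, polar_smul_right, mul_pow, mul_comm, mul_smul, ← map_pow,
      ← C.adj, C.alt, smul_zero]⟩
  have t1 : ∀ a b, T a → T b → T (a + b) := fun a b ha hb => ⟨by rw [map_add, ha.1, hb.1], fun k => by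
    rw [mul_add, add_smul, polar_add_right, ha.2, hb.2, add_zero]⟩
  have t2 : ∀ a, T a → T (y * a) := fun a ha => ⟨by rw [map_mul, ha.1, map_mul, C.ss, mul_comm (σ _)],
    fun k => by rw [← mul_assoc, ← pow_succ, ha.2]⟩
  have d : ∀ r, ∃ a b, T a ∧ T b ∧ r = a + b * g := fun r => by
    induction r using C.induct with
    | h0 c => exact ⟨_, 0, t0 c, by simpa using t0 0, by simp⟩
    | h1 a b ha hb =>
      obtain ⟨a, a', h1, h2, rfl⟩ := ha
      obtain ⟨b, b', h3, h4, rfl⟩ := hb
      exact ⟨_, _, t1 _ _ h1 h3, t1 _ _ h2 h4, by ring⟩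
    | h2 a ha =>
      obtain ⟨a, b, h1, h2, rfl⟩ := ha
      refine ⟨b, _, h2, t1 _ _ h1 (t2 _ h2), ?_⟩
      simp only [y, map_add, map_one]
      linear_combination (-b * (g + 1)) * C.inv - b * (g + 1) * C.twoR
  obtain ⟨a, b, h1, h2, rfl⟩ := d r
  rw [map_add, map_mul, h1.1, h2.1] at hr
  obtain ⟨d, e⟩ := hs ((g + 1) * b) (by
    linear_combination (-g) * hr + b * C.inv + (b * (g + 1)) * C.twoR)
  have h3 := h1.2 0
  have h4 := h2.2 0
  rw [pow_zero, one_mul] at h3 h4
  rw [show a + b * g = a + b + d * π by linear_combination e - b * C.twoR, add_smul, add_smul,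
    polar_add_right, polar_add_right, h3, h4, h, add_zero, add_zero]

variable [FiniteDimensional F V]

theorem bicyc (hP : P → ∀ u, Q (g • u) = Q u) {p π : R} (h0 : π ≠ 0) (h1 : p * π = 0)
    (h2 : ∀ c, p * c = 0 → ∃ d, c = d * π) (h3 : ∀ c, c * π ≠ 0 → ∃ d, d * (c * π) = π)
    (h : ∀ (v : V) r, polar Q v ((r * π) • v) = 0) : ∃ t, Good Q P (Algebra.lsmul F F V g) t := by
  have two := C.two
  have sa : ∀ r, σ (r * π) = r * π := fun r => C.eq_of fun u w => by
    have := h (u + w) r
    rw [smul_add, polar_add_left, polar_add_right, polar_add_right, h, h] at this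
    rw [← C.adj', polar_comm _ (_ • u)]
    linear_combination this - polar Q w ((r * π) • u) * two
  have s1 : σ π = π := by simpa using sa 1
  have xp : (g + 1) * π = 0 := by_contra fun e => by
    obtain ⟨d, e1⟩ := h3 _ e
    have e2 := sa g
    rw [map_mul, s1] at e2
    exact e (by
      linear_combination (-(g + 1)) * e1 - d * g * e2 + d * π * C.inv + d * (g + 1) * π * C.twoR)
  have sc : ∀ c : F, algebraMap F R c * π = 0 → c = 0 := fun c e => by_contra fun n =>
    h0 (((IsUnit.mk0 c n).map (algebraMap F R)).mul_right_eq_zero.1 e)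
  have soc : ∀ c, (g + 1) * c = 0 → ∃ a : F, c = algebraMap F R a * π := fun c e => by
    obtain ⟨a, f, rfl⟩ := C.ev p
    obtain rfl := sc a (by linear_combination h1 - f * xp)
    obtain ⟨d, rfl⟩ := h2 c (by rw [map_zero]; linear_combination f * e)
    obtain ⟨a, f, rfl⟩ := C.ev d
    exact ⟨a, by linear_combination f * xp⟩
  have nx : IsNilpotent (g + 1) := by
    have := C.nil (s := (g + 1) * σ (g + 1)) (by rw [map_mul, C.ss, mul_comm]) h0
      (by linear_combination σ (g + 1) * xp)
    refine IsNilpotent.of_pow (m := 2) ?_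
    rw [show (g + 1) ^ 2 = g * ((g + 1) * σ (g + 1)) by
      rw [map_add, map_one]; linear_combination (-(g + 1)) * C.inv]
    exact (Commute.all _ _).isNilpotent_mul_left this
  have K : ∀ (z : V) r (c : F), r + σ r + algebraMap F R c = 0 → polar Q z (r • z) + c * Q z = 0 :=
    fun z r c e => by
      obtain ⟨a, f, rfl⟩ := C.ev r
      obtain rfl := sc c (by
        simp only [map_add, map_mul, map_one, σ.commutes] at e
        linear_combination π * e - (f + σ f * σ g) * xp + σ f * π * C.inv -
          algebraMap F R a * π * C.twoR)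
      rw [C.lemK h (fun c e => (soc c e).elim fun a e => ⟨_, e⟩) z (by
        rw [map_zero] at e; linear_combination e - (algebraMap F R a + (g + 1) * f) * C.twoR)]
      simp
  obtain ⟨u, w, huw⟩ : ∃ u w : V, polar Q u (π • w) ≠ 0 := by
    by_contra! e
    exact h0 (C.fa _ fun u => C.nd _ fun w => by rw [polar_comm, e])
  have hπ : ∀ v : V, polar Q v (π • v) = 0 := fun v => by simpa using h v 1
  obtain ⟨z, κ, z0, κ0, hz⟩ : ∃ (z : V) (κ : F), π • z ≠ 0 ∧ κ ≠ 0 ∧ ∀ (r : R) (c e : F),
      r + σ r + (algebraMap F R c + e • π) = 0 → polar Q z (r • z) + (c * Q z + e * κ) = 0 := by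
    have w0 : π • w ≠ 0 := fun e => huw (by rw [e, polar_zero_right])
    by_cases hc : ∃ (r : R) (c : F), π = r + σ r + algebraMap F R c
    · obtain ⟨r, c, e⟩ := hc
      obtain ⟨z, z0, κ0⟩ : ∃ z : V, π • z ≠ 0 ∧ polar Q z (r • z) + c * Q z ≠ 0 := by
        by_contra! k
        have k1 := k u fun e => huw (by rw [C.adj', s1, e, polar_zero_left])
        have k2 := k w w0
        have k3 := k (u + w) fun e => huw (by
          have := congrArg (polar Q u) e
          rwa [smul_add, polar_add_right, hπ, zero_add, polar_zero_right] at this)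
        rw [smul_add, polar_add_left, polar_add_right, polar_add_right, QuadraticMap.map_add Q,
          ← C.sym r u w] at k3
        rw [e, add_smul, add_smul, polar_add_right, polar_add_right, algebraMap_smul, polar_smul_right,
          smul_eq_mul] at huw
        exact huw (by linear_combination k3 - k1 - k2)
      refine ⟨z, _, z0, κ0, fun r' c' e' k => ?_⟩
      have := K z (r' + e' • r) (c' + e' * c) (by
        rw [e] at k
        simp only [Algebra.smul_def, map_add, map_mul, σ.commutes] at k ⊢
        linear_combination k)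
      rw [add_smul, polar_add_right, smul_assoc, polar_smul_right, smul_eq_mul] at this
      linear_combination this
    · refine ⟨w, 1, w0, one_ne_zero, fun r c e k => ?_⟩
      obtain rfl : e = 0 := by_contra fun n => hc ⟨e⁻¹ • r, e⁻¹ * c, by
        have := congrArg (algebraMap F R) (inv_mul_cancel₀ n)
        simp only [Algebra.smul_def, map_mul, map_one, σ.commutes] at k this ⊢
        linear_combination algebraMap F R e⁻¹ * k - π * this -
          algebraMap F R e⁻¹ * (r + σ r + algebraMap F R c) * C.twoR⟩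
      simpa using K w r c (by simpa using k)
  have fr : ∀ c : R, c • z = 0 → c = 0 := fun c e => by_contra fun n => by
    obtain ⟨k, k1, k2⟩ := exists_last nx n
    obtain ⟨a, k3⟩ := soc _ k2
    have : (algebraMap F R a * π) • z = 0 := by rw [← k3, smul_eq_mul, mul_smul, e, smul_zero]
    rw [mul_smul, algebraMap_smul, smul_eq_zero] at this
    exact k1 (by rw [k3, this.resolve_right z0, map_zero, zero_mul])
  let L : R →ₗ[F] V := (LinearMap.toSpanSingleton R V z).restrictScalars F
  obtain ⟨v, hv⟩ := exists_dual C.nd (L ∘ₗ (LinearMap.id + σ.toLinearMap).coprod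
    ((Algebra.linearMap F R).coprod (LinearMap.toSpanSingleton F R π)))
    ((polarBilin Q z ∘ₗ L).coprod ((LinearMap.toSpanSingleton F F (Q z)).coprod
      (LinearMap.toSpanSingleton F F κ))) fun m e => hz m.1 m.2.1 m.2.2 (fr _ e)
  replace hv : ∀ (r : R) (c e : F), polar Q v ((r + σ r + (algebraMap F R c + e • π)) • z) =
    polar Q z (r • z) + (c * Q z + e * κ) := fun r c e => hv (r, c, e)
  have v1 : polar Q v (π • (v + z)) = κ := by simpa [hπ] using hv 0 0 1
  have key : ∀ a b : R, (∀ c d : R, polar Q (c • v + d • (v + z)) (a • v + b • (v + z)) = 0) →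
      a = 0 ∧ b = 0 := fun a b e => by
    generalize v + z = w at e v1
    by_contra n
    obtain ⟨k, k1, k2⟩ := exists_last nx (m := (a, b)) fun e => n (Prod.mk_eq_zero.1 e)
    obtain ⟨α, k3⟩ := soc _ (congrArg Prod.fst k2)
    obtain ⟨β, k4⟩ := soc _ (congrArg Prod.snd k2)
    change (g + 1) ^ k * a = _ at k3
    change (g + 1) ^ k * b = _ at k4
    have k5 : ∀ u, polar Q (σ ((g + 1) ^ k) • u) (a • v + b • w) =
        α * polar Q u (π • v) + β * polar Q u (π • w) := fun u => by
      rw [← C.adj', smul_add, smul_smul, smul_smul, k3, k4, mul_smul, mul_smul, algebraMap_smul,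
        algebraMap_smul, polar_add_right, polar_smul_right, polar_smul_right]; rfl
    have e1 := e (σ ((g + 1) ^ k)) 0
    have e2 := e 0 (σ ((g + 1) ^ k))
    rw [zero_smul, add_zero, k5, hπ, v1, mul_zero, zero_add, mul_eq_zero, or_iff_left κ0] at e1
    rw [zero_smul, zero_add, k5, hπ, ← C.sym, s1, v1, mul_zero, add_zero, mul_eq_zero,
      or_iff_left κ0] at e2
    exact k1 (Prod.ext (by simpa [e2] using k3) (by simpa [e1] using k4))
  have sp : ∀ u, ∃ a b : R, u = a • v + b • (v + z) := by
    rcases C.ind (Submodule.span R {v, v + z}) (fun u hu e => by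
      obtain ⟨a, b, rfl⟩ := Submodule.mem_span_pair.1 hu
      obtain ⟨rfl, rfl⟩ := key a b fun c d => by
        rw [polar_comm]; exact e _ (Submodule.mem_span_pair.2 ⟨c, d, rfl⟩)
      simp) with e | e
    · refine (κ0 ?_).elim
      rw [← v1, (Submodule.mem_bot R).1 (e.le (Submodule.subset_span (Set.mem_insert v _))),
        polar_zero_left]
    · exact fun u => let ⟨a, b, e⟩ := Submodule.mem_span_pair.1 (e.ge (Submodule.mem_top (x := u)))
        ⟨a, b, e.symm⟩
  obtain ⟨t, e, k⟩ := C.swap hP sp (fun r => by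
      have := hv r 0 0
      simp only [map_zero, zero_smul, add_zero, zero_mul, add_smul, polar_add_right, C.sym] at this
      simp only [smul_add, polar_add_left, polar_add_right]
      linear_combination this + polar Q z (r • z) * two) fun _ => by
    have := hv 0 1 0
    simp only [map_zero, zero_smul, add_zero, zero_mul, zero_add, map_one, one_smul, one_mul,
      polar_zero_right] at this
    rw [QuadraticMap.map_add Q, this]
    linear_combination Q z * two
  refine ⟨t, k fun x hx => ?_⟩
  obtain ⟨a, b, rfl⟩ := sp x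
  obtain ⟨-, e1⟩ := key (σ b - a) (σ a - b) fun c d => by
    rw [e] at hx
    rw [sub_smul, sub_smul, sub_add_sub_comm, add_comm (σ b • v), hx, sub_self, polar_zero_right]
  exact ⟨a • v, by simpa [sub_eq_zero.1 e1] using (e a 0).symm⟩

theorem main [Finite F] (hP : P → ∀ u, Q (g • u) = Q u) : ∃ t, Good Q P (Algebra.lsmul F F V g) t := by
  rcases subsingleton_or_nontrivial V with h | h
  · exact C.cyc hP (v := 0) fun u => ⟨0, Subsingleton.elim _ _⟩
  obtain ⟨p, π, h0, h1, h2, h3⟩ := C.socle
  by_cases h : ∀ (v : V) r, polar Q v ((r * π) • v) = 0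
  · exact C.bicyc hP h0 h1 h2 h3 h
  push Not at h
  obtain ⟨v, r, h⟩ := h
  let J : R → Prop := fun a => ∀ r, polar Q v ((r * a) • v) = 0
  have j1 : ∀ a c, J a → J (c * a) := fun a c ha r => by rw [← mul_assoc, ha]
  have j2 : ∀ a, J a → J (σ a) := fun a ha r => by rw [← C.ss r, ← map_mul, C.sym, ha]
  have j3 : ∀ a, J a → p * a = 0 → a = 0 := fun a ha e => by_contra fun n => by
    obtain ⟨d, rfl⟩ := h2 a e
    obtain ⟨c, e⟩ := h3 d n
    exact h (e ▸ j1 _ c ha r)
  have j4 : ∀ a, J a → a = 0 := fun a ha => by_contra fun n => by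
    obtain ⟨k, k1, k2⟩ := exists_last (C.nil (s := p * σ p) (by rw [map_mul, C.ss, mul_comm]) h0
      (by linear_combination σ p * h1)) n
    have k3 := j1 _ ((p * σ p) ^ k) ha
    simp only [smul_eq_mul] at k1 k2
    generalize (p * σ p) ^ k * a = b at k1 k2 k3
    have k4 := congrArg σ (j3 _ (j1 _ (σ p) k3) (by rw [← mul_assoc]; exact k2))
    rw [map_mul, C.ss, map_zero] at k4
    exact k1 (by rw [← C.ss b, j3 _ (j2 _ k3) k4, map_zero])
  rcases C.ind (Submodule.span R {v}) (fun u hu e => by
    obtain ⟨a, rfl⟩ := Submodule.mem_span_singleton.1 hu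
    rw [j4 a fun r => by
      rw [mul_smul, C.adj', polar_comm]; exact e _ (Submodule.mem_span_singleton.2 ⟨_, rfl⟩),
      zero_smul]) with e | e
  · exact (h (by rw [Submodule.span_singleton_eq_bot.1 e, polar_zero_left])).elim
  · exact C.cyc hP (v := v) fun u =>
      let ⟨a, e⟩ := Submodule.mem_span_singleton.1 (e.ge (Submodule.mem_top (x := u)))
      ⟨a, e.symm⟩

end CL.Real2.Cx
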