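/- Reality of symplectic and orthogonal isometries in characteristic two. -/
import Mathlib
import Cfsg.Agent.KSG.OrthSpinor
import Cfsg.Agent.KSG.Real2B

set_option autoImplicit false

namespace CL.Real2

open Module QuadraticMap Polynomial

universe v

variable {F : Type*} [Field F] [Finite F]

section

variable {V : Type*} [AddCommGroup V] [Module F V] [FiniteDimensional F V] {Q : QuadraticForm F V}

theorem exists_ord (nd : ∀ u, (∀ w, polar Q u w = 0) → u = 0) {f : Module.End F V}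
    (hf : ∀ x y, polar Q (f x) (f y) = polar Q x y) : ∃ N : ℕ, f ^ (N + 1) = 1 := by
  have : Finite V := Module.finite_of_finite F
  have : Finite (Module.End F V) := Finite.of_injective _ DFunLike.coe_injective
  obtain ⟨u, rfl⟩ := (LinearMap.isUnit_iff_ker_eq_bot f).2 (LinearMap.ker_eq_bot'.2 fun x hx =>
    nd x fun w => by rw [← hf, hx, polar_zero_left])
  obtain ⟨N, h⟩ := Nat.exists_eq_succ_of_ne_zero (orderOf_pos u).ne'
  exact ⟨N, by rw [← Units.val_pow_eq_pow_val, ← Nat.succ_eq_add_one, ← h, pow_orderOf_eq_one, Units.val_one]⟩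

theorem indec (h2 : (2 : F) = 0) (nd : ∀ u, (∀ w, polar Q u w = 0) → u = 0) {P : Prop}
    {f : Module.End F V} (hf : ∀ x y, polar Q (f x) (f y) = polar Q x y) (hP : P → ∀ x, Q (f x) = Q x)
    (hi : ∀ U : Submodule F V, (∀ u ∈ U, f u ∈ U) → (∀ u ∈ U, (∀ w ∈ U, polar Q u w = 0) → u = 0) →
      U = ⊥ ∨ U = ⊤) : ∃ t, Good Q P f t := by
  obtain ⟨N, hN⟩ := exists_ord nd hf
  let R := Algebra.adjoin F {f}
  let g : R := ⟨f, Algebra.self_mem_adjoin_singleton F f⟩
  have hg : g * g ^ N = 1 := by rw [← pow_succ']; exact Subtype.ext hN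
  have gen : ∀ r : R, ∃ p : F[X], aeval g p = r := fun r => by
    obtain ⟨p, e⟩ := Algebra.adjoin_eq_exists_aeval F f r
    exact ⟨p, Subtype.ext ((aeval_algHom_apply R.val g p).symm.trans e)⟩
  have fa : ∀ r : R, (∀ u : V, r • u = 0) → r = 0 := fun r h => Subtype.ext (LinearMap.ext h)
  have adj : ∀ (p : F[X]) (u w : V), polar Q (aeval g p • u) w = polar Q u (aeval (g ^ N) p • w) :=
    fun p => by
      induction p using Polynomial.induction_on with
      | C c => simp [aeval_C]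
      | add p q hp hq => simp [add_smul, hp, hq, polar_add_left, polar_add_right]
      | monomial n c h =>
        intro u w
        rw [pow_succ, ← mul_assoc, map_mul, map_mul (aeval (g ^ N)), aeval_X, aeval_X, mul_smul, h,
          mul_comm _ (g ^ N), mul_smul, ← hf u]
        change _ = polar Q (g • u) (g • _)
        rw [smul_smul g, hg, one_smul]
  have H : RingHom.ker (aeval g : F[X] →ₐ[F] R).toRingHom ≤
      RingHom.ker (aeval (g ^ N) : F[X] →ₐ[F] R).toRingHom := fun p hp => fa _ fun u => nd _ fun w => by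
    change aeval g p = 0 at hp
    change polar Q (aeval (g ^ N) p • u) w = 0
    rw [polar_comm, ← adj, hp, zero_smul, polar_zero_left]
  have e := AlgHom.liftOfSurjective_apply _ gen _ H
  generalize AlgHom.liftOfSurjective _ gen _ H = σ at e
  have e1 : σ g = g ^ N := by simpa using e X
  have C : Cx Q g σ := ⟨h2, nd, fun r u w => by obtain ⟨p, rfl⟩ := gen r; rw [e, adj], fa, by rw [e1, hg],
    gen, IsIntegral.of_pow N.succ_pos (by rw [pow_succ', hg]; exact isIntegral_one), fun U h =>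
      (hi (U.restrictScalars F) (fun u hu => U.smul_mem g hu) h).imp
        (Submodule.restrictScalars_eq_bot_iff _ _ _).1 (Submodule.restrictScalars_eq_top_iff _ _ _).1⟩
  exact C.main hP

omit [Finite F] [FiniteDimensional F V] in
theorem glue {P : Prop} {f : Module.End F V} {U W : Submodule F V} (h : IsCompl U W)
    (o : ∀ u ∈ U, ∀ w ∈ W, polar Q u w = 0) (hU : ∀ u ∈ U, f u ∈ U) (hW : ∀ u ∈ W, f u ∈ W)
    {s : U →ₗ[F] U} {t : W →ₗ[F] W} (hs : Good (Q.comp U.subtype) P (f.restrict hU) s)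
    (ht : Good (Q.comp W.subtype) P (f.restrict hW) t) : ∃ t, Good Q P f t := by
  let e := Submodule.prodEquivOfIsCompl U W h
  have sp : ∀ x : V, ∃ (a : U) (b : W), x = a + b := fun x => ⟨_, _, (e.apply_symm_apply x).symm⟩
  obtain ⟨T, hT⟩ : ∃ T : V →ₗ[F] V, ∀ (a : U) (b : W), T (a + b) = s a + t b :=
    ⟨e.toLinearMap ∘ₗ s.prodMap t ∘ₗ e.symm.toLinearMap, fun a b => by
      change e (s.prodMap t (e.symm (e (a, b)))) = _
      rw [e.symm_apply_apply]; rfl⟩
  have pl : ∀ (a c : U) (b d : W), polar Q (a + b : V) (c + d) =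
      polar (Q.comp U.subtype) a c + polar (Q.comp W.subtype) b d := fun a c b d => by
    rw [polar_add_left, polar_add_right, polar_add_right, o _ a.2 _ d.2, polar_comm Q b.1 c.1,
      o _ c.2 _ b.2, add_zero, zero_add]; rfl
  have ql : ∀ (a : U) (b : W), Q (a + b : V) = Q.comp U.subtype a + Q.comp W.subtype b := fun a b => by
    rw [QuadraticMap.map_add Q, o _ a.2 _ b.2, add_zero]; rfl
  have fl : ∀ (a : U) (b : W), f (a + b) = f.restrict hU a + f.restrict hW b := fun a b => map_add _ _ _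
  refine ⟨T, fun x => ?_, fun x y => ?_, fun p x => ?_, fun x => ?_, fun x hx => ?_⟩ <;>
    obtain ⟨a, b, rfl⟩ := sp x
  · rw [hT, hT, hs.sq, ht.sq]
  · obtain ⟨c, d, rfl⟩ := sp y
    rw [hT, hT, pl, pl, hs.iso, ht.iso]
  · rw [hT, ql, ql, hs.q p, ht.q p]
  · rw [fl, hT, fl, hT, hs.inv, ht.inv]
  · rw [hT] at hx
    have : (s a, t b) = (a, b) := e.injective hx
    obtain ⟨c, rfl⟩ := hs.nrm a (congrArg Prod.fst this)
    obtain ⟨d, rfl⟩ := ht.nrm b (congrArg Prod.snd this)
    exact ⟨c + d, by rw [hT, Submodule.coe_add, Submodule.coe_add]; abel⟩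

end

theorem exists_good (h2 : (2 : F) = 0) (P : Prop) (n : ℕ) : ∀ {V : Type v} [AddCommGroup V] [Module F V]
    [FiniteDimensional F V] {Q : QuadraticForm F V}, finrank F V = n →
    (∀ u, (∀ w, polar Q u w = 0) → u = 0) → ∀ {f : Module.End F V},
    (∀ x y, polar Q (f x) (f y) = polar Q x y) → (P → ∀ x, Q (f x) = Q x) → ∃ t, Good Q P f t := by
  induction n using Nat.strong_induction_on with
  | _ n ih =>
  intro V _ _ _ Q hn nd f hf hP
  by_cases hi : ∀ U : Submodule F V, (∀ u ∈ U, f u ∈ U) →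
      (∀ u ∈ U, (∀ w ∈ U, polar Q u w = 0) → u = 0) → U = ⊥ ∨ U = ⊤
  · exact indec h2 nd hf hP hi
  obtain ⟨U, hi⟩ := not_forall.1 hi
  obtain ⟨hU, hi⟩ := Classical.not_imp.1 hi
  obtain ⟨hu, hi⟩ := Classical.not_imp.1 hi
  let W := LinearMap.BilinForm.orthogonal (polarBilin Q) U
  have o : ∀ u ∈ U, ∀ w ∈ W, polar Q u w = 0 := fun u hu w hw => hw u hu
  have hc : IsCompl U W := (LinearMap.BilinForm.isCompl_orthogonal_iff_disjoint (B := polarBilin Q)
    fun x y h => (polar_comm Q y x).trans h).2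
    (Submodule.disjoint_def.2 fun x h1 h2 => hu x h1 fun w hw => by rw [polar_comm, o w hw x h2])
  obtain ⟨N, hN⟩ := exists_ord nd hf
  have hW : ∀ w ∈ W, f w ∈ W := fun w hw u h => by
    change polar Q u (f w) = 0
    rw [show u = f ((f ^ N) u) by rw [← Module.End.mul_apply, ← pow_succ', hN, Module.End.one_apply], hf]
    exact o _ (Module.End.pow_apply_mem_of_forall_mem N hU u h) w hw
  have sub : ∀ (X : Submodule F V) (hX : ∀ u ∈ X, f u ∈ X), X ≠ ⊤ →
      (∀ u ∈ X, (∀ w ∈ X, polar Q u w = 0) → u = 0) →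
      ∃ t, Good (Q.comp X.subtype) P (f.restrict hX) t := fun X hX h1 h3 =>
    ih _ (hn ▸ Submodule.finrank_lt h1) rfl (fun u e => Subtype.ext (h3 u u.2 fun w hw => e ⟨w, hw⟩))
      (fun x y => hf x y) fun p x => hP p x
  obtain ⟨s, hs⟩ := sub U hU (fun e => hi (Or.inr e)) hu
  obtain ⟨t, ht⟩ := sub W hW (fun e => hi (Or.inl (eq_bot_of_isCompl_top (e ▸ hc)))) fun w hw e =>
    nd w fun x => by
      obtain ⟨a, ha, b, hb, rfl⟩ := Submodule.mem_sup.1 (hc.sup_eq_top.ge (Submodule.mem_top (x := x)))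
      rw [polar_add_right, e b hb, polar_comm, o a ha w hw, add_zero]
  exact glue hc o hU hW hs ht

/-- The strong form: the inverting isometry is an involution with `rank (t - 1) = dim V / 2`. -/
theorem real2' {F V} [Field F] [Finite F] [AddCommGroup V] [Module F V] [FiniteDimensional F V]
    (h2 : (2:F)=0) {Q : QuadraticForm F V} (hQ : (QuadraticMap.polarBilin Q).Nondegenerate) (P : Prop)
    (g : V ≃ₗ[F] V) (hg : ∀ x y, polar Q (g x) (g y) = polar Q x y) (hgQ : P → ∀ x, Q (g x) = Q x) :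
    ∃ t : V ≃ₗ[F] V, (∀ x y, polar Q (t x) (t y) = polar Q x y) ∧ (P → ∀ x, Q (t x) = Q x) ∧
      t * g * t⁻¹ = g⁻¹ ∧ t * t = 1 ∧
      2 * finrank F (LinearMap.range ((t : V →ₗ[F] V) - LinearMap.id)) = finrank F V := by
  obtain ⟨t, h⟩ := exists_good h2 P _ rfl hQ.1 (f := (g : V →ₗ[F] V)) hg hgQ
  refine ⟨LinearEquiv.ofInvolutive t h.sq, h.iso, h.q, ?_, LinearEquiv.ext h.sq, ?_⟩
  · rw [mul_inv_eq_iff_eq_mul, eq_inv_mul_iff_mul_eq]
    exact LinearEquiv.ext h.inv
  change 2 * finrank F (LinearMap.range (t - LinearMap.id)) = _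
  have n : ∀ x : V, -x = x := fun x => neg_eq_of_add_eq_zero_left (by rw [← two_smul F, h2, zero_smul])
  have e : LinearMap.ker (t - LinearMap.id) = LinearMap.range (t - LinearMap.id) := by
    ext x
    rw [LinearMap.mem_ker, LinearMap.sub_apply, sub_eq_zero, LinearMap.id_apply]
    refine ⟨fun hx => ?_, ?_⟩
    · obtain ⟨y, rfl⟩ := h.nrm x hx
      exact ⟨y, by rw [LinearMap.sub_apply, LinearMap.id_apply, sub_eq_add_neg, n, add_comm]⟩
    · rintro ⟨y, rfl⟩
      rw [LinearMap.sub_apply, LinearMap.id_apply, map_sub, h.sq, ← n (t y - y), neg_sub]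
  rw [← LinearMap.finrank_range_add_finrank_ker (t - LinearMap.id), e, two_mul]
  rfl

theorem real2 {F V} [Field F] [Finite F] [AddCommGroup V] [Module F V] [FiniteDimensional F V]
    (h2 : (2:F)=0) {Q : QuadraticForm F V} (hQ : (QuadraticMap.polarBilin Q).Nondegenerate) (P : Prop)
    (g : V ≃ₗ[F] V) (hg : ∀ x y, polar Q (g x) (g y) = polar Q x y) (hgQ : P → ∀ x, Q (g x) = Q x) :
    ∃ t : V ≃ₗ[F] V, (∀ x y, polar Q (t x) (t y) = polar Q x y) ∧ (P → ∀ x, Q (t x) = Q x) ∧
      t * g * t⁻¹ = g⁻¹ ∧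
      (P → 2 * finrank F (LinearMap.range ((t : V →ₗ[F] V) - LinearMap.id)) % 4 = finrank F V % 4) :=
  let ⟨t, h1, h3, h4, _, h5⟩ := real2' h2 hQ P g hg hgQ
  ⟨t, h1, h3, h4, fun _ => by rw [h5]⟩

end CL.Real2
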