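/-
Frobenius-Schur indicators of the symplectic and orthogonal groups in characteristic two.
-/
import Cfsg.Agent.KSG.FsGeo7
import Cfsg.Agent.KSG.Real2
import Cfsg.Agent.KSG.OrthOmega
import Cfsg.Agent.KSG.OrthStd
import Cfsg.Agent.CLAS.SpForm
import Cfsg.Agent.CHAR.FS
import Cfsg.Agent.CHAR.Clifford
import Cfsg.Agent.S0750

namespace CL.Fs
open Cfsg CL.Char Finset Module QuadraticMap
open scoped ComplexOrder ComplexConjugate

section chars
variable {G : Type*} [Group G] [Fintype G]

theorem im_eq_zero_of_real {χ : G → ℂ} (h : IsCharacter G χ) (hr : ∀ g : G, IsConj g g⁻¹) (g : G) :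
    (χ g).im = 0 := by
  have := h.isClassFunction.eq_of_isConj (hr g)
  rw [h.apply_inv] at this
  exact Complex.conj_eq_iff_im.1 this.symm

theorem fsInd_eq_one_of_good (hG : Good (MonoidHom.snd G ℤˣ) ⊤) (hr : ∀ g : G, IsConj g g⁻¹)
    {χ : G → ℂ} (h : IsIrrCharacter G χ) : fsInd χ = 1 := by
  refine (h.fsInd_of_real (im_eq_zero_of_real h.isCharacter hr)).resolve_right fun hν => ?_
  obtain ⟨n, ρ, hρ, rfl⟩ := h
  obtain ⟨hnt, hirr⟩ := (isIrreducible_iff ρ).1 hρ
  have hp : IsPRep (MonoidHom.snd G ℤˣ) ⊤ (fun x : G × ℤˣ => ρ x.1) :=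
    ⟨map_one ρ, fun a _ b _ _ _ => map_mul ρ a.1 b.1⟩
  have hom : om (MonoidHom.snd G ℤˣ) ⊤ (fun x : G × ℤˣ => ρ x.1) = ∑ g, ρ (g * g) := by
    refine sum_bij' (fun x _ => x.1) (fun g _ => (g, -1)) (fun _ _ => mem_univ _)
      (fun g _ => mem_negs.2 ⟨trivial, rfl⟩) (fun x hx => Prod.ext rfl (mem_negs.1 hx).2.symm)
      (fun _ _ => rfl) (fun _ _ => rfl)
  obtain ⟨c, hc⟩ := Module.End.exists_eigenvalue
    (om (MonoidHom.snd G ℤˣ) ⊤ (fun x : G × ℤˣ => ρ x.1))
  obtain ⟨v, hv⟩ := hc.exists_hasEigenvector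
  have h0 := hG _ _ hp c v hv.2 hv.apply_eq_smul
  have htop := (hirr _ fun g w hw => Module.End.mem_eigenspace_iff.2
    (eigenspace_inv hp c (n := (g, 1)) trivial rfl (Module.End.mem_eigenspace_iff.1 hw))).resolve_left
    hc
  have e : ∑ g, ρ (g * g) = c • (1 : Module.End ℂ (Fin n → ℂ)) := by
    rw [← hom]
    refine LinearMap.ext fun w => ?_
    exact Module.End.mem_eigenspace_iff.1 (htop ▸ Submodule.mem_top)
  have e2 := congrArg (LinearMap.trace ℂ _) e
  rw [map_sum, map_smul, LinearMap.trace_one, smul_eq_mul] at e2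
  rw [fsInd_def] at hν
  have e3 : ∑ g, ρ.character (g * g) = c * (finrank ℂ (Fin n → ℂ) : ℂ) := e2
  have : (0 : ℂ) ≤ -1 := by
    rw [← hν, e3]
    exact mul_nonneg (by
      rw [← Complex.ofReal_natCast, ← Complex.ofReal_inv]
      exact Complex.zero_le_real.2 (inv_nonneg.2 (Nat.cast_nonneg _)))
      (mul_nonneg h0 (Nat.cast_nonneg _))
  exact absurd (Complex.le_def.1 this).1 (by norm_num)

theorem fsInd_ker (s : G →* ℤˣ) {N : Subgroup G} [Fintype N] (hN : N = s.ker)
    (hG : ∀ χ, IsIrrCharacter G χ → fsInd χ = 1) (hr : ∀ g : N, IsConj g g⁻¹)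
    {θ : N → ℂ} (h : IsIrrCharacter N θ) : fsInd θ = 1 := by
  classical
  subst hN
  have hre := im_eq_zero_of_real h.isCharacter hr
  refine (h.fsInd_of_real hre).resolve_right fun hν => ?_
  set ψ := indFun s.ker θ with hψ
  have hψc : IsCharacter G ψ := h.isCharacter.ind
  let ε : G → ℂ := fun g => ((s g : ℤ) : ℂ)
  have hε : IsCharacter G ε := (isIrrCharacter_of_map_mul (by simp [ε]) (by simp [ε])).isCharacter
  have hε1 : ∀ g ∈ s.ker, ε g = 1 := fun g hg => by simp [ε, show s g = 1 from hg]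
  have hε2 : ∀ g ∉ s.ker, ε g = -1 := fun g hg => by
    simp [ε, (sgn_or s g).resolve_left hg]
  have hεc : ∀ g, conj (ε g) = ε g := fun g => by simp [ε]
  have hψr : ∀ g, conj (ψ g) = ψ g := fun g => by
    rw [hψ, ← indFun_conj]
    congr 1
    exact funext fun n => Complex.conj_eq_iff_im.2 (hre n)
  obtain ⟨c, hc⟩ := hψc.symSq.exists_nat_inner hε
  obtain ⟨d, hd⟩ := hψc.altSq.exists_nat_inner hε
  obtain ⟨m, hm⟩ := isCharacter_iff_exists_nat.1 hψc
  have hG0 := card_ne_zero G
  have hN0 := card_subgroup_ne_zero s.ker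
  have h1 : fsInd ψ = (∑ χ, m χ : ℕ) := by
    rw [Nat.cast_sum, ← sum_congr rfl fun (χ : IrrCharacter G) _ => mul_one (m χ : ℂ),
      sum_congr rfl fun (χ : IrrCharacter G) _ => congrArg ((m χ : ℂ) * ·) (hG χ χ.2).symm]
    simp only [fsInd_def]
    conv_lhs => rw [hm]
    simp only [Finset.sum_apply, Pi.smul_apply, smul_eq_mul, mul_sum]
    rw [sum_comm]
    exact sum_congr rfl fun _ _ => sum_congr rfl fun _ _ => by ring
  have h2 : ∑ χ, m χ ≠ 0 := fun e => by
    have : ψ 1 = 0 := by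
      rw [hm]
      simp [sum_eq_zero_iff.1 e]
    rw [hψ, indFun_one] at this
    exact mul_ne_zero (Nat.cast_ne_zero.2 Subgroup.index_ne_zero_of_finite) h.one_ne_zero this
  have h3 : (c : ℂ) + d = s.ker.relIndex (inertia s.ker θ) := by
    rw [← classInner_ind_self h, ← hc, ← hd, ← classInner_add_left, classInner_def, classInner_def]
    congr 1
    refine sum_congr rfl fun g _ => ?_
    rw [hεc, hψr, Pi.add_apply]
    by_cases hg : g ∈ s.ker
    · rw [hε1 g hg]; ring
    · rw [hψ, indFun_eq_zero_of_normal _ _ hg]; ring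
  have h4 : s.ker.relIndex (inertia s.ker θ) ≤ 2 := by
    refine (Nat.le_of_dvd (Nat.pos_of_ne_zero Subgroup.index_ne_zero_of_finite)
      (Subgroup.relIndex_dvd_index_of_normal _ _)).trans ?_
    rw [Subgroup.index_ker]
    exact (Subgroup.card_le_card_group _).trans (by simp)
  have h5 : ∑ g : s.ker, ψ (g * g) = (s.ker.index : ℂ) * ∑ g : s.ker, θ (g * g) := by
    have e : ∀ x : G, ∑ g : s.ker, extendByZero s.ker θ (x⁻¹ * (g * g) * x) =
        ∑ g : s.ker, θ (g * g) := fun x => by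
      refine Fintype.sum_equiv (MulAut.conjNormal (H := s.ker) x⁻¹).toEquiv _ _ fun g => ?_
      rw [← extendByZero_coe s.ker θ]
      congr 1
      simp [mul_assoc]
    simp only [hψ, indFun_apply]
    rw [← mul_sum, sum_comm, sum_congr rfl fun x _ => e x, sum_const, card_univ, nsmul_eq_mul,
      ← Nat.card_eq_fintype_card, ← s.ker.index_mul_card]
    push_cast
    field_simp
  have h6 : ∑ g, ψ (g * g) + ∑ g, ψ (g * g) * ε g = 2 * ∑ g : s.ker, ψ (g * g) := by
    rw [← sum_add_distrib, ← sum_subtype (univ.filter (· ∈ s.ker)) (by simp)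
      (fun g => ψ (g * g)), sum_filter, mul_sum]
    refine sum_congr rfl fun g _ => ?_
    split_ifs with hg
    · rw [hε1 g hg]; ring
    · rw [hε2 g hg]; ring
  have h7 : (c : ℂ) - d = (Nat.card G : ℂ)⁻¹ * ∑ g, ψ (g * g) * ε g := by
    rw [← hc, ← hd, ← classInner_sub_left, classInner_def]
    congr 1
    refine sum_congr rfl fun g _ => ?_
    rw [hεc, Pi.sub_apply]; ring
  have h8 : ((∑ χ, m χ : ℕ) : ℂ) + (c - d) = -2 := by
    rw [← h1, h7, fsInd_def, ← mul_add, h6, h5, ← s.ker.index_mul_card]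
    rw [fsInd_def] at hν
    have hi : (s.ker.index : ℂ) ≠ 0 := Nat.cast_ne_zero.2 Subgroup.index_ne_zero_of_finite
    push_cast
    field_simp
    field_simp at hν
    linear_combination hν
  have h3' : c + d = s.ker.relIndex (inertia s.ker θ) := by exact_mod_cast h3
  have h8' : ((∑ χ, m χ : ℕ) : ℤ) + (c - d) = -2 := by exact_mod_cast h8
  omega

theorem fsInd_of_equiv {H : Type*} [Group H] [Fintype H] (e : G ≃* H)
    (hH : ∀ χ, IsIrrCharacter H χ → fsInd χ = 1) {χ : G → ℂ} (h : IsIrrCharacter G χ) :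
    fsInd χ = 1 := by
  rw [← hH _ (h.comp_mulEquiv e.symm), fsInd_def, fsInd_def, Nat.card_congr e.toEquiv]
  congr 1
  exact Fintype.sum_equiv e.toEquiv _ _ fun g => by simp

end chars

section quad
universe u
variable {F V : Type u} [Field F] [Finite F] [CharP F 2] [AddCommGroup V] [Module F V]

theorem exists_tau (F : Type*) [Field F] [CharP F 2] : ∃ τ : F →+ ZMod 2, τ 1 ≠ 0 := by
  letI := ZMod.algebra F 2
  obtain ⟨f, hf⟩ := Module.Projective.exists_dual_ne_zero (ZMod 2) (one_ne_zero (α := F))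
  exact ⟨f.toAddMonoidHom, hf⟩

/-- The data attached to a non-degenerate quadratic form. -/
noncomputable def quadHD {Q : QuadraticForm F V} (hQ : (polarBilin Q).Nondegenerate) : HD F V where
  σ := RingHom.id F
  σσ _ := rfl
  two := CharTwo.two_eq_zero
  frob := by
    letI := Fintype.ofFinite F
    obtain ⟨n, -, hn⟩ := FiniteField.card F 2
    refine ⟨n - 1, fun r => ?_⟩
    rw [show (n : ℕ) - 1 + 1 = n from Nat.sub_add_cancel n.2, ← hn, FiniteField.pow_card]
  τ := (exists_tau F).choose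
  τσ _ := rfl
  τnd r hr := by
    by_contra h
    have := hr r⁻¹
    rw [inv_mul_cancel₀ h] at this
    exact (exists_tau F).choose_spec this
  h := polar Q
  h_add := polar_add_left Q
  h_smul := Orth.polar_smul_left' Q
  h_symm x y := polar_comm Q y x
  nd _ := Orth.eq_zero_of_polar hQ
  Q v := (exists_tau F).choose (Q v)
  Q_add x y := by rw [Orth.Q_add, map_add, map_add]
  span r := AddSubgroup.subset_closure ⟨r, 1, rfl, by simp, fun v => by rw [one_smul], by simp⟩

variable {Q : QuadraticForm F V} (hQ : (polarBilin Q).Nondegenerate)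

theorem quad_par (v : V) : (quadHD hQ).Par v (Q v) := fun r => by
  change (quadHD hQ).τ (Q (r • v)) = _
  rw [Orth.Q_smul]; rfl

theorem quad_sg (ε : ℤˣ) (r : F) : (quadHD hQ).sg ε r = r := HD.sg_of_symm _ _ rfl

theorem quad_Q {s0 : V} {x : Equiv.Perm V × ℤˣ} (hx : x ∈ (quadHD hQ).M s0) (v : V) :
    Q (x.1 v) = Q v := by
  have := (quad_par hQ v).map hx
  rw [quad_sg] at this
  exact (quad_par hQ _).eq_of_triv (fun _ => rfl) this

theorem quad_mem {s0 : V} (g : V ≃ₗ[F] V) (hg : ∀ v, Q (g v) = Q v) (h0 : g s0 = s0) (ε : ℤˣ) :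
    ((g.toEquiv, ε) : Equiv.Perm V × ℤˣ) ∈ (quadHD hQ).M s0 :=
  ⟨g.map_add, fun r v => by rw [quad_sg]; exact g.map_smul r v,
    fun v => congrArg (quadHD hQ).τ (hg v), h0⟩

variable [Finite V]

instance finite_linEquiv : Finite (V ≃ₗ[F] V) :=
  Finite.of_injective (fun g : V ≃ₗ[F] V => (g : V → V)) DFunLike.coe_injective

include hQ in
theorem good_O : Good (MonoidHom.snd (Orth.O Q) ℤˣ) ⊤ := by
  refine Good.of_inj (fun x => ((x.1.1.toEquiv, x.2) : Equiv.Perm V × ℤˣ))
    (fun x _ => quad_mem hQ _ x.1.2 (map_zero _) _) (fun _ _ _ _ => rfl) (fun _ _ => rfl)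
    (fun x _ y _ e => Prod.ext (Orth.O_ext fun v => congrArg (fun a : Equiv.Perm V × ℤˣ => a.1 v) e)
      (congrArg (fun a : Equiv.Perm V × ℤˣ => a.2) e)) (fun x hx => ?_) ((quadHD hQ).good_M (quadHD hQ).adm_zero)
  exact ⟨(⟨{ x.1 with
    map_add' := HD.M_add hx
    map_smul' := fun r v => by
      have := HD.M_smul hx r v
      rwa [quad_sg] at this }, quad_Q hQ hx⟩, x.2), trivial, rfl⟩

include hQ in
theorem fsInd_O [Fintype (Orth.O Q)] {χ : Orth.O Q → ℂ} (h : IsIrrCharacter _ χ) : fsInd χ = 1 := by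
  haveI : FiniteDimensional F V := Module.Finite.of_finite
  refine fsInd_eq_one_of_good (good_O hQ) (fun g => ?_) h
  obtain ⟨t, -, h1, h2, -⟩ := Real2.real2' CharTwo.two_eq_zero hQ True g.1 (Orth.O_polar g)
    (fun _ => g.2)
  exact isConj_iff.2 ⟨⟨t, h1 trivial⟩, Subtype.ext h2⟩

include hQ in
theorem fsInd_Omega [Fintype (commutator (Orth.O Q))] (h4 : 4 ∣ finrank F V)
    (hne : finrank F V ≠ 4) {χ : commutator (Orth.O Q) → ℂ} (h : IsIrrCharacter _ χ) :
    fsInd χ = 1 := by
  haveI : FiniteDimensional F V := Module.Finite.of_finite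
  letI := Fintype.ofFinite (Orth.O Q)
  refine fsInd_ker (Orth.dickson hQ (Or.inr hne))
    (Orth.commutator_eq_ker_dickson hQ CharTwo.two_eq_zero _) (fun χ => fsInd_O hQ) (fun g => ?_) h
  obtain ⟨t, -, h1, h2, -, h3⟩ := Real2.real2' CharTwo.two_eq_zero hQ True g.1.1 (Orth.O_polar g.1)
    (fun _ => g.1.2)
  refine isConj_iff.2 ⟨⟨⟨t, h1 trivial⟩, ?_⟩, Subtype.ext (Subtype.ext h2)⟩
  rw [Orth.mem_commutator_iff_of_two_eq_zero hQ CharTwo.two_eq_zero (Or.inr hne)]
  obtain ⟨k, hk⟩ := h4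
  rw [hk] at h3
  exact ⟨k, Nat.eq_of_mul_eq_mul_left two_pos (h3.trans (by ring))⟩

/-- The isometry group of the polar form. -/
def SpQ (Q : QuadraticForm F V) : Subgroup (V ≃ₗ[F] V) where
  carrier := {g | ∀ x y, polar Q (g x) (g y) = polar Q x y}
  one_mem' _ _ := rfl
  mul_mem' := fun ha hb x y => (ha _ _).trans (hb x y)
  inv_mem' := fun {a} ha x y => by
    rw [← ha]; simp

include hQ in
theorem good_Sp : Good (MonoidHom.snd (SpQ Q) ℤˣ) ⊤ := by
  classical
  haveI : FiniteDimensional F V := Module.Finite.of_finite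
  let Q' := Q.prod (Orth.QPlus 1 F)
  have hQ' : (polarBilin Q').Nondegenerate := Orth.prod_nondeg hQ (Orth.QPlus_nondeg 1 F)
  let e : Fin 1 ⊕ Fin 1 → F := fun _ => 1
  let s0 : V × (Fin 1 ⊕ Fin 1 → F) := (0, e)
  have h2 : (2 : F) = 0 := CharTwo.two_eq_zero
  have hQe : ∀ c : F, Orth.QPlus 1 F (c • e) = c * c := fun c => by simp [Orth.QPlus_apply, e]
  have hpe : ∀ u, polar (Orth.QPlus 1 F) u e = 0 → u = u (.inl 0) • e := fun u hu => by
    rw [Orth.polar_QPlus] at hu
    simp only [e, Finset.univ_unique, sum_singleton, mul_one] at hu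
    ext (i | i) <;> obtain rfl := Subsingleton.elim i 0 <;> simp only [e, Pi.smul_apply, smul_eq_mul,
      mul_one]
    have hu : u (.inl 0) + u (.inr 0) = 0 := hu
    linear_combination hu - u (.inl 0) * h2
  have hpp : ∀ a b : F, polar (Orth.QPlus 1 F) (a • e) (b • e) = 0 := fun a b => by
    rw [Orth.polar_QPlus]
    simp only [e, Finset.univ_unique, sum_singleton, mul_one, Pi.smul_apply, smul_eq_mul]
    linear_combination (a * b) * h2
  have hadm : (quadHD hQ').Adm s0 := ⟨fun _ => rfl, fun r hr => by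
    have h1 := (quad_par hQ' (r • s0)).eq_of_triv (fun _ => rfl) hr.par
    have : r * r = 0 := by simpa [Q', s0, hQe] using h1
    rw [mul_self_eq_zero.1 this, zero_smul]⟩
  have key : ∀ x ∈ (quadHD hQ').M s0, ∀ v, ∃ c : F, x.1 (v, 0) = ((x.1 (v, 0)).1, c • e) := by
    intro x hx v
    have := HD.M_h hx (v, 0) s0
    rw [HD.M_s0 hx, quad_sg] at this
    have h3 : polar Q' (x.1 (v, 0)) s0 = polar Q' (v, 0) s0 := this
    simp only [Q', s0, polar_prod, polar_zero_right, polar_zero_left, zero_add] at h3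
    exact ⟨_, Prod.ext rfl (hpe _ h3)⟩
  have hs : ∀ x ∈ (quadHD hQ').M s0, ∀ (c : F), x.1 (0, c • e) = (0, c • e) := fun x hx c => by
    have := HD.M_smul hx c s0
    rw [HD.M_s0 hx, quad_sg] at this
    simpa [s0] using this
  have hex : ∀ x ∈ (quadHD hQ').M s0, ∃ g : SpQ Q, ∀ v, g.1 v = (x.1 (v, 0)).1 := by
    intro x hx
    let f : V →ₗ[F] V :=
      { toFun := fun v => (x.1 (v, 0)).1
        map_add' := fun u v => by rw [← Prod.fst_add, ← HD.M_add hx]; simp
        map_smul' := fun r v => by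
          have := HD.M_smul hx r (v, 0)
          rw [quad_sg] at this
          rw [RingHom.id_apply, ← Prod.smul_fst, ← this]; simp }
    have hf : ∀ u v, polar Q (f u) (f v) = polar Q u v := fun u v => by
      have := HD.M_h hx (u, 0) (v, 0)
      rw [quad_sg] at this
      have h3 : polar Q' (x.1 (u, 0)) (x.1 (v, 0)) = polar Q' (u, 0) (v, 0) := this
      obtain ⟨a, ha⟩ := key x hx u
      obtain ⟨b, hb⟩ := key x hx v
      rw [ha, hb] at h3
      change polar Q (x.1 (u, 0)).1 (x.1 (v, 0)).1 = _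
      simpa [Q', polar_prod, hpp, -polar_smul_left, -polar_smul_right] using h3
    have hi : Function.Injective f := by
      rw [← LinearMap.ker_eq_bot, LinearMap.ker_eq_bot']
      intro v hv
      exact Orth.eq_zero_of_polar hQ fun y => by rw [← hf, hv, polar_zero_left]
    exact ⟨⟨LinearEquiv.ofInjectiveEndo f hi, hf⟩, fun _ => rfl⟩
  choose! g hg using hex
  refine Good.of_surj (fun x => (g x, x.2)) (fun _ _ => trivial) (fun x hx y hy => ?_)
    (fun _ _ => rfl) ?_ ((quadHD hQ').good_M hadm)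
  · refine Prod.ext (Subtype.ext (LinearEquiv.ext fun v => ?_)) rfl
    change (g (x * y)).1 v = (g x).1 ((g y).1 v)
    obtain ⟨c, hc⟩ := key y hy v
    rw [hg _ (Subgroup.mul_mem _ hx hy), hg x hx, hg y hy, HD.mul_ap, hc,
      show ((y.1 (v, 0)).1, c • e) = ((y.1 (v, 0)).1, 0) + (0, c • e) by simp, HD.M_add hx, hs x hx]
    simp
  · rintro ⟨a, ε⟩ -
    have hd : ∀ v, ∃ d : F, d * d = Q (a.1 v) + Q v := fun v => (quadHD hQ).exists_sqrt _
    choose d hd using hd
    have sq : ∀ {x y : F}, x * x = y * y → x = y := fun {x y} h => by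
      have : (x + y) * (x + y) = 0 := by linear_combination h + (x * y + y * y) * h2
      linear_combination mul_self_eq_zero.1 this - y * h2
    let dl : V →ₗ[F] F :=
      { toFun := d
        map_add' := fun u v => sq (by
          have := hd (u + v)
          rw [map_add, Orth.Q_add, Orth.Q_add, a.2] at this
          linear_combination this - hd u - hd v + (polar Q u v - d u * d v) * h2)
        map_smul' := fun r v => sq (by
          have := hd (r • v)
          rw [map_smul, Orth.Q_smul, Orth.Q_smul] at this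
          simp only [RingHom.id_apply, smul_eq_mul]
          linear_combination this - (r * r) * hd v) }
    let j : V × F →ₗ[F] V × (Fin 1 ⊕ Fin 1 → F) :=
      LinearMap.prodMap LinearMap.id (LinearMap.toSpanSingleton F _ e)
    let k : V × F →ₗ[F] V × F := (a.1.toLinearMap.comp (LinearMap.fst F V F)).prod
      (LinearMap.snd F V F + dl.comp (LinearMap.fst F V F))
    have hj : Function.Injective j := by
      rintro ⟨u, c⟩ ⟨v, c'⟩ h
      have h1 : u = v := congrArg Prod.fst h
      have h3 := congrFun (congrArg Prod.snd h) (.inl 0)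
      exact Prod.ext h1 (by simpa [j, e] using h3)
    have hk : Function.Injective k := by
      rintro ⟨u, c⟩ ⟨v, c'⟩ h
      have h1 : u = v := a.1.injective (congrArg Prod.fst h)
      have h3 : c + d u = c' + d v := congrArg Prod.snd h
      rw [h1] at h3
      exact Prod.ext h1 (add_right_cancel h3)
    obtain ⟨t, ht, ht'⟩ := Cfsg.Agent.S0750.result Q' hQ' _ _
      ((LinearEquiv.ofInjective j hj).symm.trans (LinearEquiv.ofInjective (j.comp k) (hj.comp hk)))
      (by
        intro x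
        obtain ⟨⟨v, c⟩, rfl⟩ := (LinearEquiv.ofInjective j hj).surjective x
        rw [LinearEquiv.trans_apply, LinearEquiv.symm_apply_apply]
        change Q (a.1 v) + Orth.QPlus 1 F ((c + d v) • e) = Q v + Orth.QPlus 1 F (c • e)
        rw [hQe, hQe]
        linear_combination hd v + (c * d v + Q (a.1 v)) * h2)
    have ht2 : ∀ p, t (j p) = j (k p) := fun p => by
      have := ht' (LinearEquiv.ofInjective j hj p)
      rwa [LinearEquiv.trans_apply, LinearEquiv.symm_apply_apply] at this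
    have hm := quad_mem hQ' t ht (s0 := s0) (by
      have := ht2 (0, 1)
      simpa [j, k, s0] using this) ε
    refine ⟨_, hm, Prod.ext (Subtype.ext (LinearEquiv.ext fun v => ?_)) rfl⟩
    rw [hg _ hm]
    have := congrArg Prod.fst (ht2 (v, 0))
    simpa [j, k] using this

include hQ in
theorem fsInd_Sp [Fintype (SpQ Q)] {χ : SpQ Q → ℂ} (h : IsIrrCharacter _ χ) : fsInd χ = 1 := by
  haveI : FiniteDimensional F V := Module.Finite.of_finite
  refine fsInd_eq_one_of_good (good_Sp hQ) (fun g => ?_) h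
  obtain ⟨t, h1, -, h2, -⟩ := Real2.real2' CharTwo.two_eq_zero hQ False g.1 g.2 False.elim
  exact isConj_iff.2 ⟨⟨t, h1⟩, Subtype.ext h2⟩

end quad
end CL.Fs
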