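/-
Frobenius-Schur indicators of matrix orthogonal groups in characteristic two.
-/
import Cfsg.Agent.KSG.FsMain

namespace CL.Fs
open Cfsg CL.Char Finset Module QuadraticMap

variable {F : Type*} [Field F] [Finite F] [CharP F 2] {ι : Type} [Fintype ι] [DecidableEq ι]
  {Q : QuadraticForm F (ι → F)} (hQ : (polarBilin Q).Nondegenerate)

include hQ in
theorem fs_isometryGroup (χ : IrrCharacter (isometryGroup F ⇑Q)) :
    (Nat.card (isometryGroup F ⇑Q) : ℂ)⁻¹ *
      ∑ᶠ s : isometryGroup F ⇑Q, (χ : isometryGroup F ⇑Q → ℂ) (s * s) = 1 := by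
  have : Finite (isometryGroup F ⇑Q) := Finite.of_equiv _ (Orth.toO Q).toEquiv.symm
  let _ := Fintype.ofFinite (isometryGroup F ⇑Q)
  let _ := Fintype.ofFinite (Orth.O Q)
  rw [finsum_eq_sum_of_fintype]
  exact (fsInd_def _).symm.trans (fsInd_of_equiv (Orth.toO Q) (fun _ => fsInd_O hQ) χ.2)

include hQ in
theorem fs_Omega (h4 : 4 ∣ Fintype.card ι) (hne : Fintype.card ι ≠ 4)
    (χ : IrrCharacter (Omega F ⇑Q)) :
    (Nat.card (Omega F ⇑Q) : ℂ)⁻¹ * ∑ᶠ s : Omega F ⇑Q, (χ : Omega F ⇑Q → ℂ) (s * s) = 1 := by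
  have : Finite (isometryGroup F ⇑Q) := Finite.of_equiv _ (Orth.toO Q).toEquiv.symm
  let _ := Fintype.ofFinite (Omega F ⇑Q)
  let _ := Fintype.ofFinite (commutator (Orth.O Q))
  rw [finsum_eq_sum_of_fintype]
  let e : Omega F ⇑Q ≃* commutator (Orth.O Q) :=
    { toFun := fun g => ⟨Orth.toO Q g.1, (Orth.mem_Omega_iff _).1 g.2⟩
      invFun := fun g => ⟨(Orth.toO Q).symm g.1, (Orth.mem_Omega_iff _).2 (by simp)⟩
      left_inv := fun g => by simp
      right_inv := fun g => by simp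
      map_mul' := fun g h => by simp }
  rw [← finrank_fintype_fun_eq_card F] at h4 hne
  exact (fsInd_def _).symm.trans (fsInd_of_equiv e (fun _ => fsInd_Omega hQ h4 hne) χ.2)

theorem fs_symplecticGroup (n : ℕ) (χ : IrrCharacter (Matrix.symplecticGroup (Fin n) F)) :
    ∑ᶠ g : Matrix.symplecticGroup (Fin n) F, (χ : Matrix.symplecticGroup (Fin n) F → ℂ) (g * g) =
      (Nat.card (Matrix.symplecticGroup (Fin n) F) : ℂ) := by
  have h : (Sp.spForm n F).O = SpQ (Orth.QPlus n F) := by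
    have e : ∀ u v, sympForm n F u v = polar (Orth.QPlus n F) u v := fun u v => by
      rw [Sp.sympForm_eq, Orth.polar_QPlus]
      exact sum_congr rfl fun i _ => by rw [CharTwo.sub_eq_add]; ring
    ext g
    rw [Sp.mem_O_iff]
    simp only [e]
    rfl
  let _ := Fintype.ofFinite (Matrix.symplecticGroup (Fin n) F)
  let _ := Fintype.ofFinite (SpQ (Orth.QPlus n F))
  have := fsInd_of_equiv ((Sp.spEquiv n F).trans (MulEquiv.subgroupCongr h))
    (fun _ => fsInd_Sp (Orth.QPlus_nondeg n F)) χ.2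
  rw [fsInd_def, inv_mul_eq_one₀ (card_ne_zero _)] at this
  rw [finsum_eq_sum_of_fintype]
  exact this.symm

end CL.Fs
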