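import Cfsg.Agent.KSG.GLnSmall

/-!
# Pole placement and factorisation of a non-scalar operator into two cyclic operators
-/

set_option autoImplicit false

open Polynomial Module

namespace CL.GLn

universe u

variable {F : Type*} [Field F] {V : Type*} [AddCommGroup V] [Module F V]

/-- The linear map `P ↦ P(T) a`. -/
noncomputable def evV (T : Module.End F V) (a : V) : F[X] →ₗ[F] V :=
  LinearMap.applyₗ a ∘ₗ (aeval T).toLinearMap

@[simp] theorem evV_apply (T : Module.End F V) (a : V) (P : F[X]) : evV T a P = aeval T P a := rfl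

theorem exists_equiv_adjoinRoot [FiniteDimensional F V] {T : Module.End F V} {a : V} {h : F[X]}
    (hm : h.Monic) (hd : h.natDegree = finrank F V)
    (hinj : ∀ P : F[X], P.degree < h.degree → aeval T P a = 0 → P = 0) :
    ∃ e : AdjoinRoot h ≃ₗ[F] V, ∀ P, e (AdjoinRoot.mk h P) = aeval T (P %ₘ h) a := by
  have := finiteDimensional_adjoinRoot hm.ne_zero
  have h1 : Function.Injective (evV T a ∘ₗ AdjoinRoot.modByMonicHom hm) := by
    rw [injective_iff_map_eq_zero]
    intro x hx
    obtain ⟨P, rfl⟩ := AdjoinRoot.mk_surjective x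
    rw [LinearMap.comp_apply, AdjoinRoot.modByMonicHom_mk, evV_apply] at hx
    exact AdjoinRoot.mk_eq_zero.2 ((modByMonic_eq_zero_iff_dvd hm).1
      (hinj _ (degree_modByMonic_lt P hm) hx))
  exact ⟨LinearMap.linearEquivOfInjective _ h1 (by rw [finrank_adjoinRoot, hd]), fun P => by
    simp [AdjoinRoot.modByMonicHom_mk]⟩

theorem aeval_modByMonic_apply {T : Module.End F V} {a : V} {h : F[X]}
    (ha : aeval T h a = 0) (P : F[X]) : aeval T (P %ₘ h) a = aeval T P a := by
  conv_rhs => rw [← modByMonic_add_div P h, mul_comm h]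
  simp [ha]

/-- An operator with a cyclic vector is similar to the standard cyclic operator. -/
theorem simil_cyc_of_vector [FiniteDimensional F V] {T : Module.End F V} {a : V} {h : F[X]}
    (hm : h.Monic) (hd : h.natDegree = finrank F V) (ha : ∀ P, aeval T P a = 0 ↔ h ∣ P) :
    Simil T (cyc h) := by
  obtain ⟨e, he⟩ := exists_equiv_adjoinRoot hm hd fun P h1 h2 =>
    eq_zero_of_dvd_of_degree_lt ((ha P).1 h2) h1
  refine Simil.symm ⟨e, fun x => ?_⟩
  obtain ⟨P, rfl⟩ := AdjoinRoot.mk_surjective x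
  rw [cyc_apply, ← AdjoinRoot.mk_X, ← map_mul, he, he,
    aeval_modByMonic_apply ((ha h).2 dvd_rfl), aeval_modByMonic_apply ((ha h).2 dvd_rfl)]
  simp

theorem Simil.exists_cyclic_vector {T : Module.End F V} {h : F[X]} (hT : Simil T (cyc h)) :
    ∃ a : V, ∀ P, Polynomial.aeval T P a = 0 ↔ h ∣ P := by
  obtain ⟨e, he⟩ := hT
  refine ⟨e.symm 1, fun P => ?_⟩
  rw [← e.map_eq_zero_iff, ← AdjoinRoot.mk_eq_zero]
  have := intertwine_aeval (e : V →ₗ[F] AdjoinRoot h) he P (e.symm 1)
  simp only [LinearEquiv.coe_coe, LinearEquiv.apply_symm_apply] at this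
  rw [this, aeval_cyc_apply, mul_one]

theorem Simil.aeval_cyc_self {T : Module.End F V} {h : F[X]} (hT : Simil T (cyc h)) :
    Polynomial.aeval T h = 0 := by
  rw [hT.aeval_eq_zero_iff]
  ext1 x
  simp [aeval_cyc_apply]

/-- A functional whose kernel contains no invariant subspace has a dual Krylov vector. -/
theorem exists_krylov_vector [FiniteDimensional F V] (T : Module.End F V) (φ : Dual F V) {m : ℕ}
    (hm : finrank F V = m + 1)
    (H : ∀ U : Submodule F V, U ≤ LinearMap.ker φ → U ≤ U.comap T → U = ⊥) :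
    ∃ a : V, ∀ P : F[X], P.degree < (m + 1 : ℕ) → φ (aeval T P a) = P.coeff m := by
  let Φ : V →ₗ[F] Fin (m + 1) → F := LinearMap.pi fun i => φ ∘ₗ T ^ (i : ℕ)
  have key : ∀ (v : V) (P : F[X]), P.degree < (m + 1 : ℕ) →
      φ (aeval T P v) = ∑ i : Fin (m + 1), P.coeff i * Φ v i := fun v P hP => by
    rcases eq_or_ne P 0 with rfl | h0
    · simp
    rw [aeval_eq_sum_range' ((natDegree_lt_iff_degree_lt h0).2 hP), Finset.sum_range]
    simp [Φ]
  have h1 : Function.Injective Φ := by
    rw [← LinearMap.ker_eq_bot]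
    refine H _ (fun v hv => ?_) fun v hv => ?_
    · simpa [Φ] using congrFun (LinearMap.mem_ker.1 hv) 0
    · rw [Submodule.mem_comap, LinearMap.mem_ker]
      funext i
      have h2 := key v (X ^ (i + 1 : ℕ) %ₘ T.charpoly) (by
        have := degree_modByMonic_lt (X ^ (i + 1 : ℕ)) T.charpoly_monic
        rwa [degree_eq_natDegree T.charpoly_monic.ne_zero, T.charpoly_natDegree, hm] at this)
      rw [aeval_modByMonic_apply (by simp [T.aeval_self_charpoly]),
        LinearMap.mem_ker.1 hv] at h2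
      simpa [Φ, pow_succ] using h2
  obtain ⟨a, ha⟩ := (LinearMap.injective_iff_surjective_of_finrank_eq_finrank
    (by simp [hm])).1 h1 (Pi.single (Fin.last m) 1)
  refine ⟨a, fun P hP => ?_⟩
  rw [key a P hP, ha, Finset.sum_eq_single (Fin.last m)]
  · simp
  · intro i _ hi
    simp [hi]
  · simp

/-- Pole placement: an operator can be changed off a hyperplane without invariant subspaces so as to
become cyclic with a prescribed characteristic polynomial. -/
theorem pole_placement [FiniteDimensional F V] [Nontrivial V] (T : Module.End F V) (φ : Dual F V)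
    (H : ∀ U : Submodule F V, U ≤ LinearMap.ker φ → U ≤ U.comap T → U = ⊥)
    {h : F[X]} (hm : h.Monic) (hd : h.natDegree = finrank F V) :
    ∃ E : Module.End F V, (∀ v, φ v = 0 → E v = T v) ∧ Simil E (cyc h) := by
  obtain ⟨m, hV⟩ : ∃ m, finrank F V = m + 1 := ⟨_, (Nat.succ_pred_eq_of_pos finrank_pos).symm⟩
  obtain ⟨a, ha⟩ := exists_krylov_vector T φ hV H
  have hdeg : h.degree = (m + 1 : ℕ) := by rw [degree_eq_natDegree hm.ne_zero, hd, hV]
  obtain ⟨e, he⟩ := exists_equiv_adjoinRoot (T := T) (a := a) hm hd fun P h1 h2 => by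
    by_contra h0
    have h3 : P.natDegree ≤ m :=
      Nat.lt_succ_iff.1 ((natDegree_lt_iff_degree_lt h0).2 (hdeg ▸ h1))
    have h4 := ha (X ^ (m - P.natDegree) * P) (by
      rw [← natDegree_lt_iff_degree_lt (by simp [h0]), natDegree_X_pow_mul _ h0]
      omega)
    rw [map_mul, Module.End.mul_apply, h2, map_zero, map_zero, coeff_X_pow_mul',
      if_pos (by omega), show m - (m - P.natDegree) = P.natDegree by omega] at h4
    exact leadingCoeff_ne_zero.2 h0 h4.symm
  refine ⟨e.conj (cyc h), fun v hv => ?_, (simil_conj _ e).symm⟩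
  obtain ⟨x, rfl⟩ := e.surjective v
  obtain ⟨P, rfl⟩ := AdjoinRoot.mk_surjective x
  have h1 := degree_modByMonic_lt P hm
  rw [← AdjoinRoot.mk_leftInverse hm (AdjoinRoot.mk h P), AdjoinRoot.modByMonicHom_mk] at hv ⊢
  generalize P %ₘ h = Q at hv h1 ⊢
  rw [he, (modByMonic_eq_self_iff hm).2 h1, ha Q (hdeg ▸ h1)] at hv
  have h2 : (X * Q).degree < h.degree := by
    rw [hdeg, degree_lt_iff_coeff_zero] at h1 ⊢
    intro k hk
    obtain ⟨k, rfl⟩ : ∃ j, k = j + 1 := ⟨k - 1, by omega⟩
    rw [coeff_X_mul]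
    rcases eq_or_ne k m with rfl | hkm
    · exact hv
    · exact h1 k (by omega)
  rw [LinearEquiv.conj_apply_apply, e.symm_apply_apply, cyc_apply, ← AdjoinRoot.mk_X, ← map_mul,
    he, he, (modByMonic_eq_self_iff hm).2 h1, (modByMonic_eq_self_iff hm).2 h2]
  simp

theorem finrank_ker_dual_add_one [FiniteDimensional F V] {φ : Dual F V} (hφ : φ ≠ 0) :
    finrank F (LinearMap.ker φ) + 1 = finrank F V := Module.Dual.finrank_ker_add_one_of_ne_zero hφ

theorem exists_dual_ker_eq [FiniteDimensional F V] (U : Submodule F V)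
    (hU : finrank F U + 1 = finrank F V) : ∃ φ : Dual F V, φ ≠ 0 ∧ LinearMap.ker φ = U := by
  obtain ⟨φ, h1, h2⟩ := U.exists_le_ker_of_lt_top (lt_top_iff_ne_top.2 fun h => by
    rw [h, finrank_top] at hU; omega)
  refine ⟨φ, h1, (Submodule.eq_of_le_of_finrank_eq h2 ?_).symm⟩
  have := finrank_ker_dual_add_one h1
  omega

/-- For two injective maps into a space of dimension one more there is a third one forming with each
of them a pencil without regular part. -/
theorem exists_good_pencil (n : ℕ) : ∀ {B A : Type u} [AddCommGroup B] [Module F B]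
    [AddCommGroup A] [Module F A] [FiniteDimensional F A] [FiniteDimensional F B]
    (α γ : B →ₗ[F] A), Function.Injective α → Function.Injective γ → finrank F B = n →
    finrank F A = n + 1 → ∃ σ : B →ₗ[F] A, Function.Injective σ ∧
      (∀ U : Submodule F B, U.map α ≤ U.map σ → U = ⊥) ∧
      ∀ U : Submodule F B, U.map γ ≤ U.map σ → U = ⊥ := by
  induction n with
  | zero =>
    intro B A _ _ _ _ _ _ α γ hα _ hB _
    have := finrank_zero_iff.1 hB
    exact ⟨α, hα, fun U _ => Subsingleton.elim _ _, fun U _ => Subsingleton.elim _ _⟩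
  | succ n ih =>
    intro B A _ _ _ _ _ _ α γ hα hγ hB hA
    have key : ∀ (l : Dual F A) (μ : Dual F B), l ≠ 0 → μ ≠ 0 →
        (∀ b, μ b = 0 → l (α b) = 0) → (∀ b, μ b = 0 → l (γ b) = 0) →
        ∃ (b₀ : B) (σ' : LinearMap.ker μ →ₗ[F] LinearMap.ker l), μ b₀ = 1 ∧
          Function.Injective σ' ∧ ∀ a₀ : A, ∃ σ : B →ₗ[F] A,
            (∀ b, ∃ b' : LinearMap.ker μ, b = b' + μ b • b₀ ∧ σ b = σ' b' + μ b • a₀) ∧
            (∀ U : Submodule F B, U ≤ LinearMap.ker μ → U.map α ≤ U.map σ → U = ⊥) ∧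
            ∀ U : Submodule F B, U ≤ LinearMap.ker μ → U.map γ ≤ U.map σ → U = ⊥ := by
      intro l μ hl hμ h1 h2
      obtain ⟨b₀, hb₀⟩ := LinearMap.surjective_iff_ne_zero.2 hμ 1
      have h3 := finrank_ker_dual_add_one hl
      have h4 := finrank_ker_dual_add_one hμ
      obtain ⟨σ', h5, h6, h7⟩ := ih (α.restrict (p := LinearMap.ker μ) (q := LinearMap.ker l) h1)
        (γ.restrict (p := LinearMap.ker μ) (q := LinearMap.ker l) h2)
        (fun x y h => Subtype.ext (hα (congrArg Subtype.val h)))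
        (fun x y h => Subtype.ext (hγ (congrArg Subtype.val h))) (by omega) (by omega)
      refine ⟨b₀, σ', hb₀, h5, fun a₀ => ?_⟩
      let π : B →ₗ[F] LinearMap.ker μ := LinearMap.codRestrict _ (LinearMap.id - μ.smulRight b₀)
        fun b => by simp [hb₀]
      have hπ' : ∀ b, (π b : B) = b - μ b • b₀ := fun b => rfl
      have hπ : ∀ b : LinearMap.ker μ, π b = b := fun b =>
        Subtype.ext (by rw [hπ', LinearMap.mem_ker.1 b.2, zero_smul, sub_zero])
      let σ : B →ₗ[F] A := (LinearMap.ker l).subtype ∘ₗ σ' ∘ₗ π + μ.smulRight a₀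
      have h8 : ∀ (β : B →ₗ[F] A) (hβ : ∀ b, μ b = 0 → l (β b) = 0),
          (∀ U : Submodule F (LinearMap.ker μ), U.map (β.restrict (p := LinearMap.ker μ)
            (q := LinearMap.ker l) hβ) ≤ U.map σ' → U = ⊥) →
          ∀ U : Submodule F B, U ≤ LinearMap.ker μ → U.map β ≤ U.map σ → U = ⊥ := by
        intro β hβ h U hU hβU
        have h9 := h (U.comap (LinearMap.ker μ).subtype) (by
          rintro _ ⟨u, hu, rfl⟩
          obtain ⟨w, hw, h10⟩ := hβU ⟨u, hu, rfl⟩
          refine ⟨⟨w, hU hw⟩, hw, Subtype.ext ?_⟩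
          have h11 := hπ ⟨w, hU hw⟩
          simp only [σ, LinearMap.add_apply, LinearMap.comp_apply, LinearMap.smulRight_apply,
            LinearMap.mem_ker.1 (hU hw), zero_smul, add_zero] at h10 h11
          rw [h11] at h10
          exact h10)
        rw [eq_bot_iff]
        intro u hu
        have h10 : (⟨u, hU hu⟩ : LinearMap.ker μ) ∈ U.comap (LinearMap.ker μ).subtype := hu
        rw [h9] at h10
        exact congrArg Subtype.val h10
      exact ⟨σ, fun b => ⟨π b, by rw [hπ', sub_add_cancel], rfl⟩, h8 α h1 h6, h8 γ h2 h7⟩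
    obtain ⟨l, hl, hl1⟩ : ∃ l : Dual F A, l ≠ 0 ∧ ∀ b, l (α b) = l (γ b) := by
      obtain ⟨l, h1, h2⟩ := (LinearMap.range (α - γ)).exists_le_ker_of_lt_top
        (lt_top_iff_ne_top.2 fun h => by
          have := LinearMap.finrank_range_le (α - γ)
          rw [h, finrank_top] at this
          omega)
      exact ⟨l, h1, fun b => by simpa [sub_eq_zero] using h2 ⟨b, rfl⟩⟩
    by_cases h0 : l ∘ₗ α = 0
    · have h0' : ∀ b, l (α b) = 0 := fun b => LinearMap.congr_fun h0 b
      have : Nontrivial (Dual F B) := Module.nontrivial_of_finrank_pos (R := F) (by simp [hB])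
      obtain ⟨μ, hμ⟩ := exists_ne (0 : Dual F B)
      obtain ⟨b₀, σ', -, h2, h3⟩ := key l μ hl hμ (fun b _ => h0' b) fun b _ => hl1 b ▸ h0' b
      obtain ⟨a₀, ha₀⟩ := LinearMap.surjective_iff_ne_zero.2 hl 1
      obtain ⟨σ, h4, h5, h6⟩ := h3 a₀
      have h7 : ∀ b, l (σ b) = μ b := fun b => by
        obtain ⟨b', -, h⟩ := h4 b
        simp [h, ha₀, LinearMap.mem_ker.1 (σ' b').2]
      have h8 : Function.Injective σ := by
        rw [injective_iff_map_eq_zero]
        intro b hb
        have h8 := h7 b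
        obtain ⟨b', h9, h10⟩ := h4 b
        rw [hb, map_zero] at h8
        rw [hb, ← h8, zero_smul, add_zero, eq_comm, Submodule.coe_eq_zero,
          map_eq_zero_iff _ h2] at h10
        rw [h9, ← h8, h10]
        simp
      have h9 : ∀ β : B →ₗ[F] A, Function.Injective β → (∀ b, l (β b) = 0) →
          ∀ U : Submodule F B, U.map β ≤ U.map σ → U ≤ LinearMap.ker μ := fun β hβ h U hU u hu => by
        have h9 : U.map β = U.map σ := Submodule.eq_of_le_of_finrank_eq hU (by
          rw [← (Submodule.equivMapOfInjective β hβ U).finrank_eq,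
            ← (Submodule.equivMapOfInjective σ h8 U).finrank_eq])
        obtain ⟨w, -, hw⟩ : σ u ∈ U.map β := h9 ▸ Submodule.mem_map_of_mem hu
        rw [LinearMap.mem_ker, ← h7, ← hw, h]
      exact ⟨σ, h8, fun U hU => h5 U (h9 α hα h0' U hU) hU,
        fun U hU => h6 U (h9 γ hγ (fun b => hl1 b ▸ h0' b) U hU) hU⟩
    · obtain ⟨b₀, σ', -, h2, h3⟩ := key l (l ∘ₗ α) hl h0 (fun b h => h) fun b h => hl1 b ▸ h
      obtain ⟨a₀, ha₀⟩ : ∃ a₀, a₀ ∉ LinearMap.range σ' := by
        by_contra h
        push Not at h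
        have h3 := finrank_ker_dual_add_one hl
        have h4 := finrank_ker_dual_add_one h0
        have := LinearMap.finrank_range_le σ'
        rw [show LinearMap.range σ' = ⊤ from eq_top_iff.2 fun a _ => h a, finrank_top] at this
        omega
      obtain ⟨σ, h4, h5, h6⟩ := h3 a₀
      have h7 : ∀ b, l (σ b) = 0 := fun b => by
        obtain ⟨b', -, h⟩ := h4 b
        simp [h, LinearMap.mem_ker.1 (σ' b').2, LinearMap.mem_ker.1 a₀.2]
      refine ⟨σ, ?_, fun U hU => h5 U (fun u hu => ?_) hU, fun U hU => h6 U (fun u hu => ?_) hU⟩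
      · rw [injective_iff_map_eq_zero]
        intro b hb
        obtain ⟨b', h9, h10⟩ := h4 b
        have h11 : σ' b' + (l ∘ₗ α) b • a₀ = 0 := Subtype.ext (h10.symm.trans hb)
        have h12 : (l ∘ₗ α) b = 0 := by
          by_contra h12
          refine ha₀ ⟨(-((l ∘ₗ α) b)⁻¹) • b', ?_⟩
          rw [map_smul, eq_neg_of_add_eq_zero_left h11, neg_smul_neg, inv_smul_smul₀ h12]
        rw [h12, zero_smul, add_zero, map_eq_zero_iff _ h2] at h11
        rw [h9, h12, h11]
        simp
      · obtain ⟨w, -, hw⟩ := hU (Submodule.mem_map_of_mem hu)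
        rw [LinearMap.mem_ker, LinearMap.comp_apply, ← hw, h7]
      · obtain ⟨w, -, hw⟩ := hU (Submodule.mem_map_of_mem hu)
        rw [LinearMap.mem_ker, LinearMap.comp_apply, hl1, ← hw, h7]

theorem Simil.isUnit_of_cyc {T : Module.End F V} {h : F[X]} (hT : Simil T (cyc h)) (hm : h.Monic)
    (h0 : h.coeff 0 ≠ 0) : IsUnit T := by
  have := finiteDimensional_adjoinRoot hm.ne_zero
  rw [hT.isUnit_iff, LinearMap.isUnit_iff_isUnit_det]
  refine Ne.isUnit ?_
  change Algebra.norm F (AdjoinRoot.root h) ≠ 0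
  rw [norm_root hm]
  simpa using h0

theorem Simil.det_of_cyc {T : Module.End F V} {h : F[X]} (hT : Simil T (cyc h)) (hm : h.Monic) :
    LinearMap.det T = (-1) ^ h.natDegree * h.coeff 0 := hT.det.trans (norm_root hm)

/-- The basic factorisation: if the hyperplane `ker l` is not invariant under `g`, then `g Y`
leaves `ker l` invariant and acts on it cyclically with characteristic polynomial `h`, for a
suitable cyclic `Y` with characteristic polynomial `f`. -/
theorem exists_factor_cyc [FiniteDimensional F V] {g : Module.End F V} (hg : IsUnit g)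
    {l : Dual F V} (hl : ∃ v, l v = 0 ∧ l (g v) ≠ 0) {h f : F[X]} (hm : h.Monic)
    (hd : h.natDegree + 1 = finrank F V) (h0 : h.coeff 0 ≠ 0) (hf : f.Monic)
    (hfd : f.natDegree = finrank F V) : ∃ Y : Module.End F V, Simil Y (cyc f) ∧
      ∃ hX : ∀ v ∈ LinearMap.ker l, (g * Y) v ∈ LinearMap.ker l,
        Simil ((g * Y).restrict hX) (cyc h) := by
  obtain ⟨v₀, hv₀, hv₁⟩ := hl
  have hl : l ≠ 0 := by rintro rfl; simp at hv₁
  have hginj : Function.Injective g := ((Module.End.isUnit_iff g).1 hg).1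
  obtain ⟨g', rfl⟩ := hg
  let μ : Dual F (LinearMap.ker l) := l ∘ₗ (g' : Module.End F V) ∘ₗ (LinearMap.ker l).subtype
  have hμ : μ ≠ 0 := fun h => hv₁ (LinearMap.congr_fun h ⟨v₀, hv₀⟩)
  have h1 := finrank_ker_dual_add_one hl
  have h2 := finrank_ker_dual_add_one hμ
  let γ : LinearMap.ker μ →ₗ[F] LinearMap.ker l := LinearMap.codRestrict _
    ((g' : Module.End F V) ∘ₗ (LinearMap.ker l).subtype ∘ₗ (LinearMap.ker μ).subtype) fun b => b.2
  have hγ : ∀ b, (γ b : V) = (g' : Module.End F V) b := fun b => rfl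
  obtain ⟨σ, h3, h4, h5⟩ := exists_good_pencil _ (LinearMap.ker μ).subtype γ
    (Submodule.injective_subtype _)
    (fun x y h => Subtype.ext (Subtype.ext (hginj (congrArg Subtype.val h)))) rfl h2.symm
  obtain ⟨φ, -, hφ⟩ := exists_dual_ker_eq (LinearMap.range σ)
    (by rw [LinearMap.finrank_range_of_inj h3, h2])
  obtain ⟨σ', hσ'⟩ := σ.exists_leftInverse_of_injective (LinearMap.ker_eq_bot.2 h3)
  have hσ'' : ∀ b, σ' (σ b) = b := fun b => LinearMap.congr_fun hσ' b
  have : Nontrivial (LinearMap.ker l) := Module.nontrivial_of_finrank_pos (R := F) (by omega)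
  have : Nontrivial V := Module.nontrivial_of_finrank_pos (R := F) (by omega)
  obtain ⟨E, hE, hE'⟩ := pole_placement (γ ∘ₗ σ') φ (fun U hU hU' => by
    rw [hφ] at hU
    have h6 : (U.comap σ).map σ = U := Submodule.map_comap_eq_self hU
    rw [← h6, h5 (U.comap σ), Submodule.map_bot]
    rintro _ ⟨u, hu, rfl⟩
    rw [h6]
    simpa [hσ''] using hU' hu) hm (by omega)
  have hEσ : ∀ b, E (σ b) = γ b := fun b => by
    rw [hE _ (LinearMap.mem_ker.1 (hφ ▸ LinearMap.mem_range_self σ b)), LinearMap.comp_apply, hσ'']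
  have hEinj : Function.Injective E := ((Module.End.isUnit_iff E).1 (hE'.isUnit_of_cyc hm h0)).1
  obtain ⟨π, hπ⟩ := (LinearMap.ker l).subtype.exists_leftInverse_of_injective
    (Submodule.ker_subtype _)
  have hπ' : ∀ a : LinearMap.ker l, π a = a := fun a => LinearMap.congr_fun hπ a
  let T : Module.End F V := (g'⁻¹ : (Module.End F V)ˣ) * ((LinearMap.ker l).subtype ∘ₗ E ∘ₗ π)
  have hT : ∀ a : LinearMap.ker l, (g' : Module.End F V) (T a) = E a := fun a => by
    rw [← Module.End.mul_apply, ← mul_assoc, Units.mul_inv, one_mul]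
    simp [hπ']
  obtain ⟨Y, hY, hY'⟩ := pole_placement T l (fun U hU hU' => by
    have h6 : Function.Surjective (T.restrict (p := U) (q := U) hU') := by
      rw [← LinearMap.injective_iff_surjective, injective_iff_map_eq_zero]
      intro u hu
      have h6 := hT ⟨u, hU u.2⟩
      rw [show T u = 0 from congrArg Subtype.val hu, map_zero, eq_comm, Submodule.coe_eq_zero,
        map_eq_zero_iff _ hEinj] at h6
      exact Subtype.ext (congrArg Subtype.val h6 :)
    have h7 : ∀ u (hu : u ∈ U), ∃ hu' : (⟨u, hU hu⟩ : LinearMap.ker l) ∈ LinearMap.ker μ,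
        (σ ⟨_, hu'⟩ : V) ∈ U := fun u hu => by
      obtain ⟨w, hw⟩ := h6 ⟨u, hu⟩
      have h7 := hT ⟨w, hU w.2⟩
      rw [show T w = u from congrArg Subtype.val hw] at h7
      have h8 : (⟨u, hU hu⟩ : LinearMap.ker l) ∈ LinearMap.ker μ := by
        change l ((g' : Module.End F V) u) = 0
        rw [h7]
        exact (E _).2
      refine ⟨h8, ?_⟩
      rw [hEinj (a₁ := σ ⟨_, h8⟩) (a₂ := ⟨w, hU w.2⟩) (Subtype.ext (by rw [hEσ, hγ, ← h7]))]
      exact w.2
    let W := (U.comap (LinearMap.ker l).subtype).comap (LinearMap.ker μ).subtype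
    have h8 : W.map σ = W.map (LinearMap.ker μ).subtype := by
      refine Submodule.eq_of_le_of_finrank_eq ?_ (by
        rw [← (Submodule.equivMapOfInjective σ h3 W).finrank_eq,
          ← (Submodule.equivMapOfInjective _ (Submodule.injective_subtype _) W).finrank_eq])
      rintro _ ⟨w, hw, rfl⟩
      obtain ⟨_, h8⟩ := h7 _ hw
      obtain ⟨h9, -⟩ := h7 _ h8
      exact ⟨⟨_, h9⟩, h8, rfl⟩
    have h9 := h4 W h8.ge
    rw [eq_bot_iff]
    intro u hu
    obtain ⟨h10, -⟩ := h7 u hu
    have h11 : (⟨_, h10⟩ : LinearMap.ker μ) ∈ W := hu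
    rw [h9] at h11
    exact congrArg (fun x : LinearMap.ker μ => (x : V)) h11) hf hfd
  have h6 : ∀ a : LinearMap.ker l, ((g' : Module.End F V) * Y) a = E a := fun a => by
    rw [Module.End.mul_apply, hY _ a.2, hT]
  refine ⟨Y, hY', fun v hv => (h6 ⟨v, hv⟩).symm ▸ (E _).2, ?_⟩
  convert hE'
  exact LinearMap.ext fun a => Subtype.ext (h6 a)

theorem exists_dual_not_invariant {g : Module.End F V} (hg : ∀ c : F, g ≠ algebraMap F _ c) :
    ∃ l : Dual F V, ∃ v, l v = 0 ∧ l (g v) ≠ 0 := by
  by_contra h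
  push Not at h
  obtain ⟨c, hc⟩ := LinearMap.exists_eq_smul_id_of_forall_notLinearIndependent (f := g) fun v hv => by
    have h1 : g v ∉ Submodule.span F {v} := by
      simpa [Submodule.mem_span_singleton] using
        (linearIndependent_fin2.1 (hv.comp _ (Equiv.swap (0 : Fin 2) 1).injective)).2
    obtain ⟨l, h2, h3⟩ := Submodule.exists_dual_map_eq_bot_of_notMem h1 inferInstance
    refine h2 (h l v ?_)
    have : l v ∈ (Submodule.span F {v}).map l :=
      Submodule.mem_map_of_mem (Submodule.mem_span_singleton_self v)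
    rwa [h3] at this
  exact hg c (by rw [hc, Algebra.algebraMap_eq_smul_one])

theorem exists_eigenvalue_quot {T : Module.End F V} {l : Dual F V} (hl : l ≠ 0)
    (hT : ∀ v ∈ LinearMap.ker l, T v ∈ LinearMap.ker l) : ∃ δ : F, ∀ v, l (T v) = δ * l v := by
  obtain ⟨z, hz⟩ := LinearMap.surjective_iff_ne_zero.2 hl 1
  refine ⟨l (T z), fun v => ?_⟩
  have := hT (v - l v • z) (by simp [hz])
  simpa [sub_eq_zero, mul_comm] using this

theorem det_eq_det_restrict_mul [FiniteDimensional F V] {T : Module.End F V} {l : Dual F V}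
    (hl : l ≠ 0) (hT : ∀ v ∈ LinearMap.ker l, T v ∈ LinearMap.ker l) {δ : F}
    (hδ : ∀ v, l (T v) = δ * l v) : LinearMap.det T = LinearMap.det (T.restrict hT) * δ := by
  rw [LinearMap.det_eq_det_mul_det (LinearMap.ker l) T hT]
  congr 1
  have h1 : (LinearMap.ker l).mapQ (LinearMap.ker l) T hT = δ • LinearMap.id := by
    refine Submodule.linearMap_qext _ (LinearMap.ext fun v => ?_)
    simp only [LinearMap.comp_apply, Submodule.mkQ_apply, Submodule.mapQ_apply,
      LinearMap.smul_apply, LinearMap.id_apply, ← Submodule.Quotient.mk_smul,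
      Submodule.Quotient.eq, LinearMap.mem_ker, map_sub, map_smul, hδ, smul_eq_mul, sub_self]
  have h2 := (LinearMap.ker l).finrank_quotient_add_finrank
  have h3 := finrank_ker_dual_add_one hl
  rw [h1, LinearMap.det_smul, LinearMap.det_id, mul_one,
    show finrank F (V ⧸ LinearMap.ker l) = 1 by omega, pow_one]

theorem dual_aeval {T : Module.End F V} {l : Dual F V} {δ : F} (hδ : ∀ v, l (T v) = δ * l v)
    (P : F[X]) (v : V) : l (aeval T P v) = P.eval δ * l v := by
  have := intertwine_aeval (B := algebraMap F (Module.End F F) δ) l hδ P v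
  rw [this, aeval_algebraMap_apply_eq_algebraMap_eval]
  rfl

theorem simil_cyc_mul_of_restrict [FiniteDimensional F V] {T : Module.End F V} {l : Dual F V}
    (hl : l ≠ 0) (hT : ∀ v ∈ LinearMap.ker l, T v ∈ LinearMap.ker l) {δ : F}
    (hδ : ∀ v, l (T v) = δ * l v) {h : F[X]} (hm : h.Monic) (hE : Simil (T.restrict hT) (cyc h))
    (hh : h.eval δ ≠ 0) : Simil T (cyc (h * (X - C δ))) := by
  obtain ⟨a, ha⟩ := hE.exists_cyclic_vector
  obtain ⟨z, hz⟩ := LinearMap.surjective_iff_ne_zero.2 hl 1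
  have h1 : ∀ (P : F[X]) (b : LinearMap.ker l), aeval T P b = aeval (T.restrict hT) P b :=
    fun P b => (intertwine_aeval (LinearMap.ker l).subtype (fun _ => rfl) P b).symm
  have h2 : aeval T (X - C δ) (aeval T h z) = 0 := by
    rw [← Module.End.mul_apply, ← map_mul, mul_comm, map_mul, Module.End.mul_apply,
      h1 h ⟨aeval T (X - C δ) z, by rw [LinearMap.mem_ker, dual_aeval hδ]; simp⟩, hE.aeval_cyc_self]
    rfl
  have h3 : ∀ P, aeval T P (aeval T h z) = P.eval δ • aeval T h z := fun P => by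
    rw [← aeval_modByMonic_apply h2, modByMonic_X_sub_C_eq_C_eval, aeval_C]
    rfl
  have h4 := hE.finrank_eq
  have h5 := finrank_ker_dual_add_one hl
  refine simil_cyc_of_vector (a := a + aeval T h z) (hm.mul (monic_X_sub_C δ)) (by
    rw [hm.natDegree_mul (monic_X_sub_C δ), natDegree_X_sub_C, ← h5, h4, finrank_adjoinRoot])
    fun P => ?_
  rw [map_add, h1, h3]
  constructor
  · intro h6
    have h7 := congrArg l h6
    rw [map_add, LinearMap.mem_ker.1 (Subtype.prop _), map_smul, dual_aeval hδ, hz] at h7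
    have h8 : P.eval δ = 0 := by simpa [hh] using h7
    rw [h8, zero_smul, add_zero, Submodule.coe_eq_zero, ha] at h6
    exact IsCoprime.mul_dvd ((irreducible_X_sub_C δ).coprime_iff_not_dvd.2
      (by rwa [dvd_iff_isRoot])).symm h6 (dvd_iff_isRoot.2 h8)
  · intro h6
    rw [(ha P).2 ((dvd_mul_right _ _).trans h6), dvd_iff_isRoot.1 ((dvd_mul_left _ _).trans h6)]
    simp

theorem exists_commute_det_of_eigen [FiniteDimensional F V] {T : Module.End F V} {l : Dual F V}
    {z : V} {δ : F} (hδ : ∀ v, l (T v) = δ * l v) (hz : T z = δ • z) (h : l z ≠ 0) {c : F}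
    (hc : c ≠ 0) : ∃ g : Module.End F V, IsUnit g ∧ Commute g T ∧ LinearMap.det g = c := by
  have h1 : LinearMap.det (LinearMap.transvection l (((c - 1) * (l z)⁻¹) • z)) = c := by
    rw [LinearMap.transvection.det, map_smul, smul_eq_mul, inv_mul_cancel_right₀ h, add_sub_cancel]
  refine ⟨_, (LinearMap.isUnit_iff_isUnit_det _).2 (h1.symm ▸ hc.isUnit), ?_, h1⟩
  ext v
  simp only [Module.End.mul_apply, LinearMap.transvection.apply, hδ, map_add, map_smul, hz,
    smul_smul]
  congr 2
  ring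

theorem Simil.exists_commute_det_of_cyc_mul {T : Module.End F V} {h : F[X]} {δ : F}
    (hT : Simil T (cyc (h * (X - C δ)))) (hm : h.Monic) (hh : h.eval δ ≠ 0) {c : F} (hc : c ≠ 0) :
    ∃ g : Module.End F V, IsUnit g ∧ Commute g T ∧ LinearMap.det g = c := by
  have := finiteDimensional_adjoinRoot (hm.mul (monic_X_sub_C δ)).ne_zero
  refine hT.exists_commute_det (exists_commute_det_of_eigen (δ := δ) (z := AdjoinRoot.mk _ h)
    (l := (AdjoinRoot.liftAlgHom (h * (X - C δ)) (AlgHom.id F F) δ (by simp)).toLinearMap)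
    (fun v => by simp [cyc_apply]) ?_ (by simpa using hh) hc)
  rw [cyc_apply, ← AdjoinRoot.mk_X, ← map_mul, Algebra.smul_def, AdjoinRoot.algebraMap_eq,
    ← AdjoinRoot.mk_C, ← map_mul, AdjoinRoot.mk_eq_mk, ← sub_mul, mul_comm]

/-- Every invertible non-scalar operator is a quotient of two cyclic operators with prescribed
characteristic polynomials, the first one having a simple eigenvalue. -/
theorem exists_mul_simil_cyc [FiniteDimensional F V] {g : Module.End F V} (hg : IsUnit g)
    (hns : ∀ c : F, g ≠ algebraMap F _ c) {h f : F[X]} (hm : h.Monic)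
    (hd : h.natDegree + 1 = finrank F V) (h0 : h.coeff 0 ≠ 0) (hf : f.Monic)
    (hfd : f.natDegree = finrank F V) {δ : F} (hδ : h.eval δ ≠ 0)
    (hdet : LinearMap.det g * ((-1) ^ f.natDegree * f.coeff 0) =
      (-1) ^ h.natDegree * h.coeff 0 * δ) :
    ∃ Y : Module.End F V, Simil Y (cyc f) ∧ Simil (g * Y) (cyc (h * (X - C δ))) := by
  obtain ⟨l, hl⟩ := exists_dual_not_invariant hns
  obtain ⟨Y, h1, h2, h3⟩ := exists_factor_cyc hg hl hm hd h0 hf hfd
  have hl0 : l ≠ 0 := by rintro rfl; simp at hl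
  obtain ⟨δ', h4⟩ := exists_eigenvalue_quot hl0 h2
  have h5 := det_eq_det_restrict_mul hl0 h2 h4
  rw [map_mul, h1.det_of_cyc hf, h3.det_of_cyc hm, hdet] at h5
  obtain rfl : δ = δ' := mul_left_cancel₀ (by simpa using h0) h5
  exact ⟨Y, h1, simil_cyc_mul_of_restrict hl0 h2 h4 hm h3 hδ⟩

theorem exists_matrix_mul_simil_cyc {n : Type*} [Fintype n] [DecidableEq n] {g : Matrix n n F}
    (hg : g.det ≠ 0) (hns : ∀ c : F, g ≠ algebraMap F _ c) {h f : F[X]} (hm : h.Monic)
    (hd : h.natDegree + 1 = Fintype.card n) (h0 : h.coeff 0 ≠ 0) (hf : f.Monic)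
    (hfd : f.natDegree = Fintype.card n) {δ : F} (hδ : h.eval δ ≠ 0)
    (hdet : g.det * ((-1) ^ f.natDegree * f.coeff 0) = (-1) ^ h.natDegree * h.coeff 0 * δ) :
    ∃ Y : Matrix n n F, Simil (Matrix.toLin' Y) (cyc f) ∧
      Simil (Matrix.toLin' (g * Y)) (cyc (h * (X - C δ))) := by
  obtain ⟨Y, h1, h2⟩ := exists_mul_simil_cyc (g := Matrix.toLin' g)
    ((LinearMap.isUnit_iff_isUnit_det _).2 (by rw [LinearMap.det_toLin']; exact hg.isUnit))
    (fun c hc => hns c (Matrix.toLin'.injective (hc.trans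
      ((Matrix.toLinAlgEquiv' (R := F) (n := n)).commutes c).symm))) hm (by simpa using hd) h0 hf
    (by simpa using hfd) hδ (by rwa [LinearMap.det_toLin'])
  refine ⟨LinearMap.toMatrix' Y, by rwa [Matrix.toLin'_toMatrix'], ?_⟩
  rwa [Matrix.toLin'_mul, Matrix.toLin'_toMatrix']

end CL.GLn
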