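/-
Weight projections for the groups of transvections with a fixed centre in a complex representation
of `SL(V)`.
-/
import Mathlib
import Cfsg.Agent.KSG.LSSL

set_option autoImplicit false

namespace CL.LS

open Module

section Idem

variable {M : Type*} [AddCommGroup M] [Module ℂ M] [FiniteDimensional ℂ M]

theorem trace_idem {e : Module.End ℂ M} (he : e * e = e) :
    LinearMap.trace ℂ M e = finrank ℂ (LinearMap.range e) :=
  (LinearMap.IsIdempotentElem.isProj_range e he).trace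

theorem exists_mul_eq_smul {e S : Module.End ℂ M} (he : e * e = e)
    (h1 : LinearMap.trace ℂ M e = 1) (hS : Commute S e) : ∃ a : ℂ, S * e = a • e := by
  rw [trace_idem he, Nat.cast_eq_one] at h1
  obtain ⟨⟨_, v, rfl⟩, -, hv⟩ := finrank_eq_one_iff'.mp h1
  obtain ⟨a, ha⟩ := hv ⟨S (e v), S v, (LinearMap.congr_fun hS.eq v).symm⟩
  refine ⟨a, LinearMap.ext fun w => ?_⟩
  obtain ⟨b, hb⟩ := hv ⟨e w, w, rfl⟩
  have ha' : a • e v = S (e v) := congrArg Subtype.val ha
  have hb' : b • e v = e w := congrArg Subtype.val hb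
  rw [Module.End.mul_apply, LinearMap.smul_apply, ← hb', map_smul, ← ha', smul_comm]

theorem mul_eq_of_comm {e A B C : Module.End ℂ M} (he : e * e = e)
    (h1 : LinearMap.trace ℂ M e = 1) (hA : Commute A e) (hB : Commute B e) (hC : Commute C e)
    (hA' : Function.Injective A) (hB' : Function.Injective B) (h : A * B = B * C * A) :
    C * e = e := by
  obtain ⟨a, ha⟩ := exists_mul_eq_smul he h1 hA
  obtain ⟨b, hb⟩ := exists_mul_eq_smul he h1 hB
  obtain ⟨c, hc⟩ := exists_mul_eq_smul he h1 hC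
  have h2 : A * (B * (C * e)) = A * (B * e) := by
    conv_rhs => rw [← mul_assoc, h]
    simp only [mul_assoc, ha, hb, hc, mul_smul_comm, smul_smul, mul_comm, mul_left_comm]
  exact LinearMap.ext fun v => hB' (hA' (LinearMap.congr_fun h2 v))

theorem trace_mul_le {e E : Module.End ℂ M} (he : e * e = e) (hE : E * E = E) (h : Commute e E) :
    ∃ k : ℕ, LinearMap.trace ℂ M (e * E) = k ∧ k ≤ finrank ℂ (LinearMap.range e) :=
  ⟨_, trace_idem (by rw [mul_assoc, ← mul_assoc E, ← h.eq, mul_assoc, hE, ← mul_assoc, he]),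
    Submodule.finrank_mono (LinearMap.range_comp_le_range _ _)⟩

omit [FiniteDimensional ℂ M] in
theorem trace_eq_of_semiconj {G : Type*} [Group G] (ρ : G →* Module.End ℂ M) {g : G}
    {A B : Module.End ℂ M} (h : ρ g * A = B * ρ g) :
    LinearMap.trace ℂ M A = LinearMap.trace ℂ M B := by
  have : A = ρ g⁻¹ * (B * ρ g) := by
    rw [← h, ← mul_assoc, ← map_mul, inv_mul_cancel, map_one, one_mul]
  rw [this, LinearMap.trace_mul_comm, mul_assoc, ← map_mul, mul_inv_cancel, map_one, mul_one]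

end Idem

variable {F V : Type*} [Field F] [Finite F] [AddCommGroup V] [Module F V] [FiniteDimensional F V]

noncomputable local instance fintypeSub (W : Submodule F (Dual F V)) : Fintype W :=
  have : Finite (Dual F V) := Module.finite_of_finite F
  Fintype.ofFinite _

theorem card_ann (W : Submodule F V) :
    Fintype.card W.dualAnnihilator = Nat.card F ^ (finrank F V - finrank F W) := by
  rw [← Nat.card_eq_fintype_card, Module.natCard_eq_pow_finrank (K := F),
    ← Subspace.finrank_add_finrank_dualAnnihilator_eq W, add_tsub_cancel_left]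

theorem card_ann_ne_zero (W : Submodule F V) : (Fintype.card W.dualAnnihilator : ℂ) ≠ 0 :=
  Nat.cast_ne_zero.mpr Fintype.card_ne_zero

open Classical in
theorem sum_ite_mem [Fintype V] (W : Submodule F V) (c : ℂ) :
    ∑ v, (if v ∈ W then c else 0) = (Nat.card F : ℂ) ^ finrank F W * c := by
  rw [← Finset.sum_filter, Finset.sum_const, nsmul_eq_mul, ← Nat.cast_pow,
    ← Module.natCard_eq_pow_finrank, Nat.card_eq_fintype_card, Fintype.card_subtype]

variable {ψ : AddChar F ℂ}

omit [Finite F] [FiniteDimensional F V] in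
theorem sum_addChar_dual (hψ : ψ ≠ 1) {U : Type*} [AddCommGroup U] [Module F U] [Fintype U]
    {l : Dual F U} (hl : l ≠ 0) : ∑ u, ψ (l u) = 0 := by
  refine AddChar.sum_eq_zero_iff_ne_zero (ψ := ψ.compAddMonoidHom l.toAddMonoidHom).mpr fun h => ?_
  obtain ⟨u, hu⟩ := DFunLike.ne_iff.mp hl
  exact hu (eq_of_addChar hψ fun c => by simpa using DFunLike.congr_fun h (c • u))

open Classical in
theorem sum_ann (hψ : ψ ≠ 1) (W : Submodule F V) (γ : V) :
    ∑ φ : W.dualAnnihilator, ψ (φ.1 γ) =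
      if γ ∈ W then (Fintype.card W.dualAnnihilator : ℂ) else 0 := by
  split_ifs with h
  · simp [(Submodule.mem_dualAnnihilator _).mp (Subtype.prop _) γ h]
  · obtain ⟨θ, h₁, h₂⟩ := Tv.exists_dual_one W h
    exact sum_addChar_dual hψ (U := W.dualAnnihilator)
      (l := Dual.eval F V γ ∘ₗ W.dualAnnihilator.subtype) fun h0 => by
      simpa [h₁] using LinearMap.congr_fun h0 ⟨θ, (Submodule.mem_dualAnnihilator _).mpr h₂⟩

variable {M : Type*} [AddCommGroup M] [Module ℂ M]

variable (ψ) in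
/-- The projection onto the weight space of `φ ↦ ψ (φ α)` for the group of the transvections
`tv φ x`, `φ` vanishing on `W`. -/
noncomputable def wp (ρ : SpecialLinearGroup F V →* Module.End ℂ M) (W : Submodule F V) (x α : V) :
    Module.End ℂ M :=
  (Fintype.card W.dualAnnihilator : ℂ)⁻¹ •
    ∑ φ : W.dualAnnihilator, ψ (-φ.1 α) • ρ (tv φ.1 x)

variable {ρ : SpecialLinearGroup F V →* Module.End ℂ M} {W : Submodule F V} {x : V}

omit [Finite F] [FiniteDimensional F V] in
theorem ann_apply (φ : W.dualAnnihilator) {x : V} (hx : x ∈ W) : φ.1 x = 0 :=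
  (Submodule.mem_dualAnnihilator _).mp φ.2 x hx

theorem tv_mul_wp (hx : x ∈ W) {φ : Dual F V} (hφ : ∀ w ∈ W, φ w = 0) (α : V) :
    ρ (tv φ x) * wp ψ ρ W x α = ψ (φ α) • wp ψ ρ W x α := by
  rw [wp, mul_smul_comm, smul_comm (ψ (φ α)), Finset.mul_sum]
  congr 1
  rw [Finset.smul_sum]
  refine Fintype.sum_equiv (Equiv.addLeft
    (⟨φ, (Submodule.mem_dualAnnihilator _).mpr hφ⟩ : W.dualAnnihilator)) _ _ fun θ => ?_
  rw [mul_smul_comm, ← map_mul, ← tv_add_left (hφ x hx) (ann_apply θ hx), smul_smul,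
    ← AddChar.map_add_eq_mul]
  simp

open Classical in
theorem wp_mul (hψ : ψ ≠ 1) {E : Module.End ℂ M} {β : V}
    (h : ∀ φ : Dual F V, (∀ w ∈ W, φ w = 0) → ρ (tv φ x) * E = ψ (φ β) • E) (α : V) :
    wp ψ ρ W x α * E = if β - α ∈ W then E else 0 := by
  rw [wp, smul_mul_assoc, Finset.sum_mul, Finset.sum_congr rfl (g := fun φ => ψ (φ.1 (β - α)) • E),
    ← Finset.sum_smul, sum_ann hψ]
  · split_ifs
    · rw [inv_smul_smul₀ (card_ann_ne_zero W)]
    · simp
  · intro φ _
    rw [smul_mul_assoc, h _ fun w hw => ann_apply φ hw, smul_smul, ← AddChar.map_add_eq_mul,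
      map_sub, neg_add_eq_sub]

theorem wp_mul_self (hψ : ψ ≠ 1) (hx : x ∈ W) (α : V) :
    wp ψ ρ W x α * wp ψ ρ W x α = wp ψ ρ W x α := by
  rw [wp_mul hψ fun φ hφ => tv_mul_wp hx hφ α, sub_self, if_pos W.zero_mem]

theorem wp_congr {α β : V} (h : α - β ∈ W) : wp ψ ρ W x α = wp ψ ρ W x β := by
  simp only [wp]
  congr 1
  refine Finset.sum_congr rfl fun φ _ => ?_
  rw [← sub_eq_zero.mp ((map_sub φ.1 α β).symm.trans (ann_apply φ h))]

theorem commute_wp {E : Module.End ℂ M}
    (h : ∀ φ : Dual F V, (∀ w ∈ W, φ w = 0) → Commute E (ρ (tv φ x))) (α : V) :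
    Commute E (wp ψ ρ W x α) :=
  (Commute.sum_right _ _ _ fun φ _ => (h _ fun w hw => ann_apply φ hw).smul_right _).smul_right _

theorem mul_wp (g : SpecialLinearGroup F V) (x α : V) :
    ρ g * wp ψ ρ (F ∙ x) x α = wp ψ ρ (F ∙ g.1 x) (g.1 x) (g.1 α) * ρ g := by
  let i : (F ∙ g.1 x).dualAnnihilator ≃ (F ∙ x).dualAnnihilator :=
    g.1.dualMap.toEquiv.subtypeEquiv fun φ => by
      simp [Submodule.mem_dualAnnihilator, Submodule.mem_span_singleton]
  rw [wp, wp, mul_smul_comm, smul_mul_assoc, Fintype.card_congr i, Finset.mul_sum, Finset.sum_mul]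
  congr 1
  refine (Fintype.sum_equiv i _ _ fun φ => ?_).symm
  rw [mul_smul_comm, smul_mul_assoc, ← map_mul, ← map_mul, mul_tv (φ' := φ.1) g
    (ann_apply (i φ) (Submodule.mem_span_singleton_self x)) fun v => rfl]
  rfl

theorem wp_smul {c : F} (hc : c ≠ 0) (x α : V) :
    wp ψ ρ (F ∙ c • x) (c • x) (c • α) = wp ψ ρ (F ∙ x) x α := by
  rw [Submodule.span_singleton_smul_eq hc.isUnit, wp, wp]
  congr 1
  refine Fintype.sum_equiv (LinearEquiv.smulOfNeZero F _ c hc).toEquiv _ _ fun φ => ?_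
  rw [← tv_smul (ann_apply φ (Submodule.mem_span_singleton_self x))]
  simp

theorem commute_wp_of_smul {g : SpecialLinearGroup F V} {a : F} (ha : a ≠ 0) {α : V}
    (hx : g.1 x = a • x) (hα : g.1 α = a • α) : Commute (ρ g) (wp ψ ρ (F ∙ x) x α) := by
  rw [Commute, SemiconjBy, mul_wp, hx, hα, wp_smul ha]

theorem wp_zero (hψ : ψ ≠ 1) : wp ψ ρ (F ∙ (0 : V)) 0 0 = 1 := by
  have := wp_mul (ρ := ρ) (W := F ∙ (0 : V)) (x := 0) (E := 1) (β := 0) hψ
    (fun φ _ => by simp [tv_zero_right]) 0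
  simpa using this

theorem sum_wp [Fintype V] (hψ : ψ ≠ 1) (hx : x ≠ 0) :
    ∑ α, wp ψ ρ (F ∙ x) x α = (Nat.card F : ℂ) • 1 := by
  classical
  simp only [wp, ← Finset.smul_sum]
  rw [Finset.sum_comm, Finset.sum_eq_single 0]
  · have hq : (Nat.card F : ℂ) ≠ 0 := Nat.cast_ne_zero.mpr Nat.card_pos.ne'
    have h1 : 1 ≤ finrank F V := finrank_span_singleton (K := F) hx ▸ Submodule.finrank_le _
    obtain ⟨n, hn⟩ := Nat.exists_eq_add_of_le' h1
    simp only [ZeroMemClass.coe_zero, LinearMap.zero_apply, neg_zero, AddChar.map_zero_eq_one,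
      one_smul, tv_zero_left, map_one, Finset.sum_const, Finset.card_univ]
    rw [card_ann, finrank_span_singleton hx, ← Nat.card_eq_fintype_card (α := V),
      Module.natCard_eq_pow_finrank (K := F) (V := V), hn, ← Nat.cast_smul_eq_nsmul ℂ, smul_smul]
    congr 1
    push_cast
    field_simp
    simp [pow_succ]
  · intro φ _ hφ
    have := sum_addChar_dual hψ (l := -φ.1) (by simpa using hφ)
    simp only [LinearMap.neg_apply] at this
    rw [← Finset.sum_smul, this, zero_smul]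
  · simp

open Classical in
theorem smul_wp [Fintype V] (hψ : ψ ≠ 1) (hx : x ≠ 0) (hW : x ∈ W) (β : V) :
    (Nat.card F : ℂ) • wp ψ ρ W x β =
      ∑ α, if α - β ∈ W then wp ψ ρ (F ∙ x) x α else 0 := by
  rw [← mul_one (wp ψ ρ W x β), ← mul_smul_comm, ← sum_wp (ρ := ρ) hψ hx, Finset.mul_sum]
  refine Finset.sum_congr rfl fun α _ => wp_mul hψ (fun φ hφ => ?_) β
  exact tv_mul_wp (Submodule.mem_span_singleton_self x)
    (fun w hw => hφ w ((Submodule.span_singleton_le_iff_mem _ _).mpr hW hw)) α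

open Classical in
theorem trace_mul_wp (hψ : ψ ≠ 1) (S : Module.End ℂ M) {u : ℂ}
    (h : ∀ φ : Dual F V, (∀ w ∈ W, φ w = 0) → φ ≠ 0 → LinearMap.trace ℂ M (S * ρ (tv φ x)) = u)
    (α : V) : (Nat.card F : ℂ) ^ (finrank F V - finrank F W) *
      LinearMap.trace ℂ M (S * wp ψ ρ W x α) = LinearMap.trace ℂ M S - u +
        if α ∈ W then (Nat.card F : ℂ) ^ (finrank F V - finrank F W) * u else 0 := by
  rw [← Nat.cast_pow, ← card_ann, wp, mul_smul_comm, map_smul, smul_eq_mul,
    mul_inv_cancel_left₀ (card_ann_ne_zero W), Finset.mul_sum, map_sum,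
    Finset.sum_congr rfl (g := fun φ => (if φ = 0 then LinearMap.trace ℂ M S - u else 0) +
      ψ (φ.1 (-α)) * u), Finset.sum_add_distrib, ← Finset.sum_mul, sum_ann hψ]
  · simp
  · intro φ _
    rw [mul_smul_comm, map_smul, smul_eq_mul]
    split_ifs with hφ
    · simp [hφ, tv_zero_left]
    · rw [h _ (fun w hw => ann_apply φ hw) (by simpa using hφ), map_neg φ.1, zero_add]

end CL.LS
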