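/-
The smallest degree of a non-trivial irreducible complex representation of `SL(V)`.
-/
import Mathlib
import Cfsg.Agent.KSG.LSProj
import Cfsg.Agent.KSG.LSWeil

set_option autoImplicit false

namespace CL.LS

open Module

variable {F V : Type*} [Field F] [Finite F] [AddCommGroup V] [Module F V] [FiniteDimensional F V]
  {ψ : AddChar F ℂ} {M : Type*} [AddCommGroup M] [Module ℂ M] [FiniteDimensional ℂ M]
  {ρ : SpecialLinearGroup F V →* Module.End ℂ M}

/-- Transvections stabilising a one-dimensional weight space act trivially on it. -/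
theorem tv_mul_wp_eq (hψ : ψ ≠ 1) (h3 : 3 ≤ finrank F V)
    (h₃ : finrank F V = 3 → ∃ a : F, a ≠ 0 ∧ a ^ 3 ≠ 1)
    (h₄ : finrank F V = 4 → ∃ a : F, a ≠ 0 ∧ a ^ 2 ≠ 1) {x α y : V} {φ : Dual F V}
    (h1 : LinearMap.trace ℂ M (wp ψ ρ (F ∙ x) x α) = 1) (hx : φ x = 0) (hα : φ α = 0)
    (hy : φ y = 0) : ρ (tv φ y) * wp ψ ρ (F ∙ x) x α = wp ψ ρ (F ∙ x) x α := by
  classical
  by_cases hφ : φ = 0
  · rw [hφ, tv_zero_left, map_one, one_mul]
  have he := wp_mul_self (ρ := ρ) hψ (Submodule.mem_span_singleton_self x) α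
  have hc : ∀ {θ : Dual F V} {w : V}, θ x = 0 → θ α = 0 → θ w = 0 →
      Commute (ρ (tv θ w)) (wp ψ ρ (F ∙ x) x α) := fun h₁ h₂ h₃ =>
    commute_wp_of_smul one_ne_zero (by simp [tv_apply h₃, h₁]) (by simp [tv_apply h₃, h₂])
  have key : ∀ (g : SpecialLinearGroup F V) (a b c : F), a ≠ 0 → c ≠ 0 → b ≠ c → g.1 x = a • x →
      g.1 α = a • α → g.1 y = b • y → (∀ v, φ (g.1 v) = c * φ v) →
      ρ (tv φ y) * wp ψ ρ (F ∙ x) x α = wp ψ ρ (F ∙ x) x α := fun g a b c ha hc0 hbc e₁ e₂ e₃ e₄ => by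
    have hy' : φ ((c / (b - c)) • y) = 0 := by simp [hy]
    refine mul_eq_of_comm he h1 (commute_wp_of_smul ha e₁ e₂) (hc hx hα hy') (hc hx hα hy)
      (injective_rep ρ _) (injective_rep ρ _) ?_
    simp only [← map_mul]
    rw [mul_tv (φ' := c⁻¹ • φ) g hy' fun v => by simp [e₄, hc0], tv_smul (by simp [e₄, hy]),
      ← tv_add_right hy' hy, map_smul, e₃, smul_smul, smul_smul]
    have : b - c ≠ 0 := sub_ne_zero.mpr hbc
    have h2 : c⁻¹ * (c / (b - c)) * b = c / (b - c) + 1 := by field_simp; ring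
    rw [h2, add_smul, one_smul]
  obtain ⟨u, hu⟩ : ∃ u, φ u = 1 := by
    obtain ⟨u, hu⟩ := DFunLike.ne_iff.mp hφ
    have hu' : φ u ≠ 0 := hu
    exact ⟨(φ u)⁻¹ • u, by simp [hu']⟩
  by_cases hn : finrank F V = 3
  · obtain ⟨a, ha, ha'⟩ := h₃ hn
    obtain ⟨d, hd, hd'⟩ := exists_dil hu (inv_ne_zero (pow_ne_zero 3 ha))
    obtain ⟨g, hg⟩ := exists_sl_of_det (g := d.trans (LinearEquiv.smulOfNeZero F V a ha)) (by
      have : (LinearEquiv.smulOfNeZero F V a ha : V →ₗ[F] V) = a • LinearMap.id := rfl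
      rw [LinearEquiv.coe_trans, LinearMap.det_comp, hd, this, LinearMap.det_smul, hn,
        LinearMap.det_id, mul_one, mul_inv_cancel₀ (pow_ne_zero 3 ha)])
    refine key g a a (a * (a ^ 3)⁻¹) ha (by simp [ha]) (fun h => ha' ?_) (by simp [hg, hd', hx])
      (by simp [hg, hd', hα]) (by simp [hg, hd', hy]) fun v => by simp [hg, hd', hu]; ring
    field_simp at h
    exact h
  by_cases hw : ∃ w ∈ LinearMap.ker φ, w ∉ Submodule.span F {x, α, y}
  · obtain ⟨w, hw, hw'⟩ := hw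
    obtain ⟨θ, hθ, hθ'⟩ := Tv.exists_dual_one _ hw'
    have e₁ := hθ' x (Submodule.subset_span (by simp))
    have e₂ := hθ' α (Submodule.subset_span (by simp))
    have e₃ := hθ' y (Submodule.subset_span (by simp))
    refine mul_eq_of_comm he h1 (hc e₁ e₂ e₃) (hc hx hα hw) (hc hx hα hy)
      (injective_rep ρ _) (injective_rep ρ _) ?_
    simp only [← map_mul]
    rw [tv_mul_tv e₃ hθ hy hw]
  · push Not at hw
    have h5 := Submodule.finrank_mono (show LinearMap.ker φ ≤ _ from hw)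
    rw [finrank_ker_dual hφ] at h5
    have h6 : finrank F (Submodule.span F {x, α, y}) ≤ 3 :=
      (finrank_span_le_card _).trans (by simpa using Finset.card_le_three)
    obtain ⟨b, hb, hb'⟩ := h₄ (by omega)
    have hy' : y ∉ Submodule.span F {x, α} := fun h => by
      have h7 : Submodule.span F {x, α, y} ≤ Submodule.span F {x, α} :=
        Submodule.span_le.mpr (by
          rintro _ (rfl | rfl | rfl)
          exacts [Submodule.subset_span (by simp), Submodule.subset_span (by simp), h])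
      have := Submodule.finrank_mono h7
      have := finrank_span_pair_le (F := F) x α
      omega
    obtain ⟨θ, hθ, hθ'⟩ := Tv.exists_dual_one _ hy'
    obtain ⟨d, hd, hd'⟩ := exists_dil hu (inv_ne_zero hb)
    obtain ⟨d', he, he'⟩ := exists_dil hθ hb
    obtain ⟨g, hg⟩ := exists_sl_of_det (g := d.trans d') (by
      rw [LinearEquiv.coe_trans, LinearMap.det_comp, hd, he, mul_inv_cancel₀ hb])
    refine key g 1 b b⁻¹ one_ne_zero (inv_ne_zero hb) (fun h => hb' ?_)
      (by simp [hg, hd', he', hx, hθ' x (Submodule.subset_span (by simp))])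
      (by simp [hg, hd', he', hα, hθ' α (Submodule.subset_span (by simp))])
      (by simp [hg, hd', he', hy, hθ, sub_smul]) fun v => by simp [hg, hd', he', hu, hy]; ring
    field_simp at h
    exact h

section One

variable (hψ : ψ ≠ 1) {k : ℕ} (hn : finrank F V = k + 2) {t : ℂ}
  (ht : ∀ φ x, φ x = 0 → φ ≠ 0 → x ≠ 0 → LinearMap.trace ℂ M (ρ (tv φ x)) = t)

include hψ hn ht

open Classical in
theorem trace_wp {x : V} (hx : x ≠ 0) (α : V) :
    (Nat.card F : ℂ) ^ (k + 1) * LinearMap.trace ℂ M (wp ψ ρ (F ∙ x) x α) = finrank ℂ M - t +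
      if α ∈ F ∙ x then (Nat.card F : ℂ) ^ (k + 1) * t else 0 := by
  have := trace_mul_wp (ρ := ρ) (W := F ∙ x) (x := x) hψ 1 (u := t) (fun φ h h' => by
    rw [one_mul, ht _ _ (h _ (Submodule.mem_span_singleton_self x)) h' hx]) α
  rwa [finrank_span_singleton hx, hn, one_mul, LinearMap.trace_one] at this

variable (hd : finrank ℂ M - t = (Nat.card F : ℂ) ^ (k + 1))

include hd

theorem trace_wp_one {x α : V} (hx : x ≠ 0) (hα : α ∉ F ∙ x) :
    LinearMap.trace ℂ M (wp ψ ρ (F ∙ x) x α) = 1 := by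
  have := trace_wp hψ hn ht hx α
  rw [if_neg hα, add_zero, hd] at this
  exact (mul_eq_left₀ (pow_ne_zero _ (Nat.cast_ne_zero.mpr Nat.card_pos.ne'))).mp this

theorem trace_wp_zero {x : V} (hx : x ≠ 0) :
    LinearMap.trace ℂ M (wp ψ ρ (F ∙ x) x 0) = 1 + t := by
  have := trace_wp hψ hn ht hx 0
  rw [if_pos (Submodule.zero_mem _), hd, ← mul_one_add] at this
  exact mul_left_cancel₀ (pow_ne_zero _ (Nat.cast_ne_zero.mpr Nat.card_pos.ne')) this

variable (hk : 1 ≤ k) (h₃ : finrank F V = 3 → ∃ a : F, a ≠ 0 ∧ a ^ 3 ≠ 1)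
  (h₄ : finrank F V = 4 → ∃ a : F, a ≠ 0 ∧ a ^ 2 ≠ 1)

include hk h₃ h₄

theorem trace_fix_tv {x y : V} {φ : Dual F V} (hx : x ≠ 0) (hy : y ∉ F ∙ x) (hφ : φ ≠ 0)
    (h₁ : φ x = 0) (h₂ : φ y = 0) : LinearMap.trace ℂ M (wp ψ ρ (F ∙ x) x 0 * ρ (tv φ y)) =
      1 + t - (Nat.card F : ℂ) ^ k := by
  classical
  have : Finite V := Module.finite_of_finite F
  let := Fintype.ofFinite V
  have hq : (Nat.card F : ℂ) ≠ 0 := Nat.cast_ne_zero.mpr Nat.card_pos.ne'
  have h := congrArg (fun E => LinearMap.trace ℂ M (ρ (tv φ y) * E)) (sum_wp (ρ := ρ) hψ hx)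
  simp only [Finset.mul_sum, map_sum, mul_smul_comm, mul_one, map_smul, smul_eq_mul] at h
  rw [ht _ _ h₂ hφ (fun h0 => hy (h0 ▸ Submodule.zero_mem _)), Finset.sum_congr rfl
    (g := fun α => (if α ∈ LinearMap.ker φ then 1 else 0) + if α ∈ F ∙ x then
      LinearMap.trace ℂ M (wp ψ ρ (F ∙ x) x 0 * ρ (tv φ y)) - 1 else 0), Finset.sum_add_distrib,
    sum_ite_mem, sum_ite_mem, finrank_ker_dual hφ, hn, finrank_span_singleton hx] at h
  · refine mul_left_cancel₀ hq ?_
    simp only [Nat.add_one_sub_one, pow_succ] at h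
    linear_combination h
  · intro α _
    by_cases hα : α ∈ F ∙ x
    · obtain ⟨c, rfl⟩ := Submodule.mem_span_singleton.mp hα
      rw [if_pos hα, if_pos (by simp [h₁]), wp_congr (β := 0) (by simpa using hα),
        LinearMap.trace_mul_comm, add_sub_cancel]
    rw [if_neg hα, add_zero]
    split_ifs with hα'
    · rw [tv_mul_wp_eq hψ (by omega) h₃ h₄ (trace_wp_one hψ hn ht hd hx hα) h₁ hα' h₂,
        trace_wp_one hψ hn ht hd hx hα]
    · have h3 := mul_wp (ψ := ψ) (ρ := ρ) (tv φ y) x α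
      rw [tv_apply h₂ x, h₁, zero_smul, add_zero, tv_apply h₂] at h3
      rw [← wp_mul_self hψ (Submodule.mem_span_singleton_self x), ← mul_assoc, h3, mul_assoc,
        LinearMap.trace_mul_comm, mul_assoc, wp_mul hψ fun θ hθ =>
          tv_mul_wp (Submodule.mem_span_singleton_self x) hθ _, if_neg, mul_zero, map_zero]
      rwa [add_sub_cancel_left, Submodule.smul_mem_iff _ hα']

theorem trace_fix_wp {y α z : V} (hy : y ≠ 0) (hα : α ∉ F ∙ y)
    (hz : z ∉ Submodule.span F {y, α}) :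
    (Nat.card F : ℂ) * LinearMap.trace ℂ M (wp ψ ρ (F ∙ z) z 0 * wp ψ ρ (F ∙ y) y α) = 1 := by
  classical
  have : Finite V := Module.finite_of_finite F
  let := Fintype.ofFinite V
  have hq : (Nat.card F : ℂ) ≠ 0 := Nat.cast_ne_zero.mpr Nat.card_pos.ne'
  have hz0 : z ≠ 0 := fun h => hz (h ▸ Submodule.zero_mem _)
  have hyz : y ∉ F ∙ z := fun h => by
    obtain ⟨c, rfl⟩ := Submodule.mem_span_singleton.mp h
    have hc : c ≠ 0 := fun h => hy (by simp [h])
    exact hz ((Submodule.smul_mem_iff _ hc).mp (Submodule.subset_span (by simp)))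
  have hαW : α ∉ Submodule.span F {y, z} := fun h => by
    obtain ⟨a, b, rfl⟩ := Submodule.mem_span_pair.mp h
    have hb : b ≠ 0 := fun h => hα (by simp [h, Submodule.smul_mem])
    exact hz (Submodule.mem_span_pair.mpr ⟨-(a / b), b⁻¹, by match_scalars <;> field_simp <;> ring⟩)
  have hW : finrank F (Submodule.span F {y, z}) = 2 := by
    rw [Set.pair_comm, Submodule.span_insert, Submodule.finrank_sup_span_singleton hyz,
      finrank_span_singleton hz0]
  have hyW : y ∈ Submodule.span F {y, z} := Submodule.subset_span (by simp)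
  have hzW : z ∈ Submodule.span F {y, z} := Submodule.subset_span (by simp)
  have h1 := trace_mul_wp (ρ := ρ) (W := Submodule.span F {y, z}) (x := y) hψ
    (wp ψ ρ (F ∙ z) z 0) (fun φ h h' =>
      trace_fix_tv hψ hn ht hd hk h₃ h₄ hz0 hyz h' (h z hzW) (h y hyW)) α
  rw [if_neg hαW, hW, hn, trace_wp_zero hψ hn ht hd hz0, add_tsub_cancel_right, add_zero,
    sub_sub_cancel, mul_eq_left₀ (pow_ne_zero _ hq)] at h1
  have h2 := congrArg (fun E => LinearMap.trace ℂ M (wp ψ ρ (F ∙ z) z 0 * E))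
    (smul_wp (ρ := ρ) hψ hy hyW α)
  simp only [Finset.mul_sum, map_sum, mul_smul_comm, map_smul, smul_eq_mul] at h2
  rw [h1, ← Equiv.sum_comp (Equiv.addRight α), Finset.sum_congr rfl (g := fun w =>
    if w ∈ Submodule.span F {y, z} then
      LinearMap.trace ℂ M (wp ψ ρ (F ∙ z) z 0 * wp ψ ρ (F ∙ y) y α) else 0),
    sum_ite_mem, hW] at h2
  · exact mul_left_cancel₀ hq (by linear_combination -h2)
  · intro w _
    simp only [Equiv.coe_addRight, add_sub_cancel_right]
    split_ifs with hw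
    · obtain ⟨θ, hθ, hθ'⟩ := Tv.exists_dual_one _ hαW
      refine (trace_eq_of_semiconj ρ (g := tv θ w) ?_).symm
      rw [← mul_assoc, mul_wp, mul_assoc, mul_wp, ← mul_assoc]
      simp [tv_apply (hθ' w hw), hθ, hθ' y hyW, hθ' z hzW, add_comm]
    · simp

/-- The key identity in the case of one-dimensional weight spaces. -/
theorem exists_identity (hS : ∀ E, (∀ g, Commute (ρ g) E) → ∃ c : ℂ, E = c • 1) :
    ∃ δ r : ℕ, 0 < δ ∧ δ + 1 ≤ r + Nat.card F ∧
      ((Nat.card F : ℂ) ^ (k + 2) - 1) * (1 + t) * δ = ((Nat.card F : ℂ) ^ 2 - 1) * r *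
        finrank ℂ M + Nat.card F * ((Nat.card F : ℂ) ^ k - 1) * finrank ℂ M * δ := by
  classical
  have : Finite V := Module.finite_of_finite F
  have : Finite (V ≃ₗ[F] V) := Finite.of_injective _ DFunLike.coe_injective
  let := Fintype.ofFinite V
  have hq : (Nat.card F : ℂ) ≠ 0 := Nat.cast_ne_zero.mpr Nat.card_pos.ne'
  have : Nontrivial V := Module.nontrivial_of_finrank_pos (R := F) (by omega)
  obtain ⟨y, hy⟩ := exists_ne (0 : V)
  obtain ⟨α, -, hα⟩ := exists_notMem_of_finrank_lt (U := F ∙ y) (W := ⊤)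
    (by rw [finrank_span_singleton hy, finrank_top]; omega)
  set L := Submodule.span F {y, α} with hL
  have hL2 : finrank F L = 2 := by
    rw [hL, Submodule.span_insert, Submodule.finrank_sup_span_singleton hα,
      finrank_span_singleton hy]
  have hyL : y ∈ L := Submodule.subset_span (by simp)
  have hαL : α ∈ L := Submodule.subset_span (by simp)
  let f : V → Module.End ℂ M := fun z => wp ψ ρ (F ∙ z) z 0
  have hf : ∀ g z, ρ g * f z = f (g.1 z) * ρ g := fun g z => by simp [f, mul_wp]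
  have hf0 : f 0 = 1 := wp_zero hψ
  set e := wp ψ ρ (F ∙ y) y α with he
  have he₁ : e * e = e := wp_mul_self hψ (Submodule.mem_span_singleton_self y) α
  have he₂ : LinearMap.trace ℂ M e = 1 := trace_wp_one hψ hn ht hd hy hα
  -- the global central element
  obtain ⟨c₀, hc₀⟩ := hS (∑ z, f z) fun g => by
    rw [Commute, SemiconjBy, Finset.mul_sum, Finset.sum_mul]
    exact Fintype.sum_equiv g.1.toEquiv _ _ fun z => hf g z
  have h₁ : c₀ * finrank ℂ M = finrank ℂ M + ((Nat.card F : ℂ) ^ (k + 2) - 1) * (1 + t) := by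
    have := congrArg (LinearMap.trace ℂ M) hc₀
    rw [map_smul, LinearMap.trace_one, map_sum, Finset.sum_congr rfl (g := fun z =>
      (if z = 0 then finrank ℂ M - (1 + t) else 0) + (1 + t)) fun z _ => by
        split_ifs with hz
        · simp [hz, hf0]
        · rw [zero_add, trace_wp_zero hψ hn ht hd hz], Finset.sum_add_distrib, Finset.sum_const,
      Finset.card_univ, ← Nat.card_eq_fintype_card, Module.natCard_eq_pow_finrank (K := F),
      hn] at this
    simp only [Finset.sum_ite_eq', Finset.mem_univ, if_true, nsmul_eq_mul, smul_eq_mul] at this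
    push_cast at this
    linear_combination -this
  -- the stabiliser of the plane
  let P : Subgroup (SpecialLinearGroup F V) :=
    { carrier := {g | ∀ v, g.1 v ∈ L ↔ v ∈ L}
      mul_mem' := fun {a b} ha hb v => (ha _).trans (hb v)
      one_mem' := fun v => Iff.rfl
      inv_mem' := fun {a} ha v => (ha _).symm.trans (by rw [sl_apply_inv]) }
  have hP : ∀ {θ : Dual F V} {w : V}, θ w = 0 → w ∈ L → tv θ w ∈ P := fun h hw v => by
    rw [tv_apply h]
    exact L.add_mem_iff_left (L.smul_mem _ hw)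
  let T : Module.End ℂ M := ∑ z, if z ∈ L then f z else 0
  have hT : ∀ g ∈ P, Commute (ρ g) T := fun g hg => by
    rw [Commute, SemiconjBy, Finset.mul_sum, Finset.sum_mul]
    exact Fintype.sum_equiv g.1.toEquiv _ _ fun z => by
      by_cases hz : z ∈ L <;> simp [hz, hg z, hf]
  obtain ⟨c, hc⟩ := exists_mul_eq_smul he₁ he₂ (commute_wp (fun φ hφ =>
    (hT _ (hP (hφ y (Submodule.mem_span_singleton_self y)) hyL)).symm) α)
  have h₂ : Nat.card F * (c₀ - c) = (Nat.card F : ℂ) ^ (k + 2) - (Nat.card F : ℂ) ^ 2 := by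
    have h : (∑ z, f z - T) * e = (c₀ - c) • e := by rw [sub_mul, hc₀, hc, sub_smul]; simp
    have := congrArg (fun E => Nat.card F * LinearMap.trace ℂ M E) h
    simp only [T, ← Finset.sum_sub_distrib, Finset.sum_mul, map_sum, Finset.mul_sum, map_smul,
      he₂, smul_eq_mul, mul_one] at this
    rw [← this, Finset.sum_congr rfl (g := fun z => 1 - if z ∈ L then 1 else 0) fun z _ => by
      split_ifs with hz
      · simp
      · rw [sub_zero, sub_zero, trace_fix_wp hψ hn ht hd hk h₃ h₄ hy hα hz],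
      Finset.sum_sub_distrib, sum_ite_mem, hL2, Finset.sum_const, Finset.card_univ,
      ← Nat.card_eq_fintype_card, Module.natCard_eq_pow_finrank (K := F), hn]
    simp
  -- the submodule generated by the weight space
  let N : Submodule ℂ M := ⨆ g : P, LinearMap.range (ρ g * e)
  obtain ⟨E, hE, hE₁, hE₂⟩ := exists_equivariant_proj (ρ.comp P.subtype) (U := N) fun g =>
    (iSup_le fun g' => by
      rintro _ ⟨v, rfl⟩
      exact Submodule.mem_iSup_of_mem (g * g') ⟨v, by simp⟩ : N ≤ N.comap (ρ g))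
  have hEE : E * E = E := LinearMap.ext fun v => hE₂ _ (hE₁ v)
  have hN : ∀ (S : Module.End ℂ M) (a : ℂ), (∀ g ∈ P, S * (ρ g * e) = a • (ρ g * e)) →
      S * E = a • E := fun S a h => LinearMap.ext fun v =>
    Module.End.mem_eigenspace_iff.mp ((iSup_le fun g => by
      rintro _ ⟨v, rfl⟩
      exact Module.End.mem_eigenspace_iff.mpr (LinearMap.congr_fun (h g g.2) v) :
        N ≤ S.eigenspace a) (hE₁ v))
  have hEw : ∀ z ∈ L, ∀ β, Commute (wp ψ ρ (F ∙ z) z β) E := fun z hz β =>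
    (commute_wp (fun φ hφ => (hE ⟨_, hP (hφ z (Submodule.mem_span_singleton_self z)) hz⟩).symm)
      β).symm
  obtain ⟨r, hr, -⟩ := trace_mul_le (e := f y)
    (wp_mul_self hψ (Submodule.mem_span_singleton_self y) 0) hEE (hEw y hyL 0)
  have hδ := trace_idem hEE
  set δ := finrank ℂ (LinearMap.range E)
  have hδ0 : 0 < δ := Nat.pos_of_ne_zero fun h0 => by
    have h3 : E * e = e := LinearMap.ext fun v =>
      hE₂ _ (Submodule.mem_iSup_of_mem 1 ⟨v, by simp⟩)
    rw [← h3, LinearMap.range_eq_bot.mp (Submodule.finrank_eq_zero.mp h0), zero_mul,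
      map_zero] at he₂
    exact zero_ne_one he₂
  have h₃' : c * δ = δ + ((Nat.card F : ℂ) ^ 2 - 1) * r := by
    have := congrArg (LinearMap.trace ℂ M) (hN T c fun g hg => by
      rw [← mul_assoc, ← (hT g hg).eq, mul_assoc, hc, mul_smul_comm])
    rw [map_smul, hδ, Finset.sum_mul, map_sum, Finset.sum_congr rfl (g := fun z =>
      (if z = 0 then (δ : ℂ) - r else 0) + if z ∈ L then (r : ℂ) else 0) fun z _ => ?_,
      Finset.sum_add_distrib, sum_ite_mem, hL2] at this
    · simp only [Finset.sum_ite_eq', Finset.mem_univ, if_true, smul_eq_mul] at this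
      linear_combination -this
    by_cases hz : z = 0
    · simp [hz, hf0, hδ]
    by_cases hzL : z ∈ L
    · rw [if_pos hzL, if_neg hz, if_pos hzL, zero_add, ← hr]
      by_cases hzy : z ∈ F ∙ y
      · obtain ⟨a, rfl⟩ := Submodule.mem_span_singleton.mp hzy
        have := wp_smul (ψ := ψ) (ρ := ρ) (left_ne_zero_of_smul hz) y 0
        rw [smul_zero] at this
        simp only [f, this]
      · obtain ⟨l₁, l₂, e₁, e₂, e₃, e₄⟩ := exists_dual_pair hy hzy
        have h4 : (l₁ + l₂) (z - y) = 0 := by simp [e₁, e₂, e₃, e₄]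
        refine (trace_eq_of_semiconj ρ (g := tv (l₁ + l₂) (z - y)) ?_).symm
        rw [← mul_assoc, hf, mul_assoc, mul_assoc]
        erw [(hE ⟨_, hP h4 (L.sub_mem hzL hyL)⟩).eq]
        simp [tv_apply h4, e₁, e₃]
    · simp [hz, hzL]
  have h₄' : δ + 1 ≤ r + Nat.card F := by
    have h5 : wp ψ ρ L y 0 * E = E := by
      refine (wp_mul hψ (β := 0) (fun φ hφ => hN _ _ fun g hg => ?_) 0).trans (if_pos (by simp))
      have h6 : ∀ v ∈ L, (φ ∘ₗ g.1.toLinearMap) v = 0 := fun v hv => hφ _ ((hg v).mpr hv)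
      have h7 := mul_tv (φ' := φ) (x := g⁻¹.1 y) g (h6 _ ((P.inv_mem hg y).mpr hyL)) fun v => rfl
      rw [sl_apply_inv] at h7
      rw [← mul_assoc, ← map_mul, ← h7, map_mul, mul_assoc, tv_mul_wp_eq hψ (by omega) h₃ h₄ he₂
        (h6 y hyL) (h6 α hαL) (h6 _ ((P.inv_mem hg y).mpr hyL))]
      simp [he]
    have h6 : ∀ β, ∃ j : ℕ, LinearMap.trace ℂ M ((if β - 0 ∈ L then wp ψ ρ (F ∙ y) y β else 0) * E)
        = j ∧ (j : ℤ) ≤ (if β ∈ L then 1 else 0) + if β ∈ F ∙ y then (r : ℤ) - 1 else 0 := fun β => by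
      by_cases hβ : β ∈ F ∙ y
      · have hβL := (Submodule.span_singleton_le_iff_mem _ _).mpr hyL hβ
        exact ⟨r, by rw [if_pos (by simpa), wp_congr (β := 0) (by simpa), hr], by simp [hβ, hβL]⟩
      by_cases hβL : β ∈ L
      · obtain ⟨j, hj, hj'⟩ := trace_mul_le
          (wp_mul_self hψ (Submodule.mem_span_singleton_self y) β) hEE (hEw y hyL β)
        have := trace_wp_one hψ hn ht hd hy hβ
        rw [trace_idem (wp_mul_self hψ (Submodule.mem_span_singleton_self y) β),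
          Nat.cast_eq_one] at this
        exact ⟨j, by rw [if_pos (by simpa), hj], by simp [hβ, hβL]; omega⟩
      · exact ⟨0, by simp [hβL], by simp [hβ, hβL]⟩
    choose j hj hj' using h6
    have h7 := congrArg (fun S => LinearMap.trace ℂ M (S * E)) (smul_wp (ρ := ρ) hψ hy hyL 0)
    simp only [smul_mul_assoc, h5, map_smul, hδ, Finset.sum_mul, map_sum, hj, smul_eq_mul] at h7
    have h8 := Finset.sum_le_sum fun β (_ : β ∈ Finset.univ) => hj' β
    have h9 : ((∑ β, ((if β ∈ L then 1 else 0) + if β ∈ F ∙ y then (r : ℤ) - 1 else 0) : ℤ) : ℂ) =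
        ((Nat.card F * (Nat.card F + (r - 1)) : ℤ) : ℂ) := by
      push_cast [apply_ite (Int.cast : ℤ → ℂ)]
      rw [Finset.sum_add_distrib, sum_ite_mem, sum_ite_mem, hL2, finrank_span_singleton hy]
      ring
    have h10 : (Nat.card F * δ : ℤ) = ∑ β, (j β : ℤ) := by exact_mod_cast h7
    rw [Int.cast_injective h9, ← h10] at h8
    have := le_of_mul_le_mul_left h8 (by exact_mod_cast Nat.card_pos)
    omega
  refine ⟨δ, r, hδ0, h₄', mul_left_cancel₀ hq ?_⟩
  linear_combination (finrank ℂ M * δ : ℂ) * h₂ - Nat.card F * δ * h₁ +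
    Nat.card F * finrank ℂ M * h₃'

end One

theorem arith_sl {q Q m δ r D : ℤ} (hq : 2 ≤ q) (hQ : q ≤ Q) (hm : 0 ≤ m) (hδ : 0 < δ) (hr : 0 ≤ r)
    (h₁ : δ + 1 ≤ r + q) (hD : D = m + (q * Q - 1))
    (h : (q ^ 2 * Q - 1) * m * δ = (q ^ 2 - 1) * r * D + q * (Q - 1) * D * δ) : D ≤ q * m := by
  have hD0 : 0 < D := by nlinarith
  rcases hr.eq_or_lt with rfl | hr
  · exfalso
    have h2 : (q ^ 2 * Q - 1) * m = q * (Q - 1) * D := mul_right_cancel₀ hδ.ne' (by linarith)
    have h3 : (q * Q + 1) * (m * (q - 1) - q * Q + q + 2) = 2 * (q + 1) := by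
      rw [hD] at h2
      linear_combination h2
    have h4 : q * Q + 1 ≤ 2 * (q + 1) := Int.le_of_dvd (by omega) ⟨_, h3.symm⟩
    obtain rfl : q = 2 := by nlinarith
    obtain rfl : Q = 2 := by omega
    omega
  · have h2 : δ ≤ q * r := by nlinarith
    have h3 : (q ^ 2 * Q - 1) * δ * D ≤ (q ^ 2 * Q - 1) * δ * (q * m) := by
      have : (q ^ 2 - 1) * D * δ ≤ (q ^ 2 - 1) * D * (q * r) :=
        mul_le_mul_of_nonneg_left h2 (mul_nonneg (by nlinarith) hD0.le)
      linarith [congrArg (q * ·) h]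
    exact le_of_mul_le_mul_left h3 (mul_pos (by nlinarith) hδ)

/-- The lower bound `(q ^ n - q) / (q - 1)`. -/
theorem min_degree_sl (h3 : 3 ≤ finrank F V) (h₃ : finrank F V = 3 → ∃ a : F, a ≠ 0 ∧ a ^ 3 ≠ 1)
    (h₄ : finrank F V = 4 → ∃ a : F, a ≠ 0 ∧ a ^ 2 ≠ 1)
    (hS : ∀ E, (∀ g, Commute (ρ g) E) → ∃ c : ℂ, E = c • 1) {φ₀ : Dual F V} {x : V}
    (h₀ : φ₀ x = 0) (h₁ : ρ (tv φ₀ x) ≠ 1) :
    Nat.card F ^ finrank F V ≤ (Nat.card F - 1) * finrank ℂ M + Nat.card F := by
  obtain ⟨ψ, hψ⟩ := exists_addChar_ne_one (F := F) (K := ℂ) (by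
    rw [ringChar.eq_zero]
    exact (CharP.char_ne_zero_of_finite F _).symm)
  have hx : x ≠ 0 := by
    rintro rfl
    exact h₁ (by rw [tv_zero_right, map_one])
  have hφ₀ : φ₀ ≠ 0 := by
    rintro rfl
    exact h₁ (by rw [tv_zero_left, map_one])
  obtain ⟨k, hn⟩ := Nat.exists_eq_add_of_le' (show 2 ≤ finrank F V by omega)
  have ht : ∀ φ x', φ x' = 0 → φ ≠ 0 → x' ≠ 0 → LinearMap.trace ℂ M (ρ (tv φ x')) =
      LinearMap.trace ℂ M (ρ (tv φ₀ x)) := fun φ x' h hφ hx' => by
    obtain ⟨g, hg⟩ := exists_conj_tv h3 h hφ hx' h₀ hφ₀ hx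
    exact trace_eq_of_semiconj ρ (g := g) (by rw [← map_mul, hg, map_mul])
  set t := LinearMap.trace ℂ M (ρ (tv φ₀ x))
  obtain ⟨α, -, hα⟩ := exists_notMem_of_finrank_lt (U := F ∙ x) (W := ⊤)
    (by rw [finrank_span_singleton hx, finrank_top]; omega)
  have hd := trace_wp hψ hn ht hx α
  have hm := trace_wp hψ hn ht hx 0
  have hi := wp_mul_self (ρ := ρ) hψ (Submodule.mem_span_singleton_self x)
  rw [if_neg hα, add_zero, trace_idem (hi _)] at hd
  rw [if_pos (Submodule.zero_mem _), trace_idem (hi _)] at hm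
  set d := finrank ℂ (LinearMap.range (wp ψ ρ (F ∙ x) x α))
  set m := finrank ℂ (LinearMap.range (wp ψ ρ (F ∙ x) x 0)) with hm'
  set q := Nat.card F
  have hq : 2 ≤ q := Finite.one_lt_card
  have hq0 : (q : ℂ) ≠ 0 := Nat.cast_ne_zero.mpr (by omega)
  have hmt : (m : ℂ) = d + t := mul_left_cancel₀ (pow_ne_zero (k + 1) hq0) (by
    linear_combination hm - hd)
  have hD : (finrank ℂ M : ℤ) = m + d * (q * q ^ k - 1) := by
    exact_mod_cast (by linear_combination hmt.symm - hd :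
      (finrank ℂ M : ℂ) = m + d * (q * q ^ k - 1))
  have hQ : (q : ℤ) ≤ q ^ k := by exact_mod_cast Nat.le_self_pow (by omega) q
  rw [hn]
  zify [show 1 ≤ q by omega]
  rw [show (q : ℤ) ^ (k + 2) = q * (q * q ^ k) by ring]
  have hq' : (2 : ℤ) ≤ q := by exact_mod_cast hq
  rcases Nat.lt_trichotomy d 1 with h | h | h
  · exfalso
    have h2 : LinearMap.range (wp ψ ρ (F ∙ x) x 0) = ⊤ :=
      Submodule.eq_top_of_finrank_eq (by rw [show d = 0 by omega] at hD; omega)
    refine h₁ (LinearMap.ext fun v => ?_)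
    obtain ⟨v, rfl⟩ := LinearMap.range_eq_top.mp h2 v
    simpa using LinearMap.congr_fun (tv_mul_wp (ψ := ψ) (ρ := ρ)
      (Submodule.mem_span_singleton_self x) (φ := φ₀) (fun w hw => by
        obtain ⟨c, rfl⟩ := Submodule.mem_span_singleton.mp hw
        simp [h₀]) 0) v
  · rw [h] at hd hmt hD
    obtain ⟨δ, r, h5, h6, h7⟩ := exists_identity hψ hn ht (by rw [← hd]; simp [q]) (by omega) h₃ h₄ hS
    have := arith_sl (m := m) (δ := δ) (r := r) (D := finrank ℂ M) hq' hQ (by omega) (by omega)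
      (by omega) (by omega) (by rw [hD]; simp) (by
        exact_mod_cast (by rw [hmt]; linear_combination h7 : ((q : ℂ) ^ 2 * q ^ k - 1) * m * δ =
          (q ^ 2 - 1) * r * finrank ℂ M + q * (q ^ k - 1) * finrank ℂ M * δ))
    simp only [Nat.cast_one, one_mul] at hD
    rw [hD] at this ⊢
    linarith
  · have h2 : (2 : ℤ) ≤ d := by exact_mod_cast h
    have h4 : (0 : ℤ) ≤ q * q ^ k - 1 := by nlinarith
    have h5 : 2 * (q * q ^ k - 1) ≤ (finrank ℂ M : ℤ) := by nlinarith
    nlinarith [mul_le_mul_of_nonneg_left h5 (show (0 : ℤ) ≤ q - 1 by omega),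
      mul_nonneg h4 (show (0 : ℤ) ≤ q - 2 by omega)]

end CL.LS
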