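import Mathlib
import Cfsg.Agent.FUS.TransvEss
import Cfsg.Agent.FUS.EssSmall
import Cfsg.Agent.FGS.MaxCl3

/-! Elementary abelian essential subgroups of order `p ^ 3` in groups of maximal class, I. -/

set_option autoImplicit false

namespace CL.McCube

open Subgroup Cfsg Cfsg.FusionSystem CL.Fus CL.MaxCl
open scoped commutatorElement

variable {G : Type*} [Group G] {p n : ℕ}

theorem comm_cong {i : ℕ} (hi : 1 ≤ i) {a t y r : G} (hy : y ∈ P G i) (hr : r ∈ P G (i + 1))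
    (ht : ⁅t, y⁆ ∈ P G (i + 2)) (c d : ℤ) :
    (⁅a, y⁆ ^ (d * c))⁻¹ * ⁅a ^ d * t, y ^ c * r⁆ ∈ P G (i + 2) := by
  refine QuotientGroup.eq.1 ?_
  let π := QuotientGroup.mk' (P G (i + 2))
  have hc : ∀ r ∈ P G (i + 1), ∀ g : G ⧸ P G (i + 2), Commute g (π r) := by
    intro r hr g
    obtain ⟨g, rfl⟩ := QuotientGroup.mk'_surjective _ g
    exact commutatorElement_eq_one_iff_commute.1
      ((QuotientGroup.eq_one_iff _).2 (comm_mem (by omega) g hr))
  have h1 : Commute (π t) (π y) :=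
    commutatorElement_eq_one_iff_commute.1 ((QuotientGroup.eq_one_iff _).2 ht)
  have h2 : ∀ y ∈ P G i, ∀ g : G ⧸ P G (i + 2), Commute g ⁅π a, π y⁆ := fun y hy g => by
    rw [← map_commutatorElement]; exact hc _ (comm_mem hi a hy) g
  change π _ = π _
  rw [map_zpow, map_commutatorElement, map_commutatorElement, map_mul, map_mul, map_zpow, map_zpow]
  have e1 : ⁅π a ^ d * π t, π y ^ c * π r⁆ = ⁅π a ^ d, π y ^ c⁆ := by
    have e2 := (hc r hr (π a ^ d * π t)).eq
    have e3 := (h1.zpow_right c).eq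
    calc ⁅π a ^ d * π t, π y ^ c * π r⁆
        = (π a ^ d * π t) * π y ^ c * (π r * (π a ^ d * π t)⁻¹) * (π r)⁻¹ * (π y ^ c)⁻¹ := by
          rw [commutatorElement_def]; group
      _ = π a ^ d * (π t * π y ^ c) * (π t)⁻¹ * (π a ^ d)⁻¹ * (π y ^ c)⁻¹ := by
          rw [← (hc r hr (π a ^ d * π t)⁻¹).eq]; group
      _ = _ := by rw [e3, commutatorElement_def]; group
  rw [e1, PG.commutator_zpow_left (by simpa using h2 _ (zpow_mem hy c) (π a)),
    PG.commutator_zpow_right (h2 y hy _), ← zpow_mul, mul_comm c]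

variable [Finite G] [hp : Fact p.Prime]

omit [Finite G] in
theorem dec {A B : Subgroup G} (hi : A.relIndex B = p) (hn : B ≤ normalizer (A : Set G)) {x : G}
    (hx : x ∈ B) (hxA : x ∉ A) {y : G} (hy : y ∈ B) : ∃ a ∈ A, ∃ j : ℤ, y = a * x ^ j := by
  have : (A.subgroupOf B).Normal := normal_subgroupOf_of_le_normalizer hn
  have h1 : ((⟨x, hx⟩ : B) : B ⧸ A.subgroupOf B) ≠ 1 := fun e =>
    hxA ((QuotientGroup.eq_one_iff (⟨x, hx⟩ : B)).1 e)
  obtain ⟨j, hj⟩ := mem_zpowers_of_prime_card (G := B ⧸ A.subgroupOf B) hi h1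
    (g' := ((⟨y, hy⟩ : B) : B ⧸ A.subgroupOf B))
  have h2 : (((⟨x, hx⟩ : B) ^ j : B) : B ⧸ A.subgroupOf B) = (⟨y, hy⟩ : B) := by
    rw [QuotientGroup.mk_zpow]; exact hj
  have h3 : y * (x ^ j)⁻¹ ∈ A := by
    have := QuotientGroup.eq_iff_div_mem.1 h2.symm
    rwa [div_eq_mul_inv] at this
  exact ⟨_, h3, j, by group⟩

omit [Finite G] in
theorem relIndex_of_card {A B : Subgroup G} (hAB : A ≤ B) {k : ℕ} (hA : Nat.card A = p ^ k)
    (hB : Nat.card B = p ^ (k + 1)) : A.relIndex B = p := by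
  have := (A.subgroupOf B).card_mul_index
  rw [Nat.card_congr (subgroupOfEquivOfLe hAB).toEquiv, hA, hB, pow_succ] at this
  exact Nat.eq_of_mul_eq_mul_left (pow_pos hp.out.pos k) this

omit [Finite G] in
theorem card_of_relIndex {A B : Subgroup G} (hAB : A ≤ B) {k : ℕ} (hi : A.relIndex B = p)
    (hB : Nat.card B = p ^ (k + 1)) : Nat.card A = p ^ k := by
  have := (A.subgroupOf B).card_mul_index
  rw [Nat.card_congr (subgroupOfEquivOfLe hAB).toEquiv, hB, pow_succ] at this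
  change Nat.card A * A.relIndex B = _ at this
  rw [hi] at this
  exact Nat.eq_of_mul_eq_mul_right hp.out.pos this

theorem comm_V (h : IsMC p n G) (h5 : 5 ≤ n) {u v : G} (hu : u ∈ P G (n - 3)) (hv : v ∈ P G (n - 3)) :
    u * v = v * u := by
  have := h.commutator_P_self_le (i := n - 3) (Or.inl (by omega)) (commutator_mem_commutator hu hv)
  rwa [h.P_eq_bot (by omega), mem_bot, commutatorElement_eq_one_iff_mul_comm] at this

variable {F : FusionSystem (⊤ : Subgroup G)}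

/-- The automorphism of `V = Z₃` induced by the central involution of `SL₂(p)`. -/
structure Out (F : FusionSystem (⊤ : Subgroup G)) (p n : ℕ) (E Z : Subgroup G) (x e e' : G)
    (g : G → G) : Prop where
  mor : Mor F (P G (n - 3)) g
  maps : ∀ v ∈ P G (n - 3), g v ∈ P G (n - 3)
  eZ : e ∈ Z
  ord : orderOf e = p
  ge : g e = e⁻¹
  gz : ∀ z ∈ Z, z⁻¹ * g z ∈ zpowers e
  gx : x⁻¹ * g x ∈ Z
  ge' : ∀ v ∈ P G (n - 3), g (cj e' v) = cj e'⁻¹ (g v)
  mem' : e' ∈ E
  notMem' : e' ∉ Z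
  comm : ⁅e', x⁆ ∈ zpowers e
  comm_ne : ⁅e', x⁆ ≠ 1

theorem tv (h : IsMC p n G) (hF : F.IsSaturated p) {E Z : Subgroup G} (hE : F.IsEssential p E)
    (hab : IsMulCommutative E) (hc : Nat.card E = p ^ 3) (hZE : Z ≤ E) (hZ : Z.relIndex E = p)
    {x : G} (hn : x ∈ normalizer (E : Set G)) (hxE : x ∉ E) (hxZ : ∀ z ∈ Z, x * z = z * x) :
    Nat.card (normalizer (E : Set G)) = p ^ 4 ∧ ∃ e e' D, TvData F p E Z x e e' D := by
  obtain ⟨h1, h2⟩ := exists_tvData (h.isPGroup.to_subgroup ⊤) hF hE hab hZE hZ (mem_top x) hn hxE hxZ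
  refine ⟨?_, h2⟩
  rw [normalizerIn, top_inf_eq] at h1
  have := (E.subgroupOf (normalizer (E : Set G))).card_mul_index
  rw [Nat.card_congr (subgroupOfEquivOfLe le_normalizer).toEquiv, hc] at this
  change p ^ 3 * E.relIndex _ = _ at this
  rw [← this, h1, ← pow_succ]

theorem step1 (h : IsMC p n G) (h5 : 5 ≤ n) (hF : F.IsSaturated p) {E Z : Subgroup G}
    (hE : F.IsEssential p E) (hab : IsMulCommutative E) (hc : Nat.card E = p ^ 3) (hZE : Z ≤ E)
    (hZ : Z.relIndex E = p) (hZV : Z ≤ P G (n - 3)) {x : G} (hxV : x ∈ P G (n - 3))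
    (hn : x ∈ normalizer (E : Set G)) (hxE : x ∉ E) {m : G}
    (hmV : ∀ v ∈ P G (n - 3), ⁅m, v⁆ ∈ Z) (hmE : ∀ y ∈ E, ⁅m, y⁆ ∈ P G (n - 3))
    (hm : m ∉ normalizer (E : Set G)) : ∃ e e' g, Out F p n E Z x e e' g := by
  have hG := h.isPGroup.to_subgroup ⊤
  have hVc : ∀ {u v}, u ∈ P G (n - 3) → v ∈ P G (n - 3) → u * v = v * u := comm_V h h5
  have hEc : ∀ {u v}, u ∈ E → v ∈ E → u * v = v * u := fun hu hv => setLike_mul_comm (s := E) hu hv
  obtain ⟨hN, e, e', D, T⟩ := tv h hF hE hab hc hZE hZ hn hxE fun z hz => hVc hxV (hZV hz)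
  have hcen : ∀ {y}, (∀ u ∈ E, u * y = y * u) → y ∈ E := fun hy =>
    centralizerIn_le_of_isCentric hE.1 ⟨mem_top _, fun u hu => hy u hu⟩
  obtain ⟨w, hw, w1, w2, w3, w4⟩ := T.diag (-1) (-1) (by simp)
  rw [zpow_neg_one] at w1 w2
  have hf := mor_autFun le_top hw
  obtain ⟨g, hg, eg⟩ := exists_extend_of_isCentric hG hF hf hE.1
  have wx : ∀ y ∈ E, autFun w (cj x y) = cj x (autFun w y) := by
    intro y hy
    have h1 := w4 hn
    rw [show ((-1 : ℤ) * -1) = 1 by norm_num, zpow_one, mul_inv_eq_iff_eq_mul] at h1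
    rw [← autFun_cjAut hn hy, ← autFun_mul _ _ hy, h1, autFun_mul _ _ hy,
      autFun_cjAut hn (autFun_mem w hy)]
  have hxN : x ∈ Nphi ⊤ E (autFun w) := ⟨mem_top x, hn, x, mem_top x, wx⟩
  have hEN : E ≤ Nphi ⊤ E (autFun w) := hf.le_Nphi
  have hZc : Nat.card Z = p ^ 2 := card_of_relIndex hZE hZ hc
  have hZV' : Z.relIndex (P G (n - 3)) = p :=
    relIndex_of_card hZV hZc (h.card_P (by omega) (by omega))
  have hxZ : x ∉ Z := fun hz => hxE (hZE hz)
  have nV : P G (n - 3) ≤ normalizer (Z : Set G) := fun v hv =>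
    centralizer_le_normalizer _ fun z hz => hVc (hZV hz) hv
  have nE : E ≤ normalizer (Z : Set G) := fun v hv =>
    centralizer_le_normalizer _ fun z hz => hEc (hZE hz) hv
  have decV : ∀ v ∈ P G (n - 3), ∃ z ∈ Z, ∃ j : ℤ, v = z * x ^ j := fun v hv =>
    dec hZV' nV hxV hxZ hv
  have hVN : P G (n - 3) ≤ Nphi ⊤ E (autFun w) := fun v hv => by
    obtain ⟨z, hz, j, rfl⟩ := decV v hv
    exact mul_mem (hEN (hZE hz)) (zpow_mem hxN j)
  have ge : g e = e⁻¹ := (eg (hZE T.mem)).trans w1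
  have gz : ∀ z ∈ Z, z⁻¹ * g z ∈ zpowers e := by
    intro z hz
    obtain ⟨k, hk⟩ := T.dec z hz
    have h1 : g (z * e ^ k) = z * e ^ k := (eg (hZE (T.le hk))).trans (w3 _ hk)
    rw [hg.map_mul (hEN (hZE hz)) (zpow_mem (hEN (hZE T.mem)) k), hg.map_zpow (hEN (hZE T.mem)), ge]
      at h1
    have : z⁻¹ * g z = e ^ k * e ^ k := by
      rw [eq_mul_inv_of_mul_eq h1]; group
    rw [this]
    exact mul_mem (zpow_mem (mem_zpowers e) k) (zpow_mem (mem_zpowers e) k)
  have gzZ : ∀ z ∈ Z, g z ∈ Z := fun z hz => by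
    have := mul_mem hz ((zpowers_le.2 T.mem) (gz z hz))
    rwa [mul_inv_cancel_left] at this
  have huE : x⁻¹ * g x ∈ E := hcen fun u hu => by
    obtain ⟨y, hy, rfl⟩ : u ∈ autFun w '' E := by rw [autFun_image]; exact hu
    have h1 := hg.map_cj hxN (hEN hy)
    rw [eg (cj_mem_of_mem_normalizer hn hy), wx y hy, eg hy, cj_apply, cj_apply] at h1
    calc autFun w y * (x⁻¹ * g x) = x⁻¹ * (x * autFun w y * x⁻¹) * g x := by group
      _ = _ := by rw [h1]; group
  have gx : x⁻¹ * g x ∈ Z := by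
    by_contra huZ
    generalize hu : x⁻¹ * g x = u at huE huZ
    have hgx : g x = x * u := by rw [← hu]; group
    have decE : ∀ y ∈ E, ∃ z ∈ Z, ∃ j : ℤ, y = z * u ^ j := fun y hy => dec hZ nE huE huZ hy
    have mZ : ∀ z ∈ Z, cj m z ∈ Z := fun z hz => by
      have := mul_mem (hmV z (hZV hz)) hz
      rwa [commutatorElement_def, inv_mul_cancel_right] at this
    have hcV := hmE u huE
    have hcZ : ⁅m, u⁆ ∉ Z := fun hz => hm (mem_normalizer_of_cj_mem fun y hy => by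
      obtain ⟨z, hz', j, rfl⟩ := decE y hy
      rw [(isHomOn_cj ⊤ m).map_mul (mem_top _) (mem_top _), (isHomOn_cj ⊤ m).map_zpow (mem_top _)]
      refine mul_mem (hZE (mZ z hz')) (zpow_mem ?_ j)
      have := mul_mem (hZE hz) huE
      rwa [commutatorElement_def, inv_mul_cancel_right] at this)
    generalize hc' : ⁅m, u⁆ = c at hcV hcZ
    have hmu : cj m u = c * u := by rw [← hc', commutatorElement_def, cj_apply]; group
    have pw : ∀ k : ℕ, ∃ z ∈ Z, cj (m ^ k) u = z * c ^ k * u := by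
      intro k
      induction k with
      | zero => exact ⟨1, one_mem _, by simp [cj_apply]⟩
      | succ k ih =>
        obtain ⟨z, hz, ih⟩ := ih
        refine ⟨cj m z * ⁅m, c ^ k⁆, mul_mem (mZ z hz) (hmV _ (pow_mem hcV k)), ?_⟩
        rw [pow_succ', cj_mul, ih, (isHomOn_cj ⊤ m).map_mul (mem_top _) (mem_top _), hmu,
          (isHomOn_cj ⊤ m).map_mul (mem_top _) (mem_top _), pow_succ c, commutatorElement_def,
          cj_apply m (c ^ k)]
        group
    obtain ⟨i, hi, z0, hz0, ex⟩ : ∃ i : ℕ, i < p ∧ ∃ z ∈ Z, x = z * c ^ i := by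
      obtain ⟨z, hz, j, ex⟩ := dec hZV' nV hcV hcZ hxV
      have hcp : c ^ p ∈ Z := by
        have : (Z.subgroupOf (P G (n - 3))).Normal := ⟨fun a ha b => by
          rw [mem_subgroupOf] at ha ⊢
          simpa [hVc b.2 a.2] using ha⟩
        have := pow_index_mem (Z.subgroupOf (P G (n - 3))) ⟨c, hcV⟩
        rwa [show (Z.subgroupOf (P G (n - 3))).index = p from hZV'] at this
      have hp0 : (0 : ℤ) < p := by exact_mod_cast hp.out.pos
      refine ⟨(j % p).toNat, ?_, z * (c ^ p) ^ (j / p), mul_mem hz (zpow_mem hcp _), ?_⟩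
      · have := Int.emod_lt_of_pos j hp0
        have := Int.emod_nonneg j hp0.ne'
        omega
      · rw [ex, mul_assoc, ← zpow_natCast, ← zpow_mul, ← zpow_natCast, ← zpow_add,
          Int.toNat_of_nonneg (Int.emod_nonneg j hp0.ne'), Int.mul_ediv_add_emod]
    obtain ⟨z1, hz1, e1⟩ := pw i
    have mkZ : ∀ k : ℕ, ∀ z ∈ Z, cj (m ^ k) z ∈ Z := by
      intro k
      induction k with
      | zero => intro z hz; simpa [cj_apply] using hz
      | succ k ih => intro z hz; rw [pow_succ', cj_mul]; exact mZ _ (ih z hz)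
    have hgV := hg.mono hVN
    have hZimg : Z ≤ img g (P G (n - 3)) := by
      have := (hg.mono (hZE.trans hEN)).img_eq_self gzZ
      exact this.ge.trans (img_mono g hZV)
    have hcj : Mor F E (cj (m ^ i)) := mor_cj F le_top (mem_top _)
    have himg : img (cj (m ^ i)) E = img g (P G (n - 3)) := by
      refine hcj.img_eq_of_le (img_le_iff.2 fun y hy => ?_) le_top
        (by rw [hgV.card_img, hc, h.card_P (j := 3) (by omega) (by omega)])
      obtain ⟨z, hz', j, rfl⟩ := decE y hy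
      rw [(isHomOn_cj ⊤ _).map_mul (mem_top _) (mem_top _), (isHomOn_cj ⊤ _).map_zpow (mem_top _)]
      refine mul_mem (hZimg (mkZ i z hz')) (zpow_mem ?_ j)
      have : z1 * c ^ i * u = z1 * z0⁻¹ * g x := by rw [hgx, ex]; group
      rw [e1, this]
      exact mul_mem (hZimg (mul_mem hz1 (inv_mem hz0))) (mem_img_of_mem g hxV)
    have hconj : F.IsConj E (P G (n - 3)) :=
      isConj_trans (himg ▸ hcj.isConj) (isConj_symm hgV.isConj)
    have := hE.2.1.2 _ hconj
    rw [normalizerIn, normalizerIn, top_inf_eq, top_inf_eq, hN,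
      normalizer_eq_top_iff.2 (P_normal _), card_top, h.card,
      Nat.pow_le_pow_iff_right hp.out.one_lt] at this
    omega
  have ge' : g e' = e'⁻¹ := (eg T.mem').trans w2
  have hcm : ⁅e', x⁆ = (e'⁻¹⁻¹ * cj x e'⁻¹) := by rw [commutatorElement_def, cj_apply]; group
  refine ⟨e, e', g, hg.mono hVN, fun v hv => ?_, T.mem, T.ord, ge, gz, gx, fun v hv => ?_, T.mem',
    T.notMem', hcm ▸ T.comm _ (inv_mem T.mem'), fun h1 => hxE (hcen fun u hu => ?_)⟩
  · obtain ⟨z, hz, j, rfl⟩ := decV v hv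
    rw [hg.map_mul (hEN (hZE hz)) (zpow_mem hxN j), hg.map_zpow hxN]
    refine mul_mem (hZV (gzZ z hz)) (zpow_mem ?_ j)
    have := mul_mem hxV (hZV gx)
    rwa [mul_inv_cancel_left] at this
  · rw [hg.map_cj (hEN T.mem') (hVN hv), ge']
  · obtain ⟨z, hz, j, rfl⟩ := dec hZ nE T.mem' T.notMem' hu
    have h2 : Commute e' x := commutatorElement_eq_one_iff_commute.1 h1
    rw [mul_assoc, (h2.zpow_left j).eq, ← mul_assoc, hVc (hZV hz) hxV, mul_assoc]

end CL.McCube
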