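import Mathlib
import Cfsg.Agent.KSG.McCube1

/-! Elementary abelian essential subgroups of order `p ^ 3` in groups of maximal class, II. -/

set_option autoImplicit false

namespace CL.McCube

open Subgroup Cfsg Cfsg.FusionSystem CL.Fus CL.MaxCl
open scoped commutatorElement

variable {G : Type*} [Group G] {p n : ℕ} [Finite G] [hp : Fact p.Prime]
variable {F : FusionSystem (⊤ : Subgroup G)}

omit [Finite G] in
theorem inv_mul_cj_mem {i : ℕ} (hi : 1 ≤ i) (y : G) {v : G} (hv : v ∈ P G i) :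
    v⁻¹ * cj y v ∈ P G (i + 1) := by
  have := comm_mem' hi y (inv_mem hv)
  rwa [show ⁅v⁻¹, y⁆ = v⁻¹ * cj y v by rw [commutatorElement_def, cj_apply]; group] at this

theorem mem_nphi (h : IsMC p n G) (h5 : 5 ≤ n) (hF : F.IsSaturated p) {f : G → G}
    (hf : Mor F (P G (n - 3)) f) (hV : ∀ v ∈ P G (n - 3), f v ∈ P G (n - 3)) {y : G}
    (h1 : ∀ v ∈ P G (n - 3), f v ∈ P G (n - 1) → f (cj y v) = f v)
    (h2 : ∀ v ∈ P G (n - 3), f v ∈ P G (n - 2) → (f v)⁻¹ * f (cj y v) ∈ P G (n - 1))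
    (h3 : ∀ v ∈ P G (n - 3), (f v)⁻¹ * f (cj y v) ∈ P G (n - 2)) :
    y ∈ Nphi ⊤ (P G (n - 3)) f := by
  have hG := h.isPGroup.to_subgroup ⊤
  have hn : ∀ y : G, y ∈ normalizer (P G (n - 3) : Set G) := fun y => by
    rw [normalizer_eq_top_iff.2 (P_normal _)]; exact mem_top y
  have himg := hf.img_eq_self hV
  have hS := sylIn_of_fullyNormalized hG hF
    (fullyNormalized_of_normal F (P := P G (n - 3)) le_top fun y _ => hn y)
  let A := (P G (n - 1)).subgroupOf (P G (n - 3))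
  let B := (P G (n - 2)).subgroupOf (P G (n - 3))
  have hAB : A ≤ B := subgroupOf_mono _ (P_anti (by omega))
  let K := F.autGroup (P G (n - 3)) ⊓ (TV.trivOn ⊥ A bot_le ⊓ TV.trivOn A B hAB ⊓ TV.trivOn B ⊤ le_top)
  have hK : IsPGroup p K := TV.isPGroup_of_le_trivOn (h.isPGroup.to_subgroup _) hAB
    (fun _ h => h.2.1.1) (fun _ h => h.2.1.2) (fun _ h => h.2.2)
  have hle : autInducedBy ⊤ (P G (n - 3)) ≤ K := by
    refine le_inf hS.le fun α hα => ?_
    obtain ⟨g, -, hg, rfl⟩ := mem_autInducedBy_iff_cjAut.1 hα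
    refine ⟨⟨fun v hv => ?_, fun v hv => ?_⟩, fun v _ => ?_⟩
    · refine mem_bot.2 (Subtype.ext ?_)
      have := inv_mul_cj_mem (i := n - 1) (by omega) g hv
      rwa [h.P_eq_bot (by omega), mem_bot] at this
    · have := inv_mul_cj_mem (i := n - 2) (by omega) g hv
      rwa [show n - 2 + 1 = n - 1 by omega] at this
    · have := inv_mul_cj_mem (i := n - 3) (by omega) g v.2
      rwa [show n - 3 + 1 = n - 2 by omega] at this
  refine (hf.mem_Nphi_iff himg).2 ⟨mem_top y, hn y, ?_⟩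
  rw [← hS.eq_of_le inf_le_left hK hle]
  have key : ∀ v : P G (n - 3), ∃ v' ∈ P G (n - 3), f v' = v ∧
      (hf.conjAut himg (cjAut _ y (hn y)) v : G) = f (cj y v') := by
    intro v
    obtain ⟨v', hv', e⟩ := hf.mem_img.1 (himg.ge v.2)
    refine ⟨v', hv', e, ?_⟩
    rw [← autFun_coe, ← e, hf.autFun_conjAut himg _ hv', autFun_cjAut (hn y) hv']
  refine ⟨(hf.conjAut_mem_autGroup_iff himg).2 (cjAut_mem_autGroup F le_top (mem_top y) (hn y)),
    ⟨fun v hv => ?_, fun v hv => ?_⟩, fun v _ => ?_⟩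
  · obtain ⟨v', hv', e, e'⟩ := key v
    refine mem_bot.2 (Subtype.ext ?_)
    change (v : G)⁻¹ * _ = 1
    rw [e', h1 v' hv' (e ▸ hv), e, inv_mul_cancel]
  · obtain ⟨v', hv', e, e'⟩ := key v
    change (v : G)⁻¹ * _ ∈ P G (n - 1)
    rw [e', ← e]
    exact h2 v' hv' (e ▸ hv)
  · obtain ⟨v', hv', e, e'⟩ := key v
    change (v : G)⁻¹ * _ ∈ P G (n - 2)
    rw [e', ← e]
    exact h3 v' hv'

theorem mem_nphi' (h : IsMC p n G) (h5 : 5 ≤ n) (hF : F.IsSaturated p) {f : G → G}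
    (hf : Mor F (P G (n - 3)) f) (hV : ∀ v ∈ P G (n - 3), f v ∈ P G (n - 3))
    (h1 : ∀ v ∈ P G (n - 3), f v ∈ P G (n - 1) ↔ v ∈ P G (n - 1))
    (h2 : ∀ v ∈ P G (n - 3), f v ∈ P G (n - 2) ↔ v ∈ P G (n - 2)) (y : G) :
    y ∈ Nphi ⊤ (P G (n - 3)) f := by
  have hc : ∀ v ∈ P G (n - 3), cj y v ∈ P G (n - 3) := fun v hv => (P_normal _).conj_mem v hv y
  have e : ∀ v ∈ P G (n - 3), (f v)⁻¹ * f (cj y v) = f (v⁻¹ * cj y v) := fun v hv => by
    rw [hf.map_mul (inv_mem hv) (hc v hv), hf.map_inv hv]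
  refine mem_nphi h h5 hF hf hV (fun v hv hv' => ?_) (fun v hv hv' => ?_) fun v hv => ?_
  · rw [cj_eq_self_iff.2 (mem_center_iff.1 (h.P_le_center ((h1 v hv).1 hv')) y)]
  · rw [e v hv, h1 _ (mul_mem (inv_mem hv) (hc v hv))]
    have := inv_mul_cj_mem (i := n - 2) (by omega) y ((h2 v hv).1 hv')
    rwa [show n - 2 + 1 = n - 1 by omega] at this
  · rw [e v hv, h2 _ (mul_mem (inv_mem hv) (hc v hv))]
    have := inv_mul_cj_mem (i := n - 3) (by omega) y hv
    rwa [show n - 3 + 1 = n - 2 by omega] at this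

theorem relIndex_P (h : IsMC p n G) (h4 : 4 ≤ n) {i : ℕ} (hi : i < n) :
    (P G (i + 1)).relIndex (P G i) = p :=
  relIndex_of_card (P_succ_le i) (h.card_P' h4 (j := n - (i + 1)) (by omega))
    (h.card_P' h4 (by omega))

theorem exp_eq (h : IsMC p n G) (h4 : 4 ≤ n) {i : ℕ} (hi : i < n) {y w : G} (hy : y ∈ P G i)
    (hy' : y ∉ P G (i + 1)) {c d : ℤ} (h1 : (y ^ c)⁻¹ * w ∈ P G (i + 1))
    (h2 : (y ^ d)⁻¹ * w ∈ P G (i + 1)) : (c : ZMod p) = d := by
  by_contra hne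
  refine hy' (mem_of_zpow_mem (p := p) (c := d - c)
    (relIndex_P h h4 hi ▸ pow_relIndex_mem (P G (i + 1)) hy) ?_ ?_)
  · have := mul_mem h1 (inv_mem h2)
    rwa [show (y ^ c)⁻¹ * w * ((y ^ d)⁻¹ * w)⁻¹ = y ^ (d - c) by group] at this
  · push_cast
    exact fun e => hne (sub_eq_zero.1 e).symm

theorem dec_P (h : IsMC p n G) (h4 : 4 ≤ n) {i : ℕ} (hi : i < n) {x : G} (hx : x ∈ P G i)
    (hx' : x ∉ P G (i + 1)) {y : G} (hy : y ∈ P G i) :
    ∃ j : ℤ, ∃ a ∈ P G (i + 1), y = x ^ j * a := by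
  obtain ⟨a, ha, j, rfl⟩ := dec (relIndex_P h h4 hi)
    (by rw [normalizer_eq_top_iff.2 (P_normal _)]; exact le_top) hx hx' hy
  exact ⟨j, _, (P_normal _).conj_mem a ha (x ^ j)⁻¹, by group⟩

theorem reg_of (h : IsMC p n G) (h4 : 4 ≤ n) {a : G} (ha : a ∉ P G 1) {i : ℕ} (hi : 1 ≤ i)
    (hn : i + 3 ≤ n) : Reg a i := by
  rcases hi.eq_or_lt with rfl | hi
  · exact h.reg_one h4 ha
  · exact h.reg hi (by rwa [h.C_eq h4 hi hn])

theorem ladder (h : IsMC p n G) (h4 : 4 ≤ n) {H : Subgroup G} {ψ : G → G} (hψ : IsHomOn H ψ)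
    {a t : G} (haH : a ∈ H) (ha : a ∉ P G 1) {d : ℤ} (ht : t ∈ P G 1) (e : ψ a = a ^ d * t)
    {i : ℕ} (hi : 1 ≤ i) {c : ℤ}
    (h0 : ∃ y ∈ H, y ∈ P G i ∧ y ∉ P G (i + 1) ∧ (y ^ c)⁻¹ * ψ y ∈ P G (i + 1)) (k : ℕ)
    (hk : i + k + 2 ≤ n) :
    ∃ y ∈ H, y ∈ P G (i + k) ∧ y ∉ P G (i + k + 1) ∧
      (y ^ (d ^ k * c))⁻¹ * ψ y ∈ P G (i + k + 1) := by
  induction k with
  | zero => simpa using h0
  | succ k ih =>
    obtain ⟨y, hyH, h1, h2, h3⟩ := ih (by omega)
    refine ⟨⁅a, y⁆, commutatorElement_def a y ▸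
      mul_mem (mul_mem (mul_mem haH hyH) (inv_mem haH)) (inv_mem hyH),
      comm_mem (i := i + k) (by omega) a h1, fun h4' => h2 (reg_of h h4 ha (by omega) (by omega) y h1 h4'), ?_⟩
    have := comm_cong (a := a) (by omega) h1 h3
      (h.commutator_P_one_le h4 (i + k) (by omega) (by omega) (commutator_mem_commutator ht h1))
      (d ^ k * c) d
    rw [mul_inv_cancel_left, ← e, ← hψ.map_commutator haH hyH, ← mul_assoc, ← pow_succ'] at this
    exact this

namespace Out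

variable {E Z : Subgroup G} {x e e' : G} {g : G → G}

theorem gV (O : Out F p n E Z x e e' g) (h : IsMC p n G) (h5 : 5 ≤ n) (hZV : Z ≤ P G (n - 3))
    (hZ : Nat.card Z = p ^ 2) (hx : x ∈ P G (n - 3)) (hxZ : x ∉ Z) {v : G} (hv : v ∈ P G (n - 3)) :
    ∃ z ∈ Z, ∃ j : ℤ, v = z * x ^ j ∧ v⁻¹ * g v = z⁻¹ * g z * (x⁻¹ * g x) ^ j := by
  have hVc : ∀ {u v}, u ∈ P G (n - 3) → v ∈ P G (n - 3) → Commute u v := comm_V h h5
  obtain ⟨z, hz, j, rfl⟩ := dec (relIndex_of_card hZV hZ (h.card_P (by omega) (by omega)))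
    (fun v hv => centralizer_le_normalizer _ fun z hz => hVc (hZV hz) hv) hx hxZ hv
  refine ⟨z, hz, j, rfl, ?_⟩
  rw [O.mor.map_mul (hZV hz) (zpow_mem hx j), O.mor.map_zpow hx,
    (hVc (inv_mem hx) (O.maps x hx)).mul_zpow, mul_inv_rev, inv_zpow,
    ← mul_assoc, ← mul_assoc, mul_assoc _ z⁻¹,
    (hVc (inv_mem (zpow_mem hx j)) (mul_mem (inv_mem (hZV hz)) (O.maps z (hZV hz)))).eq]

theorem zpowers_eq (O : Out F p n E Z x e e' g) (h : IsMC p n G) (h5 : 5 ≤ n) {z : G}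
    (hz : z ∈ zpowers e) (hz1 : z ≠ 1) (hz' : z ∈ P G (n - 1)) : zpowers e = P G (n - 1) := by
  have h1 : Nat.card (zpowers e) = p := by rw [Nat.card_zpowers, O.ord]
  have h2 : Nat.card (P G (n - 1)) = p := by rw [h.card_P (j := 1) (by omega) (by omega), pow_one]
  refine le_antisymm (fun y hy => ?_) fun y hy => ?_
  · exact zpowers_le.2 hz' (TV.mem_zpowers_of_card_prime h1 hz hz1 hy)
  · exact zpowers_le.2 hz (TV.mem_zpowers_of_card_prime h2 hz' hz1 hy)

omit [Finite G] hp in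
theorem g_inv (O : Out F p n E Z x e e' g) (hZV : Z ≤ P G (n - 3)) {z : G} (hz : z ∈ zpowers e) :
    g z = z⁻¹ := by
  obtain ⟨k, rfl⟩ := hz
  rw [O.mor.map_zpow (hZV O.eZ), O.ge, inv_zpow]

end Out

theorem neg_ne (hp2 : p ≠ 2) : (-1 : ZMod p) ≠ 1 := by
  intro h
  have : ((2 : ℕ) : ZMod p) = 0 := by push_cast; linear_combination -h
  rw [ZMod.natCast_eq_zero_iff] at this
  exact hp2 ((Nat.prime_dvd_prime_iff_eq hp.out Nat.prime_two).1 this)

theorem caseA1 (h : IsMC p n G) (h5 : 5 ≤ n) (hp2 : p ≠ 2) (hF : F.IsSaturated p)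
    (hC : C G (n - 2) = P G 1) {E : Subgroup G} {x e e' : G} {g : G → G}
    (O : Out F p n E (P G (n - 2)) x e e' g) (hx : x ∈ P G (n - 3)) (hxZ : x ∉ P G (n - 2))
    (he' : e' ∈ P G 1) : False := by
  have h4 : 4 ≤ n := by omega
  have hZV : P G (n - 2) ≤ P G (n - 3) := P_anti (by omega)
  have e1 : n - 3 + 1 = n - 2 := by omega
  have e2 : n - 3 + 2 = n - 1 := by omega
  have e3 : n - 2 + 1 = n - 1 := by omega
  have hz : zpowers e = P G (n - 1) := O.zpowers_eq h h5 O.comm O.comm_ne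
    (e2 ▸ h.commutator_P_one_le h4 (n - 3) (by omega) (by omega) (commutator_mem_commutator he' hx))
  have gV : ∀ v ∈ P G (n - 3), v⁻¹ * g v ∈ P G (n - 2) := fun v hv => by
    obtain ⟨z, hz', j, -, e⟩ := O.gV h h5 hZV (h.card_P (by omega) (by omega)) hx hxZ hv
    rw [e]
    exact mul_mem (zpowers_le.2 O.eZ (O.gz z hz')) (zpow_mem O.gx j)
  have g2 : ∀ v ∈ P G (n - 3), g v ∈ P G (n - 2) ↔ v ∈ P G (n - 2) := fun v hv => by
    rw [← mul_inv_cancel_left v (g v), Subgroup.mul_mem_cancel_right _ (gV v hv)]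
  have gZ : ∀ v ∈ P G (n - 2), v⁻¹ * g v ∈ P G (n - 1) := fun v hv => hz ▸ O.gz v hv
  have g1 : ∀ v ∈ P G (n - 3), g v ∈ P G (n - 1) ↔ v ∈ P G (n - 1) := fun v hv => by
    by_cases h1 : v ∈ P G (n - 2)
    · rw [← mul_inv_cancel_left v (g v), Subgroup.mul_mem_cancel_right _ (gZ v h1)]
    · exact ⟨fun h2 => absurd ((g2 v hv).1 (P_anti (by omega) h2)) h1,
        fun h2 => absurd (P_anti (by omega) h2) h1⟩
  obtain ⟨s, hs⟩ := h.exists_unif h4
  obtain ⟨-, -, t, -, ht⟩ := mem_nphi' h h5 hF O.mor O.maps g1 g2 s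
  obtain ⟨d, t', ht', rfl⟩ := dec_P h h4 (i := 0) (by omega) (mem_top s) hs.1 (mem_top t)
  have hc : ∀ v ∈ P G (n - 3), g ⁅s, v⁆ = ⁅s ^ d * t', g v⁆ := fun v hv => by
    rw [commutatorElement_def, commutatorElement_def, ← cj_apply, ← cj_apply,
      O.mor.map_mul (x := cj s v) ((P_normal _).conj_mem v hv s) (inv_mem hv), O.mor.map_inv hv,
      ht v hv]
  have hy : ⁅s, x⁆ ∈ P G (n - 2) := e1 ▸ comm_mem (by omega) s hx
  have hy' : ⁅s, x⁆ ∉ P G (n - 1) := fun h1 =>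
    hxZ (e1 ▸ h.reg_of_unif h4 hs (j := n - 3) (by omega) (by omega) x hx (e2 ▸ h1))
  have k1 := comm_cong (a := s) (i := n - 3) (by omega) hx (e1 ▸ O.gx)
    (h.commutator_P_one_le h4 (n - 3) (by omega) (by omega) (commutator_mem_commutator ht' hx)) 1 d
  rw [zpow_one, mul_inv_cancel_left, ← hc x hx, mul_one, e2] at k1
  have d1 : (d : ZMod p) = (1 : ℤ) := exp_eq h h4 (i := n - 2) (by omega) hy (e3 ▸ hy') (e3 ▸ k1)
    (by rw [zpow_one, e3]; exact gZ _ hy)
  generalize ⁅s, x⁆ = y at hy hy'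
  have hz1 : ⁅s, y⁆ ∈ P G (n - 1) := e3 ▸ comm_mem (by omega) s hy
  have hz1' : ⁅s, y⁆ ∉ P G (n - 1 + 1) := fun h1 =>
    hy' (e3 ▸ h.reg_of_unif h4 hs (j := n - 2) (by omega) (by omega) y hy
      (by rwa [show n - 2 + 2 = n - 1 + 1 by omega]))
  have k2 := comm_cong (a := s) (i := n - 2) (by omega) hy (e3 ▸ gZ y hy)
    (mem_C.1 (hC ▸ ht') y hy) 1 d
  rw [zpow_one, mul_inv_cancel_left, ← hc y (hZV hy), mul_one,
    show n - 2 + 2 = n - 1 + 1 by omega] at k2
  have d2 : (d : ZMod p) = (-1 : ℤ) := exp_eq h h4 (i := n - 1) (by omega) hz1 hz1' k2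
    (by rw [O.g_inv hZV (hz ▸ hz1), zpow_neg_one, inv_mul_cancel]; exact one_mem _)
  rw [d1] at d2
  exact neg_ne hp2 (by simpa using d2.symm)

theorem caseA2 (h : IsMC p n G) (h5 : 5 ≤ n) (hp2 : p ≠ 2) (hF : F.IsSaturated p)
    {E : Subgroup G} {x e e' : G} {g : G → G}
    (O : Out F p n E (P G (n - 2)) x e e' g) (hx : x ∈ P G (n - 3)) (hxZ : x ∉ P G (n - 2))
    (he' : e' ∉ P G 1) (heC : e' ∈ C G (n - 2)) : False := by
  have h4 : 4 ≤ n := by omega
  have hG := h.isPGroup.to_subgroup ⊤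
  have hC : C G (n - 2) ≠ P G 1 := fun e => he' (e ▸ heC)
  obtain ⟨⟨k, hk⟩, h6, -⟩ := h.exceptional h4 hC
  have hZV : P G (n - 2) ≤ P G (n - 3) := P_anti (by omega)
  have e1 : n - 3 + 1 = n - 2 := by omega
  have e2 : n - 3 + 2 = n - 1 := by omega
  have e3 : n - 2 + 1 = n - 1 := by omega
  have hCc : ∀ {y z}, y ∈ C G (n - 2) → z ∈ P G (n - 2) → Commute y z := fun hy hz => by
    rw [h.C_last h4] at hy; exact (hy _ hz).symm
  have h2C : P G 2 ≤ C G (n - 2) := P_two_le_C (by omega)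
  have hVC : P G (n - 3) ≤ C G (n - 2) := (P_anti (by omega)).trans h2C
  have gV : ∀ v ∈ P G (n - 3), v⁻¹ * g v ∈ P G (n - 2) := fun v hv => by
    obtain ⟨z, hz', j, -, e⟩ := O.gV h h5 hZV (h.card_P (by omega) (by omega)) hx hxZ hv
    rw [e]
    exact mul_mem (zpowers_le.2 O.eZ (O.gz z hz')) (zpow_mem O.gx j)
  have g2 : ∀ v ∈ P G (n - 3), g v ∈ P G (n - 2) ↔ v ∈ P G (n - 2) := fun v hv => by
    rw [← mul_inv_cancel_left v (g v), Subgroup.mul_mem_cancel_right _ (gV v hv)]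
  have hc : ∀ y, ∀ v ∈ P G (n - 3), cj y v ∈ P G (n - 3) := fun y v hv => (P_normal _).conj_mem v hv y
  have hCN : C G (n - 2) ≤ Nphi ⊤ (P G (n - 3)) g := fun y hy => by
    refine mem_nphi h h5 hF O.mor O.maps (fun v hv hv' => ?_) (fun v hv hv' => ?_) fun v hv => ?_
    · rw [cj_eq_self_iff.2 (hCc hy ((g2 v hv).1 (P_anti (by omega) hv'))).eq]
    · rw [cj_eq_self_iff.2 (hCc hy ((g2 v hv).1 hv')).eq, inv_mul_cancel]; exact one_mem _
    · rw [← O.mor.map_inv hv, ← O.mor.map_mul (inv_mem hv) (hc y v hv),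
        g2 _ (mul_mem (inv_mem hv) (hc y v hv))]
      exact e1 ▸ inv_mul_cj_mem (i := n - 3) (by omega) y hv
  have himg := O.mor.img_eq_self O.maps
  obtain ⟨ψ, hψ, eψ⟩ := exists_extend_of_receptive (receptive_of_fullyNormalized hG hF
    (fullyNormalized_of_normal F (P := P G (n - 3)) le_top
      (by rw [normalizer_eq_top_iff.2 (P_normal _)]))) O.mor himg
  replace hψ := hψ.mono hCN
  have surjV : ∀ v ∈ P G (n - 3), ∃ v' ∈ P G (n - 3), g v' = v := fun v hv =>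
    O.mor.mem_img.1 (himg.ge hv)
  have hψC : ∀ y ∈ C G (n - 2), ψ y ∈ C G (n - 2) := fun y hy => by
    rw [h.C_last h4]
    intro z hz
    obtain ⟨z', hz', rfl⟩ := surjV z (hZV hz)
    have h1 := (g2 z' hz').1 hz
    rw [← eψ hz', ← hψ.map_mul (hVC hz') hy, ← hψ.map_mul hy (hVC hz'), (hCc hy h1).eq]
  obtain ⟨y2, hy2, hy2'⟩ := h.exists_mem_not_mem (i := 2) (Or.inl le_rfl) (by omega)
  have cenV : ∀ t ∈ P G 2, ⁅t, x⁆ = 1 → t ∈ P G 3 := fun t ht htx => by
    by_contra ht'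
    refine hC (h.C_eq_of_le h4 (by omega) (by omega) (h.down_of h4 (j := n - 2)
      (fun c h1 h2 => h.commutator_P_one_le h4 c h1 (by omega)) 2 (by omega) (n - 3) (by omega)
      (by omega) ?_))
    rw [h.P_eq_bot (i := n - 2 + 2) (by omega), le_bot_iff, commutator_eq_bot_iff_le_centralizer,
      h.sup_zpowers (Or.inl le_rfl) ht ht', sup_le_iff, zpowers_le]
    constructor
    · rw [← commutator_eq_bot_iff_le_centralizer, ← le_bot_iff, ← h.P_eq_bot (i := 3 + (n - 3))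
        (by omega)]
      exact commutator_P_le (by omega) (by omega)
    · intro v hv
      obtain ⟨j, a, ha, rfl⟩ := dec_P h h4 (i := n - 3) (by omega) hx (e1 ▸ hxZ) hv
      exact (((commutatorElement_eq_one_iff_commute.1 htx).zpow_right j).mul_right
        (hCc (h2C ht) (e1 ▸ ha))).eq.symm
  have ht : e' * ψ e' ∈ P G 3 := by
    have h1 : ∀ v ∈ P G (n - 3), Commute (e' * ψ e') v := fun v hv => by
      obtain ⟨v', hv', rfl⟩ := surjV v hv
      have h2 := hψ.map_cj heC (hVC hv')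
      rw [eψ (hc _ _ hv'), O.ge' v' hv', eψ hv'] at h2
      exact cj_eq_self_iff.1 (by rw [cj_mul, ← h2, cj_cj_inv])
    refine cenV _ ?_ (commutatorElement_eq_one_iff_commute.2 (h1 x hx))
    have h2 : e' * ψ e' ∈ P G 1 := by
      rw [← h.C_eq h4 (j := n - 3) (by omega) (by omega), mem_C]
      intro a ha
      rw [commutatorElement_eq_one_iff_commute.2 (h1 a ha)]; exact one_mem _
    refine h.mem_of_comm_mem_one h4 he' h2 ?_
    by_contra hn3
    have h3 : e' * ψ e' ∉ P G 2 := fun h3 => hn3 (comm_mem (by omega) e' h3)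
    refine hC (h.C_eq_of_le h4 (by omega) (by omega) (le_C_iff.1 ?_))
    rw [h.sup_zpowers (i := 1) (Or.inr h4) h2 h3, sup_le_iff, zpowers_le]
    exact ⟨h2C, mul_mem heC (hψC _ heC)⟩
  generalize ht' : e' * ψ e' = t at ht
  have eψe : ψ e' = e' ^ (-1 : ℤ) * t := by rw [← ht']; group
  have hC2 : (P G 2).relIndex (C G (n - 2)) = p := by
    have h1 := relIndex_mul_index h2C
    rw [h.index_C (by omega) (by omega), h.index_P le_rfl (by omega), sq] at h1
    exact Nat.eq_of_mul_eq_mul_right hp.out.pos h1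
  obtain ⟨w, hw, α, ew⟩ := dec hC2 (by rw [normalizer_eq_top_iff.2 (P_normal _)]; exact le_top) heC
    (fun h1 => he' (P_succ_le 1 h1)) (hψC y2 (h2C hy2))
  obtain ⟨b, r, hr, rfl⟩ := dec_P h h4 (i := 2) (by omega) hy2 hy2' hw
  have start : ∃ y ∈ C G (n - 2), y ∈ P G 3 ∧ y ∉ P G (3 + 1) ∧
      (y ^ (-1 * b))⁻¹ * ψ y ∈ P G (3 + 1) := by
    refine ⟨⁅e', y2⁆, h2C (P_succ_le 2 (comm_mem (by omega) e' hy2)), comm_mem (by omega) e' hy2,
      fun h1 => hy2' (reg_of h h4 he' (i := 2) (by omega) (by omega) y2 hy2 h1), ?_⟩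
    have k1 := comm_cong (a := e') (i := 2) (by omega) hy2 hr
      (comm_mem_add (by omega) ht hy2) b (-1)
    rw [hψ.map_commutator heC (h2C hy2), ew, eψe, commutatorElement_mul_right_eq_mul_conj,
      mul_assoc, mul_assoc, ← mul_assoc _ ⁅_, _⁆]
    refine mul_mem k1 ?_
    rw [← mul_assoc]
    refine (P_normal _).conj_mem _ ?_ _
    have : ⁅e' ^ (-1 : ℤ) * t, e' ^ α⁆ = e'⁻¹ * ⁅t, e' ^ α⁆ * e'⁻¹⁻¹ := by
      simp only [commutatorElement_def]; group
    rw [this]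
    exact (P_normal _).conj_mem _ (comm_mem' (by omega) _ ht) _
  obtain ⟨y, -, hy, hy', k1⟩ := ladder h h4 hψ.isHomOn heC he' (P_anti (by omega) ht) eψe (by omega)
    start (n - 6) (by omega)
  rw [show 3 + (n - 6) = n - 3 by omega] at hy hy' k1
  have hb := exp_eq h h4 (i := n - 3) (by omega) hy hy' k1 (d := 1)
    (by rw [zpow_one, eψ hy, e1]; exact gV y hy)
  rw [show n - 6 = 2 * (k - 3) by omega, pow_mul] at hb
  simp only [even_two, Even.neg_pow, one_pow, neg_mul, one_mul, Int.cast_neg, Int.cast_one] at hb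
  have hz1 : ⁅y2, x⁆ ∈ P G (n - 1) := comm_mem_add (by omega) hy2 hx
  have hz1' : ⁅y2, x⁆ ≠ 1 := fun h1 => hy2' (cenV y2 hy2 h1)
  have hcz : ∀ a, Commute a ⁅y2, x⁆ := fun a => mem_center_iff.1 (h.P_le_center hz1) a
  have heZ : zpowers e ≤ P G (n - 2) := zpowers_le.2 O.eZ
  have k2 : ψ ⁅y2, x⁆ = ⁅e', x⁆ ^ α * ⁅y2, x⁆ ^ b := by
    have hrx : Commute r x := commutatorElement_eq_one_iff_commute.1 (by
      have := comm_mem_add (k := n) (by omega) hr hx
      rwa [h.P_eq_bot le_rfl, mem_bot] at this)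
    have h1 : ⁅ψ y2, g x⁆ = ⁅ψ y2, x⁆ := by
      rw [← mul_inv_cancel_left x (g x), commutatorElement_mul_right_eq_mul_conj,
        commutatorElement_eq_one_iff_commute.2 (hCc (hψC _ (h2C hy2)) O.gx)]
      simp
    have h2 : ⁅y2 ^ b * r, x⁆ = ⁅y2, x⁆ ^ b := by
      rw [← PG.commutator_zpow_left (hcz _), commutatorElement_def, commutatorElement_def,
        mul_assoc (y2 ^ b) r, hrx.eq]
      group
    rw [hψ.map_commutator (h2C hy2) (hVC hx), eψ hx, h1, ew,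
      commutatorElement_mul_left_eq_conj_mul, h2,
      PG.commutator_zpow_left (hCc heC (heZ O.comm)),
      (hCc (h2C hw) (zpow_mem (heZ O.comm) α)).eq, mul_inv_cancel_right]
  have k3 := O.gz _ (P_anti (by omega) hz1 : ⁅y2, x⁆ ∈ P G (n - 2))
  rw [← eψ (hZV (P_anti (by omega) hz1)), k2, ← mul_assoc, ← ((hcz _).inv_right).eq, mul_assoc,
    Subgroup.mul_mem_cancel_left _ (zpow_mem O.comm α)] at k3
  have k4 : ⁅y2, x⁆ ∈ zpowers e := by
    refine mem_of_zpow_mem (p := p) (c := b - 1) ?_ (by rwa [sub_eq_neg_add, zpow_add, zpow_neg_one]) ?_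
    · have := relIndex_P h h4 (i := n - 1) (by omega) ▸ pow_relIndex_mem (P G (n - 1 + 1)) hz1
      rw [h.P_eq_bot (by omega), mem_bot] at this
      rw [this]; exact one_mem _
    · push_cast
      intro h1
      exact neg_ne hp2 (by linear_combination hb + h1)
  have k5 := O.zpowers_eq h h5 k4 hz1' hz1
  exact hxZ (e1 ▸ reg_of h h4 he' (i := n - 3) (by omega) (by omega) x hx (e2 ▸ k5 ▸ O.comm))

theorem caseB (h : IsMC p n G) (h5 : 5 ≤ n) (hp2 : p ≠ 2) (hF : F.IsSaturated p)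
    {E Z : Subgroup G} {x e e' : G} {g : G → G}
    (O : Out F p n E Z x e e' g) (hZV : Z ≤ P G (n - 3)) (hZ : Nat.card Z = p ^ 2)
    (hexp : ∀ z ∈ Z, z ^ p = 1) (hx : x ∈ P G (n - 2)) (hxZ : x ∉ Z)
    (he' : e' ∈ P G 1) (he2 : e' ∉ P G 2) (hC : C G (n - 2) ≠ P G 1) : False := by
  have h4 : 4 ≤ n := by omega
  have hG := h.isPGroup.to_subgroup ⊤
  have e1 : n - 3 + 1 = n - 2 := by omega
  have e2 : n - 3 + 2 = n - 1 := by omega
  have e3 : n - 2 + 1 = n - 1 := by omega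
  have h23 : P G (n - 2) ≤ P G (n - 3) := P_anti (by omega)
  have h12 : P G (n - 1) ≤ P G (n - 2) := P_anti (by omega)
  have hz : zpowers e = P G (n - 1) :=
    O.zpowers_eq h h5 O.comm O.comm_ne (e3 ▸ comm_mem (by omega) e' hx)
  have hVc : ∀ {u v}, u ∈ P G (n - 3) → v ∈ P G (n - 3) → Commute u v := comm_V h h5
  have hc : ∀ y, ∀ v ∈ P G (n - 3), cj y v ∈ P G (n - 3) := fun y v hv => (P_normal _).conj_mem v hv y
  have it : ∀ k : ℕ, Mor F (P G (n - 3)) g^[k] ∧ ∀ v ∈ P G (n - 3), g^[k] v ∈ P G (n - 3) := by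
    intro k
    induction k with
    | zero => exact ⟨mor_id F le_top, fun v hv => hv⟩
    | succ k ih =>
      rw [Function.iterate_succ']
      exact ⟨O.mor.comp ih.1 ih.2, fun v hv => O.maps _ (ih.2 v hv)⟩
  have h1Z : P G (n - 1) ≤ Z := hz ▸ zpowers_le.2 O.eZ
  have itv : ∀ v ∈ P G (n - 3), ∀ k : ℕ, ∃ c ∈ P G (n - 1), g^[k] v = v * (v⁻¹ * g v) ^ k * c := by
    intro v hv k
    have hu : v⁻¹ * g v ∈ Z := by
      obtain ⟨z, hz', j, -, e⟩ := O.gV h h5 hZV hZ (h23 hx) hxZ hv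
      rw [e]
      exact mul_mem (zpowers_le.2 O.eZ (O.gz z hz')) (zpow_mem O.gx j)
    generalize hu' : v⁻¹ * g v = u at hu
    have hgv : g v = v * u := by rw [← hu']; group
    induction k with
    | zero => exact ⟨1, one_mem _, by simp⟩
    | succ k ih =>
      obtain ⟨c, hc', ih⟩ := ih
      have h1 : (u ^ k * c)⁻¹ * g (u ^ k * c) ∈ P G (n - 1) :=
        hz ▸ O.gz _ (mul_mem (pow_mem hu k) (h1Z hc'))
      refine ⟨c * ((u ^ k * c)⁻¹ * g (u ^ k * c)), mul_mem hc' h1, ?_⟩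
      rw [Function.iterate_succ_apply', ih, mul_assoc,
        O.mor.map_mul hv (hZV (mul_mem (pow_mem hu k) (h1Z hc'))), hgv, pow_succ']
      group
  have ite : ∀ k : ℕ, g^[k] e = e ^ ((-1 : ℤ) ^ k) := by
    intro k
    induction k with
    | zero => simp
    | succ k ih =>
      rw [Function.iterate_succ_apply', ih, O.mor.map_zpow (hZV O.eZ), O.ge, pow_succ]
      group
  have ite' : ∀ k : ℕ, ∀ v ∈ P G (n - 3), g^[k] (cj e' v) = cj (e' ^ ((-1 : ℤ) ^ k)) (g^[k] v) := by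
    have hi : ∀ v ∈ P G (n - 3), g (cj e'⁻¹ v) = cj e' (g v) := fun v hv => by
      have := O.ge' _ (hc e'⁻¹ v hv)
      rw [cj_cj_inv] at this
      rw [this, cj_cj_inv]
    intro k
    induction k with
    | zero => simp
    | succ k ih =>
      intro v hv
      rw [Function.iterate_succ_apply', Function.iterate_succ_apply', ih v hv]
      rcases neg_one_pow_eq_or ℤ k with e | e <;> rw [pow_succ, e]
      · simpa using O.ge' _ ((it k).2 v hv)
      · simpa using hi _ ((it k).2 v hv)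
  have hodd : (-1 : ℤ) ^ p = -1 := (hp.out.odd_of_ne_two hp2).neg_one_pow
  obtain ⟨hf, hfV⟩ := it p
  have fV : ∀ v ∈ P G (n - 3), v⁻¹ * g^[p] v ∈ P G (n - 1) := fun v hv => by
    obtain ⟨c, hc', e⟩ := itv v hv p
    have hu : v⁻¹ * g v ∈ Z := by
      obtain ⟨z, hz', j, -, e⟩ := O.gV h h5 hZV hZ (h23 hx) hxZ hv
      rw [e]
      exact mul_mem (zpowers_le.2 O.eZ (O.gz z hz')) (zpow_mem O.gx j)
    rwa [e, hexp _ hu, mul_one, inv_mul_cancel_left]
  have fe' := ite' p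
  rw [hodd, zpow_neg_one] at fe'
  generalize g^[p] = f at hf hfV fV fe'
  have hN : ∀ y, y ∈ Nphi ⊤ (P G (n - 3)) f := mem_nphi' h h5 hF hf hfV
    (fun v hv => by
      rw [← mul_inv_cancel_left v (f v), Subgroup.mul_mem_cancel_right _ (fV v hv)])
    (fun v hv => by
      rw [← mul_inv_cancel_left v (f v), Subgroup.mul_mem_cancel_right _ (h12 (fV v hv))])
  have himg := hf.img_eq_self hfV
  obtain ⟨ψ, hψ, eψ⟩ := exists_extend_of_receptive (receptive_of_fullyNormalized hG hF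
    (fullyNormalized_of_normal F (P := P G (n - 3)) le_top
      (by rw [normalizer_eq_top_iff.2 (P_normal _)]))) hf himg
  replace hψ := hψ.mono (Q := ⊤) fun y _ => hN y
  have ht : e' * ψ e' ∈ P G 2 := by
    have h1 : ∀ v ∈ P G (n - 3), Commute (e' * ψ e') v := fun v hv => by
      obtain ⟨v', hv', rfl⟩ := hf.mem_img.1 (himg.ge hv)
      have h2 := hψ.map_cj (mem_top e') (mem_top v')
      rw [eψ (hc _ _ hv'), fe' v' hv', eψ hv'] at h2
      exact cj_eq_self_iff.1 (by rw [cj_mul, ← h2, cj_cj_inv])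
    have h2 : e' * ψ e' ∈ P G 1 := by
      rw [← h.C_eq h4 (j := n - 3) (by omega) (by omega), mem_C]
      intro a ha
      rw [commutatorElement_eq_one_iff_commute.2 (h1 a ha)]; exact one_mem _
    by_contra h3
    refine hC (h.C_eq_of_le h4 (by omega) (by omega) (le_C_iff.1 ?_))
    rw [h.sup_zpowers (i := 1) (Or.inr h4) h2 h3, sup_le_iff, zpowers_le]
    refine ⟨P_two_le_C (by omega), ?_⟩
    rw [h.C_last h4]
    exact fun z hz => (h1 z (h23 hz)).eq.symm
  obtain ⟨s, hs⟩ := h.exists_unif h4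
  obtain ⟨d, t, ht', es⟩ := dec_P h h4 (i := 0) (by omega) (mem_top s) hs.1 (mem_top (ψ s))
  obtain ⟨v, hv, hv'⟩ := h.exists_mem_not_mem (i := n - 3) (Or.inr h4) (by omega)
  have hy : ⁅s, v⁆ ∈ P G (n - 2) := e1 ▸ comm_mem (by omega) s hv
  have hy' : ⁅s, v⁆ ∉ P G (n - 2 + 1) := fun h1 =>
    hv' (h.reg_of_unif h4 hs (j := n - 3) (by omega) (by omega) v hv (by rwa [e2, ← e3]))
  have k1 := comm_cong (a := s) (i := n - 3) (by omega) hv (e1 ▸ h12 (fV v hv))
    (h.commutator_P_one_le h4 (n - 3) (by omega) (by omega) (commutator_mem_commutator ht' hv)) 1 d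
  rw [zpow_one, mul_inv_cancel_left, ← es, ← eψ hv, ← hψ.map_commutator (mem_top _) (mem_top _),
    mul_one, e2, ← e3] at k1
  have d1 : (d : ZMod p) = (1 : ℤ) := exp_eq h h4 (i := n - 2) (by omega) hy hy' k1
    (by rw [zpow_one, e3, eψ (h23 hy)]; exact fV _ (h23 hy))
  obtain ⟨y, -, hy, hy', k2⟩ := ladder h h4 hψ.isHomOn (mem_top s) hs.1 ht' es (i := 1) (c := -1)
    le_rfl ⟨e', mem_top _, he', he2, by simpa using ht⟩ (n - 3) (by omega)
  rw [show 1 + (n - 3) = n - 2 by omega] at hy hy' k2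
  have d2 := exp_eq h h4 (i := n - 2) (by omega) hy hy' k2 (d := 1)
    (by rw [zpow_one, e3, eψ (h23 hy)]; exact fV _ (h23 hy))
  push_cast at d1 d2
  rw [d1, one_pow, one_mul] at d2
  exact neg_ne hp2 d2

theorem no_cube (h : IsMC p n G) (h5 : 5 ≤ n) (hp2 : p ≠ 2) (hF : F.IsSaturated p)
    {E : Subgroup G} (hE : F.IsEssential p E) (hab : IsMulCommutative E)
    (hexp : ∀ x ∈ E, x ^ p = 1) (hc : Nat.card E = p ^ 3) : False := by
  have h4 : 4 ≤ n := by omega
  have hp1 := hp.out.one_lt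
  have e1 : n - 3 + 1 = n - 2 := by omega
  have e2 : n - 3 + 2 = n - 1 := by omega
  have e3 : n - 2 + 1 = n - 1 := by omega
  have e4 : n - 4 + 1 = n - 3 := by omega
  have hEc : ∀ {u v}, u ∈ E → v ∈ E → u * v = v * u := fun hu hv => setLike_mul_comm (s := E) hu hv
  have hcen : ∀ {y}, (∀ u ∈ E, u * y = y * u) → y ∈ E := fun hy =>
    centralizerIn_le_of_isCentric hE.1 ⟨mem_top _, fun u hu => hy u hu⟩
  have norm : ∀ {m}, (∀ y ∈ E, ⁅m, y⁆ ∈ E) → m ∈ normalizer (E : Set G) := fun hm =>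
    mem_normalizer_of_cj_mem fun y hy => by
      have := mul_mem (hm y hy) hy
      rwa [commutatorElement_def, inv_mul_cancel_right] at this
  have c2 : Nat.card (P G (n - 2)) = p ^ 2 := h.card_P (by omega) (by omega)
  have c3 : Nat.card (P G (n - 3)) = p ^ 3 := h.card_P (by omega) (by omega)
  have c4 : Nat.card (P G (n - 4)) = p ^ 4 := h.card_P' h4 (by omega)
  have h2C : P G 2 ≤ C G (n - 2) := P_two_le_C (by omega)
  by_cases hA : E ≤ C G (n - 2)
  · have hZE : P G (n - 2) ≤ E := fun z hz => hcen fun u hu => by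
      have := hA hu
      rw [h.C_last h4] at this
      exact (this z hz).symm
    have hZ : (P G (n - 2)).relIndex E = p := relIndex_of_card hZE c2 hc
    by_cases hV : P G (n - 3) ≤ E
    · obtain rfl : P G (n - 3) = E := eq_of_le_of_card_ge hV (by rw [hc, c3])
      have hlt : ¬ C G (n - 2) ≤ P G (n - 3) := fun hle => by
        have h1 := index_antitone hle
        rw [h.index_C (by omega) (by omega), h.index_P (by omega) (by omega)] at h1
        have := (Nat.pow_le_pow_iff_right hp1).1 (h1.trans (pow_one p).ge)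
        omega
      obtain ⟨x, hx, hx'⟩ := SetLike.not_le_iff_exists.1 hlt
      have hn := normalizer_eq_top_iff.2 (P_normal (G := G) (n - 3))
      have := (tv h hF hE hab hc hZE hZ (hn ▸ mem_top x) hx' fun z hz => by
        rw [h.C_last h4] at hx; exact (hx z hz).symm).1
      rw [hn, card_top, h.card, Nat.pow_right_inj hp1] at this
      omega
    obtain ⟨x, hx, hxE⟩ := SetLike.not_le_iff_exists.1 hV
    have hn : x ∈ normalizer (E : Set G) := norm fun y _ => hZE (e1 ▸ comm_mem' (by omega) y hx)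
    have hN := (tv h hF hE hab hc hZE hZ hn hxE fun z hz =>
      comm_V h h5 hx (P_anti (by omega) hz)).1
    have hle : ∀ {H : Subgroup G}, H ≤ normalizer (E : Set G) → Nat.card H ≤ p ^ 4 := fun hH =>
      hN ▸ card_le_of_le hH
    have h4N : P G (n - 4) ≤ normalizer (E : Set G) → E ≤ P G (n - 4) := fun hH =>
      le_normalizer.trans (eq_of_le_of_card_ge hH (by rw [hN, c4])).ge
    obtain ⟨m, hm1, hm2⟩ : ∃ m, (∀ y ∈ E, ⁅m, y⁆ ∈ P G (n - 3)) ∧ m ∉ normalizer (E : Set G) := by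
      by_cases h1 : E ≤ P G (n - 4)
      · have : ¬ ⊤ ≤ normalizer (E : Set G) := fun h2 => by
          have := hle h2
          rw [card_top, h.card, Nat.pow_le_pow_iff_right hp1] at this
          omega
        obtain ⟨m, -, hm⟩ := SetLike.not_le_iff_exists.1 this
        exact ⟨m, fun y hy => e4 ▸ comm_mem (by omega) m (h1 hy), hm⟩
      · obtain ⟨m, hm, hm'⟩ := SetLike.not_le_iff_exists.1 fun h2 => h1 (h4N h2)
        exact ⟨m, fun y _ => e4 ▸ comm_mem' (by omega) y hm, hm'⟩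
    obtain ⟨e, e', g, O⟩ := step1 h h5 hF hE hab hc hZE hZ (P_anti (by omega)) hx hn hxE
      (fun v hv => e1 ▸ comm_mem (by omega) m hv) hm1 hm2
    have hxZ : x ∉ P G (n - 2) := fun h1 => hxE (hZE h1)
    by_cases he' : e' ∈ P G 1
    swap
    · exact caseA2 h h5 hp2 hF O hx hxZ he' (hA O.mem')
    rcases h5.eq_or_lt with rfl | h6
    · refine caseA1 h le_rfl hp2 hF (by_contra fun hC => ?_) O hx hxZ he'
      have := (h.exceptional h4 hC).2.1
      omega
    have hE1 : E ≤ P G 1 := fun y hy => by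
      obtain ⟨z, hz, j, rfl⟩ := dec hZ
        (by rw [normalizer_eq_top_iff.2 (P_normal _)]; exact le_top) O.mem' O.notMem' hy
      exact mul_mem (P_anti (by omega) hz) (zpow_mem he' j)
    have hcm := h.commutator_P_one_le h4 (n - 4) (by omega) (by omega)
    rw [show n - 4 + 2 = n - 2 by omega] at hcm
    have hE4 := h4N fun m hm => norm fun y hy => hZE (by
      rw [← commutatorElement_inv]
      exact inv_mem (hcm (commutator_mem_commutator (hE1 hy) hm)))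
    have := hle (H := P G 1) fun m hm => norm fun y hy =>
      hZE (hcm (commutator_mem_commutator hm (hE4 hy)))
    rw [h.card_P' h4 (j := n - 1) (by omega), Nat.pow_le_pow_iff_right hp1] at this
    omega
  have hE1 : E ≤ P G 1 := by
    by_contra hB
    obtain ⟨a, ha, ha'⟩ := SetLike.not_le_iff_exists.1 hB
    obtain ⟨b, hb, hb'⟩ := SetLike.not_le_iff_exists.1 hA
    obtain ⟨s, hsE, hs⟩ : ∃ s ∈ E, Unif n s := by
      by_cases h1 : a ∈ C G (n - 2)
      · by_cases h2 : b ∈ P G 1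
        · exact ⟨a * b, mul_mem ha hb, fun h3 => ha' ((Subgroup.mul_mem_cancel_right _ h2).1 h3),
            fun h3 => hb' ((Subgroup.mul_mem_cancel_left _ h1).1 h3)⟩
        · exact ⟨b, hb, h2, hb'⟩
      · exact ⟨a, ha, ha', h1⟩
    have := card_le_of_le (show E ≤ centralizer ({s} : Set G) from fun y hy => by
      rintro _ rfl; exact hEc hsE hy)
    rw [hc, h.card_centralizer h4 hs, Nat.pow_le_pow_iff_right hp1] at this
    omega
  have hC : C G (n - 2) ≠ P G 1 := fun e => hA (e ▸ hE1)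
  have h6 := (h.exceptional h4 hC).2.1
  have hE2 : ¬ E ≤ P G 2 := fun h1 => hA (h1.trans h2C)
  have h1E : P G (n - 1) ≤ E := fun z hz => hcen fun u _ => mem_center_iff.1 (h.P_le_center hz) u
  have hZ : (E ⊓ P G 2).relIndex E = p := by
    rw [inf_relIndex_left]
    have h1 := relIndex_le_of_le_right (H := P G 2) hE1 index_ne_zero_of_finite
    rw [relIndex_P h h4 (i := 1) (by omega)] at h1
    obtain ⟨k, -, hk⟩ := (Nat.dvd_prime_pow hp.out).1 (hc ▸ relIndex_dvd_card (P G 2) E)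
    have h2 : k ≠ 0 := fun e => hE2 (relIndex_eq_one.1 (by rw [hk, e, pow_zero]))
    have := (Nat.pow_le_pow_iff_right hp1).1 ((hk ▸ h1).trans (pow_one p).ge)
    rw [hk, show k = 1 by omega, pow_one]
  obtain ⟨x, hx, hx'⟩ := h.exists_mem_not_mem (i := n - 2) (Or.inr h4) (by omega)
  have hxE : x ∉ E := fun h1 => hA fun y hy => by
    rw [h.C_last h4, h.sup_zpowers (Or.inr h4) hx hx']
    intro z hz
    exact hEc (sup_le (e3 ▸ h1E) (zpowers_le.2 h1) hz) hy
  have hn : x ∈ normalizer (E : Set G) := norm fun y _ => h1E (e3 ▸ comm_mem' (by omega) y hx)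
  have hN := (tv h hF hE hab hc inf_le_left hZ hn hxE fun z hz => by
    have := h2C hz.2
    rw [h.C_last h4] at this
    exact this x hx).1
  have hN2 : ∀ {H : Subgroup G}, H ≤ normalizer (E : Set G) → H ≤ P G 2 → Nat.card H < p ^ 4 :=
    fun hH hH2 => hN ▸ Fus.card_lt_of_lt (S := ⊤) (lt_of_le_of_ne hH fun e =>
      hE2 (le_normalizer.trans (e ▸ hH2))) le_top
  have hVN : P G (n - 3) ≤ normalizer (E : Set G) := fun m hm => norm fun y hy => h1E (by
    rw [← commutatorElement_inv, ← e2]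
    exact inv_mem (h.commutator_P_one_le h4 (n - 3) (by omega) (by omega)
      (commutator_mem_commutator (hE1 hy) hm)))
  have hZV : E ⊓ P G 2 ≤ P G (n - 3) := by
    by_contra h1
    have h2 := hN2 (sup_le hVN (inf_le_left.trans le_normalizer) : P G (n - 3) ⊔ E ⊓ P G 2 ≤ _)
      (sup_le (P_anti (by omega)) inf_le_right)
    have h3 := CL.PCyc.mul_card_le_of_lt (h.isPGroup.to_subgroup (P G (n - 3) ⊔ E ⊓ P G 2))
      (lt_of_le_of_ne le_sup_left fun e => h1 (e ▸ le_sup_right))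
    rw [c3, ← pow_succ'] at h3
    exact h2.not_ge h3
  obtain ⟨m, hm, hm'⟩ := SetLike.not_le_iff_exists.1 fun h1 : P G (n - 4) ≤ normalizer (E : Set G) =>
    (hN2 h1 (P_anti (by omega))).ne c4
  obtain ⟨e, e', g, O⟩ := step1 h h5 hF hE hab hc inf_le_left hZ hZV (P_anti (by omega) hx) hn hxE
    (m := m) (fun v hv => by
      have : ⁅m, v⁆ ∈ P G (n - 1) := comm_mem_add (by omega) hm hv
      exact ⟨h1E this, P_anti (by omega) this⟩)
    (fun y _ => e4 ▸ comm_mem' (by omega) y hm) hm'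
  exact caseB h h5 hp2 hF O hZV (card_of_relIndex inf_le_left hZ hc) (fun z hz => hexp z hz.1) hx
    (fun h1 => hxE h1.1) (hE1 O.mem') (fun h1 => O.notMem' ⟨O.mem', h1⟩) hC

end CL.McCube
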