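/-
Extensions of a finite group by a module over the field with two elements: a kernel checker for
identities among relations with module tails, and splitting criteria (Gaschütz).
-/
import Mathlib
import Cfsg.Agent.SPOR.F2Mat
import Cfsg.Agent.KSG.SchurPC
import Cfsg.Agent.SOLV.Gaschutz

set_option autoImplicit false
set_option maxHeartbeats 400000

namespace CL.ModExt

open Finset CL.K CL.F2M Matrix
open CL.SchurC (frc frc_eq card_pc_rel_le)

/-! ### Packed words -/

section words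
variable {Γ : Type*} [Group Γ]

/-- the letter number `i`; number `0` is the identity. -/
def lt (a : ℕ → Γ) (i : ℕ) : Γ := if i = 0 then 1 else a i

/-- the value of a word packed in base 64 (first letter lowest). -/
def wv (a : ℕ → Γ) (w : ℕ) : Γ := ((Nat.digits 64 w).map (lt a)).prod

theorem lt_zero (a : ℕ → Γ) : lt a 0 = 1 := if_pos rfl

theorem lt_pos (a : ℕ → Γ) {i : ℕ} (h : 0 < i) : lt a i = a i := if_neg h.ne'

theorem wv_zero (a : ℕ → Γ) : wv a 0 = 1 := by simp [wv]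

theorem wv_eq (a : ℕ → Γ) (w : ℕ) : wv a w = lt a (w % 64) * wv a (w / 64) := by
  rcases Nat.eq_zero_or_pos w with rfl | h
  · rw [Nat.zero_mod, Nat.zero_div, lt_zero, one_mul]
  · rw [wv, Nat.digits_def' (by norm_num) h, List.map_cons, List.prod_cons]; rfl

theorem wv_split (a : ℕ → Γ) (n w : ℕ) :
    wv a w = wv a (w % 2 ^ (6 * n)) * wv a (w / 2 ^ (6 * n)) := by
  induction n generalizing w with
  | zero => rw [mul_zero, pow_zero, Nat.mod_one, wv_zero, one_mul, Nat.div_one]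
  | succ n ih =>
    have e : 2 ^ (6 * (n + 1)) = 64 * 2 ^ (6 * n) := by ring
    rw [e, wv_eq a w, ih (w / 64), wv_eq a (w % _), Nat.mod_mul_right_mod,
      Nat.mod_mul_right_div_self, Nat.div_div_eq_div_mul, mul_assoc]

theorem wv_concat (a : ℕ → Γ) {n x : ℕ} (hx : x < 2 ^ (6 * n)) (y : ℕ) :
    wv a (x + y * 2 ^ (6 * n)) = wv a x * wv a y := by
  rw [wv_split a n, Nat.add_mul_mod_self_right, Nat.mod_eq_of_lt hx,
    Nat.add_mul_div_right _ _ (Nat.two_pow_pos _), Nat.div_eq_of_lt hx, zero_add]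

theorem wv_lt (a : ℕ → Γ) {e : ℕ} (h : e < 64) : wv a e = lt a e := by
  rw [wv_eq, Nat.mod_eq_of_lt h, Nat.div_eq_of_lt h, wv_zero, mul_one]

theorem fld6 (w i : ℕ) : fld 6 63 w i = w / 2 ^ (6 * i) % 64 := by
  rw [fld_eq, Nat.shiftRight_eq_div_pow]
  exact Nat.and_two_pow_sub_one_eq_mod _ 6

theorem fld6_lt (w i : ℕ) : fld 6 63 w i < 64 := by rw [fld6]; exact Nat.mod_lt _ (by norm_num)

theorem wv_prefix (a : ℕ → Γ) (w n : ℕ) :
    wv a (w % 2 ^ (6 * (n + 1))) = wv a (w % 2 ^ (6 * n)) * lt a (fld 6 63 w n) := by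
  have e : 2 ^ (6 * (n + 1)) = 2 ^ (6 * n) * 64 := by ring
  rw [wv_split a n, e, Nat.mod_mul_right_mod, Nat.mod_mul_right_div_self, fld6,
    wv_lt a (Nat.mod_lt _ (by norm_num))]

theorem map_wv {G : Type*} [Group G] (π : Γ →* G) (a : ℕ → Γ) (w : ℕ) :
    π (wv a w) = wv (fun i => π (a i)) w := by
  rw [wv, wv, map_list_prod, List.map_map]
  congr 2
  funext i
  simp only [Function.comp, lt]
  split_ifs
  · exact π.map_one
  · rfl

theorem wv_prefix_mem {a : ℕ → Γ} {H : Subgroup Γ} {w : ℕ} (n : ℕ)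
    (h : ∀ t < n, lt a (fld 6 63 w t) ∈ H) : wv a (w % 2 ^ (6 * n)) ∈ H := by
  induction n with
  | zero => rw [mul_zero, pow_zero, Nat.mod_one, wv_zero]; exact H.one_mem
  | succ n ih =>
    rw [wv_prefix]
    exact H.mul_mem (ih fun t ht => h t (by omega)) (h n (by omega))

theorem wv_congr {a b : ℕ → Γ} (h : ∀ i, 0 < i → i < 64 → a i = b i) (w : ℕ) :
    wv a w = wv b w := by
  induction w using Nat.strong_induction_on with
  | _ w ih =>
    rcases Nat.eq_zero_or_pos w with rfl | hw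
    · rw [wv_zero, wv_zero]
    · rw [wv_eq a, wv_eq b, ih _ (Nat.div_lt_self hw (by norm_num))]
      congr 1
      unfold lt
      split_ifs with h0
      · rfl
      · exact h _ (Nat.pos_of_ne_zero h0) (Nat.mod_lt _ (by norm_num))

end words

/-! ### Linear forms -/

section forms
variable {d : ℕ}

/-- the pairing of a strided mask with the blocks `X k`, `k < K`. -/
def dot (d K : ℕ) (X : ℕ → Fin d → ZMod 2) (m : ℕ) : ZMod 2 :=
  ∑ k ∈ range K, ∑ i : Fin d, b2z (m.testBit (d * d * k + d * i)) * X k i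

/-- the value of a packed linear map. -/
def ev (d K : ℕ) (X : ℕ → Fin d → ZMod 2) (m : ℕ) : Fin d → ZMod 2 :=
  fun r => dot d K X (m >>> (r : ℕ))

variable {K : ℕ} {X : ℕ → Fin d → ZMod 2}

theorem dot_zero : dot d K X 0 = 0 := by simp [dot, b2z]

theorem dot_xor (a b : ℕ) : dot d K X (a ^^^ b) = dot d K X a + dot d K X b := by
  simp only [dot, Nat.testBit_xor, b2z_xor, add_mul, sum_add_distrib]

theorem dot_add (Y : ℕ → Fin d → ZMod 2) (m : ℕ) :
    dot d K (fun k => X k + Y k) m = dot d K X m + dot d K Y m := by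
  simp only [dot, Pi.add_apply, mul_add, sum_add_distrib]

theorem ev_zero : ev d K X 0 = 0 := by
  funext r; rw [ev, Nat.zero_shiftRight, dot_zero]; rfl

theorem ev_xor (a b : ℕ) : ev d K X (a ^^^ b) = ev d K X a + ev d K X b := by
  funext r; rw [Pi.add_apply, ev, ev, ev, Nat.shiftRight_xor_distrib, dot_xor]

theorem idx_lt (r i : Fin d) : r + d * i < d * d := by
  have h1 := r.2
  have h2 : d * (i + 1) ≤ d * d := Nat.mul_le_mul_left _ i.2
  rw [mul_add, mul_one] at h2
  omega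

theorem ev_shift {M k : ℕ} (hM : M < 2 ^ (d * d)) (hk : k < K) :
    ev d K X (M <<< (d * d * k)) = mdec d M *ᵥ X k := by
  funext r
  rw [ev, dot, sum_eq_single k, mulVec, dotProduct]
  · refine sum_congr rfl fun i _ => ?_
    rw [Nat.testBit_shiftRight, Nat.testBit_shiftLeft, decide_eq_true (by omega), Bool.true_and,
      mdec, Matrix.of_apply]
    congr 3
    omega
  · intro k' _ hne
    refine sum_eq_zero fun i _ => ?_
    have h1 := idx_lt r i
    rw [Nat.testBit_shiftRight, Nat.testBit_shiftLeft]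
    rcases lt_or_gt_of_ne hne with h | h
    · have : d * d * (k' + 1) ≤ d * d * k := Nat.mul_le_mul_left _ h
      rw [mul_add, mul_one] at this
      rw [decide_eq_false (by omega), Bool.false_and]
      exact zero_mul _
    · have : d * d * (k + 1) ≤ d * d * k' := Nat.mul_le_mul_left _ h
      rw [mul_add, mul_one] at this
      rw [Nat.testBit_lt_two_pow (hM.trans_le (Nat.pow_le_pow_right two_pos (by omega))),
        Bool.and_false]
      exact zero_mul _
  · intro h; exact absurd (mem_range.2 hk) h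

theorem dot_eq_zero_of_mask {m MASK : ℕ} (hM : ∀ b < d * K, MASK.testBit (d * b) = true)
    (h : m &&& MASK = 0) : dot d K X m = 0 := by
  refine sum_eq_zero fun k hk => sum_eq_zero fun i _ => ?_
  have hb : d * k + i < d * K := by
    have h2 : d * (k + 1) ≤ d * K := Nat.mul_le_mul_left _ (mem_range.1 hk)
    have := i.2
    rw [mul_add, mul_one] at h2
    omega
  have h1 := congrArg (fun x => x.testBit (d * (d * k + i))) h
  simp only [Nat.testBit_and, hM _ hb, Bool.and_true, Nat.zero_testBit] at h1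
  rw [show d * d * k + d * i = d * (d * k + i) by ring, h1]
  exact zero_mul _

theorem dot_extend {K' m : ℕ} {Y : ℕ → Fin d → ZMod 2} (hK : K ≤ K') (hXY : ∀ k < K, Y k = X k)
    (hm : m < 2 ^ (d * d * K)) : dot d K' Y m = dot d K X m := by
  rw [dot, dot, ← sum_subset (range_subset_range.2 hK)]
  · exact sum_congr rfl fun k hk => by rw [hXY k (mem_range.1 hk)]
  · intro k _ hk
    refine sum_eq_zero fun i _ => ?_
    have : d * d * K ≤ d * d * k := Nat.mul_le_mul_left _ (not_lt.1 fun h => hk (mem_range.2 h))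
    rw [Nat.testBit_lt_two_pow (hm.trans_le (Nat.pow_le_pow_right two_pos (by omega)))]
    exact zero_mul _

theorem ev_extend {K' m : ℕ} {Y : ℕ → Fin d → ZMod 2} (hK : K ≤ K') (hXY : ∀ k < K, Y k = X k)
    (hm : m < 2 ^ (d * d * K)) : ev d K' Y m = ev d K X m :=
  funext fun _ => dot_extend hK hXY (lt_of_le_of_lt (Nat.shiftRight_le _ _) hm)

theorem dot_mod (m : ℕ) : dot d K X (m % 2 ^ (d * d * K)) = dot d K X m := by
  refine sum_congr rfl fun k hk => sum_congr rfl fun i _ => ?_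
  have h1 : d * d * (k + 1) ≤ d * d * K := Nat.mul_le_mul_left _ (mem_range.1 hk)
  have h2 : d * (i + 1) ≤ d * d := Nat.mul_le_mul_left _ i.2
  have h3 : 0 < d := lt_of_le_of_lt (Nat.zero_le _) i.2
  rw [mul_add, mul_one] at h1 h2
  rw [Nat.testBit_mod_two_pow, decide_eq_true (by omega), Bool.true_and]

/-- xor of the members of `L` selected by the bits of `sel`, added to `acc`. -/
noncomputable def comb (L : List ℕ) : ℕ → ℕ → ℕ :=
  List.rec (motive := fun _ => ℕ → ℕ → ℕ) (fun _ acc => acc)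
    (fun x _ ih sel acc => frc (Nat.shiftRight sel 1) fun s =>
      @Bool.rec (fun _ => ℕ) (frc (Nat.xor acc x) (ih s)) (ih s acc) (Nat.beq (Nat.land sel 1) 0)) L

theorem dot_comb {L : List ℕ} (h : ∀ x ∈ L, dot d K X x = 0) (sel acc : ℕ) :
    dot d K X (comb L sel acc) = dot d K X acc := by
  induction L generalizing sel acc with
  | nil => rfl
  | cons x L ih =>
    have ih' := ih fun y hy => h y (List.mem_cons_of_mem _ hy)
    show dot d K X (@Bool.rec (fun _ => ℕ) (comb L (sel >>> 1) (acc ^^^ x))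
      (comb L (sel >>> 1) acc) (Nat.beq (Nat.land sel 1) 0)) = _
    cases Nat.beq (Nat.land sel 1) 0
    · show dot d K X (comb L (sel >>> 1) (acc ^^^ x)) = _
      rw [ih', dot_xor, h x List.mem_cons_self, add_zero]
    · exact ih' _ _

/-- push the rows `r < n` of `acc` selected by `um` on `L`. -/
noncomputable def push (acc um : ℕ) (L : List ℕ) (n : ℕ) : (List ℕ → Bool) → Bool :=
  Nat.rec (motive := fun _ => (List ℕ → Bool) → Bool) (fun k => k L)
    (fun r ih k => ih fun L' => @Bool.rec (fun _ => Bool)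
      (frc (Nat.shiftRight acc r) fun x => k (x :: L')) (k L') (Nat.beq (bit um r) 0)) n

theorem push_spec {acc um : ℕ} {L : List ℕ} (hacc : ev d K X acc = 0)
    (hL : ∀ x ∈ L, dot d K X x = 0) {n : ℕ} (hn : n ≤ d) {k : List ℕ → Bool}
    (h : push acc um L n k = true) : ∃ L', (∀ x ∈ L', dot d K X x = 0) ∧ k L' = true := by
  induction n generalizing k with
  | zero => exact ⟨L, hL, h⟩
  | succ r ih =>
    obtain ⟨L', h1, h2⟩ := ih (by omega) h
    revert h2
    cases Nat.beq (bit um r) 0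
    · intro h2
      refine ⟨_, fun x hx => ?_, h2⟩
      rcases List.mem_cons.1 hx with rfl | hx
      · exact congrFun hacc ⟨r, hn⟩
      · exact h1 x hx
    · exact fun h2 => ⟨L', h1, h2⟩

/-- push the selected rows of the forms `f x`, `x ∈ I`. -/
noncomputable def pushAll {β : Type} (d : ℕ) (f um : β → ℕ) (L : List ℕ) (I : List β) :
    (List ℕ → Bool) → Bool :=
  List.rec (motive := fun _ => (List ℕ → Bool) → Bool) (fun k => k L)
    (fun x _ ih k => ih fun L' => frc (f x) fun acc => frc (um x) fun u => push acc u L' d k) I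

theorem pushAll_spec {β : Type} {f um : β → ℕ} {L : List ℕ} {I : List β}
    (hf : ∀ x ∈ I, ev d K X (f x) = 0) (hL : ∀ x ∈ L, dot d K X x = 0) {k : List ℕ → Bool}
    (h : pushAll d f um L I k = true) : ∃ L', (∀ x ∈ L', dot d K X x = 0) ∧ k L' = true := by
  induction I generalizing k with
  | nil => exact ⟨L, hL, h⟩
  | cons x I ih =>
    obtain ⟨L', h1, h2⟩ := ih (fun y hy => hf y (List.mem_cons_of_mem _ hy)) h
    exact push_spec (hf x List.mem_cons_self) h1 le_rfl h2

end forms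

/-! ### The rewriting machine -/

/-- word number `j` of the table of rules. -/
def rword (rules j : ℕ) : ℕ :=
  Nat.mod (Nat.shiftRight (fld 128 0xffffffffffffffffffffffffffffffff rules j) 5)
    (Nat.shiftLeft 1 (Nat.mul 6 (Nat.land (fld 128 0xffffffffffffffffffffffffffffffff rules j) 31)))

/-- length of word number `j`. -/
def rlen (rules j : ℕ) : ℕ := Nat.land (fld 128 0xffffffffffffffffffffffffffffffff rules j) 31

theorem rword_lt (rules j : ℕ) : rword rules j < 2 ^ (6 * rlen rules j) := by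
  unfold rword
  show _ % (1 <<< _) < _
  rw [Nat.one_shiftLeft]
  exact Nat.mod_lt _ (Nat.two_pow_pos _)

theorem rlen_lt (rules j : ℕ) : rlen rules j < 32 :=
  lt_of_le_of_lt Nat.and_le_right (by norm_num)

/-- matrix of the first `n` letters of `w`. -/
noncomputable def pmx (d CM RM MM mats w n : ℕ) : ℕ :=
  Nat.rec (motive := fun _ => ℕ) (fld (Nat.mul d d) MM mats 0)
    (fun i M => mulC d CM RM M (fld (Nat.mul d d) MM mats (fld 6 63 w i))) n

/-- all of the first `n` letters of `w` are below `m`. -/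
noncomputable def below (m w n : ℕ) : Bool := allLt (fun t => Nat.ble (Nat.succ (fld 6 63 w t)) m) n

/-- one application of a rule. -/
noncomputable def step (d CM RM MM mats rules K nL w acc op : ℕ) (k : ℕ → ℕ → ℕ) : ℕ :=
  frc (Nat.shiftRight op 7) fun r => frc (Nat.land op 63) fun pos => frc (bit op 6) fun dr =>
  frc (Nat.add (Nat.mul 2 r) dr) fun jl => frc (Nat.sub (Nat.succ (Nat.mul 2 r)) dr) fun jr =>
  frc (Nat.mul 6 pos) fun sp => frc (Nat.shiftRight w sp) fun hi =>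
  frc (Nat.mul 6 (rlen rules jl)) fun sl =>
  @Bool.rec (fun _ => ℕ) 0
    (frc (Nat.add (Nat.mod w (Nat.shiftLeft 1 sp)) (Nat.shiftLeft (Nat.add (rword rules jr)
        (Nat.shiftLeft (Nat.shiftRight hi sl) (Nat.mul 6 (rlen rules jr)))) sp)) fun w' =>
      frc (Nat.xor acc (Nat.shiftLeft (pmx d CM RM MM mats w pos) (Nat.mul (Nat.mul d d) r)))
        fun acc' => k w' acc')
    (Nat.ble (Nat.succ r) K && Nat.beq (Nat.mod hi (Nat.shiftLeft 1 sl)) (rword rules jl) &&
      below nL w pos)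

/-- run a program; the result is the accumulated tail if the word `w0` is reached, else `0`. -/
noncomputable def run (d CM RM MM mats rules K nL w0 f : ℕ) : ℕ → ℕ → ℕ → ℕ :=
  Nat.rec (motive := fun _ => ℕ → ℕ → ℕ → ℕ) (fun _ _ _ => 0)
    (fun _ ih w acc ops => @Bool.rec (fun _ => ℕ)
      (frc (Nat.shiftRight ops 16) fun ops' => frc (Nat.land ops 65535) fun op =>
        step d CM RM MM mats rules K nL w acc op fun w' acc' => ih w' acc' ops')
      (@Bool.rec (fun _ => ℕ) 0 acc (Nat.beq w w0)) (Nat.beq ops 1)) f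

/-- the tail produced by changing the lifts of the first `n` letters of `w`. -/
noncomputable def fox (d CM RM MM mats K w n : ℕ) : ℕ :=
  xorLt (fun i => Nat.shiftLeft (pmx d CM RM MM mats w i)
    (Nat.mul (Nat.mul d d) (Nat.add K (fld 6 63 w i)))) n

/-- the new tail of rule `k`. -/
noncomputable def tgt (d CM RM MM mats rules K k : ℕ) : ℕ :=
  Nat.xor (Nat.xor (fox d CM RM MM mats K (rword rules (Nat.mul 2 k)) (rlen rules (Nat.mul 2 k)))
    (Nat.shiftLeft (fld (Nat.mul d d) MM mats 0) (Nat.mul (Nat.mul d d) k)))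
    (fox d CM RM MM mats K (rword rules (Nat.succ (Nat.mul 2 k))) (rlen rules (Nat.succ (Nat.mul 2 k))))

section sound
variable {Γ : Type*} [Group Γ] {d : ℕ}

/-- `M` is the matrix of conjugation by `g`. -/
def Act (N : Subgroup Γ) (crd : Γ → Fin d → ZMod 2) (g : Γ) (M : ℕ) : Prop :=
  M < 2 ^ (d * d) ∧ ∀ x ∈ N, crd (g * x * g⁻¹) = mdec d M *ᵥ crd x

/-- the tail of rule `k`. -/
def tail (a : ℕ → Γ) (rules k : ℕ) : Γ :=
  wv a (rword rules (2 * k)) * (wv a (rword rules (2 * k + 1)))⁻¹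

/-- The hypotheses of the machine. -/
structure Ctx (N : Subgroup Γ) (crd : Γ → Fin d → ZMod 2) (a : ℕ → Γ)
    (CM RM MM mats rules K nL : ℕ) : Prop where
  ok : OK d CM RM
  normal : N.Normal
  add : ∀ x ∈ N, ∀ y ∈ N, crd (x * y) = crd x + crd y
  act : ∀ i < nL, Act N crd (lt a i) (fld (d * d) MM mats i)
  pos : 0 < nL
  mem : ∀ k < K, tail a rules k ∈ N

variable {N : Subgroup Γ} {crd : Γ → Fin d → ZMod 2} {a : ℕ → Γ} {CM RM MM mats rules K nL : ℕ}

theorem add_self_vec (v : Fin d → ZMod 2) : v + v = 0 :=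
  funext fun i => CharTwo.add_self_eq_zero (v i)

theorem Ctx.crd_one (C : Ctx N crd a CM RM MM mats rules K nL) : crd 1 = 0 := by
  have := C.add 1 N.one_mem 1 N.one_mem
  rw [mul_one, add_self_vec] at this
  exact this

theorem Ctx.crd_inv (C : Ctx N crd a CM RM MM mats rules K nL) {x : Γ} (hx : x ∈ N) :
    crd x⁻¹ = crd x := by
  have := C.add x hx _ (N.inv_mem hx)
  rw [mul_inv_cancel, C.crd_one] at this
  rw [← zero_add (crd x⁻¹), ← add_self_vec (crd x), add_assoc, ← this, add_zero]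

theorem Ctx.act_mul (C : Ctx N crd a CM RM MM mats rules K nL) {g h : Γ} {M M' : ℕ}
    (hg : Act N crd g M) (hh : Act N crd h M') : Act N crd (g * h) (mulC d CM RM M M') :=
  ⟨C.ok.mulC_lt _ _, fun x hx => by
    rw [C.ok.mdec_mulC, ← mulVec_mulVec, ← hh.2 x hx, ← hg.2 _ (C.normal.conj_mem x hx h)]
    congr 1
    group⟩

theorem below_iff {m w n : ℕ} : below m w n = true ↔ ∀ t < n, fld 6 63 w t < m := by
  simp only [below, allLt_iff, Nat.ble_eq]
  rfl

theorem Ctx.act_pmx (C : Ctx N crd a CM RM MM mats rules K nL) {w n : ℕ}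
    (h : ∀ t < n, fld 6 63 w t < nL) :
    Act N crd (wv a (w % 2 ^ (6 * n))) (pmx d CM RM MM mats w n) := by
  induction n with
  | zero =>
    rw [mul_zero, pow_zero, Nat.mod_one, wv_zero, ← lt_zero a]
    exact C.act 0 C.pos
  | succ n ih =>
    rw [wv_prefix]
    exact C.act_mul (ih fun t ht => h t (by omega)) (C.act _ (h n (by omega)))

variable {KK : ℕ} {X : ℕ → Fin d → ZMod 2}

theorem Ctx.step_sound (C : Ctx N crd a CM RM MM mats rules K nL) (hK : K ≤ KK)
    (hX : ∀ k < K, X k = crd (tail a rules k)) {g : Γ} {w acc : ℕ} (op : ℕ) {k : ℕ → ℕ → ℕ}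
    (hinv : ∃ n ∈ N, crd n = ev d KK X acc ∧ g = n * wv a w)
    (hk : ∀ w acc, (∃ n ∈ N, crd n = ev d KK X acc ∧ g = n * wv a w) → ev d KK X (k w acc) = 0) :
    ev d KK X (step d CM RM MM mats rules K nL w acc op k) = 0 := by
  unfold step
  simp only [frc_eq, Nat.add_eq, Nat.mul_eq, Nat.sub_eq, SchurC.nmod_eq,
    Nat.shiftLeft_eq', Nat.shiftRight_eq, Nat.land_eq, Nat.xor_eq, Nat.one_shiftLeft]
  generalize op >>> 7 = r
  generalize op &&& 63 = pos
  have hdr : bit op 6 = 0 ∨ bit op 6 = 1 := by rw [bit_eq]; split_ifs <;> simp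
  generalize bit op 6 = dr at hdr
  cases hc : (Nat.ble (Nat.succ r) K && Nat.beq ((w >>> (6 * pos)) % 2 ^ (6 * rlen rules (2 * r + dr)))
    (rword rules (2 * r + dr)) && below nL w pos)
  · exact ev_zero
  simp only [Bool.and_eq_true, Nat.ble_eq, Nat.beq_eq, below_iff] at hc
  obtain ⟨⟨h1, h2⟩, h3⟩ := hc
  obtain ⟨n, hn, e1, e2⟩ := hinv
  have hA := C.act_pmx h3
  have ht := C.mem r h1
  obtain ⟨t, htN, ht1, ht2⟩ : ∃ t ∈ N, crd t = X r ∧
      wv a (rword rules (2 * r + dr)) = t * wv a (rword rules ((2 * r).succ - dr)) := by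
    rcases hdr with rfl | rfl
    · exact ⟨_, ht, (hX r h1).symm, (inv_mul_cancel_right _ _).symm⟩
    · refine ⟨_, N.inv_mem ht, (C.crd_inv ht).trans (hX r h1).symm, ?_⟩
      rw [tail, show (2 * r).succ - 1 = 2 * r from rfl]
      group
  apply hk
  refine ⟨n * (wv a (w % 2 ^ (6 * pos)) * t * (wv a (w % 2 ^ (6 * pos)))⁻¹),
    N.mul_mem hn (C.normal.conj_mem t htN _), ?_, ?_⟩
  · rw [C.add _ hn _ (C.normal.conj_mem t htN _), ev_xor, ev_shift hA.1 (lt_of_lt_of_le h1 hK),
      hA.2 t htN, e1, ht1]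
  · rw [Nat.shiftLeft_eq, Nat.shiftLeft_eq, wv_concat a (Nat.mod_lt _ (Nat.two_pow_pos _)),
      wv_concat a (rword_lt _ _), e2, wv_split a pos w, ← Nat.shiftRight_eq_div_pow,
      wv_split a (rlen rules (2 * r + dr)) (w >>> (6 * pos)), h2, ht2, ← Nat.shiftRight_eq_div_pow]
    group

theorem Ctx.run_sound (C : Ctx N crd a CM RM MM mats rules K nL) (hK : K ≤ KK)
    (hX : ∀ k < K, X k = crd (tail a rules k)) (w0 f : ℕ) {w acc : ℕ} (ops : ℕ)
    (hinv : ∃ n ∈ N, crd n = ev d KK X acc ∧ wv a w0 = n * wv a w) :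
    ev d KK X (run d CM RM MM mats rules K nL w0 f w acc ops) = 0 := by
  induction f generalizing w acc ops with
  | zero => exact ev_zero
  | succ f ih =>
    show ev d KK X (@Bool.rec (fun _ => ℕ)
      (step d CM RM MM mats rules K nL w acc (Nat.land ops 65535) fun w' acc' =>
        run d CM RM MM mats rules K nL w0 f w' acc' (Nat.shiftRight ops 16))
      (@Bool.rec (fun _ => ℕ) 0 acc (Nat.beq w w0)) (Nat.beq ops 1)) = 0
    cases Nat.beq ops 1
    · exact C.step_sound hK hX _ hinv fun w' acc' h => ih _ h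
    · cases hw : Nat.beq w w0
      · exact ev_zero
      · obtain ⟨n, -, e1, e2⟩ := hinv
        rw [Nat.eq_of_beq_eq_true hw, right_eq_mul] at e2
        show ev d KK X acc = 0
        rw [← e1, e2, C.crd_one]

theorem Ctx.fox_sound (C : Ctx N crd a CM RM MM mats rules K nL) (hK : K + nL ≤ KK) {u : ℕ → Γ}
    (hu : ∀ i, u i ∈ N) (hX : ∀ i < nL, X (K + i) = crd (lt u i)) {w n : ℕ}
    (h : ∀ t < n, fld 6 63 w t < nL) :
    ∃ T ∈ N, crd T = ev d KK X (fox d CM RM MM mats K w n) ∧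
      wv (fun i => u i * a i) (w % 2 ^ (6 * n)) = T * wv a (w % 2 ^ (6 * n)) := by
  induction n with
  | zero =>
    refine ⟨1, N.one_mem, C.crd_one.trans ev_zero.symm, ?_⟩
    rw [mul_zero, pow_zero, Nat.mod_one, wv_zero, wv_zero, mul_one]
  | succ n ih =>
    obtain ⟨T, hT, e1, e2⟩ := ih fun t ht => h t (by omega)
    have hA := C.act_pmx (w := w) (n := n) fun t ht => h t (by omega)
    have hl := h n (by omega)
    have hu' : lt u (fld 6 63 w n) ∈ N := by
      unfold lt; split_ifs; exacts [N.one_mem, hu _]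
    refine ⟨T * (wv a (w % 2 ^ (6 * n)) * lt u (fld 6 63 w n) * (wv a (w % 2 ^ (6 * n)))⁻¹),
      N.mul_mem hT (C.normal.conj_mem _ hu' _), ?_, ?_⟩
    · rw [C.add _ hT _ (C.normal.conj_mem _ hu' _), hA.2 _ hu', ← hX _ hl, e1, add_comm,
        ← ev_shift (K := KK) hA.1 (by omega), ← ev_xor]
      rfl
    · have : lt (fun i => u i * a i) (fld 6 63 w n) = lt u (fld 6 63 w n) * lt a (fld 6 63 w n) := by
        unfold lt; split_ifs; exacts [(mul_one _).symm, rfl]
      rw [wv_prefix, wv_prefix, e2, this]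
      group

theorem Ctx.ev_one_shift (C : Ctx N crd a CM RM MM mats rules K nL) {k : ℕ} (hk : k < KK) {x : Γ}
    (hx : x ∈ N) (e : X k = crd x) : ev d KK X (fld (d * d) MM mats 0 <<< (d * d * k)) = crd x := by
  have h := C.act 0 C.pos
  rw [ev_shift h.1 hk, e, ← h.2 x hx, lt_zero, one_mul, inv_one, mul_one]

theorem Ctx.tgt_sound (C : Ctx N crd a CM RM MM mats rules K nL) (hK : K + nL ≤ KK) {u : ℕ → Γ}
    (hu : ∀ i, u i ∈ N) (hX0 : ∀ k < K, X k = crd (tail a rules k))
    (hX : ∀ i < nL, X (K + i) = crd (lt u i)) {k : ℕ} (hk : k < K)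
    (h1 : below nL (rword rules (2 * k)) (rlen rules (2 * k)) = true)
    (h2 : below nL (rword rules (2 * k + 1)) (rlen rules (2 * k + 1)) = true) :
    tail (fun i => u i * a i) rules k ∈ N ∧
      crd (tail (fun i => u i * a i) rules k) = ev d KK X (tgt d CM RM MM mats rules K k) := by
  obtain ⟨T1, m1, e1, f1⟩ := C.fox_sound hK hu hX (below_iff.1 h1)
  obtain ⟨T2, m2, e2, f2⟩ := C.fox_sound hK hu hX (below_iff.1 h2)
  rw [Nat.mod_eq_of_lt (rword_lt _ _)] at f1 f2
  have ht := C.mem k hk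
  have e : tail (fun i => u i * a i) rules k = T1 * tail a rules k * T2⁻¹ := by
    rw [tail, tail, f1, f2]; group
  rw [e]
  refine ⟨N.mul_mem (N.mul_mem m1 ht) (N.inv_mem m2), ?_⟩
  rw [C.add _ (N.mul_mem m1 ht) _ (N.inv_mem m2), C.add _ m1 _ ht, C.crd_inv m2, e1, e2,
    ← C.ev_one_shift (KK := KK) (X := X) (k := k) (by omega) ht (hX0 k hk), ← ev_xor, ← ev_xor]
  rfl

end sound

/-! ### Splitting -/

/-- the first `n (n + 1) / 2` rules form a power-conjugate presentation in the letters `1..n`. -/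
noncomputable def pcOK (rules n : ℕ) : Bool :=
  Nat.ble (Nat.succ n) 64 && allLt (fun i => allLt (fun j =>
    frc (Nat.mul 2 (Nat.add (Nat.div (Nat.mul i (Nat.succ i)) 2) j)) fun k =>
      Nat.beq (rword rules k) (Nat.add (Nat.succ j) (Nat.mul (Nat.succ i) 64)) &&
      @Bool.rec (fun _ => Bool)
        (Nat.beq (Nat.mod (rword rules (Nat.succ k)) 64) (Nat.succ i) &&
          below (Nat.succ i) (Nat.div (rword rules (Nat.succ k)) 64) 32)
        (below (Nat.succ i) (rword rules (Nat.succ k)) 32) (Nat.beq j i)) (Nat.succ i)) n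

theorem wv_mem_of_below {Q : Type*} [Group Q] {c : ℕ → Q} {i w : ℕ} (hw : w < 2 ^ (6 * 32))
    (h : below (Nat.succ i) w 32 = true) :
    (∀ t < 32, fld 6 63 w t ≠ 0 → fld 6 63 w t - 1 < i) →
      wv c w ∈ Subgroup.closure ((fun j => c (j + 1)) '' {j | j < i}) := fun h' => by
  rw [← Nat.mod_eq_of_lt hw]
  refine wv_prefix_mem 32 fun t ht => ?_
  have := below_iff.1 h t ht
  unfold lt
  split_ifs with h0
  · exact Subgroup.one_mem _
  · refine Subgroup.subset_closure ⟨_, h' t ht h0, ?_⟩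
    show c (fld 6 63 w t - 1 + 1) = _
    congr 1
    omega

theorem tri_lt {i j n : ℕ} (hi : i < n) (hj : j < i + 1) : i * (i + 1) / 2 + j < n * (n + 1) / 2 := by
  have h1 : (i + 1) * (i + 1 + 1) ≤ n * (n + 1) := Nat.mul_le_mul hi (by omega)
  have h2 : (i + 1) * (i + 1 + 1) = i * (i + 1) + 2 * (i + 1) := by ring
  have h3 : i * (i + 1) % 2 = 0 := Nat.even_iff.1 (Nat.even_mul_succ_self i)
  omega

theorem card_le_of_pcOK {Q : Type*} [Group Q] [Finite Q] {c : ℕ → Q} {rules n : ℕ}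
    (h : pcOK rules n = true)
    (hr : ∀ k < n * (n + 1) / 2, wv c (rword rules (2 * k)) = wv c (rword rules (2 * k + 1))) :
    Nat.card (Subgroup.closure ((fun j => c (j + 1)) '' {j | j < n})) ≤ 2 ^ n := by
  simp only [pcOK, frc_eq, Bool.and_eq_true, allLt_iff, Nat.ble_eq, Nat.beq_eq, Nat.add_eq,
    Nat.mul_eq, SchurC.ndiv_eq, SchurC.nmod_eq, Nat.succ_eq_add_one] at h
  obtain ⟨hn, h⟩ := h
  have hl : ∀ j, rword rules j < 2 ^ (6 * 32) := fun j =>
    (rword_lt rules j).trans_le (Nat.pow_le_pow_right two_pos (by have := rlen_lt rules j; omega))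
  have h2 : ∀ i < n, ∀ j < i + 1, c (j + 1) * c (i + 1) =
      wv c (rword rules (2 * (i * (i + 1) / 2 + j) + 1)) := fun i hi j hj => by
    rw [← hr _ (tri_lt hi hj), (h i hi j hj).1,
      show j + 1 + (i + 1) * 64 = j + 1 + (i + 1) * 2 ^ (6 * 1) from rfl,
      wv_concat c (by norm_num; omega), wv_lt c (by omega), wv_lt c (by omega),
      lt_pos c (by omega), lt_pos c (by omega)]
  have := card_pc_rel_le (p := 2) two_pos (⊥ : Subgroup Q) bot_le (fun j => c (j + 1)) n
    (fun i hi => by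
      have h3 := (h i hi i (by omega)).2
      rw [Nat.beq_refl] at h3
      rw [sup_bot_eq, pow_two, h2 i hi i (by omega)]
      exact wv_mem_of_below (hl _) h3 fun t ht h0 => by
        have := below_iff.1 h3 t ht
        omega)
    (fun i hi j hj => by
      have h3 := (h i hi j (by omega)).2
      rw [show Nat.beq j i = false from by
        cases e : Nat.beq j i
        · rfl
        · exact absurd (Nat.eq_of_beq_eq_true e) hj.ne] at h3
      have h4 : (Nat.beq (rword rules (2 * (i * (i + 1) / 2 + j) + 1) % 64) (i + 1) &&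
        below (i + 1) (rword rules (2 * (i * (i + 1) / 2 + j) + 1) / 64) 32) = true := h3
      rw [Bool.and_eq_true, Nat.beq_eq] at h4
      rw [sup_bot_eq, mul_assoc, h2 i hi j (by omega), wv_eq, h4.1, lt_pos c (by omega),
        inv_mul_cancel_left]
      exact wv_mem_of_below (lt_of_le_of_lt (Nat.div_le_self _ _) (hl _)) h4.2 fun t ht h0 => by
        have := below_iff.1 h4.2 t ht
        omega)
  rwa [sup_bot_eq, Subgroup.card_bot, mul_one] at this

section split
variable {Γ G : Type*} [Group Γ] [Group G] {d : ℕ}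

/-- the elements of the kernel with vanishing coordinates. -/
def del (π : Γ →* G) (crd : Γ → Fin d → ZMod 2)
    (hadd : ∀ x ∈ π.ker, ∀ y ∈ π.ker, crd (x * y) = crd x + crd y) : Subgroup Γ where
  carrier := {x | x ∈ π.ker ∧ crd x = 0}
  mul_mem' {x y} hx hy := ⟨π.ker.mul_mem hx.1 hy.1, by rw [hadd x hx.1 y hy.1, hx.2, hy.2, add_zero]⟩
  one_mem' := ⟨π.ker.one_mem, by
    have := hadd 1 π.ker.one_mem 1 π.ker.one_mem
    rwa [mul_one, add_self_vec] at this⟩
  inv_mem' {x} hx := ⟨π.ker.inv_mem hx.1, by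
    have h1 := hadd 1 π.ker.one_mem 1 π.ker.one_mem
    have h2 := hadd x hx.1 _ (π.ker.inv_mem hx.1)
    rw [mul_one, add_self_vec] at h1
    rw [mul_inv_cancel, h1, hx.2, zero_add] at h2
    exact h2.symm⟩

theorem exists_compl [Finite Γ] (π : Γ →* G) (hπ : Function.Surjective π)
    (crd : Γ → Fin d → ZMod 2)
    (hadd : ∀ x ∈ π.ker, ∀ y ∈ π.ker, crd (x * y) = crd x + crd y)
    (hnorm : ∀ g, ∀ x ∈ π.ker, crd x = 0 → crd (g * x * g⁻¹) = 0) {c : ℕ → Γ} {rules n : ℕ}
    (h : pcOK rules n = true)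
    (hr : ∀ k < n * (n + 1) / 2, tail c rules k ∈ π.ker ∧ crd (tail c rules k) = 0)
    (hord : 2 ^ n ≤ Nat.card (Subgroup.closure ((fun j => π (c (j + 1))) '' {j | j < n})))
    (hG : ¬ 2 ^ (n + 1) ∣ Nat.card G) :
    ∃ H : Subgroup Γ, (∀ x ∈ π.ker, x ∈ H ↔ crd x = 0) ∧ H.map π = ⊤ := by
  set Δ := del π crd hadd with hΔ
  have hmem : ∀ x, x ∈ Δ ↔ x ∈ π.ker ∧ crd x = 0 := fun _ => Iff.rfl
  have : Δ.Normal := ⟨fun x hx g => ⟨π.normal_ker.conj_mem x hx.1 g, hnorm g x hx.1 hx.2⟩⟩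
  have hle : Δ ≤ π.ker := fun x hx => hx.1
  set q := QuotientGroup.mk' Δ with hq
  set ρ : Γ ⧸ Δ →* G := QuotientGroup.lift Δ π hle with hρ
  have hρq : ∀ x, ρ (q x) = π x := fun _ => rfl
  have hqs : Function.Surjective q := QuotientGroup.mk'_surjective Δ
  have hρs : Function.Surjective ρ := fun y => by
    obtain ⟨x, rfl⟩ := hπ y
    exact ⟨q x, rfl⟩
  have hq1 : ∀ x, q x = 1 ↔ x ∈ Δ := fun x => QuotientGroup.eq_one_iff x
  have : Finite G := Finite.of_surjective π hπ
  set A := Subgroup.closure ((fun j => q (c (j + 1))) '' {j | j < n}) with hA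
  have hAle : Nat.card A ≤ 2 ^ n := card_le_of_pcOK (c := fun i => q (c i)) h fun k hk => by
    rw [← map_wv, ← map_wv, ← mul_inv_eq_one, ← map_inv, ← map_mul, hq1]
    exact hr k hk
  have hAmap : A.map ρ = Subgroup.closure ((fun j => π (c (j + 1))) '' {j | j < n}) := by
    rw [hA, MonoidHom.map_closure, Set.image_image]; rfl
  have hsurj : Function.Surjective (ρ.subgroupMap A) := ρ.subgroupMap_surjective A
  have hcard : Nat.card (A.map ρ) = 2 ^ n :=
    le_antisymm ((Nat.card_le_card_of_surjective _ hsurj).trans hAle) (hAmap ▸ hord)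
  have hinj : Function.Injective (ρ.subgroupMap A) :=
    (hsurj.bijective_of_nat_card_le (hAle.trans hcard.ge)).1
  have hinv : ∀ x ∈ π.ker, crd x⁻¹ = crd x := fun x hx => by
    have h2 := hadd x hx _ (π.ker.inv_mem hx)
    rw [mul_inv_cancel, Δ.one_mem.2] at h2
    rw [← zero_add (crd x⁻¹), ← add_self_vec (crd x), add_assoc, ← h2, add_zero]
  have : IsMulCommutative ρ.ker := ⟨⟨fun ⟨x, hx⟩ ⟨y, hy⟩ => Subtype.ext (by
    obtain ⟨x, rfl⟩ := hqs x
    obtain ⟨y, rfl⟩ := hqs y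
    have hx' : x ∈ π.ker := hx
    have hy' : y ∈ π.ker := hy
    show q x * q y = q y * q x
    rw [← mul_inv_eq_one, ← map_mul, ← map_mul, ← map_inv, ← map_mul, hq1, hmem]
    refine ⟨π.ker.mul_mem (π.ker.mul_mem hx' hy') (π.ker.inv_mem (π.ker.mul_mem hy' hx')), ?_⟩
    rw [hadd _ (π.ker.mul_mem hx' hy') _ (π.ker.inv_mem (π.ker.mul_mem hy' hx')),
      hinv _ (π.ker.mul_mem hy' hx'), hadd _ hx' _ hy', hadd _ hy' _ hx', add_comm (crd y),
      add_self_vec])⟩⟩
  have hp : IsPGroup 2 ρ.ker := fun ⟨x, hx⟩ => ⟨1, Subtype.ext (by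
    obtain ⟨x, rfl⟩ := hqs x
    have hx' : x ∈ π.ker := hx
    show q x ^ 2 ^ 1 = 1
    rw [pow_one, pow_two, ← map_mul, hq1, hmem, hadd _ hx' _ hx', add_self_vec]
    exact ⟨π.ker.mul_mem hx' hx', rfl⟩)⟩
  have : Fact (Nat.Prime 2) := ⟨Nat.prime_two⟩
  obtain ⟨m, hm⟩ := IsPGroup.iff_card.1 hp
  have hidx : (ρ.ker ⊔ A).index = (A.map ρ).index := by
    rw [Subgroup.index_map, sup_comm, MonoidHom.range_eq_top.2 hρs, Subgroup.index_top, mul_one]
  have hodd : Nat.Coprime (Nat.card ρ.ker) (ρ.ker ⊔ A).index := by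
    rw [hm, hidx]
    refine Nat.Coprime.pow_left _ ((Nat.Prime.coprime_iff_not_dvd Nat.prime_two).2 fun h2 => hG ?_)
    rw [← (A.map ρ).card_mul_index, hcard, pow_succ]
    exact Nat.mul_dvd_mul_left _ h2
  have hAK : A ⊓ ρ.ker = ⊥ := eq_bot_iff.2 fun x hx => by
    have : ρ.subgroupMap A ⟨x, hx.1⟩ = ρ.subgroupMap A 1 := by
      rw [map_one]; exact Subtype.ext hx.2
    exact congrArg Subtype.val (hinj this)
  obtain ⟨H, hH⟩ := gaschutz_exists ρ.ker (ρ.ker ⊔ A) le_sup_left hodd A hAK rfl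
  refine ⟨H.comap q, fun x hx => ⟨fun h1 => ?_, fun h1 => ?_⟩, ?_⟩
  · have : q x ∈ ρ.ker ⊓ H := ⟨hx, h1⟩
    rw [hH.disjoint.eq_bot] at this
    exact ((hq1 x).1 this).2
  · show q x ∈ H
    rw [(hq1 x).2 ⟨hx, h1⟩]
    exact H.one_mem
  · refine eq_top_iff.2 fun y _ => ?_
    obtain ⟨x, rfl⟩ := hρs y
    obtain ⟨⟨k, z⟩, e⟩ := hH.2 x
    obtain ⟨z', hz'⟩ := hqs z
    refine ⟨z', by show q z' ∈ H; rw [hz']; exact z.2, ?_⟩
    rw [← hρq, hz', ← e]
    show ρ z = ρ (k * z)
    rw [map_mul, show ρ k = 1 from k.2, one_mul]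

end split

/-- Certificates. -/
structure Cert (d : ℕ) where
  CM : ℕ
  RM : ℕ
  MM : ℕ
  mats : ℕ
  rules : ℕ
  K : ℕ
  nL : ℕ
  n : ℕ
  MASK : ℕ
  ids : List (ℕ × ℕ × ℕ)
  U : ℕ
  dl : List ℕ
  ex : List ℕ
  SW : ℕ
  sels : ℕ

namespace Cert

variable {d : ℕ}

/-- the mask test. -/
noncomputable def maskOK (C : Cert d) : Bool :=
  allLt (fun b => Nat.beq (bit C.MASK (Nat.mul d b)) 1) (Nat.mul d (Nat.add C.K C.nL))

/-- the definition of the change of the lift number `i`. -/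
def defn (C : Cert d) (i : ℕ) : ℕ :=
  Nat.xor (fld (Nat.mul (Nat.mul d d) C.K)
      (Nat.sub (Nat.shiftLeft 1 (Nat.mul (Nat.mul d d) C.K)) 1) C.U i)
    (Nat.shiftLeft (fld (Nat.mul d d) C.MM C.mats 0) (Nat.mul (Nat.mul d d) (Nat.add C.K i)))

/-- the words of the first `m` rules use known letters only. -/
noncomputable def wordsOK (C : Cert d) (m : ℕ) : Bool :=
  allLt (fun k => below C.nL (rword C.rules (Nat.mul 2 k)) (rlen C.rules (Nat.mul 2 k)) &&
    below C.nL (rword C.rules (Nat.succ (Nat.mul 2 k))) (rlen C.rules (Nat.succ (Nat.mul 2 k)))) m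

/-- the check for splitting. -/
noncomputable def check (C : Cert d) : Bool :=
  frc (Nat.div (Nat.mul C.n (Nat.succ C.n)) 2) fun nS =>
  frc (Nat.sub (Nat.shiftLeft 1 C.SW) 1) fun SM =>
  Nat.ble nS C.K && C.maskOK && pcOK C.rules C.n && C.wordsOK nS &&
  lall (fun i => Nat.ble 1 i && Nat.ble (Nat.succ i) C.nL) C.dl &&
  pushAll d (fun x => run d C.CM C.RM C.MM C.mats C.rules C.K C.nL x.1 4096 x.1 0 x.2.1)
    (fun x => x.2.2)
    (lmap (fun e => Nat.mod e (Nat.shiftLeft 1 (Nat.mul (Nat.mul d d) C.K))) C.ex) C.ids fun L1 =>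
  pushAll d C.defn (fun _ => C.RM) L1 C.dl fun L2 =>
  allLt (fun k => frc (tgt d C.CM C.RM C.MM C.mats C.rules C.K k) fun T =>
    allLt (fun r => frc (fld C.SW SM C.sels (Nat.add (Nat.mul d k) r)) fun s =>
      frc (Nat.shiftRight T r) fun x => Nat.beq (Nat.land (comb L2 s x) C.MASK) 0) d) nS

/-- the check for an obstruction `ν`. -/
noncomputable def checkN (C : Cert d) (ν : ℕ) : Bool :=
  C.maskOK && C.wordsOK C.K && lall (fun k => Nat.ble (Nat.succ k) C.K) C.dl &&
  pushAll d (tgt d C.CM C.RM C.MM C.mats C.rules C.K) (fun _ => C.RM) [] C.dl fun L =>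
    Nat.beq (Nat.land (comb L C.sels
      (Nat.mod ν (Nat.shiftLeft 1 (Nat.mul (Nat.mul d d) C.K)))) C.MASK) 0

theorem mask_spec {C : Cert d} (h : C.maskOK = true) :
    ∀ b < d * (C.K + C.nL), C.MASK.testBit (d * b) = true := fun b hb =>
  bit_eq_one_iff.1 (Nat.eq_of_beq_eq_true (allLt_iff.1 h b hb))

theorem words_spec {C : Cert d} {m : ℕ} (h : C.wordsOK m = true) {k : ℕ} (hk : k < m) :
    below C.nL (rword C.rules (2 * k)) (rlen C.rules (2 * k)) = true ∧
      below C.nL (rword C.rules (2 * k + 1)) (rlen C.rules (2 * k + 1)) = true :=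
  Bool.and_eq_true_iff.1 (allLt_iff.1 h k hk)

variable {Γ : Type*} [Group Γ] (C : Cert d) {N : Subgroup Γ} {crd : Γ → Fin d → ZMod 2}
  {a : ℕ → Γ}

/-- the extended vector of unknowns. -/
def ext (crd : Γ → Fin d → ZMod 2) (a u : ℕ → Γ) (k : ℕ) : Fin d → ZMod 2 :=
  if k < C.K then crd (tail a C.rules k) else crd (lt u (k - C.K))

theorem ext_lt (u : ℕ → Γ) {k : ℕ} (hk : k < C.K) : C.ext crd a u k = crd (tail a C.rules k) :=
  if_pos hk

theorem ext_add (u : ℕ → Γ) (i : ℕ) : C.ext crd a u (C.K + i) = crd (lt u i) := by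
  rw [ext, if_neg (by omega), Nat.add_sub_cancel_left]

theorem lifts (X : Ctx N crd a C.CM C.RM C.MM C.mats C.rules C.K C.nL)
    (hsurj : ∀ v, ∃ x ∈ N, crd x = v) (h : C.check = true)
    (hex : ∀ e ∈ C.ex, dot d C.K (fun k => crd (tail a C.rules k)) e = 0) :
    pcOK C.rules C.n = true ∧ ∃ u : ℕ → Γ, (∀ i, u i ∈ N) ∧ ∀ k < C.n * (C.n + 1) / 2,
      tail (fun i => u i * a i) C.rules k ∈ N ∧ crd (tail (fun i => u i * a i) C.rules k) = 0 := by
  choose f hfN hf using hsurj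
  set X0 := fun k => crd (tail a C.rules k) with hX0
  set u : ℕ → Γ := fun i => f (ev d C.K X0 (fld (d * d * C.K) (2 ^ (d * d * C.K) - 1) C.U i))
    with hu
  have huN : ∀ i, u i ∈ N := fun i => hfN _
  simp only [check, frc_eq, Bool.and_eq_true, Nat.ble_eq, lall_iff] at h
  obtain ⟨⟨⟨⟨⟨h1, h2⟩, h3⟩, h4⟩, h5⟩, h6⟩ := h
  have h1' : C.n * (C.n + 1) / 2 ≤ C.K := h1
  have hlt : ∀ k < C.K, C.ext crd a u k = X0 k := fun k hk => C.ext_lt u hk
  obtain ⟨L1, l1, h7⟩ := pushAll_spec (d := d) (K := C.K + C.nL) (X := C.ext crd a u)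
    (fun x _ => X.run_sound (Nat.le_add_right _ _) hlt _ _ _
      ⟨1, N.one_mem, X.crd_one.trans ev_zero.symm, (one_mul _).symm⟩)
    (fun x hx => by
      rw [lmap_eq, List.mem_map] at hx
      obtain ⟨e, he, rfl⟩ := hx
      show dot _ _ _ (e % (1 <<< (d * d * C.K))) = 0
      rw [Nat.one_shiftLeft, dot_extend (Nat.le_add_right _ _) hlt (Nat.mod_lt _ (Nat.two_pow_pos _)),
        dot_mod, hex e he]) h6
  obtain ⟨L2, l2, h8⟩ := pushAll_spec (d := d) (K := C.K + C.nL) (X := C.ext crd a u)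
    (fun i hi => by
      obtain ⟨i1, i2⟩ := h5 i hi
      show ev _ _ _ (fld (d * d * C.K) (1 <<< (d * d * C.K) - 1) C.U i ^^^
        fld (d * d) C.MM C.mats 0 <<< (d * d * (C.K + i))) = 0
      rw [ev_xor, Nat.one_shiftLeft, ev_extend (Nat.le_add_right _ _) hlt (PM.fld_lt _ _ _),
        X.ev_one_shift (x := u i) (by omega) (huN i) (by rw [C.ext_add, lt_pos _ i1]), hu]
      simp only [hf, add_self_vec]) l1 h7
  refine ⟨h3, u, huN, fun k hk => ?_⟩
  obtain ⟨w1, w2⟩ := words_spec h4 hk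
  obtain ⟨t1, t2⟩ := X.tgt_sound (X := C.ext crd a u) le_rfl huN hlt (fun i _ => C.ext_add u i)
    (lt_of_lt_of_le hk h1') w1 w2
  refine ⟨t1, t2.trans (funext fun r => ?_)⟩
  have := allLt_iff.1 (allLt_iff.1 h8 k hk) r r.2
  exact (dot_comb l2 _ _).symm.trans
    (dot_eq_zero_of_mask (mask_spec h2) (Nat.eq_of_beq_eq_true this))

/-- the splitting criterion. -/
theorem split [Finite Γ] {G : Type*} [Group G] (π : Γ →* G) (hπ : Function.Surjective π)
    (X : Ctx π.ker crd a C.CM C.RM C.MM C.mats C.rules C.K C.nL)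
    (hsurj : ∀ v, ∃ x ∈ π.ker, crd x = v)
    (hnorm : ∀ g, ∀ x ∈ π.ker, crd x = 0 → crd (g * x * g⁻¹) = 0) (h : C.check = true)
    (hord : 2 ^ C.n ≤ Nat.card (Subgroup.closure ((fun j => π (a (j + 1))) '' {j | j < C.n})))
    (hG : ¬ 2 ^ (C.n + 1) ∣ Nat.card G)
    (hex : ∀ e ∈ C.ex, dot d C.K (fun k => crd (tail a C.rules k)) e = 0) :
    ∃ H : Subgroup Γ, (∀ x ∈ π.ker, x ∈ H ↔ crd x = 0) ∧ H.map π = ⊤ := by
  obtain ⟨h1, u, hu, h2⟩ := C.lifts X hsurj h hex
  refine exists_compl π hπ crd X.add hnorm h1 h2 ?_ hG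
  have : (fun j => π (u (j + 1) * a (j + 1))) = fun j => π (a (j + 1)) := funext fun j => by
    rw [map_mul, show π (u (j + 1)) = 1 from hu _, one_mul]
  rwa [this]

/-- the obstruction vanishes for split extensions. -/
theorem obstruction (X : Ctx N crd a C.CM C.RM C.MM C.mats C.rules C.K C.nL) {ν : ℕ}
    (h : C.checkN ν = true) {H : Subgroup Γ} (h1 : H ⊓ N = ⊥) (h2 : H ⊔ N = ⊤) :
    dot d C.K (fun k => crd (tail a C.rules k)) ν = 0 := by
  have := X.normal
  have : ∀ i, ∃ u ∈ N, u * a i ∈ H := fun i => by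
    have hi : a i ∈ ((N ⊔ H : Subgroup Γ) : Set Γ) := by rw [sup_comm, h2]; trivial
    rw [Subgroup.normal_mul] at hi
    obtain ⟨x, hx, y, hy, e⟩ := hi
    exact ⟨x⁻¹, N.inv_mem hx, by rw [← e]; simpa using hy⟩
  choose u huN huH using this
  have hH : ∀ w, wv (fun i => u i * a i) w ∈ H := fun w => by
    refine Subgroup.list_prod_mem _ fun x hx => ?_
    obtain ⟨i, -, rfl⟩ := List.mem_map.1 hx
    unfold lt; split_ifs; exacts [H.one_mem, huH i]
  simp only [checkN, Bool.and_eq_true, Nat.ble_eq, lall_iff] at h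
  obtain ⟨⟨⟨c1, c2⟩, c3⟩, c4⟩ := h
  have hlt : ∀ k < C.K, C.ext crd a u k = crd (tail a C.rules k) := fun k hk => C.ext_lt u hk
  obtain ⟨L, l1, c5⟩ := pushAll_spec (d := d) (K := C.K + C.nL) (X := C.ext crd a u)
    (fun k hk => by
      obtain ⟨w1, w2⟩ := words_spec c2 (c3 k hk)
      obtain ⟨t1, t2⟩ := X.tgt_sound (X := C.ext crd a u) le_rfl huN hlt (fun i _ => C.ext_add u i)
        (c3 k hk) w1 w2
      have : tail (fun i => u i * a i) C.rules k ∈ H ⊓ N :=
        ⟨H.mul_mem (hH _) (H.inv_mem (hH _)), t1⟩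
      rw [h1, Subgroup.mem_bot] at this
      rw [← t2, this, X.crd_one]) (fun _ hx => absurd hx List.not_mem_nil) c4
  have := (dot_comb l1 _ _).symm.trans
    (dot_eq_zero_of_mask (X := C.ext crd a u) (mask_spec c1) (Nat.eq_of_beq_eq_true c5))
  change dot _ _ _ (ν % (1 <<< (d * d * C.K))) = 0 at this
  rwa [Nat.one_shiftLeft, dot_extend (Nat.le_add_right _ _) hlt (Nat.mod_lt _ (Nat.two_pow_pos _)),
    dot_mod] at this

end Cert

end CL.ModExt
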