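/-
Extensions of subgroups of `M24` by modules given through tables; the code and cocode modules
of `M23`.
-/
import Mathlib
import Cfsg.Agent.KSG.ModExt
import Cfsg.Agent.KSG.MathieuMdl
import Cfsg.Agent.SPOR.GolayMod

set_option autoImplicit false
set_option maxHeartbeats 400000

namespace CL.ModExt

open Finset Cfsg CL.K CL.F2M CL.Golay Matrix
open CL.SchurC (frc frc_eq)
open scoped Pointwise

/-- table of the product of the first `n` letters of `w`. -/
noncomputable def wp (L : List ℕ) (w n : ℕ) : ℕ :=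
  Nat.rec (motive := fun _ => ℕ) one24
    (fun i P => frc P fun P => frc (lget L (fld 6 63 w i)) fun Q => comp24 P Q) n

theorem R_wp {s : ℕ → Equiv.Perm GolayPt} {L : List ℕ} {m : ℕ}
    (hs : ∀ i < m, R (lt s i) (lget L i)) {w n : ℕ} (h : ∀ t < n, fld 6 63 w t < m) :
    R (wv s (w % 2 ^ (6 * n))) (wp L w n) := by
  induction n with
  | zero => rw [mul_zero, pow_zero, Nat.mod_one, wv_zero]; exact R.one
  | succ n ih =>
    rw [wv_prefix]
    exact (ih fun t ht => h t (by omega)).mul (hs _ (h n (by omega)))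

theorem R.eq_of_eq {g h : Equiv.Perm GolayPt} {P Q : ℕ} (hg : R g P) (hh : R h Q) (e : P = Q) :
    g = h := Enc.Rep.unique hg (e ▸ hh)

section
variable {G : Subgroup (Equiv.Perm GolayPt)} {Γ : Type*} [Group Γ] {d : ℕ}

/-- Coordinates on the kernel of `π` with the action given by `ent`. -/
structure PCtx (π : Γ →* G) (crd : Γ → Fin d → ZMod 2) (ent : ℕ → ℕ → ℕ → Bool) : Prop where
  add : ∀ x ∈ π.ker, ∀ y ∈ π.ker, crd (x * y) = crd x + crd y
  act : ∀ g P, R (π g) P → ∀ x ∈ π.ker, ∀ r : Fin d,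
    crd (g * x * g⁻¹) r = ∑ c : Fin d, b2z (ent P r c) * crd x c

/-- The check of the tables of a certificate against the letters `L`. -/
noncomputable def pcheck (C : Cert d) (ent : ℕ → ℕ → ℕ → Bool) (L : List ℕ) : Bool :=
  Nat.beq (llen L) C.nL && Nat.ble 1 C.nL && Nat.beq (lget L 0) one24 &&
  allLt (fun i => frc (fld (Nat.mul d d) C.MM C.mats i) fun M => frc (lget L i) fun P =>
    Nat.ble (Nat.succ M) (Nat.shiftLeft 1 (Nat.mul d d)) &&
    allLt (fun c => allLt (fun r => Nat.beq (bit M (Nat.add (Nat.mul d c) r))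
      (@Bool.rec (fun _ => ℕ) 0 1 (ent P r c))) d) d) C.nL &&
  C.wordsOK C.K &&
  allLt (fun k => Nat.beq (wp L (rword C.rules (Nat.mul 2 k)) (rlen C.rules (Nat.mul 2 k)))
    (wp L (rword C.rules (Nat.succ (Nat.mul 2 k))) (rlen C.rules (Nat.succ (Nat.mul 2 k))))) C.K

variable {π : Γ →* G} {crd : Γ → Fin d → ZMod 2} {ent : ℕ → ℕ → ℕ → Bool}

theorem PCtx.norm (P : PCtx π crd ent) (g : Γ) (x : Γ) (hx : x ∈ π.ker) (h : crd x = 0) :
    crd (g * x * g⁻¹) = 0 := by
  funext r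
  rw [P.act g _ (Enc.rep_code fmt _) x hx r, h]
  simp

theorem PCtx.ctx (P : PCtx π crd ent) {C : Cert d} (ok : OK d C.CM C.RM) {L : List ℕ}
    (h : pcheck C ent L = true) {a : ℕ → Γ} (ha : ∀ i, 0 < i → i < C.nL → R (π (a i)) (lget L i)) :
    Ctx π.ker crd a C.CM C.RM C.MM C.mats C.rules C.K C.nL := by
  simp only [pcheck, frc_eq, Bool.and_eq_true, Nat.ble_eq, Nat.beq_eq, allLt_iff] at h
  obtain ⟨⟨⟨⟨⟨-, h2⟩, h3⟩, h4⟩, h5⟩, h6⟩ := h
  have ha' : ∀ i < C.nL, R (π (lt a i)) (lget L i) := fun i hi => by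
    rcases Nat.eq_zero_or_pos i with rfl | h0
    · rw [lt_zero, map_one, h3]; exact R.one
    · rw [lt_pos a h0]; exact ha i h0 hi
  refine ⟨ok, π.normal_ker, P.add, fun i hi => ⟨?_, fun x hx => funext fun r => ?_⟩, h2,
    fun k hk => ?_⟩
  · have := (h4 i hi).1
    rwa [Nat.shiftLeft_eq', Nat.one_shiftLeft] at this
  · rw [P.act _ _ (ha' i hi) x hx r, mulVec, dotProduct]
    refine sum_congr rfl fun c _ => ?_
    have := (h4 i hi).2 c c.2 r r.2
    rw [mdec, Matrix.of_apply]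
    congr 2
    change bit (fld (d * d) C.MM C.mats i) (d * c + r) = _ at this
    revert this
    rw [bit_eq]
    cases ent (lget L i) r c <;> cases (fld (d * d) C.MM C.mats i).testBit (d * c + r) <;> simp
  · obtain ⟨w1, w2⟩ := Cert.words_spec h5 hk
    have hs : ∀ i < C.nL, R (lt (fun i => ((π (a i) : G) : Equiv.Perm GolayPt)) i) (lget L i) :=
      fun i hi => by
        have := ha' i hi
        unfold lt at this ⊢
        split_ifs at this ⊢
        · rwa [map_one] at this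
        · exact this
    have r1 := R_wp hs (below_iff.1 w1)
    have r2 := R_wp hs (below_iff.1 w2)
    rw [Nat.mod_eq_of_lt (rword_lt _ _)] at r1 r2
    have := R.eq_of_eq r1 r2 (h6 k hk)
    rw [MonoidHom.mem_ker, tail, map_mul, map_inv, mul_inv_eq_one]
    apply G.subtype_injective
    exact ((map_wv (G.subtype.comp π) a _).trans this).trans (map_wv (G.subtype.comp π) a _).symm

theorem exists_lifts (hπ : Function.Surjective π) {L : List ℕ} (hL : AllI G L) :
    ∃ a : ℕ → Γ, ∀ i < L.length, R (π (a i)) (lget L i) := by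
  have : ∀ i, ∃ x, i < L.length → R (π x) (lget L i) := fun i => by
    by_cases hi : i < L.length
    · obtain ⟨g, hg, hr⟩ := hL _ (lget_mem hi)
      obtain ⟨x, hx⟩ := hπ ⟨g, hg⟩
      exact ⟨x, fun _ => by rw [hx]; exact hr⟩
    · exact ⟨1, fun h => absurd h hi⟩
  choose a ha using this
  exact ⟨a, ha⟩

theorem pcheck_len {C : Cert d} {L : List ℕ} (h : pcheck C ent L = true) : L.length = C.nL := by
  simp only [pcheck, Bool.and_eq_true, Nat.beq_eq, llen_eq] at h
  exact h.1.1.1.1.1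

/-- All data needed for the splitting criterion. -/
structure Data (G : Subgroup (Equiv.Perm GolayPt)) (C : Cert d) (ent : ℕ → ℕ → ℕ → Bool)
    (L : List ℕ) (B : List (ℕ × ℕ)) : Prop where
  ok : OK d C.CM C.RM
  mem : AllI G L
  pc : pcheck C ent L = true
  chk : C.check = true
  hn : C.n < C.nL
  chain : PC.chainOK 5 31 24 B (lmap (fun j => lget L (Nat.succ j)) (List.range C.n)) = true
  prod : 2 ^ C.n ≤ (B.map Prod.snd).prod
  card : ¬ 2 ^ (C.n + 1) ∣ Nat.card G

theorem Data.split [Finite Γ] {C : Cert d} {L : List ℕ} {B : List (ℕ × ℕ)} (D : Data G C ent L B)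
    (P : PCtx π crd ent) (hπ : Function.Surjective π) (hsurj : ∀ v, ∃ x ∈ π.ker, crd x = v)
    {a : ℕ → Γ} (ha : ∀ i < L.length, R (π (a i)) (lget L i))
    (hex : ∀ e ∈ C.ex, dot d C.K (fun k => crd (tail a C.rules k)) e = 0) :
    ∃ H : Subgroup Γ, (∀ x ∈ π.ker, x ∈ H ↔ crd x = 0) ∧ H.map π = ⊤ := by
  have hl := pcheck_len D.pc
  refine C.split π hπ (P.ctx D.ok D.pc fun i _ hi => ha i (hl ▸ hi)) hsurj P.norm D.chk ?_ D.card hex
  rw [← Subgroup.card_map_of_injective G.subtype_injective]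
  refine D.prod.trans (AllI.card_ge (fun Q hQ => ?_) D.chain)
  rw [lmap_eq, List.mem_map] at hQ
  obtain ⟨j, hj, rfl⟩ := hQ
  have hj' := List.mem_range.1 hj
  exact ⟨_, Subgroup.mem_map_of_mem _ (Subgroup.subset_closure ⟨j, hj', rfl⟩),
    ha _ (by have := D.hn; omega)⟩

theorem compl_of {H : Subgroup Γ} (hf : ∀ x ∈ π.ker, crd x = 0 → x = 1)
    (h1 : ∀ x ∈ π.ker, x ∈ H ↔ crd x = 0) (h2 : H.map π = ⊤) : H ⊓ π.ker = ⊥ ∧ H ⊔ π.ker = ⊤ :=
  ⟨eq_bot_iff.2 fun x hx => hf x hx.2 ((h1 x hx.2).1 hx.1), by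
    rw [← Subgroup.comap_map_eq, h2, Subgroup.comap_top]⟩

theorem equiv_of_proj {Δ : Type*} [Group Δ] {ρ : Δ →* G} {H : Subgroup Δ} (p : Δ →* Γ)
    (hp : ∀ x, π (p x) = ρ x) (hinj : ∀ x ∈ H, p x = 1 → x = 1)
    (hs : ∀ n ∈ π.ker, ∃ x ∈ H, p x = n) (hH : H.map ρ = ⊤) : Nonempty (H ≃* Γ) := by
  refine ⟨MulEquiv.ofBijective (p.comp H.subtype) ⟨(injective_iff_map_eq_one _).2 fun x hx =>
    Subtype.ext (hinj x x.2 hx), fun e => ?_⟩⟩
  obtain ⟨y, hy, e1⟩ : π e ∈ H.map ρ := by rw [hH]; trivial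
  obtain ⟨x, hx, e2⟩ := hs (e * (p y)⁻¹) (by rw [MonoidHom.mem_ker, map_mul, map_inv, hp, e1, mul_inv_cancel])
  refine ⟨⟨x * y, H.mul_mem hx hy⟩, ?_⟩
  show p (x * y) = e
  rw [map_mul, e2, inv_mul_cancel_right]

/-- Two non-split extensions are isomorphic when one linear condition forces splitting. -/
theorem Data.unique [Finite Γ] {C : Cert d} {L : List ℕ} {B : List (ℕ × ℕ)} (D : Data G C ent L B)
    {ε : ℕ} (hε : C.ex = [ε])
    (P : PCtx π crd ent) (hπ : Function.Surjective π) (hsurj : ∀ v, ∃ x ∈ π.ker, crd x = v)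
    (hf : ∀ x ∈ π.ker, crd x = 0 → x = 1) (hns : ∀ H : Subgroup Γ, H ⊓ π.ker = ⊥ → H ⊔ π.ker ≠ ⊤)
    {Γ' : Type*} [Group Γ'] [Finite Γ'] {π' : Γ' →* G} {crd' : Γ' → Fin d → ZMod 2}
    (P' : PCtx π' crd' ent) (hπ' : Function.Surjective π')
    (hsurj' : ∀ v, ∃ x ∈ π'.ker, crd' x = v) (hf' : ∀ x ∈ π'.ker, crd' x = 0 → x = 1)
    (hns' : ∀ H : Subgroup Γ', H ⊓ π'.ker = ⊥ → H ⊔ π'.ker ≠ ⊤) : Nonempty (Γ ≃* Γ') := by
  obtain ⟨a, ha⟩ := exists_lifts hπ D.mem
  have : ∀ i, ∃ y, π' y = π (a i) := fun i => hπ' _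
  choose a' ha' using this
  have ha2 : ∀ i < L.length, R (π' (a' i)) (lget L i) := fun i hi => by rw [ha']; exact ha i hi
  have e1 : dot d C.K (fun k => crd (tail a C.rules k)) ε ≠ 0 := fun h => by
    obtain ⟨H, h1, h2⟩ := D.split P hπ hsurj ha (by rw [hε]; simpa using h)
    exact hns H (compl_of hf h1 h2).1 (compl_of hf h1 h2).2
  have e2 : dot d C.K (fun k => crd' (tail a' C.rules k)) ε ≠ 0 := fun h => by
    obtain ⟨H, h1, h2⟩ := D.split P' hπ' hsurj' ha2 (by rw [hε]; simpa using h)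
    exact hns' H (compl_of hf' h1 h2).1 (compl_of hf' h1 h2).2
  set Δ := (π.comp (MonoidHom.fst Γ Γ')).eqLocus (π'.comp (MonoidHom.snd Γ Γ')) with hΔ
  set p : Δ →* Γ := (MonoidHom.fst Γ Γ').comp Δ.subtype with hp
  set p' : Δ →* Γ' := (MonoidHom.snd Γ Γ').comp Δ.subtype with hp'
  have hpp : ∀ x, π' (p' x) = π (p x) := fun x => x.2.symm
  have k1 : ∀ x ∈ (π.comp p).ker, p x ∈ π.ker := fun x hx => hx
  have k2 : ∀ x ∈ (π.comp p).ker, p' x ∈ π'.ker := fun x hx => (hpp x).trans hx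
  have Q : PCtx (π.comp p) (fun x => crd (p x) + crd' (p' x)) ent :=
    ⟨fun x hx y hy => by
      rw [map_mul, map_mul, P.add _ (k1 x hx) _ (k1 y hy), P'.add _ (k2 x hx) _ (k2 y hy)]
      abel,
    fun g T hT x hx r => by
      rw [map_mul, map_mul, map_mul, map_mul, map_inv, map_inv, Pi.add_apply,
        P.act _ T hT _ (k1 x hx), P'.act _ T (by rw [hpp]; exact hT) _ (k2 x hx), ← sum_add_distrib]
      exact sum_congr rfl fun c _ => (mul_add _ _ _).symm⟩
  have one' : crd' 1 = 0 := by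
    have := P'.add 1 π'.ker.one_mem 1 π'.ker.one_mem
    rwa [mul_one, add_self_vec] at this
  have mk : ∀ x ∈ π.ker, ∀ y ∈ π'.ker, ∃ z ∈ (π.comp p).ker, p z = x ∧ p' z = y :=
    fun x hx y hy => ⟨⟨(x, y), (show π x = 1 from hx).trans (show π' y = 1 from hy).symm⟩, hx,
      rfl, rfl⟩
  obtain ⟨H, h1, h2⟩ := D.split Q
    (fun g => by
      obtain ⟨x, rfl⟩ := hπ g
      obtain ⟨y, hy⟩ := hπ' (π x)
      exact ⟨⟨(x, y), hy.symm⟩, rfl⟩)
    (fun v => by
      obtain ⟨x, hx, rfl⟩ := hsurj v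
      obtain ⟨z, hz, z1, z2⟩ := mk x hx 1 π'.ker.one_mem
      exact ⟨z, hz, by rw [z1, z2, one', add_zero]⟩)
    (a := fun i => ⟨(a i, a' i), (ha' i).symm⟩) ha
    (by
      rw [hε]
      intro e he
      rw [List.mem_singleton.1 he]
      simp only [tail, map_mul, map_inv, map_wv]
      refine (dot_add _ _).trans ?_
      have e3 := zmod2_ne_zero_iff.1 e1
      have e4 := zmod2_ne_zero_iff.1 e2
      exact (congrArg₂ (· + ·) e3 e4).trans (by decide))
  have one0 : crd 1 = 0 := by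
    have := P.add 1 π.ker.one_mem 1 π.ker.one_mem
    rwa [mul_one, add_self_vec] at this
  obtain ⟨f⟩ := equiv_of_proj (π := π) p (fun _ => rfl)
    (fun x hx e => by
      have hk : x ∈ (π.comp p).ker := by show π (p x) = 1; rw [e, map_one]
      have := (h1 x hk).1 hx
      rw [e, one0, zero_add] at this
      exact Subtype.ext (Prod.ext e (hf' _ (k2 x hk) this)))
    (fun n hn => by
      obtain ⟨y, hy, e⟩ := hsurj' (crd n)
      obtain ⟨z, hz, z1, z2⟩ := mk n hn y hy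
      exact ⟨z, (h1 z hz).2 (by rw [z1, z2, e, add_self_vec]), z1⟩) h2
  obtain ⟨f'⟩ := equiv_of_proj (π := π') p' hpp
    (fun x hx e => by
      have hk : x ∈ (π.comp p).ker := by show π (p x) = 1; rw [← hpp, e, map_one]
      have := (h1 x hk).1 hx
      rw [e, one', add_zero] at this
      exact Subtype.ext (Prod.ext (hf _ (k1 x hk) this) e))
    (fun n hn => by
      obtain ⟨y, hy, e⟩ := hsurj (crd' n)
      obtain ⟨z, hz, z1, z2⟩ := mk y hy n hn
      exact ⟨z, (h1 z hz).2 (by rw [z1, z2, e, add_self_vec]), z2⟩) h2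
  exact ⟨f.symm.trans f'⟩

end

/-! ### Words as masks; the code words vanishing at the extra point -/

/-- the word with mask `m`. -/
def wd (m : ℕ) : GolayPt → ZMod 2 := fun p => b2z (m.testBit (E.enc p))

theorem wd_xor (a b : ℕ) : wd (a ^^^ b) = wd a + wd b := by
  funext p; rw [Pi.add_apply, wd, wd, wd, Nat.testBit_xor, b2z_xor]

theorem wd_and (a b : ℕ) : wd (a &&& b) = wd a * wd b := by
  funext p; rw [Pi.mul_apply, wd, wd, wd, Nat.testBit_and, b2z_and]

theorem wd_zero : wd 0 = 0 := by funext p; simp [wd, b2z]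

theorem wd_dec (m : ℕ) {i : ℕ} (hi : i < 24) : wd m (E.dec i) = b2z (m.testBit i) := by
  rw [wd, E.enc_dec i hi]

theorem wd_bit_mul (a k r : ℕ) : wd (bit a k * r) = b2z (a.testBit k) • wd r := by
  funext p
  rw [wd, testBit_bit_mul, b2z_and]; rfl

theorem wd_xorLt (F : ℕ → ℕ) (n : ℕ) : wd (xorLt F n) = ∑ k ∈ range n, wd (F k) := by
  funext p
  rw [wd, b2z_xorLt, Finset.sum_apply]; rfl

theorem support_wd (m : ℕ) : support₂ (wd m) = E.setOf m := by
  ext p
  rw [mem_support₂, E.mem_setOf, wd]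
  cases m.testBit (E.enc p) <;> simp [b2z]

theorem exists_wd (w : GolayPt → ZMod 2) : ∃ m < 2 ^ 24, wd m = w :=
  ⟨_, E.maskOf_lt _, support₂_injective (by rw [support_wd, E.setOf_maskOf])⟩

theorem wd_img {g : Equiv.Perm GolayPt} {P : ℕ} (hg : R g P) (m : ℕ) :
    wd (img24 P m) = wd m ∘ ⇑g⁻¹ :=
  support₂_injective (by
    rw [support_wd, hg.setOf_img, ← support_wd, ← support₂_perm]; rfl)

theorem sum_wd (m : ℕ) : ∑ p, wd m p = (pc24 m : ZMod 2) := by
  have := dot_eq_card_inter (wd m) 1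
  simp only [Pi.one_apply, mul_one] at this
  rw [this, support₂_one, inter_univ, support_wd, CL.Golay.card_setOf]

theorem wd_mem {m : ℕ} (h : isCw m = true) : wd m ∈ golayCode :=
  mem_golayCode_iff.2 (support_wd m ▸ setOf_mem_of_isCw h)

theorem comp_inv_mem {g : Equiv.Perm GolayPt} (hg : g ∈ M24) {c : GolayPt → ZMod 2}
    (hc : c ∈ golayCode) : c ∘ ⇑g⁻¹ ∈ golayCode :=
  mem_golayCode_iff.2 (by
    have := (smul_mem_code hg).2 (mem_golayCode_iff.1 hc)
    rwa [← support₂_perm] at this)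

/-- the basis of the code words vanishing at the extra point. -/
def bC (i : ℕ) : ℕ :=
  fld 24 16777215 0x527c007b42003da1001ed0800f684055c8207898106e300837180449f00224f801 i

theorem bC_check : allLt (fun i => isCw (bC i) && Nat.beq (bit (bC i) 23) 0 &&
    Nat.beq (Nat.land (bC i) 2047) (Nat.shiftLeft 1 i)) 11 = true := by decide +kernel

theorem bC_mem {i : ℕ} (hi : i < 11) : wd (bC i) ∈ golayCode := by
  have := allLt_iff.1 bC_check i hi
  simp only [Bool.and_eq_true] at this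
  exact wd_mem this.1.1

theorem bC_none {i : ℕ} (hi : i < 11) : wd (bC i) none = 0 := by
  have := allLt_iff.1 bC_check i hi
  simp only [Bool.and_eq_true, Nat.beq_eq] at this
  show b2z ((bC i).testBit 23) = 0
  rw [bit_eq_zero_iff.1 this.1.2]; rfl

theorem bC_dec (i j : Fin 11) : wd (bC i) (E.dec j) = if j = i then 1 else 0 := by
  revert i j
  decide +kernel

theorem eq_zero_of_info {c : GolayPt → ZMod 2} (hc : c ∈ golayCode) (h0 : c none = 0)
    (h : ∀ j : Fin 11, c (E.dec j) = 0) : c = 0 := by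
  obtain ⟨k, hk, e⟩ := mem_code_iff.1 (mem_golayCode_iff.1 hc)
  have e' : wd (cw k) = c := support₂_injective (by rw [support_wd, e])
  have h1 : allLt2 (fun k => Nat.beq k 0 || Nat.ble 1 (Nat.land (cw k) 8390655)) 64 64 = true := by
    decide +kernel
  have h2 := allLt2_iff.1 h1 k hk
  rw [Bool.or_eq_true, Nat.beq_eq, Nat.ble_eq] at h2
  rcases h2 with rfl | h2
  · rw [← e', cw_zero, wd_zero]
  · exfalso
    have : cw k &&& 8390655 = 0 := Nat.eq_of_testBit_eq fun i => by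
      rw [Nat.testBit_and, Nat.zero_testBit]
      by_cases hi : i < 11
      · have := h ⟨i, hi⟩
        rw [← e', wd_dec _ (by show i < 24; omega)] at this
        rw [b2z_inj (b := false) this, Bool.false_and]
      · by_cases h23 : i = 23
        · rw [← e'] at h0
          rw [h23, b2z_inj (a := (cw k).testBit 23) (b := false) h0, Bool.false_and]
        · have : Nat.testBit 8390655 i = false := by
            by_cases h24 : i < 24
            · interval_cases i <;> first | rfl | exact absurd rfl h23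
            · exact Nat.testBit_lt_two_pow (lt_of_lt_of_le (by norm_num : 8390655 < 2 ^ 24)
                (Nat.pow_le_pow_right two_pos (by omega)))
          rw [this, Bool.and_false]
    exact absurd (this ▸ h2 : 1 ≤ 0) (by norm_num)

theorem comb_mem (v : Fin 11 → ZMod 2) : ∑ i : Fin 11, v i • wd (bC i) ∈ golayCode :=
  Submodule.sum_mem _ fun i _ => Submodule.smul_mem _ _ (bC_mem i.2)

theorem comb_none (v : Fin 11 → ZMod 2) : (∑ i : Fin 11, v i • wd (bC i)) none = 0 := by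
  rw [Finset.sum_apply]
  exact sum_eq_zero fun i _ => by rw [Pi.smul_apply, bC_none i.2, smul_zero]

theorem comb_dec (v : Fin 11 → ZMod 2) (j : Fin 11) :
    (∑ i : Fin 11, v i • wd (bC i)) (E.dec j) = v j := by
  rw [Finset.sum_apply]
  simp only [Pi.smul_apply, bC_dec, smul_eq_mul, mul_ite, mul_one, mul_zero, sum_ite_eq,
    mem_univ, if_true]

theorem expand {c : GolayPt → ZMod 2} (hc : c ∈ golayCode) (h0 : c none = 0) :
    c = ∑ i : Fin 11, c (E.dec i) • wd (bC i) := by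
  rw [← sub_eq_zero]
  refine eq_zero_of_info (golayCode.sub_mem hc (comb_mem _)) ?_ fun j => ?_
  · rw [Pi.sub_apply, h0, comb_none, sub_zero]
  · rw [Pi.sub_apply, comb_dec, sub_self]

/-- a word orthogonal to the basis lies in the code up to the unit vector at the extra point. -/
theorem mem_of_orth {w : GolayPt → ZMod 2} (h : ∀ j : Fin 11, ∑ p, wd (bC j) p * w p = 0) :
    w ∈ golayCode ∨ w + Pi.single none 1 ∈ golayCode := by
  obtain ⟨m, hm, rfl⟩ := exists_wd w
  have hs := syn_lt hm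
  have hc : wd m + wd (syn m <<< 12) ∈ golayCode := by
    rw [← wd_xor]
    exact wd_mem (syn_eq_zero_iff.1 (by rw [syn_xor, syn_shiftLeft, Nat.xor_self]))
  have h1 : allLt2 (fun s => Nat.beq s 0 || Nat.beq s 2048 ||
      Nat.ble 1 (sumLt (fun j => Nat.mod (pc24 (Nat.land (bC j) (Nat.shiftLeft s 12))) 2) 11)) 64 64
      = true := by decide +kernel
  have h2 := allLt2_iff.1 h1 _ hs
  simp only [Bool.or_eq_true, Nat.beq_eq, Nat.ble_eq] at h2
  rcases h2 with (h2 | h2) | h2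
  · rw [h2, Nat.zero_shiftLeft, wd_zero, add_zero] at hc
    exact Or.inl hc
  · have : wd (2048 <<< 12) = Pi.single none 1 := by decide +kernel
    rw [h2, this] at hc
    exact Or.inr hc
  · exfalso
    rw [sumLt_eq, sum_eq_zero fun j hj => ?_] at h2
    · exact absurd h2 (by norm_num)
    have e1 := dot_eq_zero (bC_mem (mem_range.1 hj)) hc
    simp only [Pi.add_apply, mul_add, sum_add_distrib, h ⟨j, mem_range.1 hj⟩, zero_add] at e1
    have e2 := sum_wd (bC j &&& syn m <<< 12)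
    rw [wd_and] at e2
    exact Nat.even_iff.1 (ZMod.natCast_eq_zero_iff_even.1 (e2.symm.trans e1))

/-- matrix entries for the code module. -/
def entC (P r c : ℕ) : Bool := Nat.testBit (img24 P (bC c)) r

/-- matrix entries for the cocode module. -/
def entD (P r c : ℕ) : Bool := Nat.testBit (img24 (inv24 P) (bC r)) c

theorem ok11 : OK 11 1298708349570020393652962442872833 2047 :=
  ⟨by norm_num, by norm_num, by decide +kernel⟩

theorem not_dvd_M23 : ¬ 2 ^ (7 + 1) ∣ Nat.card Spor.M23 := by rw [MathMdl.card_M23]; norm_num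

section
variable {Γ : Type*} [Group Γ] (N : Subgroup Γ) [hN : N.Normal] (φ : Γ ⧸ N ≃* Spor.M23)

/-- the projection onto `M23`. -/
def prj : Γ →* Spor.M23 := φ.toMonoidHom.comp (QuotientGroup.mk' N)

theorem ker_prj : (prj N φ).ker = N := by
  ext x
  rw [MonoidHom.mem_ker]
  exact (map_eq_one_iff _ φ.injective).trans (QuotientGroup.eq_one_iff x)

theorem prj_surj : Function.Surjective (prj N φ) :=
  φ.surjective.comp (QuotientGroup.mk'_surjective N)

theorem code_ctx (ψ : Additive ↥N →+ (GolayPt → ZMod 2)) (hinj : Function.Injective ψ)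
    (hrange : ∀ w : GolayPt → ZMod 2, w ∈ Set.range ψ ↔ (w ∈ golayCode ∧ w none = 0))
    (hψ : ∀ (g : Γ) (n : ↥N), ψ (Additive.ofMul ⟨g * n * g⁻¹, hN.conj_mem n n.2 g⟩)
        = ψ (Additive.ofMul n) ∘ ⇑(((φ (QuotientGroup.mk g) : Spor.M23) : Equiv.Perm GolayPt)⁻¹)) :
    ∃ crd : Γ → Fin 11 → ZMod 2, PCtx (prj N φ) crd entC ∧ (∀ v, ∃ x ∈ (prj N φ).ker, crd x = v) ∧
      ∀ x ∈ (prj N φ).ker, crd x = 0 → x = 1 := by
  classical
  have hk := ker_prj N φ
  let crd : Γ → Fin 11 → ZMod 2 := fun x j =>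
    if h : x ∈ N then ψ (Additive.ofMul ⟨x, h⟩) (E.dec j) else 0
  have hc : ∀ (x : N) j, crd x j = ψ (Additive.ofMul x) (E.dec j) := fun x j => dif_pos x.2
  refine ⟨crd, ⟨fun x hx y hy => funext fun j => ?_, fun g P hP x hx r => ?_⟩, fun v => ?_,
    fun x hx h => ?_⟩
  · rw [hk] at hx hy
    rw [Pi.add_apply, hc ⟨x, hx⟩, hc ⟨y, hy⟩, ← Pi.add_apply, ← map_add]
    exact hc (⟨x, hx⟩ * ⟨y, hy⟩) j
  · rw [hk] at hx
    obtain ⟨m1, m2⟩ := (hrange (ψ (Additive.ofMul ⟨x, hx⟩))).1 ⟨_, rfl⟩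
    rw [hc ⟨_, hN.conj_mem x hx g⟩, hψ g ⟨x, hx⟩, Function.comp_apply, expand m1 m2,
      Finset.sum_apply]
    refine sum_congr rfl fun c _ => ?_
    rw [hc ⟨x, hx⟩, Pi.smul_apply, smul_eq_mul, mul_comm, entC, ← wd_dec _ (by omega), wd_img hP]
    rfl
  · obtain ⟨n, hn⟩ := (hrange _).2 ⟨comb_mem v, comb_none v⟩
    refine ⟨n.toMul, by rw [hk]; exact n.toMul.2, funext fun j => ?_⟩
    rw [hc, ofMul_toMul, hn, comb_dec]
  · rw [hk] at hx
    obtain ⟨m1, m2⟩ := (hrange (ψ (Additive.ofMul ⟨x, hx⟩))).1 ⟨_, rfl⟩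
    have := eq_zero_of_info m1 m2 fun j => (hc ⟨x, hx⟩ j).symm.trans (congrFun h j)
    rw [← map_zero ψ] at this
    exact congrArg Subtype.val (hinj this)

theorem orth_comp {σ : Equiv.Perm GolayPt} (hσ : σ ∈ Spor.M23) {P : ℕ} (hP : R σ P)
    (w : GolayPt → ZMod 2) (r : Fin 11) :
    ∑ p, wd (bC r) p * (w ∘ ⇑σ⁻¹) p = ∑ c : Fin 11, b2z (entD P r c) * ∑ p, wd (bC c) p * w p := by
  have h1 : wd (img24 (inv24 P) (bC r)) = wd (bC r) ∘ ⇑σ := wd_img hP.inv _
  have m1 : wd (bC r) ∘ ⇑σ ∈ golayCode := comp_inv_mem (M24.inv_mem hσ.1) (bC_mem r.2)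
  have m2 : (wd (bC r) ∘ ⇑σ) none = 0 := by
    rw [Function.comp_apply, show σ none = none from hσ.2, bC_none r.2]
  rw [← Equiv.sum_comp σ]
  have : ∀ p, wd (bC r) (σ p) * (w ∘ ⇑σ⁻¹) (σ p) =
      ∑ c : Fin 11, b2z (entD P r c) * (wd (bC c) p * w p) := fun p => by
    have e := congrFun (expand m1 m2) p
    rw [Function.comp_apply] at e
    rw [e, Function.comp_apply, Equiv.Perm.coe_inv, Equiv.symm_apply_apply, Finset.sum_apply, sum_mul]
    refine sum_congr rfl fun c _ => ?_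
    rw [Pi.smul_apply, smul_eq_mul, mul_assoc, ← h1, wd_dec _ (by omega)]
    rfl
  simp only [this, mul_sum]
  exact sum_comm

theorem cocode_ctx (θ : (GolayPt → ZMod 2) →+ Additive ↥N) (hsurj : Function.Surjective θ)
    (hker : ∀ w : GolayPt → ZMod 2, θ w = 0 ↔ (w ∈ golayCode ∨ w + Pi.single none 1 ∈ golayCode))
    (hθ : ∀ (g : Γ) (w : GolayPt → ZMod 2),
      ((θ (w ∘ ⇑(((φ (QuotientGroup.mk g) : Spor.M23) : Equiv.Perm GolayPt)⁻¹))).toMul : Γ)
        = g * ((θ w).toMul : Γ) * g⁻¹) :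
    ∃ crd : Γ → Fin 11 → ZMod 2, PCtx (prj N φ) crd entD ∧ (∀ v, ∃ x ∈ (prj N φ).ker, crd x = v) ∧
      ∀ x ∈ (prj N φ).ker, crd x = 0 → x = 1 := by
  classical
  have hk := ker_prj N φ
  let crd : Γ → Fin 11 → ZMod 2 := fun x j =>
    if h : x ∈ N then ∑ p, wd (bC j) p * Function.surjInv hsurj (Additive.ofMul ⟨x, h⟩) p else 0
  have h0 : ∀ w, θ w = 0 → ∀ j : Fin 11, ∑ p, wd (bC j) p * w p = 0 := fun w hw j => by
    rcases (hker w).1 hw with h | h
    · exact dot_eq_zero (bC_mem j.2) h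
    · have := dot_eq_zero (bC_mem j.2) h
      simp only [Pi.add_apply, mul_add, sum_add_distrib, Pi.single_apply, mul_ite, mul_one,
        mul_zero, sum_ite_eq', mem_univ, if_true, bC_none j.2, add_zero] at this
      exact this
  have hc : ∀ w j, crd ((θ w).toMul : N) j = ∑ p, wd (bC j) p * w p := fun w j => by
    have e : crd ((θ w).toMul : N) j =
        ∑ p, wd (bC j) p * Function.surjInv hsurj (θ w) p := dif_pos (θ w).toMul.2
    have := h0 (Function.surjInv hsurj (θ w) - w)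
      (by rw [map_sub, Function.surjInv_eq hsurj, sub_self]) j
    simp only [Pi.sub_apply, mul_sub, sum_sub_distrib] at this
    rw [e, sub_eq_zero.1 this]
  have hx : ∀ x ∈ (prj N φ).ker, ∃ w, ((θ w).toMul : Γ) = x := fun x hx => by
    rw [hk] at hx
    obtain ⟨w, hw⟩ := hsurj (Additive.ofMul ⟨x, hx⟩)
    exact ⟨w, by rw [hw]; rfl⟩
  refine ⟨crd, ⟨fun x h1 y h2 => funext fun j => ?_, fun g P hP x h1 r => ?_⟩, fun v => ?_,
    fun x h1 h => ?_⟩
  · obtain ⟨v, rfl⟩ := hx x h1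
    obtain ⟨w, rfl⟩ := hx y h2
    rw [Pi.add_apply, hc, hc, ← sum_add_distrib, ← Subgroup.coe_mul, ← toMul_add, ← map_add, hc]
    exact sum_congr rfl fun p _ => mul_add _ _ _
  · obtain ⟨w, rfl⟩ := hx x h1
    rw [← hθ, hc]
    simp only [hc]
    exact orth_comp (prj N φ g).2 hP w r
  · refine ⟨(θ (∑ i : Fin 11, Pi.single (E.dec i) (v i))).toMul, by rw [hk]; exact Subtype.prop _,
      funext fun j => ?_⟩
    rw [hc]
    simp only [Finset.sum_apply, mul_sum]
    rw [sum_comm]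
    simp only [Pi.single_apply, mul_ite, mul_zero, sum_ite_eq', mem_univ, if_true, bC_dec,
      ite_mul, one_mul, zero_mul]
  · obtain ⟨w, rfl⟩ := hx x h1
    rw [(hker w).2 (mem_of_orth fun j => (hc w j).symm.trans (congrFun h j))]
    rfl

end

end CL.ModExt
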