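import Cfsg.Agent.KSG.PA1
import Cfsg.Agent.KSG.PA2
import Cfsg.Agent.CHEV.SubSt12

/-! A prime adjacent to all others in the prime graph: the finite groups of Lie type. -/

set_option autoImplicit false

namespace CL.PAdj

open CL.Chev CL.Chev.StData CL.GBal CL.HB CL.PQ Cfsg Subgroup

/-- the small primes -/
def Sm (p q l : ℕ) : Prop := l = p ∨ l = 2 ∨ (l : ℤ) ∣ (q : ℤ) ^ 2 - 1

/-- a group of Lie type over the field with `q` elements of characteristic `p`, of rank `k` and with fundamental group of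
exponent dividing `N` -/
structure KP (G : Type*) [Group G] (p q k N : ℕ) : Prop where
  dvd : ∀ l, l.Prime → Sm p q l → l ∣ Nat.card G
  ex : ∃ NR : ℕ → Prop, (∀ l m, l.Prime → m.Prime → m ≠ l → NR l → Sm p q m → El (m * l) G) ∧ (p ≠ 2 → 2 ≤ k → NR 2) ∧
    (∀ l, l.Prime → l ≠ p → (l : ℤ) ∣ (q : ℤ) ^ 2 - 1 → 3 ≤ k → NR l) ∧
      ∀ l, l.Prime → l ≠ 2 → l ≠ p → NC l G → NR l ∨ (l : ℤ) ∣ (q : ℤ) ^ 2 - 1 ∧ l ∣ N

variable {G : Type*} [Group G] {p q k N r s : ℕ}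

theorem sm_three (hp : p.Prime) (f : ℕ) : Sm p (p ^ f) 3 := by
  by_cases h : 3 = p
  · exact .inl h
  have h1 : ¬ 3 ∣ p ^ f := fun e => h ((Nat.prime_dvd_prime_iff_eq Nat.prime_three hp).1 (Nat.prime_three.dvd_of_dvd_pow e))
  generalize p ^ f = q at h1
  obtain ⟨k, rfl | rfl⟩ : ∃ k, q = 3 * k + 1 ∨ q = 3 * k + 2 := ⟨q / 3, by omega⟩
  exacts [.inr (.inr ⟨k * (3 * k + 2), by push_cast; ring⟩), .inr (.inr ⟨(k + 1) * (3 * k + 1), by push_cast; ring⟩)]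

theorem sm_six (hp : p.Prime) (f : ℕ) (hr : r.Prime) {k : ℕ} (h : r ∣ 6 ^ k) : Sm p (p ^ f) r := by
  rcases hr.dvd_mul.1 (show r ∣ 2 * 3 from hr.dvd_of_dvd_pow h) with h | h
  · exact .inr (.inl ((Nat.prime_dvd_prime_iff_eq hr Nat.prime_two).1 h))
  · exact (Nat.prime_dvd_prime_iff_eq hr Nat.prime_three).1 h ▸ sm_three hp f

namespace KP

variable (h : KP G p q k N) (hr : r.Prime) (hs : s.Prime) (hrs : r ≠ s)
include h hr hs hrs

theorem el (hk : 2 ≤ k) (h1 : Sm p q r) (h2 : NC s G) :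
    El (r * s) G ∨ k = 2 ∧ (s = p ∧ r ≠ 2 ∨ s ≠ p ∧ s ≠ 2 ∧ s ∣ N ∧ (r = 2 → p = 2)) := by
  obtain ⟨NR, h3, h4, h5, h6⟩ := h.ex
  by_cases e2 : r = 2 ∧ p ≠ 2 ∧ Sm p q s
  · exact .inl (h3 r s hr hs hrs.symm (e2.1 ▸ h4 e2.2.1 hk) e2.2.2).symm
  by_cases e1 : s = p
  · have e3 : r ≠ 2 := fun e => e2 ⟨e, e1 ▸ e ▸ hrs.symm, .inl e1⟩
    exact hk.eq_or_lt.symm.imp (fun e => (h3 r s hr hs hrs.symm (h5 r hr (e1 ▸ hrs)
      ((h1.resolve_left (e1 ▸ hrs)).resolve_left e3) e) (.inl e1)).symm) fun e => ⟨e.symm, .inl ⟨e1, e3⟩⟩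
  by_cases e3 : s = 2
  · exact .inl (h3 s r hs hr hrs (e3 ▸ h4 (e3 ▸ Ne.symm e1) hk) h1)
  obtain h7 | ⟨h7, h8⟩ := h6 s hs e3 e1 h2
  · exact .inl (h3 s r hs hr hrs h7 h1)
  exact hk.eq_or_lt.symm.imp (fun e => h3 s r hs hr hrs (h5 s hs e1 h7 e) h1) fun e =>
    ⟨e.symm, .inr ⟨e1, e3, h8, fun e => by_contra fun e' => e2 ⟨e, e', .inr (.inr h7)⟩⟩⟩

theorem el_three (hk : 3 ≤ k) (h1 : Sm p q r) (h2 : NC s G) : El (r * s) G :=
  (h.el hr hs hrs (by omega) h1 h2).resolve_right fun e => by omega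

end KP

theorem KP.el_two (h : KP G p q k 2) (hs : s.Prime) (h1 : 2 ≠ s) (h2 : NC s G) (h3 : s = p → 2 ≤ k) : El (2 * s) G := by
  obtain ⟨NR, h4, h5, -, h6⟩ := h.ex
  by_cases e : s = p
  · exact (h4 2 s Nat.prime_two hs h1.symm (h5 (e ▸ h1.symm) (h3 e)) (.inl e)).symm
  · exact h4 s 2 hs Nat.prime_two h1 ((h6 s hs h1.symm e h2).resolve_right fun h =>
      h1.symm ((Nat.prime_dvd_prime_iff_eq hs Nat.prime_two).1 h.2)) (.inr (.inl rfl))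

section model

variable {ι κ κ' : Type*} [Fintype κ] [DecidableEq κ] [Finite ι] [Nonempty κ] {R : RootSys ι κ} {F K Γ₀ Γ : Type*} [Field F]
  [Field K] [Group Γ₀] [Group Γ] {S₀ : StData R F Γ₀} {S : StData R K Γ} {T : S₀.Twist κ'} {j : G →* Γ₀}
  [IsAlgClosed K] [hp : Fact p.Prime] [CharP K p] (hN : ∀ f, R.Lin f → R.InQ fun r => N * f r)
include hN

theorem kp_pt [Finite G] {τ : MulAut Γ} {ν : Equiv.Perm ι} {e : ι → ℕ} {π : Equiv.Perm κ} (H : PT S τ ν e π) (hR : R.Irred)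
    (hP : PP R ν) (hq : ∀ a, e a = q) (hq' : 2 ≤ q) (hν : ν * ν ∈ R.W) {J : G →* Γ} (hJ : Function.Injective J)
    (hr : J.range = LL S τ) : KP G p q (Fintype.card κ) N := by
  have : Nonempty ι := ‹Nonempty κ›.map R.simple
  have h1 : ∀ l, Sm p q l → Ok R ν e p l := fun l h => h.imp_right (.imp_right fun h => ⟨hP, q, hq, h⟩)
  refine ⟨fun l hl h => ?_, fun l => ∃ x ∈ LL S τ, l ∣ orderOf x ∧ NRx S x, fun l m hl hm h2 ⟨x, h3, h4, h5⟩ h6 => ?_,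
    nr_two H hR hP hq hq', fun l hl h2 h3 => nr_odd H hR hl h2 ⟨hP, q, hq, h3⟩, fun l hl h2 h3 h4 => ?_⟩
  · obtain ⟨x, h2, h3⟩ := has_top H.se hl (h1 l h)
    obtain ⟨x, rfl⟩ := hr.ge (UU_le_LL H _ h2)
    exact (orderOf_injective J hJ x ▸ h3).trans (_root_.orderOf_dvd_natCard x)
  · obtain ⟨y, h7, h8⟩ := has_cent H.se (H.LL_le h3) h5 hm (h1 m h6)
    exact .of_has hJ ⟨y, ⟨h7.2, hr.ge (UU_le_LL H _ h7.1)⟩, h8⟩ ⟨x, ⟨mem_zpowers x, hr.ge h3⟩, h4⟩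
      (fun a ha _ ⟨k, hk⟩ => hk ▸ Commute.zpow_right (mem_centralizer_singleton_iff.1 ha) k) ((Nat.coprime_primes hm hl).2 h2)
  · obtain ⟨a, b, h5, h6, h7, h8⟩ := h4.exists_pair hl h2
    exact (nr_tor H.se hP hq hν hl h3 H.LL_le (hr.le ⟨a, rfl⟩) (hr.le ⟨b, rfl⟩) ((orderOf_injective J hJ a).trans h5)
      ((orderOf_injective J hJ b).trans h6) (h7.map J) fun ⟨k, hk⟩ => h8 ⟨k, hJ ((map_zpow J a k).trans hk)⟩).imp_right
        fun h => ⟨h.1, h.2 N hN⟩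

variable [Finite F] (h : T.IsLie j)
include h

theorem kp_lie {Fr γ : MulAut Γ} (A : AG S p Fr) {i : Γ₀ →* Γ} {f : F →+* K} (hx : ∀ a t, i (S₀.x a t) = S.x a (f t))
    (hi : Function.Injective i) {l m : ℕ} (hn : Nat.card F = p ^ (l * m)) (hγ : PA S p γ T.π fun _ => 0)
    (hk : ∀ b t, T.f b t = t ^ p ^ l) (hm : 0 < m) (hπ : T.π ^ m = 1) (hA : ∀ a b, R.A (T.π a) (T.π b) = R.A a b)
    (h2 : T.π * T.π = 1) : KP G p (p ^ l) (Fintype.card κ) N := by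
  have h1 : γ ^ m = 1 := (hγ.pow m).ext A.top (by simpa using A.pa 0) hπ (by simp)
  have hτ := hγ.mul (A.pa l)
  have e : (γ * Fr ^ l) ^ m = Fr ^ (l * m) := by rw [((A.comm hγ).pow_right l).mul_pow, h1, one_mul, pow_mul]
  have h0 : 0 < l * m := Nat.pos_of_ne_zero fun e => (Finite.one_lt_card (α := F)).ne' (by rw [hn, e, pow_zero])
  obtain ⟨ν, e₀, H, h3⟩ := A.pt hτ hm h0 e
  obtain ⟨h3, ⟨q, h4⟩, h5⟩ := h3 (fun _ _ => rfl) hA h2
  have := h.good.finite h.adj h.top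
  have := Finite.of_injective _ h.inj
  obtain rfl : q = p ^ l := by
    obtain ⟨c, -, h6⟩ := H.se.gm.x
    obtain ⟨b⟩ := ‹Nonempty κ›
    have h7 : ∀ t, c (R.simple b) * t ^ q = t ^ p ^ l := fun t =>
      A.good.x_injective _ ((h4 _ ▸ H.simp b ▸ (h6 _ t).symm).trans (hτ b t).1)
    simpa using congrArg Polynomial.natDegree (Polynomial.funext (p := .X ^ q) (q := .X ^ p ^ l)
      fun t : K => by simpa [show c (R.simple b) = 1 by simpa using h7 1] using h7 t)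
  exact kp_pt hN H h.irred h3 h4 (Nat.one_lt_pow (Nat.pos_of_mul_pos_right h0).ne' hp.out.one_lt) h5 (hi.comp h.inj)
    (range_eq h A hx hn hi hτ (fun b t => by rw [hk, map_pow]; rfl) e)

end model

section types

variable {ι κ κ' : Type*} [Fintype κ] [DecidableEq κ] [Finite ι] [Nonempty κ] {R : RootSys ι κ} {F Γ₀ Γ : Type*} [Field F]
  [Fintype F] [Group Γ₀] [Group Γ] {S₀ : StData R F Γ₀} {S : StData R (AlgebraicClosure F) Γ} [hp : Fact p.Prime] [CharP F p]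
  (hN : ∀ f, R.Lin f → R.InQ fun r => N * f r) {f : ℕ}
include hN

theorem kp_triv (h : S₀.trivTw.IsLie (MonoidHom.id Γ₀)) {Fr : MulAut Γ} (A : AG S p Fr) {i : Γ₀ →* Γ}
    (hx : ∀ a t, i (S₀.x a t) = S.x a (algebraMap F _ t)) (hi : Function.Injective i) (hF : Fintype.card F = p ^ f) :
    KP Γ₀ p (p ^ f) (Fintype.card κ) N :=
  kp_lie hN h A hx hi (m := 1) (γ := 1) (by rw [mul_one, Nat.card_eq_fintype_card, hF]) (A.pa 0)
    (fun _ t => hF ▸ (FiniteField.pow_card t).symm) one_pos rfl (fun _ _ => rfl) rfl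

variable (hR : R.NoG2) (A : ∃ Fr, AG S p Fr)
include hR A

theorem kp_triv' (h : S₀.trivTw.IsLie (MonoidHom.id Γ₀)) (hF : Fintype.card F = p ^ f) :
    KP Γ₀ p (p ^ f) (Fintype.card κ) N := by
  obtain ⟨Fr, A⟩ := A
  obtain ⟨i, hi, hx⟩ := exists_emb hR h.good h.adj h.top A.good A.adj (algebraMap F _)
  exact kp_triv hN h A hx hi hF

theorem kp_qs {T : S₀.Twist κ'} {j : G →* Γ₀} (h : T.IsLie j) {s : F →+* F} (hs : T.IsQS s)
    (hq : Fintype.card F = (p ^ f) ^ 2) (h1 : ∀ t, s t = t ^ p ^ f) (hI : ∃ I : R.Iso R, I.π = T.π)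
    (hA : ∀ a b, R.A (T.π a) (T.π b) = R.A a b) : KP G p (p ^ f) (Fintype.card κ) N := by
  obtain ⟨Fr, A⟩ := A
  obtain ⟨i, hi, hx⟩ := exists_emb hR h.good h.adj h.top A.good A.adj (algebraMap F _)
  obtain ⟨I, hI⟩ := hI
  obtain ⟨γ, hγ⟩ := exists_graph (r := p) hR A.good A.adj A.top I
  have h4 : T.π * T.π = 1 := Equiv.ext hs.ππ
  exact kp_lie hN h A hx hi (m := 2) ((Nat.card_eq_fintype_card.trans hq).trans (pow_mul ..).symm) (hI ▸ hγ)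
    (fun b t => by rw [hs.f_eq, h1]) two_pos ((sq _).trans h4) hA h4

end types

end CL.PAdj
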