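import Cfsg.Agent.KSG.PA3

/-! A prime adjacent to all others in the prime graph: outer automorphisms. -/

set_option autoImplicit false

namespace CL.PAdj

open CL.Chev CL.Chev.StData CL.GBal CL.HB CL.PQ Cfsg Subgroup

variable {G : Type*} [Group G] {p q k N r s f : ℕ}

theorem adj_of_fix (hZ : center G = ⊥) (hr : r.Prime) (hs : s.Prime) (hrs : r ≠ s) {y : G} (hy : s ∣ orderOf y) [Finite G]
    (h : ∀ a : Out G, ∃ β : MulAut G, a = β ∧ β y = y) : Adj r s G := fun Y hY h1 => by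
  have := Fact.mk hr
  obtain ⟨a, ha⟩ := exists_prime_orderOf_dvd_card' r h1.dvd
  obtain ⟨β, h2, h3⟩ := h a
  exact .of_fix hZ hY ((Nat.coprime_primes hr hs).2 hrs) h3 hy a.2 (by rw [orderOf_coe, ha]) (γ := 1) (k := 1) (by simpa)

namespace KP

variable [Finite G] [hp : Fact p.Prime] (h : KP G p (p ^ f) k N) (hZ : center G = ⊥) (hk : 3 ≤ k)
include h hZ hk

theorem goal_prod {B C : Type*} [Group B] [Group C] [IsCyclic C] (e : Out G ≃* B × C) (hB : Nat.card B ∣ 6 ^ 3) : Goal G :=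
  PAdj.goal_prod hZ e (R := Sm p (p ^ f)) (fun _ hr h => sm_six hp.out f hr (h.trans hB)) h.dvd
    fun _ _ hr hs hrs h1 h2 => adj_of_el hZ (h.el_three hr hs hrs hk h1 h2)

theorem goal_iso {A B : Type*} [AddCommGroup A] [AddGroup B] [IsAddCyclic B] (e : Out G ≃* Multiplicative A) (g : A →+ B)
    (hg : ∀ a, g a = 0 → 2 • a = 0) : Goal G := by
  have h3 : e.toMonoidHom.ker = ⊥ := (MonoidHom.ker_eq_bot_iff _).2 e.injective
  have h4 : ∀ r, r.Prime → r ∣ 2 * 1 → Sm p (p ^ f) r := fun r hr h => sm_six hp.out f hr (k := 1) (h.trans (by decide))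
  exact goal_add hZ e.toMonoidHom (by rw [h3]; infer_instance) g hg (d := 1) (by simp) (fun r hr h1 => h.dvd r hr (h4 r hr h1))
    (fun r _ hr _ h => absurd (Nat.dvd_one.1 h) hr.one_lt.ne')
    fun r _ hr hs hrs h1 h2 => adj_of_el hZ (h.el_three hr hs hrs hk (h4 r hr h1) h2)

theorem goal_ker {C : Type*} [Group C] [Finite C] [IsCyclic C] {ψ : Out G →* C} (hψ : Function.Surjective ψ) {m : ℕ}
    (hm : Nat.card (Out G) = m * Nat.card C) (h6 : m ∣ 6) (h5 : m ≤ 5 ∨ 5 ∣ Nat.card G) : Goal G := by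
  have h1 : Nat.card ψ.ker = m := Nat.eq_of_mul_eq_mul_right Nat.card_pos ((card_eq_of_hom hψ).symm.trans hm)
  have : IsCyclic (MonoidHom.id (Out G)).ker := by rw [MonoidHom.ker_id]; infer_instance
  refine goal_of hZ (MonoidHom.id _) ψ (R := Sm p (p ^ f)) (fun a ha h => sm_six hp.out f h (k := 1)
    ((ψ.ker.orderOf_dvd_natCard ha).trans (h1 ▸ h6))) h.dvd (fun r _ hr _ h => absurd (by simpa using h) hr.one_lt.ne')
    (fun a b ha hb h2 => commute_of_card_le (N := ψ.ker) ha hb ?_)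
    fun _ _ hr hs hrs h1 h2 => adj_of_el hZ (h.el_three hr hs hrs hk h1 h2)
  have h3 := five_le (q := 1) hb fun e => h2 (h.dvd _ hb (sm_six hp.out f hb (k := 1) e))
  have := Nat.le_of_dvd (by decide) h6
  have : orderOf b ≠ 6 := fun e => absurd (e ▸ hb) (by decide)
  have : orderOf b = 5 → m ≤ 5 := fun e => h5.resolve_right (e ▸ h2)
  omega

end KP

variable {ι κ κ' : Type*} [Fintype κ] [DecidableEq κ] [Finite ι] [Nonempty κ] {R : RootSys ι κ} {F : Type*} [Field F] [Finite F]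

omit [Nonempty κ] in
theorem exists_fld {Γ : Type*} [Group Γ] {S : StData R F Γ} {T : S.Twist κ'} {j : G →* Γ} (h : T.IsLie j) (hF : T.Full)
    (h1 : (AmbA h).index = 1) : ∃ ψ : Out G →* (F ≃+* F), Function.Surjective ψ := by
  choose φ hφ using fun θ => (mem_AmbA h).1 (index_eq_one.1 h1 ▸ mem_top θ)
  have h2 : ∀ {θ θ' φ φ'}, FP T j θ φ → FP T j θ' φ' → FP T j (θ * θ') (φ * φ') := fun ⟨g, α, _, h1, e⟩ ⟨g', _, _, h1', e'⟩ =>
    ⟨g * res h ⟨α, h1.mem⟩ g', _, _, h1.mul h1', fun y => by simp [e, e', j_res, mul_assoc]⟩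
  have h3 : ∀ {θ ψ}, FP T j θ ψ → φ θ = ψ := fun {θ ψ} h3 => mul_left_cancel (a := φ θ⁻¹)
    ((FP.eq_one h hF (inv_mul_cancel θ ▸ h2 (hφ _) (hφ _))).trans (FP.eq_one h hF (inv_mul_cancel θ ▸ h2 (hφ _) h3)).symm)
  refine ⟨QuotientGroup.lift _ (MonoidHom.mk' φ fun _ _ => h3 (h2 (hφ _) (hφ _))) ?_, fun ψ => ⟨h.fa ψ, ?_⟩⟩
  · rintro _ ⟨g, rfl⟩
    exact h3 ⟨g, 1, 1, T.ambP_one, by simp⟩
  · exact h3 ⟨1, _, _, h.ambP ψ, by simp [h.j_fa]⟩

variable {S : StData R F G} (h : S.trivTw.IsLie (MonoidHom.id G))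
include h

omit [Nonempty κ] in
theorem exists_std (a : Out G) : ∃ (θ : MulAut G) (π : _) (c : _) (φ : _), S.APin θ π c φ ∧ a = θ := by
  have := h.good.finite h.adj h.top
  have : Fact (ringChar F).Prime := ⟨CharP.char_is_prime F _⟩
  obtain ⟨⟨θ, π, c, φ, h1⟩, rfl⟩ := h.good.toOut_surjective h.top (h.good.not_dvd_card_H (p := ringChar F) h.adj) a
  exact ⟨θ, π, c, φ, h1, rfl⟩

theorem exists_fix (hl : ∀ r, R.Long r) (hκ : 2 ≤ Fintype.card κ) : ∃ θ, ∀ a : Out G, ∃ β : MulAut G, a = β ∧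
    β (S.x θ 1) = S.x θ 1 ∧ β (S.x (R.neg θ) (-1)) = S.x (R.neg θ) (-1) := by
  have : Nonempty ι := ‹Nonempty κ›.map R.simple
  obtain ⟨θ, h1, h2, h3⟩ := exists_highest h.irred
  obtain ⟨i, hi⟩ := exists_pair_one h1 h2 hκ
  rw [(hl _).pair_symm (hl _)] at hi
  refine ⟨θ, fun a => ?_⟩
  obtain ⟨β, π, c, φ, h4, rfl⟩ := exists_std h a
  have hA := R.A_eq_of_symm (fun i j => by simpa only [R.pair_simple_simple] using (hl (R.simple i)).pair_symm (hl (R.simple j))) (h4.bonds h.good)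
  obtain ⟨ρ, d, h5, h6⟩ := mon_of_apin h.good (h4.congr rfl (fun _ => rfl) fun j t =>
    DFunLike.congr_fun (h4.φ_const h.good h.irred hA j i) t) hA
  have h7 : ρ θ = θ := h3 _ (by rw [RootSys.ht, ← Equiv.sum_comp π]; simp only [h6]; rfl)
  have h8 := inv_ne_zero (h5.c_ne θ)
  refine ⟨MulAut.conj (S.h (R.simple i) (d θ)⁻¹) * β, ?_, ?_, ?_⟩
  · rw [QuotientGroup.mk_mul, (QuotientGroup.eq_one_iff (N := Inn G) (MulAut.conj _)).2 ⟨_, rfl⟩, one_mul]
  · simp [h5.x, h7, S.h_conj _ _ h8, hi, h5.c_ne]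
  · simp [h5.x, h5.lin.neg, h7, S.h_conj _ _ h8, R.pair_neg_right, hi, h5.c_ne, h5.c_neg']

variable [hp : Fact p.Prime] [CharP F p]

omit [Nonempty κ] [Finite ι] [Finite F] in
theorem dvd_x (a : ι) : p ∣ orderOf (S.x a 1) := dvd_orderOf_of_pow hp.out (x_pow a 1) fun e => by
  simpa using h.good.x_inj _ _ e

theorem adj_A2 (hl : ∀ r, R.Long r) (hκ : 2 ≤ Fintype.card κ) (hr : r.Prime) (hs : s.Prime) (hrs : r ≠ s)
    (h1 : s = p ∨ s = 3 ∧ p = 2) : Adj r s G := by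
  have := h.good.finite h.adj h.top
  obtain ⟨θ, h2⟩ := exists_fix h hl hκ
  rcases h1 with rfl | ⟨rfl, rfl⟩
  · exact adj_of_fix (center_eq_bot h) hr hs hrs (dvd_x h θ) fun a => (h2 a).imp fun _ h => ⟨h.1, h.2.1⟩
  refine adj_of_fix (center_eq_bot h) hr hs hrs (y := S.x θ 1 * S.x (R.neg θ) (-1⁻¹)) (dvd_orderOf_of_pow hs (k := 1) ?_
    fun e => ?_) fun a => (h2 a).imp fun _ h => ⟨h.1, by rw [inv_one, map_mul, h.2.1, h.2.2]⟩
  · rw [pow_one, cube_eq S θ one_ne_zero, S.n_one_mul_self, CharTwo.neg_eq, S.h_one, inv_one]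
  · exact R.neg_ne θ (h.good.eq_of_x_eq one_ne_zero ((eq_inv_of_mul_eq_one_left e).trans (S.x_neg _ _).symm)).symm

theorem goal_two {m : ℕ} (hm : Nat.card (Out G) = m * Nat.card (F ≃+* F)) (h2 : m ∣ 2) (h3 : 2 ∣ Nat.card G)
    (h5 : ∀ s, s.Prime → 2 ≠ s → s ≠ p → NC s G → El (2 * s) G) : Goal G := by
  have := h.good.finite h.adj h.top
  have hZ := center_eq_bot h
  have hF := h.full_of_f fun _ _ => rfl
  obtain ⟨i⟩ := ‹Nonempty κ›
  let Φ := ((QuotientGroup.mk' (Inn G)).comp h.fa).range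
  have h4 : Φ.index ∣ 2 := by
    have h1 := Φ.index_mul_card
    rw [hm, ← Nat.card_congr (MonoidHom.ofInjective (h.fa_out_injective hF)).toEquiv] at h1
    exact Nat.eq_of_mul_eq_mul_right Nat.card_pos h1 ▸ h2
  have hn : Φ.Normal := ((Nat.dvd_prime Nat.prime_two).1 h4).elim (fun e => index_eq_one.1 e ▸ inferInstance) normal_of_index_eq_two
  have : IsCyclic (Out G ⧸ Φ) := isCyclic_of_card_dvd_prime h4
  have : IsCyclic Φ := isCyclic_of_surjective _ (MonoidHom.rangeRestrict_surjective _)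
  have h6 : ∀ φ, S.APin (h.fa φ) 1 1 fun _ => φ := fun φ =>
    (show h.amb φ = h.fa φ from MulEquiv.ext fun y => (h.j_fa φ y).symm) ▸ (h.ambP φ).pin
  have h7 : IsMulCommutative (Out G) := (QuotientGroup.mk' Φ).isMulCommutative_of_isCyclic_of_ker_le_center (by
    rw [QuotientGroup.ker_mk']
    refine fun b hb => mem_center_iff.2 fun a => ?_
    obtain ⟨ψ, h7⟩ := mul_mem (hn.conj_mem b hb a) (inv_mem hb)
    obtain ⟨φ, rfl⟩ := hb
    obtain ⟨θ, π, c, φ', h8, rfl⟩ := exists_std h a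
    obtain ⟨g, hg⟩ := QuotientGroup.eq.1 h7
    have h9 := hg ▸ (h6 ψ).inv.mul (((h8.mul (h6 φ)).mul h8.inv).mul (h6 φ).inv)
    obtain ⟨c', h10⟩ := S.exists_apin_of_mem_H (h9.mem_H h.good h.top)
    obtain rfl : ψ = 1 := RingEquiv.ext fun t => by
      have := DFunLike.congr_fun (congrFun (h9.unique h.good h10).2.2 i) t
      simp only [RingEquiv.trans_apply, inv_one, Equiv.Perm.one_apply, RingEquiv.refl_apply, RingEquiv.symm_apply_eq] at this
      rw [← this, show ∀ t, φ' _ (φ t) = φ (φ' _ t) from fun t => ringAut_comm_hom (φ' _) φ t]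
      simp
    rw [map_one, eq_comm, mul_inv_eq_one, mul_inv_eq_iff_eq_mul] at h7
    exact h7)
  have : IsCyclic (MonoidHom.id (Out G)).ker := by rw [MonoidHom.ker_id]; infer_instance
  refine goal_of hZ (MonoidHom.id _) (MonoidHom.mk' (fun a => (⟨a ^ 2, orderOf_dvd_iff_pow_eq_one.1
    ((_root_.orderOf_dvd_natCard (QuotientGroup.mk' Φ a)).trans h4) |> (QuotientGroup.eq_one_iff _).1⟩ : Φ))
      fun a b => Subtype.ext (Commute.mul_pow (mul_comm' a b) 2)) (R := (· = 2)) (fun a ha h => (Nat.prime_dvd_prime_iff_eq h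
        Nat.prime_two).1 (orderOf_dvd_of_pow_eq_one (congrArg Subtype.val ha))) (fun _ _ e => e ▸ h3)
    (fun r _ hr _ h => absurd (by simpa using h) hr.one_lt.ne') (fun a b _ _ _ => mul_comm' a b) ?_
  rintro _ s - hs hrs rfl h8
  by_cases e : s = p
  swap
  · exact adj_of_el hZ (h5 s hs hrs e h8)
  intro Y hY h9
  obtain ⟨⟨a, ha⟩, h10⟩ := exists_prime_orderOf_dvd_card' 2 (h9.ker ((QuotientGroup.mk' Φ).comp (OO Y).subtype))
  obtain ⟨φ, hφ⟩ := (QuotientGroup.eq_one_iff _).1 ha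
  exact .of_fix hZ hY ((Nat.coprime_primes Nat.prime_two hs).2 hrs) (by simpa using (h6 φ).pos i 1) (e ▸ dvd_x h _) a.2
    (by rw [orderOf_coe, ← h10, ← orderOf_coe]) (γ := 1) (k := 1) (by simpa using hφ.symm)

end CL.PAdj
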