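import Cfsg.Agent.KSG.PA4
import Cfsg.Agent.S2600

/-! A prime adjacent to all others in the prime graph: the families. -/

set_option autoImplicit false
set_option backward.isDefEq.respectTransparency false

namespace CL.PAdj

open CL.Chev CL.Chev.StData CL.Chev.Cl CL.GBal CL.HB CL.PQ CL.KOut Cfsg Cfsg.Lie Cfsg.Agent Subgroup

theorem inQ0 {ι κ : Type*} [Fintype κ] [DecidableEq κ] {R : RootSys ι κ} (f : ι → ℤ) (_ : R.Lin f) :
    R.InQ fun r => (0 : ℕ) * f r := inQ_congr RootSys.inQ_zero (by simp)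

theorem fermat {s p f : ℕ} (hs : s.Prime) (hp : p.Prime) (h : s ≠ p) : s ∣ (p ^ f) ^ (s - 1) - 1 :=
  (Nat.modEq_iff_dvd' (Nat.one_le_pow _ _ (pow_pos hp.pos _))).1 (Nat.totient_prime hs ▸
    Nat.ModEq.pow_totient (((Nat.coprime_primes hp hs).2 h.symm).pow_left f)).symm

theorem sm_of_dvd {p q r : ℕ} (hq : 0 < q) (h : r ∣ q - 1 ∨ r ∣ q + 1) : Sm p q r := by
  refine .inr (.inr ?_)
  rw [show (q : ℤ) ^ 2 - 1 = (q - 1 : ℕ) * (q + 1 : ℕ) by zify [hq]; ring]
  exact h.elim (fun h => (Int.natCast_dvd_natCast.2 h).mul_right _) fun h => (Int.natCast_dvd_natCast.2 h).mul_left _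

theorem KP.dvd_of {G : Type*} [Group G] {p q k N n a s r P : ℕ} (h : KP G p q k N) (hq : 0 < q) (ha : a = q - 1 ∨ a = q + 1)
    (hc : n.gcd a * (a * Nat.card G) = P) (hs : s.Prime) (hr : r.Prime) (hn : 0 < n) (h1 : r ∣ n.gcd a) (h2 : s ∣ r - 1)
    (h3 : s ≠ p → s ≠ 2 → s < n → s ∣ P) : s ∣ Nat.card G := by
  by_cases h4 : Sm p q s
  · exact h.dvd s hs h4
  have h5 : ¬ s ∣ a := fun e => h4 (sm_of_dvd hq (by rcases ha with rfl | rfl; exacts [.inl e, .inr e]))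
  have := Nat.le_of_dvd hn (h1.trans (Nat.gcd_dvd_left _ _))
  have := Nat.le_of_dvd (Nat.sub_pos_of_lt hr.one_lt) h2
  have := hr.one_lt
  exact (hs.dvd_mul.1 ((hs.dvd_mul.1 (hc ▸ h3 (fun e => h4 (.inl e)) (fun e => h4 (.inr (.inl e))) (by omega))).resolve_left
    fun e => h5 (e.trans (Nat.gcd_dvd_right _ _)))).resolve_left h5

theorem two_zero {f : ℕ} (a : ZMod 2 × ZMod f) (ha : AddMonoidHom.snd _ _ a = 0) : 2 • a = 0 :=
  Prod.ext (CharTwo.two_nsmul _) ((congrArg (2 • ·) ha).trans (nsmul_zero 2))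

variable {p : ℕ} [hp : Fact p.Prime] {F : Type*} [Field F] [Fintype F] [CharP F p]
include p

theorem goal_L2 (h4 : 4 ≤ Fintype.card F) : Goal (Matrix.ProjectiveSpecialLinearGroup (Fin 2) F) := by
  obtain ⟨f, hf, hF, h⟩ := exists_f p F
  obtain ⟨φ, h0, -, h2⟩ := S2602.result hf hF (hF ▸ h4)
  have kp := kp_triv' (inQ_of_mat (N := 2) (fun _ _ => 1) (by simp only [baseA_A]; decide)) (Base.noG2 _) (ag_A p F 1)
    (isLie_PSL F 1) hF
  exact goal_two (p := p) (isLie_PSL F 1) (by rw [card_eq_of_hom h0, h2, h, card_mult, Nat.card_zmod]) (Nat.gcd_dvd_left _ _)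
    (kp.dvd 2 Nat.prime_two (.inr (.inl rfl))) fun s hs h1 h2 h3 => kp.el_two hs h1 h3 fun e => (h2 e).elim

theorem goal_PSL (n : ℕ) : Goal (Matrix.ProjectiveSpecialLinearGroup (Fin (n + 2 + 1)) F) := by
  obtain ⟨f, hf, hF, h⟩ := exists_f p F
  obtain ⟨φ, h0, h1, h2⟩ := S2601.result hf hF (n := n + 2 + 1) (by omega)
  have hj := isLie_PSL F (n + 2)
  have hq := pow_pos hp.out.pos f
  obtain ⟨N, kp, hN⟩ : ∃ N, KP (Matrix.ProjectiveSpecialLinearGroup (Fin (n + 2 + 1)) F) p (p ^ f) (Fintype.card (Fin (n + 2))) N ∧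
      (n = 0 → N = 3) := by
    obtain rfl | hn := eq_or_ne n 0
    · exact ⟨3, kp_triv' (inQ_of_mat ![![2, 1], ![1, 2]] (by simp only [baseA_A]; decide)) (Base.noG2 _) (ag_A p F _) hj hF,
        fun _ => rfl⟩
    · exact ⟨0, kp_triv' inQ0 (Base.noG2 _) (ag_A p F _) hj hF, fun e => (hn e).elim⟩
  have h3 : ∀ r, r.Prime → r ∣ 2 * (n + 2 + 1).gcd (p ^ f - 1) → Sm p (p ^ f) r := fun r hr h => (hr.dvd_mul.1 h).elim
    (fun h => .inr (.inl ((Nat.prime_dvd_prime_iff_eq hr Nat.prime_two).1 h)))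
    fun h => sm_of_dvd hq (.inl (h.trans (Nat.gcd_dvd_right _ _)))
  refine goal_add (center_eq_bot hj) φ h1 (AddMonoidHom.fst _ _) (e := 2) (fun a ha => Prod.ext
    ((congrArg (2 • ·) ha).trans (nsmul_zero 2)) (CharTwo.two_nsmul _)) h2 (fun r hr h => kp.dvd r hr (h3 r hr h))
    (fun r s hr hs h4 h5 => kp.dvd_of hq (.inl rfl) (S0243.result hF _ (by omega)) hs hr (by omega) h4 h5 fun h6 _ h7 => ?_)
    fun r s hr hs hrs h4 h5 => ?_
  · have := hs.two_le
    refine Dvd.dvd.trans ?_ (Finset.dvd_prod_of_mem _ (Finset.mem_univ ⟨n + 2 + 1 - (s - 1), by omega⟩))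
    nth_rw 1 [show n + 2 + 1 = n + 2 + 1 - (s - 1) + (s - 1) by omega]
    rw [pow_add, ← Nat.mul_sub_one]
    exact (fermat hs hp.out h6).mul_left _
  obtain h6 | ⟨h6, h7⟩ := kp.el hr hs hrs (by simp) (h3 r hr h4) h5
  · exact adj_of_el (center_eq_bot hj) h6
  obtain rfl : n = 0 := by simpa using h6
  refine adj_A2 hj (long_A _) (by simp) hr hs hrs (h7.imp (·.1) fun ⟨_, _, h7, h8⟩ => ?_)
  obtain rfl := (Nat.prime_dvd_prime_iff_eq hs Nat.prime_three).1 (hN rfl ▸ h7)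
  exact ⟨rfl, h8 ((Nat.prime_dvd_prime_iff_eq hr Nat.prime_two).1 ((hr.dvd_mul.1 h4).resolve_right fun e =>
    hrs ((Nat.prime_dvd_prime_iff_eq hr hs).1 (e.trans (Nat.gcd_dvd_left _ _)))))⟩

theorem goal_PSp (n : ℕ) (h3 : n = 0 → 3 ≤ Fintype.card F) : Goal (PSp (n + 1 + 1) F) := by
  by_cases h4 : n = 0 ∧ p = 2
  · obtain ⟨rfl, rfl⟩ := h4
    obtain ⟨f, hf, hF, -⟩ := exists_f 2 F
    exact .of_isCyclic (S2600.result hf hF).1
  obtain ⟨f, hf, hF, h⟩ := exists_f p F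
  have h1 := isLie_PSp F (n + 1)
  have := h1.good.finite h1.adj h1.top
  have h2 := S0814.result p f hf hF (n + 1 + 1) (by omega) fun e => hF ▸ h3 (by omega)
  rw [card_aut (center_eq_bot h1), if_neg (by omega), one_mul, ← h] at h2
  have A := ag_C p F (n + 1) (QuotientGroup.mk'_surjective _) (QuotientGroup.ker_mk' _)
  have kp := kp_triv' inQ0 (Base.noG2 _) A h1 hF
  refine goal_two (p := p) h1 (Nat.eq_of_mul_eq_mul_right Nat.card_pos h2) (Nat.gcd_dvd_left _ _)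
    (kp.dvd 2 Nat.prime_two (.inr (.inl rfl))) fun s hs h5 h6 h7 => ?_
  obtain rfl | hn := eq_or_ne n 0
  · exact (kp_triv' (inQ_of_mat (N := 2) ![![2, 2], ![1, 2]] (by simp only [baseC_A]; decide)) (Base.noG2 _) A h1 hF).el_two
      hs h5 h7 fun e => (h6 e).elim
  · exact kp.el_three Nat.prime_two hs h5 (by simp; omega) (.inr (.inl rfl)) h7

theorem goal_PSU {q n : ℕ} (hF : Fintype.card F = q ^ 2) (h : ¬ (n = 0 ∧ q = 2)) : Goal (PSU (n + 2 + 1) F q) := by
  obtain ⟨f, rfl⟩ := exists_eq_pow (r := p) two_pos hF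
  have hf : 1 ≤ f := Nat.pos_of_ne_zero (by rintro rfl; exact (Fintype.one_lt_card (α := F)).ne' hF)
  obtain ⟨j, hj⟩ := isLie_PSU hF (n := n + 2) (by omega) (by omega)
  obtain ⟨φ, h0, h1, h2⟩ := S2603.result hf rfl hF (n := n + 2 + 1) (by omega) (by omega)
  have hA : ∀ a b : Fin (n + 2), (baseA (n + 2)).R.A a.rev b.rev = (baseA (n + 2)).R.A a b := fun a b => by
    rw [baseA_A, baseA_A, Fin.val_rev, Fin.val_rev, chainA, chainA]
    split_ifs <;> omega
  have := hj.good.finite hj.adj hj.top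
  have := Finite.of_injective _ hj.inj
  have hq := pow_pos hp.out.pos f
  have k := fun N hN => kp_qs (N := N) hN (Base.noG2 _) (ag_A p F (n + 2)) hj (psuTw_QS hF _) hF (Uni.sig_apply hF)
    (exists_iso (suTw (.id (ZMod 3)) _) (slSt_good _ _) (by decide) hA) hA
  have kp := k 0 inQ0
  have hc := S0280.result hF (n + 2 + 1) (by omega)
  have h3 : ∀ r, r ∣ 1 * (n + 2 + 1).gcd (p ^ f + 1) → Sm p (p ^ f) r := fun r h =>
    sm_of_dvd hq (.inr ((one_mul (Nat.gcd _ _) ▸ h).trans (Nat.gcd_dvd_right _ _)))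
  refine goal_add (center_eq_bot hj) φ h1 (AddMonoidHom.id _) (e := 1) (fun a ha => (one_nsmul a).trans ha) h2
    (fun r hr h => kp.dvd r hr (h3 r h))
    (fun r s hr hs h4 h5 => kp.dvd_of hq (.inr rfl) hc hs hr (by omega) h4 h5 fun h6 h7 h8 => ?_) fun r s hr hs hrs h4 h5 => ?_
  · have := hs.two_le
    refine (Dvd.dvd.trans ?_ (Finset.dvd_prod_of_mem _ (Finset.mem_range.2 (show s - 2 < _ by omega)))).mul_left _
    rw [if_neg (by have := hs.eq_two_or_odd; rw [Nat.even_iff]; omega), show s - 2 + 1 = s - 1 by omega]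
    exact fermat hs hp.out h6
  obtain rfl | hn := eq_or_ne n 0
  swap
  · exact adj_of_el (center_eq_bot hj) (kp.el_three hr hs hrs (by simp; omega) (h3 r h4) h5)
  rw [one_mul] at h4
  obtain rfl := (Nat.prime_dvd_prime_iff_eq hr Nat.prime_three).1 (h4.trans (Nat.gcd_dvd_left _ _))
  obtain h6 | ⟨-, ⟨rfl, -⟩ | ⟨-, -, h6, -⟩⟩ := (k 3 (inQ_of_mat ![![2, 1], ![1, 2]] (by simp only [baseA_A]; decide))).el hr hs
    hrs (by simp) (h3 _ (by rwa [one_mul])) h5
  · exact adj_of_el (center_eq_bot hj) h6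
  swap
  · exact (hrs ((Nat.prime_dvd_prime_iff_eq hs hr).1 h6).symm).elim
  refine adj_of_count (center_eq_bot hj) hr hrs fun Q => ?_
  obtain ⟨k, hk⟩ := Q.2.exists_card_eq
  have h7 := h4.trans (Nat.gcd_dvd_right _ _)
  have h8 : ∀ i, (s ^ k).Coprime ((s ^ f) ^ (i + 1) + 1) ∧ (s ^ k).Coprime ((s ^ f) ^ (i + 1) - 1) := fun i => by
    have h8 : s ∣ (s ^ f) ^ (i + 1) := (dvd_pow_self s (by omega)).trans (dvd_pow_self _ (by omega))
    have := pow_pos hq (i + 1)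
    exact ⟨(hs.coprime_iff_not_dvd.2 fun e => hs.one_lt.ne' (Nat.dvd_one.1 ((Nat.dvd_add_right h8).1 e))).pow_left k,
      (hs.coprime_iff_not_dvd.2 fun e => hs.one_lt.ne' (Nat.dvd_one.1 (by
        simpa [Nat.sub_sub_self this] using Nat.dvd_sub h8 e))).pow_left k⟩
  rw [← Q.1.card_mul_index, hk] at hc
  have h9 : s ^ k = (s ^ f) ^ 3 := by
    refine Nat.dvd_antisymm (Nat.Coprime.dvd_of_dvd_mul_right (Nat.Coprime.prod_right fun i _ => ?_) (hc ▸
      ((dvd_mul_right _ _).mul_left _).mul_left _)) ?_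
    · split_ifs; exacts [(h8 i).1, (h8 i).2]
    have h9 : ¬ s ∣ s ^ f + 1 := fun e => hs.one_lt.ne' (Nat.dvd_one.1 ((Nat.dvd_add_right (dvd_pow_self s (by omega))).1 e))
    have h10 : ∀ m, ¬ s ∣ m → ((s ^ f) ^ 3).Coprime m := fun m h => ((hs.coprime_iff_not_dvd.2 h).pow_left _).pow_left _
    exact (h10 _ Q.not_dvd_index).dvd_of_dvd_mul_right ((h10 _ h9).dvd_of_dvd_mul_left
      ((h10 _ fun e => h9 (e.trans (Nat.gcd_dvd_right _ _))).dvd_of_dvd_mul_left ((dvd_mul_right _ _).trans hc.symm.dvd)))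
  rw [hk, h9]
  obtain ⟨a, ha⟩ : ∃ a, s ^ f = 3 * a + 2 := ⟨s ^ f / 3, by omega⟩
  rw [ha, show (3 * a + 2) ^ 3 = 3 * (9 * a ^ 3 + 18 * a ^ 2 + 12 * a + 2) + 2 by ring]
  omega

theorem goal_odd {n : ℕ} (hn : 2 ≤ n) (h2 : Odd (Fintype.card F)) : Goal (POmega F (quadFormOdd (n + 1) F)) := by
  obtain ⟨f, hf, hF, h⟩ := exists_f p F
  have h3 : ∃ a : F, a ≠ 0 ∧ a ≠ 1 := ⟨-1, by simp, fun h => FGL.two_ne_zero_of_odd h2 (by linear_combination -h)⟩
  have hj := isLie_odd (n := n) (by omega) h3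
  have := hj.good.finite hj.adj hj.top
  obtain ⟨e⟩ := S2604.result hf hF (by rintro rfl; rw [hF, Nat.odd_pow_iff (by omega)] at h2; exact absurd h2 (by decide))
    (m := n + 1) (by omega)
  exact (kp_triv' inQ0 (Base.noG2 _) (ag_B p F (by omega) (let ⟨a, h0, h1⟩ := h3; ⟨algebraMap F _ a, by simpa, by simpa⟩))
    hj hF).goal_iso (center_eq_bot hj) (by simp; omega) e _ two_zero

theorem goal_plus {n : ℕ} (hn : 2 ≤ n) : Goal (POmega F (quadFormPlus (n + 2) F)) := by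
  obtain ⟨f, hf, hF, h⟩ := exists_f p F
  have hj := isLie_plus F (n := n) (by omega)
  have := hj.good.finite hj.adj hj.top
  have kp := kp_triv' inQ0 (Base.noG2 _) (ag_D p F (by omega)) hj hF
  have hZ := center_eq_bot hj
  have hk : 3 ≤ Fintype.card (Fin (n + 2)) := by simp; omega
  by_cases hs : p = 2
  · subst hs
    have := S2607.result hf hF (m := n + 2) (by omega)
    split_ifs at this <;> obtain ⟨e⟩ := this
    exacts [kp.goal_prod hZ hk e (by simp [Fintype.card_perm, Nat.factorial]), kp.goal_iso hZ hk e _ two_zero]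
  have := S2608.result hf hF hs (m := n + 2) (by omega)
  split_ifs at this <;> obtain ⟨e⟩ := this
  exacts [kp.goal_prod hZ hk e (by simp [Fintype.card_perm, Nat.factorial]),
    kp.goal_iso hZ hk e ((AddMonoidHom.snd _ _).comp (AddMonoidHom.snd _ _)) fun a ha =>
      Prod.ext (CharTwo.two_nsmul _) (two_zero _ ha), kp.goal_prod hZ hk e (by simp [DihedralGroup.card])]

theorem goal_minus {F : Type} [Field F] [Fintype F] [CharP F p] {n : ℕ} (hn : 2 ≤ n) {a b : F}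
    (hab : ∀ z₁ z₂ : F, z₁ ^ 2 + a * z₁ * z₂ + b * z₂ ^ 2 = 0 → z₁ = 0 ∧ z₂ = 0) :
    Goal (POmega F (quadFormMinus (n + 1) F a b)) := by
  obtain ⟨f, hf, hF, h⟩ := exists_f p F
  by_cases hs : p = 2
  · subst hs
    exact .of_isCyclic (S2605.result hf hF (m := n + 2) (by omega) a b hab).1
  have h6 : Nonempty (Out (POmega F (quadFormMinus (n + 1) F a b)) ≃* DihedralGroup 4 × Multiplicative (ZMod f)) ∨
      Nonempty (Out (POmega F (quadFormMinus (n + 1) F a b)) ≃* Multiplicative (ZMod 2 × ZMod (2 * f))) := by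
    have := S2606.result hf hF hs (m := n + 2) (by omega) a b hab
    split_ifs at this
    exacts [.inl this, .inr this]
  obtain ⟨K, _, _, e, hK, ω, hs'⟩ := exists_qSplit hab
  have := charP_of_injective_ringHom e.injective p
  have h1 : 1 ≤ n := by omega
  obtain ⟨j, hj⟩ := isLie_minus hs' hab h1 hn
  have hA : ∀ i j, (baseD n).R.A (dSwap n i) (dSwap n j) = (baseD n).R.A i j := fun i j => by
    rw [baseD_A, baseD_A, dSwap_val, dSwap_val, chainA, chainA]
    split_ifs <;> omega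
  obtain ⟨L, _, _, e', _, _, h5⟩ := exists_qSplit (F := ZMod 3) (a := 0) (b := 1) (by decide)
  have kp : KP (POmega F (quadFormMinus (n + 1) F a b)) p (p ^ f) (Fintype.card (Fin (n + 2))) 0 := kp_qs inQ0 (Base.noG2 _) (ag_D p K h1) hj (hs'.ptw_QS h1)
    (hK.trans (by rw [hF])) (fun t => (Uni.sig_apply hK t).trans (by rw [hF]))
    (exists_iso (h5.tw h1) (h5.st_good h1) (map_ofNat e' 2 ▸ (map_ne_zero e').2 (by decide)) hA) hA
  have := hj.good.finite hj.adj hj.top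
  have := Finite.of_injective _ hj.inj
  have hZ := center_eq_bot hj
  have hk : 3 ≤ Fintype.card (Fin (n + 2)) := by simp; omega
  obtain ⟨⟨e⟩⟩ | ⟨⟨e⟩⟩ := h6
  exacts [kp.goal_prod hZ hk e (by simp [DihedralGroup.card]), kp.goal_iso hZ hk e _ two_zero]

theorem kp_chev {D : ChevalleyDatum} [Good D] [Nonempty (Fin D.rank)] (h6 : Inv6 D) {N f : ℕ}
    (hN : ∀ f, (rootSys D).Lin f → (rootSys D).InQ fun r => N * f r) (hF : Fintype.card F = p ^ f) :
    KP (D.group F) p (p ^ f) (Fintype.card (Fin D.rank)) N :=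
  kp_triv hN (isLie_chev F D) (ag_chev (F := F) h6) (fieldHom_x (algebraMap F _)) (fieldHom_injective _) hF

theorem goal_chev {D : ChevalleyDatum} [Good D] (h6 : Inv6 D) (hk : 3 ≤ D.rank) {m : ℕ}
    (hm : Nat.card (Out (D.group F)) = m * Nat.card (F ≃+* F)) (h2 : m ∣ 2) : Goal (D.group F) := by
  obtain ⟨f, hf, hF, -⟩ := exists_f p F
  have : Nonempty (Fin D.rank) := ⟨⟨0, by omega⟩⟩
  have kp := kp_chev h6 inQ0 hF
  exact goal_two (p := p) (isLie_chev F D) hm h2 (kp.dvd 2 Nat.prime_two (.inr (.inl rfl)))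
    fun s hs h1 _ h3 => kp.el_three Nat.prime_two hs h1 (by simpa) (.inr (.inl rfl)) h3

theorem goal_G2 (h3 : 3 ≤ Fintype.card F) : Goal (chevG2.group F) := by
  obtain ⟨f, hf, hF, h⟩ := exists_f p F
  have : Nonempty (Fin chevG2.rank) := ⟨(0 : Fin 2)⟩
  have kp := kp_chev inv6_G2 (inQ_of_mat (N := 2) (![![4, 6], ![2, 4]] : Fin 2 → Fin 2 → ℤ) (by rw [rootSys_A_G2]; decide)) hF
  exact goal_two (p := p) (isLie_chev F _) (m := if p = 3 then 2 else 1)
    (by rw [S2121.result p f hF (hF ▸ h3), h]; split_ifs <;> simp) (by split_ifs <;> simp)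
    (kp.dvd 2 Nat.prime_two (.inr (.inl rfl))) fun s hs h1 h2 h3 => kp.el_two hs h1 h3 fun e => (h2 e).elim

theorem goal_F4 : Goal (chevF4.group F) := by
  obtain ⟨f, hf, hF, h⟩ := exists_f p F
  exact goal_chev (p := p) inv6_F4 (by decide) (h ▸ S2122.result p f hF) (Nat.gcd_dvd_left _ _)

theorem goal_E7 : Goal (chevE7.group F) := by
  obtain ⟨f, hf, hF, h⟩ := exists_f p F
  exact goal_chev (p := p) inv6_E7 (by decide) (by rw [S2124.result p f hF, h]) (Nat.gcd_dvd_left _ _)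

theorem goal_E8 : Goal (chevE8.group F) := by
  obtain ⟨f, hf, hF, h⟩ := exists_f p F
  exact goal_chev (p := p) inv6_E8 (by decide) (m := 1) (by rw [S2125.result p f hF, h, one_mul]) (by simp)

theorem goal_E6 : Goal (chevE6.group F) := by
  obtain ⟨f, hf, hF, h⟩ := exists_f p F
  have : Nonempty (Fin chevE6.rank) := ⟨(0 : Fin 6)⟩
  have := finite_group chevE6 F
  obtain ⟨ψ, hψ⟩ := (stG_good (D := chevE6) (F := F)).exists_fldHom stG_adjoint stG_top rootSys_irred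
    (fun i j => by simpa only [rootSys_A_eq_cartan] using cartan_symm_E6 i j) stG_hasFld
  refine (kp_chev inv6_E6 inQ0 hF).goal_ker (center_eq_bot (isLie_chev F _)) (by decide) hψ (m := 2 * Nat.gcd 3 (p ^ f - 1))
    (by rw [S2123.result p f hF, h]) (Nat.mul_dvd_mul_left 2 (Nat.gcd_dvd_left _ _)) (.inr ?_)
  refine (Nat.Coprime.coprime_dvd_right (Nat.gcd_dvd_left 3 (p ^ f - 1)) (by norm_num)).dvd_of_dvd_mul_left ?_
  rw [S1063.result hF]
  by_cases h5 : 5 = p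
  · subst h5
    exact ((((((dvd_pow (dvd_pow_self _ (by omega)) (by omega)).mul_right _).mul_right _).mul_right _).mul_right _).mul_right
      _).mul_right _
  · have := Nat.sub_dvd_pow_sub_pow ((p ^ f) ^ 4) 1 3
    rw [← pow_mul (p ^ f) 4 3, one_pow] at this
    exact ((fermat (f := f) Nat.prime_five hp.out h5).trans this).mul_left _

theorem goal_2E6 {q : ℕ} (hq : IsPrimePow q) (hF : Fintype.card F = q ^ 2) : Goal (twistedE6 F q) := by
  obtain ⟨T, h, hj⟩ := isLie_2E6 hq (Nat.card_eq_fintype_card.trans hF)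
  obtain ⟨l, rfl⟩ := exists_eq_pow (r := p) two_pos hF
  obtain ⟨γ, -, hγ⟩ := exists_graph_E6 (K := AlgebraicClosure F)
  have hπ : T.π = permE6 := Equiv.ext h.π
  have hF' := hj.full_of_ne (by rw [hπ]; decide)
  have : Nonempty (Fin chevE6.rank) := ⟨(0 : Fin 6)⟩
  have := finite_group chevE6 F
  have := Finite.of_injective _ hj.inj
  have hc := h.card_out hj.good hj.adj hj.top hj.hasDiag hj.hasFld hj.inj hj.isTw hj.gen
  obtain ⟨ψ, hψ⟩ := exists_fld hj hF' (Nat.dvd_one.1 (index_dvd' hj hF' (hc.trans (by rw [one_mul]))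
    ((h.card_H hj.good hj.isTw hj.adj).trans h.card_Tσ.symm).dvd))
  exact (kp_lie inQ0 hj (ag_chev inv6_E6) (fieldHom_x (algebraMap F _)) (fieldHom_injective _) (m := 2) (γ := γ)
    (h.card.trans (pow_mul ..).symm) (by simpa [hπ, PA] using! hγ) h.f two_pos (by rw [hπ]; decide) (by rw [hπ, h.A]; decide)
    (by rw [hπ]; decide)).goal_ker (center_eq_bot hj) (by decide) hψ hc ((Nat.gcd_dvd_left _ _).trans (by decide))
    (.inl ((Nat.gcd_le_left _ three_pos).trans (by decide)))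

omit hp [CharP F p]

omit p in
theorem goal_3D4 {q : ℕ} (hq : IsPrimePow q) (hF : Fintype.card F = q ^ 3) : Goal (twistedD4 F q) := by
  obtain ⟨T, h, hj⟩ := isLie_3D4 hq (Nat.card_eq_fintype_card.trans hF)
  exact .of_isCyclic (isCyclic_out hj (hj.full_of_ne fun e => absurd (e ▸ h.π (0 : Fin 4)) (by decide)) (card_out_3D4 hq hF))

omit p in
theorem goal_Sz {m : ℕ} (hm : 1 ≤ m) (hF : Fintype.card F = 2 ^ (2 * m + 1)) : Goal (Lie.Sz F (2 ^ (m + 1))) := by
  have := Sz.charP_two hF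
  obtain ⟨j, hj⟩ := isLie_Sz hm hF
  exact .of_isCyclic (isCyclic_out hj (hj.full_of_ne fun e =>
    absurd (e ▸ (szTw_isB2 (Nat.card_eq_fintype_card.trans hF)).π (0 : Fin 2)) (by decide)) (card_out_Sz hm hF))

omit p in
theorem goal_2F4 {m : ℕ} (hm : 1 ≤ m) (hF : Fintype.card F = 2 ^ (2 * m + 1)) : Goal (twistedF4 F (2 ^ m)) := by
  obtain ⟨T, θ, h, hj⟩ := isLie_2F4 (Nat.card_eq_fintype_card.trans hF)
  exact .of_isCyclic (isCyclic_out hj (hj.full_of_ne fun e => absurd (e ▸ h.π (0 : Fin 4)) (by decide)) (card_out_2F4 hm hF))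

omit p in
theorem goal_2G2 {m : ℕ} (hm : 1 ≤ m) (hF : Fintype.card F = 3 ^ (2 * m + 1)) : Goal (twistedG2 F (3 ^ m)) := by
  obtain ⟨T, θ, h, hj⟩ := isLie_2G2 (Nat.card_eq_fintype_card.trans hF)
  exact .of_isCyclic (isCyclic_out hj (hj.full_of_ne fun e => absurd (e ▸ h.π (0 : Fin 2)) (by decide)) (card_out_2G2 hm hF))

end CL.PAdj
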