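import Cfsg.Agent.KSG.PSL2Basic

/-!
# Character degrees of SL₂ and PSL₂ and their degree graphs
-/

set_option autoImplicit false
set_option linter.unusedSectionVars false
set_option linter.unusedSimpArgs false

namespace CL.GL2

open Matrix Finset Cfsg CL.Char
open scoped MatrixGroups

variable {F : Type*} [Field F] [Fintype F] [DecidableEq F]

theorem exists_mulChar_pow_ne {n : ℕ} (h : ¬ Fintype.card F - 1 ∣ n) :
    ∃ α : MulChar F ℂ, α ^ n ≠ 1 := by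
  obtain ⟨g, hg⟩ := IsCyclic.exists_ofOrder_eq_natCard (α := Fˣ)
  rw [Nat.card_eq_fintype_card, Fintype.card_units] at hg
  have h1 : ((g ^ n : Fˣ) : F) ≠ 1 := fun e => h (hg ▸ orderOf_dvd_of_pow_eq_one (Units.ext e))
  have : NeZero (Monoid.exponent Fˣ) := ⟨Monoid.exponent_ne_zero_of_finite⟩
  obtain ⟨α, hα⟩ := MulChar.exists_apply_ne_one_of_hasEnoughRootsOfUnity F ℂ h1
  refine ⟨α, fun e => hα ?_⟩
  rw [Units.val_pow_eq_pow_val, map_pow, ← MulChar.pow_apply_coe, e, MulChar.one_apply_coe]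

theorem exists_torChar_pow_ne (m : Matrix (Fin 2) (Fin 2) F) [hm : Fact (NoEig m)] {n : ℕ}
    (h : ¬ Fintype.card F + 1 ∣ n) : ∃ η : centSL m →* ℂˣ, η ^ n ≠ 1 := by
  have := isCyclic_centSL (m := m)
  obtain ⟨η, hη⟩ := exists_injective_hom_of_isCyclic (G := centSL m)
  refine ⟨η, fun e => h ?_⟩
  obtain ⟨g, hg⟩ := IsCyclic.exists_ofOrder_eq_natCard (α := centSL m)
  have : g ^ n = 1 := hη (by rw [map_pow, ← MonoidHom.pow_apply, e, map_one]; rfl)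
  rw [← card_centSL_noEig hm.out, ← hg]
  exact orderOf_dvd_of_pow_eq_one this

theorem card_mem_charDegrees_PSL : Fintype.card F ∈ charDegrees PSL(2, F) :=
  mem_charDegrees_PSL.2 ⟨stL F, isIrr_stL, by rw [← stL_neg 1, mul_one], stL_one⟩

theorem succ_mem_charDegrees_PSL (h : ¬ Fintype.card F - 1 ∣ 4) :
    Fintype.card F + 1 ∈ charDegrees PSL(2, F) := by
  obtain ⟨α, hα⟩ := exists_mulChar_pow_ne h
  refine mem_charDegrees_PSL.2 ⟨psL (α ^ 2), isIrr_psL_iff.2 (by rwa [← pow_mul]), ?_, by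
    rw [psL_one]; push_cast; rfl⟩
  have := psL_neg (α ^ 2) 1
  rwa [mul_one, MulChar.pow_apply' _ two_ne_zero, ← map_pow, neg_one_sq, map_one, one_mul] at this

theorem pred_mem_charDegrees_PSL (h : ¬ Fintype.card F + 1 ∣ 4) :
    Fintype.card F - 1 ∈ charDegrees PSL(2, F) := by
  obtain ⟨m, hm, -⟩ := exists_noEig_det_one (F := F)
  have := Fact.mk hm
  obtain ⟨η, hη⟩ := exists_torChar_pow_ne m h
  refine mem_charDegrees_PSL.2 ⟨dsL m (η ^ 2), isIrr_dsL (by rwa [← pow_mul]), ?_, by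
    rw [dsL_one, Nat.cast_sub Fintype.card_pos]; push_cast; rfl⟩
  have := dsL_neg (η ^ 2) 1
  rwa [mul_one, MonoidHom.pow_apply, ← map_pow, show (⟨-1, neg_one_mem_centSL m⟩ : centSL m) ^ 2 = 1 from
    Subtype.ext (neg_one_sq (R := SL(2, F))), map_one, Units.val_one, one_mul] at this

theorem charDegrees_PSL_subset : charDegrees PSL(2, F) ⊆ charDegrees SL(2, F) := fun _ hd => by
  obtain ⟨χ, h1, -, h2⟩ := mem_charDegrees_PSL.1 hd
  exact mem_charDegrees_SL.2 ⟨χ, h1, h2⟩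

theorem dvd_of_mem_charDegrees_SL {d : ℕ} (hd : d ∈ charDegrees SL(2, F)) :
    d ∣ Fintype.card F ∨ d ∣ Fintype.card F + 1 ∨ d ∣ Fintype.card F - 1 := by
  obtain ⟨χ, rfl⟩ := hd
  rcases charDegree_SL_cases χ.2 with h | h | h | h | ⟨-, h⟩ | ⟨-, h⟩
  · exact Or.inl (h ▸ one_dvd _)
  · exact Or.inl h.dvd
  · exact Or.inr (Or.inl h.dvd)
  · exact Or.inr (Or.inr (Dvd.intro 1 (by omega)))
  · exact Or.inr (Or.inl (Dvd.intro 2 (by omega)))
  · exact Or.inr (Or.inr (Dvd.intro 2 (by omega)))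

theorem degreeGraph_of_degrees {S : Type*} [Group S] {p n q : ℕ} (hp : p.Prime) (hq : q = p ^ n)
    (h1 : q ∈ charDegrees S) (h2 : q + 1 ∈ charDegrees S) (h3 : q - 1 ∈ charDegrees S)
    (h4 : ∀ d ∈ charDegrees S, d ∣ q ∨ d ∣ q + 1 ∨ d ∣ q - 1) :
    degreePrimes S = {r : ℕ | r.Prime ∧ r ∣ q * (q ^ 2 - 1)} ∧ ∀ r s : ℕ, (degreeGraph S).Adj r s ↔
      (r ≠ s ∧ r.Prime ∧ s.Prime ∧ ((r ∣ q + 1 ∧ s ∣ q + 1) ∨ (r ∣ q - 1 ∧ s ∣ q - 1))) := by
  have hq2 : q ^ 2 - 1 = (q + 1) * (q - 1) := by simpa using Nat.sq_sub_sq q 1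
  constructor
  · ext r
    refine and_congr_right fun hr => ?_
    rw [hq2, hr.dvd_mul, hr.dvd_mul]
    constructor
    · rintro ⟨d, hd, e⟩
      exact (h4 d hd).imp e.trans (Or.imp e.trans e.trans)
    · rintro (e | e | e)
      exacts [⟨_, h1, e⟩, ⟨_, h2, e⟩, ⟨_, h3, e⟩]
  · intro r s
    refine and_congr_right fun hrs => and_congr_right fun hr => and_congr_right fun hs => ?_
    have hc := (Nat.coprime_primes hr hs).2 hrs
    constructor
    · rintro ⟨d, hd, e⟩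
      have e1 := (dvd_mul_right r s).trans e
      have e2 := (dvd_mul_left s r).trans e
      rcases h4 d hd with h | h | h
      · rw [hq] at h
        exact absurd (((Nat.prime_dvd_prime_iff_eq hr hp).1 (hr.dvd_of_dvd_pow (e1.trans h))).trans
          ((Nat.prime_dvd_prime_iff_eq hs hp).1 (hs.dvd_of_dvd_pow (e2.trans h))).symm) hrs
      exacts [Or.inl ⟨e1.trans h, e2.trans h⟩, Or.inr ⟨e1.trans h, e2.trans h⟩]
    · rintro (⟨e1, e2⟩ | ⟨e1, e2⟩)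
      exacts [⟨_, h2, hc.mul_dvd_of_dvd_of_dvd e1 e2⟩, ⟨_, h3, hc.mul_dvd_of_dvd_of_dvd e1 e2⟩]

theorem degreeGraph_SL_PSL (h : ¬ Fintype.card F - 1 ∣ 4) (h' : ¬ Fintype.card F + 1 ∣ 4)
    {S : Type*} [Group S] (hS : Nonempty (S ≃* PSL(2, F)) ∨ Nonempty (S ≃* SL(2, F))) :
    degreePrimes S = {r : ℕ | r.Prime ∧ r ∣ Fintype.card F * (Fintype.card F ^ 2 - 1)} ∧
      ∀ r s : ℕ, (degreeGraph S).Adj r s ↔ (r ≠ s ∧ r.Prime ∧ s.Prime ∧
        ((r ∣ Fintype.card F + 1 ∧ s ∣ Fintype.card F + 1) ∨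
          (r ∣ Fintype.card F - 1 ∧ s ∣ Fintype.card F - 1))) := by
  obtain ⟨p, hp⟩ := CharP.exists F
  obtain ⟨n, hp', hn⟩ := FiniteField.card F p
  have h1 := card_mem_charDegrees_PSL (F := F)
  have h2 := succ_mem_charDegrees_PSL h
  have h3 := pred_mem_charDegrees_PSL h'
  rcases hS with ⟨⟨e⟩⟩ | ⟨⟨e⟩⟩ <;> refine degreeGraph_of_degrees hp' hn ?_ ?_ ?_ ?_ <;>
    rw [charDegrees_congr e]
  exacts [h1, h2, h3, fun d hd => dvd_of_mem_charDegrees_SL (charDegrees_PSL_subset hd),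
    charDegrees_PSL_subset h1, charDegrees_PSL_subset h2, charDegrees_PSL_subset h3,
    fun d hd => dvd_of_mem_charDegrees_SL hd]

end CL.GL2
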