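/-
The group of standard automorphisms of the code loop on the Golay code words vanishing at the
extra point: an extension of `M23` by the cocode module.
-/
import Mathlib
import Cfsg.Agent.KSG.ModExtM

set_option autoImplicit false
set_option maxHeartbeats 400000

namespace CL.ParkerExt

open Finset Cfsg CL.K CL.F2M CL.Golay CL.ModExt

/-- binary words -/
abbrev W : Type := GolayPt → ZMod 2

/-- code words vanishing at the extra point -/
def Ci : AddSubgroup W where
  carrier := {c | c ∈ golayCode ∧ c none = 0}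
  add_mem' ha hb := ⟨golayCode.add_mem ha.1 hb.1, by rw [Pi.add_apply, ha.2, hb.2, add_zero]⟩
  zero_mem' := ⟨golayCode.zero_mem, rfl⟩
  neg_mem' ha := ⟨golayCode.neg_mem ha.1, by rw [Pi.neg_apply, ha.2, neg_zero]⟩

theorem comp_mem (σ : Spor.M23) {c : W} (hc : c ∈ Ci) : c ∘ ⇑(σ : Equiv.Perm GolayPt) ∈ Ci :=
  ⟨comp_inv_mem (M24.inv_mem σ.2.1) hc.1, by
    rw [Function.comp_apply, show (σ : Equiv.Perm GolayPt) none = none from σ.2.2, hc.2]⟩

/-- the action on code words -/
def ac (σ : Spor.M23) (c : Ci) : Ci := ⟨c.1 ∘ ⇑(σ : Equiv.Perm GolayPt), comp_mem σ c.2⟩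

/-- basis -/
def bw (i : Fin 11) : Ci := ⟨wd (bC i), bC_mem i.2, bC_none i.2⟩

theorem eq_zero_of_basis {F : W → ZMod 2} (hF : ∀ c ∈ Ci, ∀ c' ∈ Ci, F (c + c') = F c + F c')
    (hb : ∀ i : Fin 11, F (wd (bC i)) = 0) : ∀ c ∈ Ci, F c = 0 := fun c hc => by
  have h0 : F 0 = 0 := by
    have := hF 0 Ci.zero_mem 0 Ci.zero_mem
    rwa [add_zero, CharTwo.add_self_eq_zero] at this
  rw [expand hc.1 hc.2]
  refine (Finset.sum_induction _ (fun c => c ∈ Ci ∧ F c = 0) (fun a b ha hb =>
    ⟨Ci.add_mem ha.1 hb.1, by rw [hF a ha.1 b hb.1, ha.2, hb.2, add_zero]⟩) ⟨Ci.zero_mem, h0⟩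
    fun i _ => ?_).2
  generalize c (E.dec i) = x
  have : x = 0 ∨ x = 1 := by revert x; decide
  rcases this with rfl | rfl
  · rw [zero_smul]; exact ⟨Ci.zero_mem, h0⟩
  · rw [one_smul]; exact ⟨(bw i).2, hb i⟩

/-- the semidirect product of the functions on `Ci` with `M23` -/
@[ext] structure WP : Type where
  s : Spor.M23
  q : Ci → ZMod 2

instance : Mul WP := ⟨fun x y => ⟨x.s * y.s, fun c => x.q c + y.q (ac x.s c)⟩⟩
instance : One WP := ⟨⟨1, 0⟩⟩
instance : Inv WP := ⟨fun x => ⟨x.s⁻¹, fun c => x.q (ac x.s⁻¹ c)⟩⟩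

theorem mul_s (x y : WP) : (x * y).s = x.s * y.s := rfl
theorem mul_q (x y : WP) (c : Ci) : (x * y).q c = x.q c + y.q (ac x.s c) := rfl
theorem ac_one (c : Ci) : ac 1 c = c := rfl
theorem ac_mul (σ τ : Spor.M23) (c : Ci) : ac (σ * τ) c = ac τ (ac σ c) := rfl

instance : Group WP := Group.ofLeftAxioms
  (fun _ _ _ => WP.ext (mul_assoc _ _ _) (funext fun _ => add_assoc _ _ _))
  (fun _ => WP.ext (one_mul _) (funext fun _ => zero_add _))
  (fun _ => WP.ext (inv_mul_cancel _) (funext fun _ => CharTwo.add_self_eq_zero _))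

instance : Finite WP :=
  Finite.of_injective (fun x : WP => (x.s, x.q)) fun _ _ h =>
    WP.ext (congrArg Prod.fst h) (congrArg Prod.snd h)

/-- the linear corrections -/
def al (k : ℕ) : ℕ := fld 11 2047 0x400008000000400400000000800000 k

/-- the quadratic map defining the factor set -/
def Gw (c : W) : W :=
  ∑ k ∈ range 11, c (E.dec k) • (wd (bC k) * ∑ i ∈ range k, c (E.dec i) • wd (bC i) + wd (al k))

/-- the factor set -/
irreducible_def th (c d : W) : ZMod 2 := ∑ p, Gw c p * d p

theorem e2_add (n : ℕ) (y z : ℕ → ZMod 2) :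
    ∑ k ∈ range n, (y k + z k) * ∑ i ∈ range k, (y i + z i) =
      ∑ k ∈ range n, y k * ∑ i ∈ range k, y i + ∑ k ∈ range n, z k * ∑ i ∈ range k, z i +
        (∑ k ∈ range n, y k) * (∑ k ∈ range n, z k) - ∑ k ∈ range n, y k * z k := by
  induction n with
  | zero => simp
  | succ n ih =>
    simp only [sum_range_succ]
    rw [ih, sum_add_distrib]
    ring

theorem Gw_add {c c' : W} (hc : c ∈ Ci) (hc' : c' ∈ Ci) :
    Gw (c + c') = Gw c + Gw c' + c * c' - ∑ k : Fin 11, (c (E.dec k) * c' (E.dec k)) • wd (bC k) := by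
  funext p
  have e : ∀ {c : W}, c ∈ Ci → c p = ∑ k ∈ range 11, c (E.dec k) * wd (bC k) p := fun {c} hc => by
    have := congrFun (expand hc.1 hc.2) p
    rw [Finset.sum_apply] at this
    rw [this, ← Fin.sum_univ_eq_sum_range (fun k => c (E.dec k) * wd (bC k) p)]
    rfl
  have := e2_add 11 (fun k => c (E.dec k) * wd (bC k) p) (fun k => c' (E.dec k) * wd (bC k) p)
  rw [← e hc, ← e hc'] at this
  have sq : ∀ x : ZMod 2, x * x = x := by decide
  have g : ∀ c : W, Gw c p = ∑ k ∈ range 11, c (E.dec k) * wd (bC k) p *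
      ∑ i ∈ range k, c (E.dec i) * wd (bC i) p + ∑ k ∈ range 11, c (E.dec k) * wd (al k) p :=
    fun c => by
      simp only [Gw, Finset.sum_apply, Pi.smul_apply, Pi.add_apply, Pi.mul_apply, smul_eq_mul,
        mul_add, sum_add_distrib, mul_assoc]
  have h2 : (∑ k : Fin 11, (c (E.dec k) * c' (E.dec k)) • wd (bC k)) p =
      ∑ k ∈ range 11, c (E.dec k) * wd (bC k) p * (c' (E.dec k) * wd (bC k) p) := by
    rw [Finset.sum_apply, ← Fin.sum_univ_eq_sum_range
      (fun k => c (E.dec k) * wd (bC k) p * (c' (E.dec k) * wd (bC k) p))]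
    refine sum_congr rfl fun k _ => ?_
    rw [Pi.smul_apply, smul_eq_mul, mul_mul_mul_comm, sq]
  rw [Pi.sub_apply, Pi.add_apply, Pi.add_apply, Pi.mul_apply, g, g, g, h2]
  simp only [Pi.add_apply, add_mul, sum_add_distrib] at this ⊢
  linear_combination this

theorem th_add_right (c d d' : W) : th c (d + d') = th c d + th c d' := by
  simp only [th_def, Pi.add_apply, mul_add, sum_add_distrib]

theorem th_add_left {c c' d : W} (hc : c ∈ Ci) (hc' : c' ∈ Ci) (hd : d ∈ Ci) :
    th (c + c') d = th c d + th c' d + ∑ p, c p * c' p * d p := by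
  have := dot_eq_zero (comb_mem fun k => c (E.dec k) * c' (E.dec k)) hd.1
  simp only [th_def, Gw_add hc hc', Pi.add_apply, Pi.sub_apply, Pi.mul_apply, add_mul, sub_mul,
    sum_add_distrib, sum_sub_distrib, this, sub_zero]

/-- the extension -/
def EE : Subgroup WP where
  carrier := {x | ∀ c d : Ci, x.q (c + d) = x.q c + x.q d + th c d + th (ac x.s c) (ac x.s d)}
  mul_mem' {x y} hx hy c d := by
    have h1 := hx c d
    have h2 := hy (ac x.s c) (ac x.s d)
    have h3 := CharTwo.add_self_eq_zero (th (ac x.s c) (ac x.s d))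
    rw [mul_q, mul_q, mul_q, mul_s, ac_mul, ac_mul, h1,
      show ac x.s (c + d) = ac x.s c + ac x.s d from rfl, h2]
    linear_combination h3
  one_mem' c d := by
    show (0 : ZMod 2) = 0 + 0 + th c d + th c d
    rw [add_assoc (0 + 0), CharTwo.add_self_eq_zero (th c d)]; rfl
  inv_mem' {x} hx c d := by
    have h1 := hx (ac x.s⁻¹ c) (ac x.s⁻¹ d)
    rw [← ac_mul, ← ac_mul, inv_mul_cancel, ac_one, ac_one] at h1
    show x.q (ac x.s⁻¹ c + ac x.s⁻¹ d) = x.q (ac x.s⁻¹ c) + x.q (ac x.s⁻¹ d) + th c d +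
      th (ac x.s⁻¹ c) (ac x.s⁻¹ d)
    rw [h1]; ring

/-- the projection -/
def pr : EE →* Spor.M23 where
  toFun x := x.1.s
  map_one' := rfl
  map_mul' _ _ := rfl

/-- the embedding of the cocode -/
def th0 (w : W) : EE := ⟨⟨1, fun c => ∑ p, c.1 p * w p⟩, fun c d => by
  show ∑ p, (c.1 p + d.1 p) * w p = ∑ p, c.1 p * w p + ∑ p, d.1 p * w p + th c d + th c d
  rw [add_assoc, CharTwo.add_self_eq_zero, add_zero, ← sum_add_distrib]
  exact sum_congr rfl fun p _ => add_mul _ _ _⟩

theorem th0_add (v w : W) : th0 (v + w) = th0 v * th0 w :=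
  Subtype.ext (WP.ext (mul_one _).symm (funext fun c => by
    show ∑ p, c.1 p * (v p + w p) = ∑ p, c.1 p * v p + ∑ p, c.1 p * w p
    simp only [mul_add, sum_add_distrib]))

theorem th0_conj (g : EE) (w : W) :
    th0 (w ∘ ⇑((pr g : Equiv.Perm GolayPt)⁻¹)) = g * th0 w * g⁻¹ := by
  rw [eq_mul_inv_iff_mul_eq]
  refine Subtype.ext (WP.ext ((one_mul _).trans (mul_one _).symm) (funext fun c => ?_))
  show ∑ p, c.1 p * w ((pr g : Equiv.Perm GolayPt)⁻¹ p) + g.1.q c =
    g.1.q c + ∑ p, c.1 ((pr g : Equiv.Perm GolayPt) p) * w p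
  rw [add_comm, ← Equiv.sum_comp (pr g : Equiv.Perm GolayPt)]
  simp only [Equiv.Perm.coe_inv, Equiv.symm_apply_apply]

theorem exists_th0 {x : EE} (hx : x ∈ pr.ker) : ∃ w, th0 w = x := by
  classical
  have hs : x.1.s = 1 := hx
  refine ⟨∑ i : Fin 11, Pi.single (E.dec i) (x.1.q (bw i)),
    Subtype.ext (WP.ext hs.symm (funext fun c => ?_))⟩
  let F : W → ZMod 2 := fun c => if h : c ∈ Ci then x.1.q ⟨c, h⟩ else 0
  have hF : ∀ c : Ci, F c = x.1.q c := fun c => dif_pos c.2
  have := eq_zero_of_basis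
    (F := fun c => ∑ p, c p * (∑ i : Fin 11, Pi.single (E.dec i) (x.1.q (bw i)) : W) p - F c)
    (fun c hc d hd => by
      have h1 := x.2 ⟨c, hc⟩ ⟨d, hd⟩
      rw [hs, ac_one, ac_one, add_assoc, CharTwo.add_self_eq_zero, add_zero, ← hF, ← hF, ← hF] at h1
      simp only [Pi.add_apply, add_mul, sum_add_distrib]
      rw [show F (c + d) = _ from h1]
      ring)
    (fun j => by
      rw [show F (wd (bC j)) = _ from hF (bw j), sub_eq_zero]
      simp only [Finset.sum_apply, mul_sum]
      rw [sum_comm]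
      simp only [Pi.single_apply, mul_ite, mul_zero, sum_ite_eq', mem_univ, if_true, bC_dec,
        ite_mul, one_mul, zero_mul]) c c.2
  rw [hF, sub_eq_zero] at this
  exact this

theorem th0_eq_one_iff (w : W) :
    th0 w = 1 ↔ (w ∈ golayCode ∨ w + Pi.single none 1 ∈ golayCode) := by
  constructor
  · intro h
    exact mem_of_orth fun j => congrFun (congrArg (fun x : EE => x.1.q) h) (bw j)
  · intro h
    refine Subtype.ext (WP.ext rfl (funext fun c => ?_))
    show ∑ p, c.1 p * w p = 0
    rcases h with h | h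
    · exact dot_eq_zero c.2.1 h
    · have := dot_eq_zero c.2.1 h
      simp only [Pi.add_apply, mul_add, sum_add_distrib, Pi.single_apply, mul_ite, mul_one,
        mul_zero, sum_ite_eq', mem_univ, if_true, c.2.2, add_zero] at this
      exact this

/-- coordinates -/
def crd (x : EE) (j : Fin 11) : ZMod 2 := x.1.q (bw j)

theorem pctx : PCtx pr crd entD where
  add x hx y _ := funext fun j => by
    show x.1.q (bw j) + y.1.q (ac x.1.s (bw j)) = _
    rw [show x.1.s = 1 from hx]; rfl
  act g P hP x hx r := by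
    obtain ⟨w, rfl⟩ := exists_th0 hx
    rw [← th0_conj]
    exact orth_comp (pr g).2 hP w r

/-! ### Explicit elements -/

/-- mask version of `Gw` -/
noncomputable def Gm (m : ℕ) : ℕ :=
  xorLt (fun k => Nat.mul (bit m k) (Nat.xor (Nat.land (bC k) (sel bC k m)) (al k))) 11

theorem wd_sel (f : ℕ → ℕ) {n : ℕ} (hn : n ≤ 24) (m : ℕ) :
    wd (sel f n m) = ∑ i ∈ range n, wd m (E.dec i) • wd (f i) := by
  rw [sel, wd_xorLt]
  exact sum_congr rfl fun i hi => by
    rw [wd_dec _ (by have := mem_range.1 hi; omega), ← wd_bit_mul]; rfl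

theorem wd_Gm (m : ℕ) : wd (Gm m) = Gw (wd m) := by
  rw [Gm, wd_xorLt]
  refine sum_congr rfl fun k hk => ?_
  have := mem_range.1 hk
  rw [wd_dec _ (by omega), ← wd_sel bC (by omega), ← wd_and, ← wd_xor, ← wd_bit_mul]; rfl

theorem dot_wd (a b : ℕ) : ∑ p, wd a p * wd b p = (pc24 (a &&& b) : ZMod 2) := by
  rw [← sum_wd, wd_and]; rfl

theorem th_wd (a b : ℕ) : th (wd a) (wd b) = (pc24 (Gm a &&& b) : ZMod 2) := by
  rw [th_def, ← wd_Gm, dot_wd]

/-- the linear map defining a quadratic form -/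
def Hw (γ : ℕ) (c : W) : W := ∑ k ∈ range 11, c (E.dec k) • wd (fld 11 2047 γ k)

theorem Hw_add (γ : ℕ) (c d : W) : Hw γ (c + d) = Hw γ c + Hw γ d := by
  simp only [Hw, Pi.add_apply, add_smul, sum_add_distrib]

theorem Hw_wd (γ m : ℕ) : Hw γ (wd m) = wd (sel (fld 11 2047 γ) 11 m) :=
  (wd_sel _ (by norm_num) m).symm

/-- the quadratic form with table `γ` -/
def qOf (γ : ℕ) (c : W) : ZMod 2 := ∑ p, Hw γ c p * c p

/-- its value on masks -/
noncomputable def qf (γ m : ℕ) : ℕ := pc24 (Nat.land (sel (fld 11 2047 γ) 11 m) m)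

theorem qOf_wd (γ m : ℕ) : qOf γ (wd m) = (qf γ m : ZMod 2) := by
  rw [qOf, Hw_wd, dot_wd]; rfl

/-- the membership test -/
noncomputable def memOK (P γ : ℕ) : Bool :=
  force (inv24 P) fun Q => allLt (fun i => force (Gm (bC i)) fun A => force (Gm (img24 Q (bC i))) fun B =>
    allLt (fun j => Nat.beq (Nat.mod (Nat.add (Nat.add (Nat.add
      (pc24 (Nat.land (sel (fld 11 2047 γ) 11 (bC i)) (bC j)))
      (pc24 (Nat.land (sel (fld 11 2047 γ) 11 (bC j)) (bC i))))
      (pc24 (Nat.land A (bC j)))) (pc24 (Nat.land B (img24 Q (bC j))))) 2) 0) 11) 11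

theorem mem_EE {σ : Spor.M23} {P γ : ℕ} (hP : R σ P) (h : memOK P γ = true) :
    (⟨σ, fun c => qOf γ c⟩ : WP) ∈ EE := by
  simp only [memOK, force_eq, allLt_iff, Nat.beq_eq] at h
  let f : W → W → ZMod 2 := fun c d => ∑ p, Hw γ c p * d p + ∑ p, Hw γ d p * c p + th c d +
    th (c ∘ ⇑(σ : Equiv.Perm GolayPt)) (d ∘ ⇑(σ : Equiv.Perm GolayPt))
  have f1 : ∀ c d d', f c (d + d') = f c d + f c d' := fun c d d' => by
    simp only [f, Hw_add, th_add_right, Pi.add_apply, mul_add, add_mul, sum_add_distrib,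
      show (d + d') ∘ ⇑(σ : Equiv.Perm GolayPt) = d ∘ ⇑(σ : Equiv.Perm GolayPt) +
        d' ∘ ⇑(σ : Equiv.Perm GolayPt) from rfl]
    ring
  have f2 : ∀ d ∈ Ci, ∀ c ∈ Ci, ∀ c' ∈ Ci, f (c + c') d = f c d + f c' d := fun d hd c hc c' hc' => by
    have t := Equiv.sum_comp (σ : Equiv.Perm GolayPt) fun p => c p * c' p * d p
    have t2 := CharTwo.add_self_eq_zero (∑ p, c p * c' p * d p)
    simp only [f, Hw_add, th_add_left hc hc' hd, Pi.add_apply, mul_add, add_mul, sum_add_distrib,
      show (c + c') ∘ ⇑(σ : Equiv.Perm GolayPt) = c ∘ ⇑(σ : Equiv.Perm GolayPt) +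
        c' ∘ ⇑(σ : Equiv.Perm GolayPt) from rfl,
      th_add_left (comp_mem σ hc) (comp_mem σ hc') (comp_mem σ hd), Function.comp_apply, t]
    linear_combination t2
  have f3 : ∀ i j : Fin 11, f (wd (bC i)) (wd (bC j)) = 0 := fun i j => by
    have e : ∀ m, wd m ∘ ⇑(σ : Equiv.Perm GolayPt) = wd (img24 (inv24 P) m) :=
      fun m => (wd_img hP.inv m).symm
    simp only [f, Hw_wd, dot_wd, th_wd, e]
    rw [← Nat.cast_add, ← Nat.cast_add, ← Nat.cast_add]
    exact ZMod.natCast_eq_zero_iff_even.2 (Nat.even_iff.2 (h i i.2 j j.2))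
  have f4 : ∀ c d : Ci, f c d = 0 := fun c d =>
    eq_zero_of_basis (F := fun c => f c d) (f2 d d.2) (fun i =>
      eq_zero_of_basis (F := f (wd (bC i))) (fun c _ c' _ => f1 _ c c') (f3 i) d d.2) c c.2
  intro c d
  have h1 := f4 c d
  have h2 := CharTwo.add_self_eq_zero (th c d)
  have h3 := CharTwo.add_self_eq_zero (th (ac σ c) (ac σ d))
  change _ + _ + _ + th (ac σ c) (ac σ d) = 0 at h1
  show qOf γ (c.1 + d.1) = qOf γ c + qOf γ d + th c d + th (ac σ c) (ac σ d)
  simp only [qOf, Hw_add, Pi.add_apply, mul_add, add_mul, sum_add_distrib]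
  linear_combination h1 - h2 - h3

/-- image of `c` under the first `n` letters -/
noncomputable def mk (L : List ℕ) (w c n : ℕ) : ℕ :=
  Nat.rec (motive := fun _ => ℕ) c
    (fun i m => force m fun m => img24 (inv24 (lget L (fld 6 63 w i))) m) n

/-- the function part of the first `n` letters at `c` -/
noncomputable def qk (L Γ : List ℕ) (w c n : ℕ) : ℕ :=
  sumLt (fun i => force (mk L w c i) fun m => qf (lget Γ (fld 6 63 w i)) m) n

theorem wv_q {a : ℕ → EE} {L Γ : List ℕ} {m : ℕ}
    (ha : ∀ i < m, R (pr (lt a i)) (lget L i) ∧ ∀ c, (lt a i).1.q c = qOf (lget Γ i) c)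
    {w n : ℕ} (h : ∀ t < n, fld 6 63 w t < m) (c : Ci) {x : ℕ} (hx : c.1 = wd x) :
    (ac (pr (wv a (w % 2 ^ (6 * n)))) c).1 = wd (mk L w x n) ∧
      (wv a (w % 2 ^ (6 * n))).1.q c = (qk L Γ w x n : ZMod 2) := by
  induction n with
  | zero =>
    rw [mul_zero, pow_zero, Nat.mod_one, wv_zero]
    exact ⟨hx, rfl⟩
  | succ n ih =>
    obtain ⟨h1, h2⟩ := ih fun t ht => h t (by omega)
    obtain ⟨r1, r2⟩ := ha _ (h n (by omega))
    rw [wv_prefix, map_mul, ac_mul]
    constructor
    · show (ac _ c).1 ∘ _ = wd (force _ _)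
      rw [h1, force_eq, wd_img r1.inv]; rfl
    · show _ + (lt a (fld 6 63 w n)).1.q (ac (pr (wv a (w % 2 ^ (6 * n)))) c) = _
      rw [r2, h1, h2, qOf_wd, qk, qk, sumLt_eq, sumLt_eq, sum_range_succ, force_eq, Nat.cast_add]

theorem crd_tail {a : ℕ → EE} {rules k : ℕ} (h : tail a rules k ∈ pr.ker) (j : Fin 11) :
    crd (tail a rules k) j =
      (wv a (rword rules (2 * k))).1.q (bw j) + (wv a (rword rules (2 * k + 1))).1.q (bw j) := by
  have e : wv a (rword rules (2 * k)) = tail a rules k * wv a (rword rules (2 * k + 1)) :=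
    (inv_mul_cancel_right _ _).symm
  have e2 := congrArg (fun x : EE => x.1.q (bw j)) e
  change _ = (tail a rules k).1.q (bw j) + (wv a (rword rules (2 * k + 1))).1.q
    (ac (tail a rules k).1.s (bw j)) at e2
  rw [show (tail a rules k).1.s = 1 from h, ac_one] at e2
  rw [e2, add_assoc, CharTwo.add_self_eq_zero, add_zero]; rfl

/-- the certificate -/
noncomputable def C : Cert 11 :=
  { CM := 1298708349570020393652962442872833, RM := 2047, MM := 2658455991569831745807614120560689151, K := 6, nL := 6, n := 0, SW := 0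
    mats := 0x2a5a008ea6cc08400080083667b4c74d98200200100063aecc93e012003da200803da1b37b4009b3004100082a5804400020806cca9610371fb400200bda200dc60224f820d98200d9802003001001001001001001001001001001
    rules := 0x210000000000000000000000000000186200000000000000000000000000021063000000000000000000000000000018420000000000000000000000000000086200000000000000000000000000001822000000000000000000000000000000210000000000000000000000000000104200000000000000000000000000000842000000000000000000000000000010220000000000000000000000000000000000000000000000000000000000000822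
    MASK := 0x2004008010020040080100200400801002004008010020040080100200400801002004008010020040080100200400801002004008010020040080100200400801002004008010020040080100200400801002004008010020040080100200400801002004008010020040080100200400801002004008010020040080100200400801002004008010020040080100200400801002004008010020040080100200400801002004008010020040080100200400801
    U := 0, ex := [], ids := [], dl := [0, 1, 2, 3, 4, 5], sels := 0x160024100a904a0 }

/-- the obstruction -/
def nu : ℕ := 0x100000000000000000000000000000000000000000000000000008010000000000000000400000002000000000020000000000000000000000004000000000000000100000000800002000000000000000080000200000001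

/-- the letters -/
def LL : List ℕ := [984818244535754528103549039458486304, 980911461251221312023219252313177120, 979619491633542787815282377025343489, 964041156607720512702587867771247789, 966517295477788975847920315038828883, 971527469635407786474458101085030038]

/-- their quadratic forms -/
def Gam : List ℕ := [0, 398768079103893853885873736659240960, 632366297098712249103281236293451776, 669947691652983836499378675759712256, 617937221447190551329424132641130496, 201231994044806852700105893239326720]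

theorem exists_letters : ∃ a : ℕ → EE, ∀ i < 6,
    R (pr (lt a i)) (lget LL i) ∧ ∀ c, (lt a i).1.q c = qOf (lget Gam i) c := by
  have h1 : ∀ P ∈ LL, I Spor.M23 P := MathMdl.all23 (by decide +kernel)
  have h2 : allLt (fun i => memOK (lget LL i) (lget Gam i)) 6 = true := by decide +kernel
  have : ∀ i, ∃ x : EE, i < 6 → R (pr x) (lget LL i) ∧ ∀ c, x.1.q c = qOf (lget Gam i) c := fun i => by
    by_cases hi : i < 6
    · obtain ⟨g, hg, hr⟩ := h1 _ (lget_mem (L := LL) hi)
      exact ⟨⟨_, mem_EE (σ := ⟨g, hg⟩) hr (allLt_iff.1 h2 i hi)⟩, fun _ => ⟨hr, fun _ => rfl⟩⟩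
    · exact ⟨1, fun h => absurd h hi⟩
  choose a ha using this
  refine ⟨a, fun i hi => ?_⟩
  rcases Nat.eq_zero_or_pos i with rfl | h0
  · refine ⟨R.one, fun c => ?_⟩
    show 0 = qOf 0 c
    simp [qOf, Hw, fld, wd_zero]
  · rw [lt_pos a h0]; exact ha i hi

theorem pr_surj : Function.Surjective pr := by
  obtain ⟨a, ha⟩ := exists_letters
  have h : AllI (pr.range.map Spor.M23.subtype) g23 := fun P hP => by
    rcases List.mem_pair.1 hP with rfl | rfl
    · exact ⟨_, Subgroup.mem_map_of_mem _ ⟨_, rfl⟩, (ha 4 (by norm_num)).1⟩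
    · exact ⟨_, Subgroup.mem_map_of_mem _ ⟨_, rfl⟩, (ha 5 (by norm_num)).1⟩
  intro g
  obtain ⟨y, hy, e⟩ := h.grp_le (M23_eq ▸ g.2 : g.1 ∈ grp g23)
  rwa [← Subtype.ext e]

theorem nonsplit (H : Subgroup EE) (h1 : H ⊓ pr.ker = ⊥) : H ⊔ pr.ker ≠ ⊤ := fun h2 => by
  obtain ⟨a, ha⟩ := exists_letters
  have hp : pcheck C entD LL = true := by decide +kernel
  have X := pctx.ctx (C := C) ok11 hp (a := a) fun i h0 hi => by
    have := (ha i hi).1
    rwa [lt_pos a h0] at this
  have h := C.obstruction X (ν := nu) (by decide +kernel) h1 h2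
  have hw : C.wordsOK C.K = true := by decide +kernel
  have e : ∀ k ∈ range C.K, ∀ i : Fin 11, b2z (nu.testBit (11 * 11 * k + 11 * i)) *
      crd (tail a C.rules k) i = ((bit nu (11 * 11 * k + 11 * i) *
        (qk LL Gam (rword C.rules (2 * k)) (bC i) (rlen C.rules (2 * k)) +
          qk LL Gam (rword C.rules (2 * k + 1)) (bC i) (rlen C.rules (2 * k + 1))) : ℕ) : ZMod 2) :=
    fun k hk i => by
      obtain ⟨w1, w2⟩ := Cert.words_spec hw (mem_range.1 hk)
      have r1 := (wv_q ha (below_iff.1 w1) (bw i) rfl).2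
      have r2 := (wv_q ha (below_iff.1 w2) (bw i) rfl).2
      rw [Nat.mod_eq_of_lt (rword_lt _ _)] at r1 r2
      rw [crd_tail (X.mem k (mem_range.1 hk)), r1, r2, Nat.cast_mul, Nat.cast_add, bit_eq]
      cases nu.testBit (11 * 11 * k + 11 * i) <;> simp [b2z]
  rw [dot, sum_congr rfl fun k hk => sum_congr rfl fun i _ => e k hk i] at h
  simp only [← Nat.cast_sum] at h
  have := ZMod.natCast_eq_zero_iff_even.1 h
  revert this
  decide +kernel

end CL.ParkerExt
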