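import Mathlib

/-!
A prime between `2n/3` and `n` (an elementary sharpening of Bertrand's postulate).
-/

set_option autoImplicit false

namespace CL.KSG

theorem prime_dvd_choose_iff {p a b : ℕ} (hp : p.Prime) (h : a + b < p ^ 2) :
    p ∣ (a + b).choose b ↔ (a + b) / p ≠ a / p + b / p := by
  have h1 : Nat.log p (a + b) < 2 := by
    rcases Nat.eq_zero_or_pos (a + b) with h0 | h0
    · rw [h0]; simp
    · exact Nat.log_lt_of_lt_pow h0.ne' h
  rw [hp.dvd_iff_one_le_factorization (Nat.choose_pos (Nat.le_add_left _ _)).ne',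
    Nat.factorization_choose' hp h1, Nat.add_div hp.pos, show Finset.Ico 1 2 = {1} from rfl,
    Finset.filter_singleton, pow_one, add_comm (b % p)]
  split_ifs <;> simp

theorem choose_three_mul_le (u : ℕ) : (3 * u).choose u * 4 ^ u ≤ 27 ^ u := by
  have h := add_pow 1 2 (3 * u)
  have h2 := Finset.single_le_sum (f := fun m => 1 ^ m * 2 ^ (3 * u - m) * ((3 * u).choose m : ℕ))
    (fun _ _ => Nat.zero_le _) (Finset.mem_range.2 (show u < 3 * u + 1 by omega))
  simp only [Nat.cast_id] at h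
  rw [← h, show 3 * u - u = 2 * u by omega, pow_mul, pow_mul] at h2
  simpa [mul_comm] using h2

theorem choose_three_mul_succ (u : ℕ) : (3 * (u + 1)).choose (u + 1) * ((2 * u + 2) * (2 * u + 1)) =
    3 * (3 * u + 2) * (3 * u + 1) * (3 * u).choose u := by
  have h1 := Nat.choose_mul_factorial_mul_factorial (show u ≤ 3 * u by omega)
  have h2 := Nat.choose_mul_factorial_mul_factorial (show u + 1 ≤ 3 * (u + 1) by omega)
  rw [show 3 * u - u = 2 * u by omega] at h1
  rw [show 3 * (u + 1) - (u + 1) = 2 * u + 1 + 1 by omega, Nat.factorial_succ (2 * u + 1),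
    Nat.factorial_succ (2 * u), Nat.factorial_succ u] at h2
  conv_rhs at h2 => rw [show 3 * (u + 1) = 3 * u + 1 + 1 + 1 by ring, Nat.factorial_succ,
    Nat.factorial_succ, Nat.factorial_succ, ← h1]
  refine Nat.eq_of_mul_eq_mul_right (Nat.mul_pos (Nat.mul_pos (Nat.succ_pos u) u.factorial_pos)
    (2 * u).factorial_pos) ?_
  simp only [Nat.succ_eq_add_one]
  linear_combination h2

theorem le_choose_three_mul (u : ℕ) : 27 ^ u ≤ (2 * u + 1) * 4 ^ u * (3 * u).choose u := by
  induction u with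
  | zero => simp
  | succ u ih =>
    have h := choose_three_mul_succ u
    refine Nat.le_of_mul_le_mul_right ?_
      (show 0 < (2 * u + 2) * (2 * u + 1) by positivity)
    rw [mul_assoc _ (Nat.choose _ _), h, pow_succ, pow_succ]
    calc 27 ^ u * 27 * ((2 * u + 2) * (2 * u + 1))
        ≤ ((2 * u + 1) * 4 ^ u * (3 * u).choose u) * 27 * ((2 * u + 2) * (2 * u + 1)) := by gcongr
      _ = (4 ^ u * (3 * u).choose u) * (27 * ((2 * u + 2) * (2 * u + 1) * (2 * u + 1))) := by ring
      _ ≤ (4 ^ u * (3 * u).choose u) * ((2 * (u + 1) + 1) * 4 * (3 * (3 * u + 2) * (3 * u + 1))) := by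
        refine Nat.mul_le_mul_left _ ?_
        nlinarith [Nat.zero_le u, Nat.zero_le (u * u)]
      _ = _ := by ring

theorem choose_dvd_of_no_prime (t : ℕ) (ht : 0 < t)
    (h : ∀ p : ℕ, p.Prime → 12 * t + 12 ≤ p → 18 * t < p) :
    (18 * t).choose (6 * t) ≤ (18 * t) ^ (Nat.sqrt (18 * t) + 1) *
      (4 ^ t * ((9 * t).choose (3 * t) * (3 * t).choose t * (12 * t + 11) ^ 11)) := by
  set M := (18 * t).choose (6 * t) with hM
  set s := Nat.sqrt (18 * t)
  have hM0 : M ≠ 0 := (Nat.choose_pos (by omega)).ne'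
  let A := ∏ p ∈ Finset.range (s + 1), p ^ M.factorization p
  let B := primorial t * ((9 * t).choose (3 * t) * (3 * t).choose t * (12 * t + 11).descFactorial 11)
  have hA : A ≤ (18 * t) ^ (s + 1) := by
    refine (Finset.prod_le_prod' fun p _ => Nat.pow_factorization_choose_le (by omega)).trans ?_
    simp
  have hA0 : A ≠ 0 := Finset.prod_ne_zero_iff.2 fun p _ => by
    rcases Nat.eq_zero_or_pos p with rfl | hp
    · simp
    · positivity
  have hB0 : B ≠ 0 := Nat.mul_ne_zero (primorial_pos t).ne' (Nat.mul_ne_zero (Nat.mul_ne_zero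
    (Nat.choose_pos (by omega)).ne' (Nat.choose_pos (by omega)).ne')
    (Nat.descFactorial_pos.2 (by omega)).ne')
  have hdvd : M ∣ A * B := by
    rw [← Nat.factorization_prime_le_iff_dvd hM0 (Nat.mul_ne_zero hA0 hB0)]
    intro p hp
    rw [← hp.pow_dvd_iff_le_factorization (Nat.mul_ne_zero hA0 hB0)]
    by_cases hps : p ≤ s
    · exact (Finset.dvd_prod_of_mem (fun p => p ^ M.factorization p)
        (Finset.mem_range.2 (by omega))).mul_right _
    have h1 : 18 * t < p ^ 2 := Nat.sqrt_lt'.1 (not_le.1 hps)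
    have h2 : M.factorization p ≤ 1 := Nat.factorization_choose_le_one h1
    rcases Nat.eq_zero_or_pos (M.factorization p) with h0 | h0
    · rw [h0]; exact one_dvd _
    rw [show M.factorization p = 1 by omega, pow_one]
    refine Dvd.dvd.mul_left ?_ _
    by_cases h3 : p ≤ t
    · exact (hp.dvd_primorial_iff.2 h3).mul_right _
    refine Dvd.dvd.mul_left ?_ _
    by_cases h4 : p ≤ 12 * t
    · refine Dvd.dvd.mul_right ?_ _
      have h5 := (hp.dvd_iff_one_le_factorization hM0).2 h0
      rw [hM, show 18 * t = 12 * t + 6 * t by ring, prime_dvd_choose_iff hp (by omega)] at h5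
      rw [hp.dvd_mul, show 9 * t = 6 * t + 3 * t by ring, prime_dvd_choose_iff hp (by omega)]
      conv => rhs; rw [show 3 * t = 2 * t + t by ring, prime_dvd_choose_iff hp (by omega)]
      have key : ∀ k c, 0 < c → k * c = 36 * t → k / p = 36 * t / p / c := fun k c hc hk => by
        rw [Nat.div_div_eq_div_mul, ← hk, Nat.mul_div_mul_right _ _ hc]
      have e1 : 3 ≤ 36 * t / p := (Nat.le_div_iff_mul_le hp.pos).2 (by omega)
      have e2 : 36 * t / p < 36 := (Nat.div_lt_iff_lt_mul hp.pos).2 (by omega)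
      rw [key (12 * t + 6 * t) 2 (by omega) (by omega), key (12 * t) 3 (by omega) (by omega),
        key (6 * t) 6 (by omega) (by omega)] at h5
      rw [key (6 * t + 3 * t) 4 (by omega) (by omega), key (6 * t) 6 (by omega) (by omega),
        key (3 * t) 12 (by omega) (by omega), key (2 * t + t) 12 (by omega) (by omega),
        key (2 * t) 18 (by omega) (by omega), key t 36 (by omega) (by omega)]
      generalize 36 * t / p = X at h5 e1 e2 ⊢
      omega
    refine Dvd.dvd.mul_left ?_ _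
    by_cases h5 : 12 * t + 12 ≤ p
    · exact absurd (Nat.factorization_choose_eq_zero_of_lt (k := 6 * t) (h p hp h5)) h0.ne'
    · rw [Nat.descFactorial_eq_prod_range]
      have : p = 12 * t + 11 - (12 * t + 11 - p) := by omega
      rw [this]
      exact Finset.dvd_prod_of_mem (fun i => 12 * t + 11 - i) (Finset.mem_range.2 (by omega))
  refine (Nat.le_of_dvd (Nat.pos_of_ne_zero (Nat.mul_ne_zero hA0 hB0)) hdvd).trans ?_
  exact Nat.mul_le_mul hA (Nat.mul_le_mul (primorial_le_four_pow t)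
    (Nat.mul_le_mul_left _ (Nat.descFactorial_le_pow _ _)))

theorem exists_prime_of_large {t : ℕ} (ht : 911 ≤ t) :
    ∃ p : ℕ, p.Prime ∧ 12 * t + 12 ≤ p ∧ p ≤ 18 * t := by
  by_contra hc
  push Not at hc
  have h1 := choose_dvd_of_no_prime t (by omega) hc
  have h2 := le_choose_three_mul (6 * t)
  have h3 := choose_three_mul_le (3 * t)
  have h4 := choose_three_mul_le t
  rw [show 3 * (6 * t) = 18 * t by ring] at h2
  rw [show 3 * (3 * t) = 9 * t by ring] at h3
  set s := Nat.sqrt (18 * t)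
  have hs1 : s * s ≤ 18 * t := Nat.sqrt_le _
  have hs2 : 18 * t < (s + 1) * (s + 1) := Nat.lt_succ_sqrt _
  have hs : 128 ≤ s := Nat.le_sqrt.2 (by omega)
  have h5 : 27 ^ (6 * t) * 4 ^ (4 * t) ≤ (18 * t) ^ (s + 13) * 4 ^ (7 * t) * 27 ^ (4 * t) := by
    calc 27 ^ (6 * t) * 4 ^ (4 * t)
        ≤ (18 * t) * 4 ^ (6 * t) * ((18 * t) ^ (s + 1) * (4 ^ t * ((9 * t).choose (3 * t) *
            (3 * t).choose t * (18 * t) ^ 11))) * 4 ^ (4 * t) := by
          refine Nat.mul_le_mul_right _ (h2.trans (Nat.mul_le_mul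
            (Nat.mul_le_mul_right _ (by omega)) (h1.trans ?_)))
          gcongr
          omega
      _ = (18 * t) ^ (s + 13) * 4 ^ (7 * t) * (((9 * t).choose (3 * t) * 4 ^ (3 * t)) *
            ((3 * t).choose t * 4 ^ t)) := by ring
      _ ≤ (18 * t) ^ (s + 13) * 4 ^ (7 * t) * (27 ^ (3 * t) * 27 ^ t) := by gcongr
      _ = _ := by ring
  have h6 : 2 ^ (3 * t) ≤ (18 * t) ^ (s + 13) := by
    refine Nat.le_of_mul_le_mul_right (le_trans ?_ (h5.trans (mul_assoc _ _ _).le))
      (show 0 < 4 ^ (7 * t) * 27 ^ (4 * t) by positivity)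
    calc 2 ^ (3 * t) * (4 ^ (7 * t) * 27 ^ (4 * t))
        = (2 ^ 3 * 4 ^ 3) ^ t * (4 ^ (4 * t) * 27 ^ (4 * t)) := by
          rw [mul_pow, ← pow_mul, ← pow_mul]; ring
      _ ≤ (27 ^ 2) ^ t * (4 ^ (4 * t) * 27 ^ (4 * t)) := by gcongr; norm_num
      _ = _ := by rw [← pow_mul]; ring
  have h7 : ∀ j, 8 ≤ j → 16 * j + 16 ≤ 2 ^ j := by
    intro j hj
    induction j, hj using Nat.le_induction with
    | base => norm_num
    | succ j _ ih => rw [pow_succ]; omega
  have h8 : s + 1 ≤ 2 ^ (s / 16) := le_trans (by omega) (h7 (s / 16) (by omega))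
  have h9 : (18 * t) ^ (s + 13) ≤ 2 ^ (2 * (s / 16) * (s + 13)) := by
    rw [pow_mul, two_mul, pow_add 2]
    exact Nat.pow_le_pow_left (hs2.le.trans (Nat.mul_le_mul h8 h8)) _
  have h10 := (Nat.pow_le_pow_iff_right (by norm_num)).1 (h6.trans h9)
  have h11 : 16 * (s / 16) ≤ s := Nat.mul_div_le s 16
  nlinarith

/-- For `n ≥ 7` there is a prime `p` with `2n - 3 ≤ 3p` and `p ≤ n - 2`. -/
theorem exists_prime_two_thirds {n : ℕ} (hn : 7 ≤ n) :
    ∃ p : ℕ, p.Prime ∧ 2 * n ≤ 3 * p + 3 ∧ p + 2 ≤ n := by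
  by_cases h : 16400 ≤ n
  · obtain ⟨p, hp, h1, h2⟩ := exists_prime_of_large (t := (n - 2) / 18) (by omega)
    exact ⟨p, hp, by omega, by omega⟩
  have key : ∀ p : ℕ, p.Prime → (p + 2 ≤ n → 2 * n ≤ 3 * p + 3 →
      ∃ p : ℕ, p.Prime ∧ 2 * n ≤ 3 * p + 3 ∧ p + 2 ≤ n) := fun p hp h1 h2 => ⟨p, hp, h2, h1⟩
  have := key 5 (by norm_num)
  have := key 7 (by norm_num)
  have := key 11 (by norm_num)
  have := key 17 (by norm_num)
  have := key 23 (by norm_num)
  have := key 31 (by norm_num)
  have := key 47 (by norm_num)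
  have := key 71 (by norm_num)
  have := key 107 (by norm_num)
  have := key 157 (by norm_num)
  have := key 233 (by norm_num)
  have := key 349 (by norm_num)
  have := key 523 (by norm_num)
  have := key 773 (by norm_num)
  have := key 1153 (by norm_num)
  have := key 1723 (by norm_num)
  have := key 2579 (by norm_num)
  have := key 3863 (by norm_num)
  have := key 5791 (by norm_num)
  have := key 8681 (by norm_num)
  have := key 13009 (by norm_num)
  by_contra hc
  simp only [hc, imp_false, not_le] at *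
  omega

end CL.KSG
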