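import Cfsg.Agent.KSG.Sp8Up
import Cfsg.Agent.KSG.OrthSpec
import Cfsg.Agent.CLAS.AschOr1
import Cfsg.Agent.PERM.SpecUnb
import Cfsg.Agent.KSG.SpUPoly

/-!
# Element orders in eight-dimensional symplectic and orthogonal groups in characteristic two
-/

set_option autoImplicit false
set_option linter.unusedSectionVars false

namespace CL.KSG.Sp8

open Module QuadraticMap CL.Orth

variable {F : Type*} [Field F] [Fintype F]

section Gen

variable {V W : Type*} [AddCommGroup V] [Module F V] [AddCommGroup W] [Module F W]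

/-- `N` is the order of an isometry -/
def HasO (Q : QuadraticForm F V) (N : ℕ) : Prop := ∃ g : O Q, orderOf g = N

/-- `N` is the order of an affine isometry of even rank -/
def HasA (Q : QuadraticForm F V) (N : ℕ) : Prop :=
  ∃ (g : O Q) (v : V), dsign g = 1 ∧ ∀ n, (g ^ n = 1 ∧ ∑ i ∈ Finset.range n, (g ^ i).1 v = 0) ↔ N ∣ n

variable {Q : QuadraticForm F V} {Q' : QuadraticForm F W} {N : ℕ}

theorem HasO.congr (e : V ≃ₗ[F] W) (he : ∀ v, Q' (e v) = Q v) (h : HasO Q N) : HasO Q' N := by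
  obtain ⟨g, rfl⟩ := h
  exact ⟨congrO e he g, MulEquiv.orderOf_eq _ _⟩

theorem HasA.congr (e : V ≃ₗ[F] W) (he : ∀ v, Q' (e v) = Q v) (h : HasA Q N) : HasA Q' N := by
  obtain ⟨g, v, h1, h2⟩ := h
  refine ⟨congrO e he g, e v, by rw [dsign_congrO, h1], fun n => ?_⟩
  simp only [← h2, ← map_pow, congrO_apply, LinearEquiv.symm_apply_apply, ← map_sum,
    EmbeddingLike.map_eq_one_iff, EmbeddingLike.map_eq_zero_iff]

theorem prodO_eq_one {a : O Q} {b : O Q'} : prodO Q Q' (a, b) = 1 ↔ a = 1 ∧ b = 1 :=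
  ⟨fun h => ⟨O_ext fun v => congrArg (fun g : O (Q.prod Q') => (g.1 (v, 0)).1) h,
    O_ext fun v => congrArg (fun g : O (Q.prod Q') => (g.1 (0, v)).2) h⟩,
    by rintro ⟨rfl, rfl⟩; exact map_one _⟩

theorem prodO_pow (a : O Q) (b : O Q') (n : ℕ) : prodO Q Q' (a, b) ^ n = prodO Q Q' (a ^ n, b ^ n) :=
  (map_pow _ _ _).symm

theorem dsign_of_odd [FiniteDimensional F V] (hQ : (polarBilin Q).Nondegenerate) {g : O Q}
    (h : Odd (orderOf g)) : dsign g = 1 := by
  have h1 := dsign_prodO g (1 : O (QPlus 3 F))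
  rw [dsign_one, mul_one, ← dickson_apply (prod_nondeg hQ (QPlus_nondeg 3 F)) (Or.inr (by simp))] at h1
  have h2 : dsign g ^ orderOf g = 1 := by
    rw [← h1, ← map_pow, prodO_pow, pow_orderOf_eq_one, one_pow, Prod.mk_one_one, map_one, map_one]
  rwa [Int.units_pow_eq_pow_mod_two, Nat.odd_iff.1 h, pow_one] at h2

variable (F) in
/-- realisable orders -/
def Re (d : ℕ) (P : Prop) (N : ℕ) : Prop :=
  ∃ Q : QuadraticForm F (Fin (2 * d) → F), (polarBilin Q).Nondegenerate ∧ (IsPlus Q ↔ P) ∧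
    HasO Q N ∧ HasA Q N

theorem Re.of [FiniteDimensional F V] {d : ℕ} {P : Prop} (hd : finrank F V = 2 * d)
    (hQ : (polarBilin Q).Nondegenerate) (hP : IsPlus Q ↔ P) (h1 : HasO Q N) (h2 : HasA Q N) :
    Re F d P N := by
  let e : V ≃ₗ[F] (Fin (2 * d) → F) := LinearEquiv.ofFinrankEq _ _ (by simpa using hd)
  have he : ∀ v, Q.comp e.symm.toLinearMap (e v) = Q v := fun v => by simp
  exact ⟨_, nondeg_of_isom e he hQ, (isPlus_congr e he).symm.trans hP, h1.congr e he, h2.congr e he⟩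

theorem Re.of_odd [FiniteDimensional F V] {d : ℕ} {P : Prop} (hd : finrank F V = 2 * d)
    (hQ : (polarBilin Q).Nondegenerate) (hP : IsPlus Q ↔ P) (h1 : HasO Q N) (h2 : Odd N) :
    Re F d P N := by
  obtain ⟨g, rfl⟩ := h1
  exact Re.of hd hQ hP ⟨g, rfl⟩ ⟨g, 0, dsign_of_odd hQ h2, fun n => by
    simp [orderOf_dvd_iff_pow_eq_one]⟩

theorem Re.mul {d d' M : ℕ} {P P' : Prop} (h : Re F d P M) (h' : Re F d' P' N) (ho : Odd M)
    (hc : M.Coprime N) : Re F (d + d') (P ↔ P') (M * N) := by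
  obtain ⟨Q, h1, h2, ⟨g, rfl⟩, -⟩ := h
  obtain ⟨Q', h1', h2', ⟨g', hg'⟩, u, v, h3, h4⟩ := h'
  have hc' : ∀ n, orderOf g * N ∣ n ↔ orderOf g ∣ n ∧ N ∣ n := fun n =>
    ⟨fun h => ⟨dvd_of_mul_right_dvd h, dvd_of_mul_left_dvd h⟩, fun h => hc.mul_dvd_of_dvd_of_dvd h.1 h.2⟩
  refine Re.of (by simp; ring) (prod_nondeg h1 h1')
    (by rw [CL.Asch.isPlus_prod_iff h1 h1' (by simp) (by simp), h2, h2'])
    ⟨prodO _ _ (g, g'), eq_of_forall_pow_iff (P := fun n => prodO _ _ (g, g') ^ n = 1)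
      (fun n => orderOf_dvd_iff_pow_eq_one.symm) fun n => ?_⟩
    ⟨prodO _ _ (g, u), (0, v), by rw [dsign_prodO, h3, dsign_of_odd h1 ho, one_mul], fun n => ?_⟩
  · rw [prodO_pow, prodO_eq_one, hc', ← hg', orderOf_dvd_iff_pow_eq_one, orderOf_dvd_iff_pow_eq_one]
  · rw [hc', ← h4, prodO_pow, prodO_eq_one, orderOf_dvd_iff_pow_eq_one, and_assoc]
    simp [prodO_pow, prodO_apply, Prod.ext_iff, Prod.fst_sum, Prod.snd_sum]

theorem hasO_of_unit {R : Type*} [CommRing R] [Algebra F R] {Q : QuadraticForm F R} (u : Rˣ)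
    (h : ∀ x, Q (u * x) = Q x) : HasO Q (orderOf u) := by
  refine ⟨⟨DistribMulAction.toModuleAut F R u, h⟩, ?_⟩
  rw [← Subgroup.orderOf_coe]
  refine orderOf_injective (DistribMulAction.toModuleAut F R) (fun a b e => Units.ext ?_) u
  simpa [Units.smul_def] using LinearEquiv.congr_fun e 1

end Gen

variable [CharP F 2]

theorem even_card : Even (Fintype.card F) :=
  Nat.even_iff.2 (FiniteField.even_card_of_char_two (ringChar.eq F 2))

theorem torP (k : ℕ) [NeZero k] : Re F k True (Fintype.card F ^ k - 1) := by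
  let L := FiniteField.Extension F 2 k
  obtain ⟨ω, hω⟩ := IsCyclic.exists_ofOrder_eq_natCard (α := Lˣ)
  rw [Nat.card_units, FiniteField.natCard_extension, Nat.card_eq_fintype_card] at hω
  let Q : QuadraticForm F (L × L) := LinearMap.BilinMap.toQuadraticMap
    ((Algebra.traceForm F L).compl₁₂ (LinearMap.fst F L L) (LinearMap.snd F L L))
  have hQ : ∀ x, Q x = Algebra.trace F L (x.1 * x.2) := fun x => rfl
  have h1 := hasO_of_unit (Q := Q) (MulEquiv.prodUnits.symm (ω, ω⁻¹)) fun x => by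
    rw [hQ, hQ]
    change Algebra.trace F L (ω * x.1 * ((ω⁻¹ : Lˣ) * x.2)) = _
    rw [mul_mul_mul_comm, Units.mul_inv, one_mul]
  rw [MulEquiv.orderOf_eq, Prod.orderOf_mk, orderOf_inv, Nat.lcm_self, hω] at h1
  refine Re.of_odd (by simp [L, FiniteField.finrank_extension, two_mul]) (nondeg_iff.2 fun x hx => ?_)
    (iff_true_intro ⟨LinearMap.range (LinearMap.inl F L L), ?_, ?_⟩) h1
    (Nat.Even.sub_odd (Nat.one_le_pow _ _ Fintype.card_pos) (even_card.pow_of_ne_zero (NeZero.ne k))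
      odd_one)
  · have h2 : ∀ y, polar Q x y = Algebra.trace F L (x.1 * y.2) + Algebra.trace F L (x.2 * y.1) := by
      intro y
      simp only [polar, hQ, Prod.fst_add, Prod.snd_add, ← map_sub, ← map_add]
      congr 1; ring
    exact Prod.ext ((traceForm_nondegenerate F L).1 _ fun y => by simpa [h2] using hx (0, y))
      ((traceForm_nondegenerate F L).1 _ fun y => by simpa [h2] using hx (y, 0))
  · rintro _ ⟨x, rfl⟩
    simp [hQ]
  · rw [LinearMap.finrank_range_of_inj LinearMap.inl_injective, Module.finrank_prod, two_mul]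

theorem torM (k : ℕ) [NeZero k] : Re F k False (Fintype.card F ^ k + 1) := by
  classical
  let L := FiniteField.Extension F 2 (2 * k)
  have : Fintype L := Fintype.ofFinite L
  set q := Fintype.card F with hq
  have hq2 : 2 ≤ q := Fintype.one_lt_card
  have hL : Fintype.card L = (q ^ k) ^ 2 := by
    rw [← Nat.card_eq_fintype_card, FiniteField.natCard_extension, Nat.card_eq_fintype_card, ← pow_mul,
      mul_comm]
  let σ : L ≃ₐ[F] L := FiniteField.frobeniusAlgEquivOfAlgebraic F L ^ k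
  have hσ : ∀ x, σ x = x ^ q ^ k := fun x => by
    rw [AlgEquiv.coe_pow, FiniteField.coe_frobeniusAlgEquivOfAlgebraic_iterate]
  have hσσ : ∀ x, σ (σ x) = x := fun x => by
    rw [hσ, hσ, ← pow_mul, ← pow_two, ← hL, FiniteField.pow_card]
  obtain ⟨θ, hθ⟩ := CL.SqField.exists_trace_eq hL (μ := 1) (one_pow _)
  rw [← hσ] at hθ
  obtain ⟨u, hu⟩ := CL.GLn.exists_orderOf_eq_of_dvd (K := L) (m := q ^ k + 1) (by
    rw [Nat.card_eq_fintype_card, hL]
    exact ⟨q ^ k - 1, Nat.sq_sub_sq _ 1⟩)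
  let Q : QuadraticForm F L := LinearMap.BilinMap.toQuadraticMap
    ((Algebra.traceForm F L).compl₁₂ (LinearMap.mulLeft F θ) σ.toLinearMap)
  have hQ : ∀ x, Q x = Algebra.trace F L (θ * x * σ x) := fun x => rfl
  have h0 : ∀ a ∈ Subgroup.zpowers u, ∀ x, Q ((a : L) * x) = Q x := by
    intro a ha x
    have : (a : L) * σ a = 1 := by
      rw [hσ, ← pow_succ', ← hu, ← Units.val_pow_eq_pow_val,
        orderOf_dvd_iff_pow_eq_one.1 (orderOf_dvd_of_mem_zpowers ha), Units.val_one]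
    rw [hQ, hQ, map_mul σ]
    congr 1
    linear_combination (θ * x * σ x) * this
  have hd : finrank F L = 2 * k := FiniteField.finrank_extension F 2 (2 * k)
  have hn : (polarBilin Q).Nondegenerate := nondeg_iff.2 fun x hx =>
    (traceForm_nondegenerate F L).1 _ fun y => by
      have h1 := hx (σ y)
      have h2 := Algebra.trace_eq_of_algEquiv σ (θ * σ y * σ x)
      simp only [polar, hQ, map_mul, hσσ, map_add σ] at h1 h2
      rw [← map_sub, ← map_sub, show θ * (x + σ y) * (σ x + y) - θ * x * σ x - θ * σ y * y =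
        θ * x * y + θ * σ y * σ x by ring, map_add, ← h2, ← map_add,
        show θ * x * y + σ θ * y * x = (θ + σ θ) * (x * y) by ring, hθ, one_mul] at h1
      exact h1
  have ho : Odd (q ^ k + 1) := (even_card.pow_of_ne_zero (NeZero.ne k)).add_one
  refine Re.of_odd hd hn (iff_false_intro fun hp => ?_)
    (hu ▸ hasO_of_unit u (h0 u (Subgroup.mem_zpowers u))) ho
  let S : SubMulAction (Subgroup.zpowers u) L :=
    { carrier := {x | Q x = 0 ∧ x ≠ 0}
      smul_mem' := fun a x hx => ⟨(h0 a.1 a.2 x).trans hx.1, mul_ne_zero a.1.ne_zero hx.2⟩ }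
  have h1 := Nat.card_congr (MulAction.selfEquivOrbitsQuotientProd (G := Subgroup.zpowers u) (X := S)
    fun x => eq_bot_iff.2 fun a ha => Subtype.ext (Units.ext (mul_right_cancel₀ x.2.2
      ((congrArg Subtype.val ha).trans (one_mul _).symm))))
  rw [Nat.card_prod, Nat.card_zpowers, hu] at h1
  have h2 : Nat.card {x // Q x = 0} = Nat.card S + 1 := by
    rw [← Nat.card_congr (Equiv.optionSubtypeNe (⟨0, map_zero Q⟩ : {x // Q x = 0})), Finite.card_option]
    congr 1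
    exact Nat.card_congr ⟨fun x => ⟨x.1.1, x.1.2, fun h => x.2 (Subtype.ext h)⟩,
      fun x => ⟨⟨x.1, x.2.1⟩, fun h => x.2.2 (congrArg Subtype.val h)⟩, fun _ => rfl, fun _ => rfl⟩
  obtain ⟨φ, hφ⟩ := exists_isometry_QPlus hn hd hp
  rw [← Nat.card_congr (φ.toEquiv.subtypeEquiv (p := fun v => Cfsg.quadFormPlus _ F v = 0)
    fun v => by rw [LinearEquiv.coe_toEquiv, hφ]; rfl),
    CL.FormCount.card_quadFormPlus_eq rfl, if_pos rfl, h1, ← hq] at h2
  obtain ⟨j, rfl⟩ : ∃ j, k = j + 1 := ⟨k - 1, by have := NeZero.ne k; omega⟩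
  rw [Nat.add_sub_cancel, pow_succ] at h2
  rw [pow_succ] at ho
  have hx : 0 < q ^ j := by positivity
  generalize q ^ j = x at *
  generalize Nat.card (Quotient _) = n at h2
  obtain ⟨y, hy⟩ : ∃ y, x * q = y + 1 := ⟨x * q - 1, by have : 0 < x * q := by positivity
                                                        omega⟩
  rw [hy, Nat.add_sub_cancel] at h2
  rw [hy] at ho
  have h3 : y + 1 + 1 ∣ 2 * (x + 1) := (Nat.dvd_add_right (Dvd.intro_left n rfl)).1
    ⟨x + 1, by linear_combination -h2⟩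
  have h4 := Nat.le_of_dvd (by omega) ((Nat.coprime_two_right.2 ho).dvd_of_dvd_mul_left h3)
  nlinarith

/-- binary forms -/
def Pc (a c : F) : QuadraticForm F (F × F) :=
  a • linMulLin (LinearMap.fst F F F) (LinearMap.fst F F F) +
    linMulLin (LinearMap.fst F F F) (LinearMap.snd F F F) +
    c • linMulLin (LinearMap.snd F F F) (LinearMap.snd F F F)

theorem Pc_apply (a c : F) (x : F × F) : Pc a c x = a * (x.1 * x.1) + x.1 * x.2 + c * (x.2 * x.2) := rfl

theorem Pc_nondeg (a c : F) : (polarBilin (Pc a c)).Nondegenerate := nondeg_iff.2 fun x hx => by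
  have h2 : (2 : F) = 0 := CharTwo.two_eq_zero
  have h3 := hx (0, 1)
  have h4 := hx (1, 0)
  simp only [polar, Pc_apply, Prod.fst_add, Prod.snd_add] at h3 h4
  exact Prod.ext (by change x.1 = 0; linear_combination h3 - c * x.2 * h2)
    (by change x.2 = 0; linear_combination h4 - a * x.1 * h2)

theorem Pc_plus (a : F) : IsPlus (Pc a 0) := by
  refine ⟨LinearMap.range (LinearMap.inr F F F), ?_, ?_⟩
  · rintro _ ⟨x, rfl⟩
    simp [Pc_apply]
  · rw [LinearMap.finrank_range_of_inj LinearMap.inr_injective, Module.finrank_prod, two_mul]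

theorem exists_Pc (P : Prop) : ∃ c : F, IsPlus (Pc 1 c) ↔ P := by
  by_cases h : P
  · exact ⟨0, iff_of_true (Pc_plus 1) h⟩
  obtain ⟨ζ, hζ⟩ := exists_irred_quadratic F
  refine ⟨ζ, iff_of_false (fun ⟨W, h1, h2⟩ => ?_) h⟩
  have : W = ⊥ := eq_bot_iff.2 fun w hw => by
    have := aniso_of_irred hζ w.1 w.2 (by rw [← h1 w hw, Pc_apply]; ring)
    exact Prod.ext this.1 this.2
  rw [this] at h2
  simp at h2

section Unip

variable {V : Type*} [AddCommGroup V] [Module F V] [FiniteDimensional F V] {Q : QuadraticForm F V}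

theorem hasO_of (hQ : (polarBilin Q).Nondegenerate) (A : End F V) (hA : ∀ v, Q (A v) = Q v) {k : ℕ}
    (h1 : A ^ 2 ^ k ≠ 1) (h2 : A ^ 2 ^ (k + 1) = 1) : HasO Q (2 ^ (k + 1)) := by
  obtain ⟨g, rfl⟩ := exists_O_of_isom hQ hA
  exact ⟨g, by rw [← orderOf_injective (toEnd Q) toEnd_injective, orderOf_eq_prime_pow h1 h2]⟩

theorem hasA_of (hQ : (polarBilin Q).Nondegenerate) (A : End F V) (hA : ∀ v, Q (A v) = Q v) {k : ℕ}
    (h1 : A ^ 2 ^ k = 1) {v : V} (h2 : ∑ i ∈ Finset.range (2 ^ k), (A ^ i) v ≠ 0)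
    (h3 : Even (finrank F V)) (f : F × F →ₗ[F] V) (hf : Function.Injective f)
    (h4 : ∀ v, A v = v ↔ v ∈ LinearMap.range f) : HasA Q (2 ^ (k + 1)) := by
  obtain ⟨g, rfl⟩ := exists_O_of_isom hQ hA
  have e : ∀ n, (⟨v, g⟩ : CL.Spec.Aff V (O Q)) ^ n = 1 ↔
      (g ^ n = 1 ∧ ∑ i ∈ Finset.range n, (g ^ i).1 v = 0) := fun n => by
    rw [CL.Spec.Aff.pow_eq, CL.Spec.Aff.ext_iff, and_comm]; rfl
  have h5 : g ^ 2 ^ k = 1 := toEnd_injective (by rw [map_pow, h1, map_one])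
  refine ⟨g, v, dsign_eq_one_iff.2 ?_, fun n => ?_⟩
  · have h6 := finrank_moved_add_fixed g
    rw [show fixed g = LinearMap.range f from Submodule.ext fun v => mem_fixed.trans (h4 v),
      LinearMap.finrank_range_of_inj hf, Module.finrank_prod, finrank_self] at h6
    rw [← h6] at h3
    exact (Nat.even_add.1 h3).2 (by decide)
  · rw [← e, ← orderOf_dvd_iff_pow_eq_one, orderOf_eq_prime_pow (p := 2) (n := k)]
    · rw [e]
      exact fun h => h2 (by simp only [← map_pow]; exact h.2)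
    · rw [pow_succ, pow_mul, pow_two, CL.Spec.Aff.pow_eq, h5]
      refine CL.Spec.Aff.ext ?_ (mul_one _)
      simp only [CL.Spec.Aff.mul_v, one_smul, CL.Spec.Aff.one_v]
      rw [← two_smul F, CharTwo.two_eq_zero, zero_smul]

end Unip

theorem uni1 (P : Prop) : Re F 1 P 2 := by
  have h2 : (2 : F) = 0 := CharTwo.two_eq_zero
  obtain ⟨c, hc⟩ := exists_Pc (F := F) P
  let A : End F (F × F) :=
    { toFun := fun x => (x.1 + x.2, x.2)
      map_add' := fun x y => by ext <;> simp; ring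
      map_smul' := fun a x => by ext <;> simp; ring }
  have hA : ∀ x, A x = (x.1 + x.2, x.2) := fun _ => rfl
  refine Re.of (by simp) (Pc_nondeg 1 c) hc (hasO_of (Pc_nondeg 1 c) A (fun v => ?_) (k := 0) (fun h => ?_)
    (LinearMap.ext fun v => ?_)) (hasA_of (Pc_nondeg 1 c) 1 (fun _ => rfl) (k := 0) (by simp)
      (v := (1, 0)) (by simp) (by simp) LinearMap.id Function.injective_id (by simp))
  · simp only [hA, Pc_apply]; grind
  · simpa [hA] using LinearMap.congr_fun h (0, 1)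
  · simp only [pow_succ, pow_zero, one_mul, Nat.reduceMul, End.mul_apply, End.one_apply, hA]
    ext <;> simp only [] <;> grind

theorem uni2 (P : Prop) : Re F 2 P 4 := by
  have h2 : (2 : F) = 0 := CharTwo.two_eq_zero
  obtain ⟨c, hc⟩ := exists_Pc (F := F) P
  have hn := prod_nondeg (Pc_nondeg (0 : F) 0) (Pc_nondeg 1 c)
  let A : End F ((F × F) × (F × F)) :=
    { toFun := fun x => ((x.1.1 + x.2.1 + x.2.2 + c * x.1.2, x.1.2), (x.2.1 + x.2.2, x.2.2 + x.1.2))
      map_add' := fun x y => by ext <;> simp <;> ring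
      map_smul' := fun a x => by ext <;> simp <;> ring }
  have hA : ∀ x, A x = ((x.1.1 + x.2.1 + x.2.2 + c * x.1.2, x.1.2), (x.2.1 + x.2.2, x.2.2 + x.1.2)) :=
    fun _ => rfl
  let B : End F ((F × F) × (F × F)) :=
    { toFun := fun x => ((x.1.1 + x.2.2 + x.1.2, x.1.2), (x.2.1 + x.1.2, x.2.2))
      map_add' := fun x y => by ext <;> simp <;> ring
      map_smul' := fun a x => by ext <;> simp <;> ring }
  have hB : ∀ x, B x = ((x.1.1 + x.2.2 + x.1.2, x.1.2), (x.2.1 + x.1.2, x.2.2)) := fun _ => rfl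
  refine Re.of (by simp) hn (by
      rw [CL.Asch.isPlus_prod_iff (Pc_nondeg _ _) (Pc_nondeg _ _) (by simp) (by simp), hc]
      simp [Pc_plus])
    (hasO_of hn A (fun v => ?_) (k := 1) (fun h => ?_) (LinearMap.ext fun v => ?_))
    (hasA_of hn B (fun v => ?_) (k := 1) (LinearMap.ext fun v => ?_) (v := ((0, 1), (0, 0))) (fun h => ?_)
      (by simp; decide) ((LinearMap.inl F F F).prodMap (LinearMap.inl F F F))
      (LinearMap.inl_injective.prodMap LinearMap.inl_injective) fun v => ⟨fun h => ?_, ?_⟩)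
  · simp only [hA, QuadraticMap.prod_apply, Pc_apply]; grind
  · simpa [hA, pow_succ] using congrArg (fun x => x.2.1) (LinearMap.congr_fun h ((0, 1), (0, 0)))
  · simp only [pow_succ, pow_zero, one_mul, Nat.reduceMul, End.mul_apply, End.one_apply, hA]
    ext <;> simp only [] <;> grind
  · simp only [hB, QuadraticMap.prod_apply, Pc_apply]; grind
  · simp only [pow_succ, pow_zero, one_mul, Nat.reduceMul, End.mul_apply, End.one_apply, hB]
    ext <;> simp only [] <;> grind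
  · simpa [hB, pow_succ, Finset.sum_range_succ] using congrArg (fun x => x.2.1) h
  · simp only [hB, Prod.ext_iff] at h
    refine ⟨(v.1.1, v.2.1), ?_⟩
    ext <;> simp <;> grind
  · rintro ⟨x, rfl⟩
    simp [hB]

/-- a unipotent isometry of order eight -/
def uA (c : F) : End F ((F × F) × (F × F) × (F × F)) where
  toFun x := ((x.1.1 + x.2.1.1 + x.2.2.1 + x.2.2.2 + c * x.2.1.2, x.1.2),
    (x.2.1.1 + x.2.2.1 + x.2.2.2 + c * x.2.1.2, x.2.1.2 + x.1.2), (x.2.2.1 + x.2.2.2, x.2.2.2 + x.2.1.2))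
  map_add' x y := by ext <;> simp <;> ring
  map_smul' a x := by ext <;> simp <;> ring

theorem uA_apply (c : F) (x) : uA c x = ((x.1.1 + x.2.1.1 + x.2.2.1 + x.2.2.2 + c * x.2.1.2, x.1.2),
    (x.2.1.1 + x.2.2.1 + x.2.2.2 + c * x.2.1.2, x.2.1.2 + x.1.2),
    (x.2.2.1 + x.2.2.2, x.2.2.2 + x.2.1.2)) := rfl

theorem uA_two (c : F) (x) : (uA c ^ 2) x = ((x.1.1 + x.2.2.1 + x.2.1.2 +
    c * x.2.1.2 + c * x.1.2, x.1.2), (x.2.1.1 + x.2.2.2 + x.2.1.2 + c * x.1.2, x.2.1.2),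
    (x.2.2.1 + x.2.1.2, x.2.2.2 + x.1.2)) := by
  have h2 : (2 : F) = 0 := CharTwo.two_eq_zero
  obtain ⟨⟨a, b⟩, ⟨d, e⟩, f, g⟩ := x
  simp only [pow_two, End.mul_apply, uA_apply, Prod.mk.injEq, true_and]
  refine ⟨?_, ⟨?_, ?_⟩, ?_, ?_⟩ <;> grind

theorem uA_four (c : F) (x) :
    (uA c ^ 4) x = ((x.1.1 + x.2.1.2, x.1.2), (x.2.1.1 + x.1.2, x.2.1.2), x.2.2) := by
  have h2 : (2 : F) = 0 := CharTwo.two_eq_zero
  obtain ⟨⟨a, b⟩, ⟨d, e⟩, f, g⟩ := x
  rw [show 4 = 2 + 2 from rfl, pow_add, End.mul_apply, uA_two, uA_two]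
  simp only [Prod.mk.injEq, and_true]
  refine ⟨?_, ?_, ?_, ?_⟩ <;> grind

theorem uA_Q (c : F) (v) : ((Pc (0 : F) 0).prod ((Pc (0 : F) 0).prod (Pc 1 c))) (uA c v) =
    ((Pc (0 : F) 0).prod ((Pc (0 : F) 0).prod (Pc 1 c))) v := by
  have h2 : (2 : F) = 0 := CharTwo.two_eq_zero
  obtain ⟨⟨a, b⟩, ⟨d, e⟩, f, g⟩ := v
  simp only [uA_apply, QuadraticMap.prod_apply, Pc_apply]; grind

variable (F) in
/-- a unipotent isometry of order four -/
def uB : End F ((F × F) × (F × F) × (F × F)) where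
  toFun x := ((x.1.1 + x.2.1.1 + x.2.2.2 + x.2.1.2, x.1.2),
    (x.2.1.1 + x.2.2.2 + x.2.1.2, x.2.1.2 + x.1.2), (x.2.2.1 + x.2.1.2, x.2.2.2))
  map_add' x y := by ext <;> simp <;> ring
  map_smul' a x := by ext <;> simp <;> ring

theorem uB_apply (x) : uB F x = ((x.1.1 + x.2.1.1 + x.2.2.2 + x.2.1.2, x.1.2),
    (x.2.1.1 + x.2.2.2 + x.2.1.2, x.2.1.2 + x.1.2), (x.2.2.1 + x.2.1.2, x.2.2.2)) := rfl

theorem uB_two (x) : (uB F ^ 2) x = ((x.1.1 + x.2.2.2 + x.2.1.2 + x.1.2, x.1.2),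
    (x.2.1.1 + x.1.2, x.2.1.2), (x.2.2.1 + x.1.2, x.2.2.2)) := by
  have h2 : (2 : F) = 0 := CharTwo.two_eq_zero
  obtain ⟨⟨a, b⟩, ⟨d, e⟩, f, g⟩ := x
  simp only [pow_two, End.mul_apply, uB_apply, Prod.mk.injEq, and_true]
  refine ⟨?_, ⟨?_, ?_⟩, ?_⟩ <;> grind

theorem uB_four (x) : (uB F ^ 4) x = x := by
  have h2 : (2 : F) = 0 := CharTwo.two_eq_zero
  obtain ⟨⟨a, b⟩, ⟨d, e⟩, f, g⟩ := x
  rw [show 4 = 2 + 2 from rfl, pow_add, End.mul_apply, uB_two, uB_two]
  simp only [Prod.mk.injEq, and_true]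
  refine ⟨?_, ?_, ?_⟩ <;> grind

theorem uB_Q (c : F) (v) : ((Pc (0 : F) 0).prod ((Pc (0 : F) 0).prod (Pc 1 c))) (uB F v) =
    ((Pc (0 : F) 0).prod ((Pc (0 : F) 0).prod (Pc 1 c))) v := by
  have h2 : (2 : F) = 0 := CharTwo.two_eq_zero
  obtain ⟨⟨a, b⟩, ⟨d, e⟩, f, g⟩ := v
  simp only [uB_apply, QuadraticMap.prod_apply, Pc_apply]; grind

theorem uni3 (P : Prop) : Re F 3 P 8 := by
  have h2 : (2 : F) = 0 := CharTwo.two_eq_zero
  obtain ⟨c, hc⟩ := exists_Pc (F := F) P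
  have hn' := prod_nondeg (Pc_nondeg (0 : F) 0) (Pc_nondeg 1 c)
  have hn := prod_nondeg (Pc_nondeg (0 : F) 0) hn'
  refine Re.of (by simp) hn (by
      rw [CL.Asch.isPlus_prod_iff (Pc_nondeg _ _) hn' (by simp) (by simp; decide),
        CL.Asch.isPlus_prod_iff (Pc_nondeg _ _) (Pc_nondeg _ _) (by simp) (by simp), hc]
      simp [Pc_plus])
    (hasO_of hn (uA c) (uA_Q c) (k := 2) (fun h => ?_) (LinearMap.ext fun v => ?_))
    (hasA_of hn (uB F) (uB_Q c) (k := 2) (LinearMap.ext uB_four) (v := ((0, 1), (0, 0), (0, 0)))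
      (fun h => ?_) (by simp; decide)
      ((LinearMap.inl F F F).prodMap ((LinearMap.inr F _ _).comp (LinearMap.inl F F F)))
      (LinearMap.inl_injective.prodMap (LinearMap.inr_injective.comp LinearMap.inl_injective))
      fun v => ⟨fun h => ?_, ?_⟩)
  · simpa [uA_four] using congrArg (fun x => x.1.1) (LinearMap.congr_fun h ((0, 0), (0, 1), (0, 0)))
  · rw [show 2 ^ (2 + 1) = 4 + 4 from rfl, pow_add, End.mul_apply, uA_four, uA_four]
    ext <;> simp only [End.one_apply] <;> grind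
  · have := congrArg (fun x => x.1.1) h
    simp [uB_apply, pow_succ, Finset.sum_range_succ] at this
    grind
  · obtain ⟨⟨a, b⟩, ⟨d, e⟩, f, g⟩ := v
    simp only [uB_apply, Prod.mk.injEq] at h
    refine ⟨(a, f), ?_⟩
    ext <;> simp <;> grind
  · rintro ⟨x, rfl⟩
    simp [uB_apply]

theorem cop {x y : ℕ} (a b : ℕ) (hy : Odd y) (h : a * x = b * y + 2) : x.Coprime y := by
  refine Nat.coprime_of_dvd fun r hr h1 h2 => ?_
  have h3 : r ∣ 2 := (Nat.dvd_add_right (h2.mul_left b)).1 (h ▸ h1.mul_left a)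
  rw [(Nat.prime_dvd_prime_iff_eq hr Nat.prime_two).1 h3] at h2
  exact (Nat.not_even_iff_odd.2 hy) (even_iff_two_dvd.2 h2)

theorem re_L {p : ℕ} (hp : Fintype.card F = p + 1) : ∀ z ∈ L p, Re F 4 False (z.1 * z.2) := by
  have hp1 : Odd p := by
    have := even_card (F := F)
    rwa [hp, Nat.even_add_one, Nat.not_even_iff_odd] at this
  have a1 : Re F 1 True p := by simpa [hp] using torP (F := F) 1
  have b1 : Re F 1 False (p + 2) := by simpa [hp] using torM (F := F) 1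
  have a2 : Re F 2 True (p * (p + 2)) := by
    have := torP (F := F) 2
    rwa [hp, Nat.sub_eq_of_eq_add (show (p + 1) ^ 2 = p * (p + 2) + 1 by ring)] at this
  have b2 : Re F 2 False ((p + 1) ^ 2 + 1) := hp ▸ torM (F := F) 2
  have a3 : Re F 3 True (p * (p ^ 2 + 3 * p + 3)) := by
    have := torP (F := F) 3
    rwa [hp, Nat.sub_eq_of_eq_add (show (p + 1) ^ 3 = p * (p ^ 2 + 3 * p + 3) + 1 by ring)] at this
  have b3 : Re F 3 False ((p + 2) * (p ^ 2 + p + 1)) := by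
    have := torM (F := F) 3
    rwa [hp, show (p + 1) ^ 3 + 1 = (p + 2) * (p ^ 2 + p + 1) by ring] at this
  have b4 : Re F 4 False ((p + 1) ^ 4 + 1) := hp ▸ torM (F := F) 4
  have o1 : Odd (p + 2) := hp1.add_even even_two
  have o2 : Odd ((p + 1) ^ 2 + 1) := (hp1.add_one.pow_of_ne_zero two_ne_zero).add_one
  have o3 : Odd (p * (p ^ 2 + 3 * p + 3)) :=
    hp1.mul ((hp1.pow.add_odd ((by decide : Odd 3).mul hp1)).add_odd (by decide))
  have o4 : Odd ((p + 2) * (p ^ 2 + p + 1)) := o1.mul (hp1.pow.add_odd hp1).add_one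
  have c2 : ∀ {m : ℕ} (k : ℕ), Odd m → m.Coprime (2 ^ k) := fun k h =>
    (Nat.coprime_two_right.2 h).pow_right k
  have key : ∀ {d d' M N : ℕ} {P : Prop}, Re F d P M → Odd M → M.Coprime N →
      (∀ P', Re F d' P' N) → d + d' = 4 → Re F 4 False (N * M) := by
    intro d d' M N P h1 h2 h3 h4 h5
    simpa [h5, mul_comm] using h1.mul (h4 (¬ P)) h2 h3
  simp only [L, List.mem_cons, List.not_mem_nil, or_false]
  rintro z (rfl | rfl | rfl | rfl | rfl | rfl | rfl | rfl | rfl | rfl | rfl | rfl)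
  · simpa using b4
  · simpa using a2.mul b2 (hp1.mul o1) (cop 1 1 (hp1.mul o1) (by ring)).symm
  · simpa using b3.mul a1 o4 (cop 1 (p ^ 2 + 3 * p + 3) hp1 (by ring))
  · simpa using a3.mul b1 o3 (cop (p ^ 2 + p + 1) 1 o3 (by ring)).symm
  · exact key b3 o4 (c2 1 o4) uni1 rfl
  · exact key a3 o3 (c2 1 o3) uni1 rfl
  · exact key (b2.mul b1 o2 (cop 1 p o1 (by ring))) (o2.mul o1) (c2 1 (o2.mul o1)) uni1 rfl
  · exact key (b2.mul a1 o2 (cop 1 (p + 2) hp1 (by ring))) (o2.mul hp1) (c2 1 (o2.mul hp1)) uni1 rfl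
  · exact key a2 (hp1.mul o1) (c2 2 (hp1.mul o1)) uni2 rfl
  · exact key b2 o2 (c2 2 o2) uni2 rfl
  · exact key b1 o1 (c2 3 o1) uni3 rfl
  · exact key a1 hp1 (c2 3 hp1) uni3 rfl

/-- the common spectrum -/
def Om (p : ℕ) : Set ℕ := {k | ∃ z ∈ L p, k ∣ z.1 * z.2}

section Main

open CL.GLn CL.SpU CL.Witt Polynomial

variable {V : Type*} [AddCommGroup V] [Module F V] [FiniteDimensional F V] {Q : QuadraticForm F V}
  {p : ℕ} (hp : Fintype.card F = p + 1)
include hp

theorem exists_dvd_alt (hV : finrank F V = 2 * 4) {A : End F V} (h : IsReal (FormType.alt F) A) :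
    ∃ z ∈ L p, A.charpoly ∣ X ^ (z.1 * z.2) - 1 := by
  obtain ⟨B, hB⟩ := h.exists_sp hV
  rw [hB.charpoly, Matrix.charpoly_toLin']
  exact exists_dvd hp (Matrix.charpoly_monic _) (by simp [Matrix.charpoly_natDegree_eq_dim])
    (reverse_charpoly_sp B)

omit hp in
theorem pow_eq_one_of_dvd {A : End F V} {N : ℕ} (h : A.charpoly ∣ X ^ N - 1) : A ^ N = 1 := by
  obtain ⟨f, hf⟩ := h
  have := congrArg (aeval A) hf
  rwa [map_mul, LinearMap.aeval_self_charpoly, zero_mul, map_sub, map_pow, aeval_X, map_one,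
    sub_eq_zero] at this

omit hp in
theorem finite_O : Finite (O Q) :=
  have : Finite V := Module.finite_of_finite F
  Finite.of_injective (fun g : O Q => (g.1 : V → V)) fun _ _ h => O_ext (congrFun h)

omit hp in
theorem isReal_O (hQ : (polarBilin Q).Nondegenerate) (g : O Q) :
    IsReal (FormType.alt F) (toEnd Q g) :=
  isReal_quad_iff_alt.1 (isReal_quad_iff.2 ⟨Q, hQ, g.2⟩)

theorem has_L (hV : finrank F V = 2 * 4) (hQ : (polarBilin Q).Nondegenerate) (hm : ¬ IsPlus Q) :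
    ∀ z ∈ L p, HasO Q (z.1 * z.2) ∧ HasA Q (z.1 * z.2) := by
  intro z hz
  obtain ⟨Q', h1, h2, h3, h4⟩ := re_L hp z hz
  obtain ⟨e, he⟩ := exists_isometry_of_isPlus_iff h1 hQ (by simp; decide) (by simp [hV])
    (by simp [h2, hm])
  exact ⟨h3.congr e he, h4.congr e he⟩

theorem range_O (hV : finrank F V = 2 * 4) (hQ : (polarBilin Q).Nondegenerate) (hm : ¬ IsPlus Q) :
    Set.range (orderOf : O Q → ℕ) = Om p := by
  have := finite_O (Q := Q)
  refine Set.Subset.antisymm ?_ ?_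
  · rintro _ ⟨g, rfl⟩
    obtain ⟨z, hz, h⟩ := exists_dvd_alt hp hV (isReal_O hQ g)
    exact ⟨z, hz, orderOf_dvd_of_pow_eq_one (toEnd_injective (by
      rw [map_pow, pow_eq_one_of_dvd h, map_one]))⟩
  · rintro k ⟨z, hz, h⟩
    exact CL.Spec.mem_range_of_dvd (has_L hp hV hQ hm z hz).1 h

theorem range_PSp : Set.range (orderOf : Cfsg.PSp 4 F → ℕ) = Om p := by
  have hneg : ∀ {V : Type _} [AddCommGroup V] [Module F V], (-1 : End F V) = 1 := fun {V} _ _ =>
    LinearMap.ext fun v => by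
      rw [LinearMap.neg_apply, neg_eq_iff_add_eq_zero, ← two_smul F, CharTwo.two_eq_zero, zero_smul]
  ext k
  rw [mem_range_PSp_iff]
  constructor
  · rintro ⟨A, h1, h2⟩
    obtain ⟨z, hz, h⟩ := exists_dvd_alt hp (by simp) h1
    exact ⟨z, hz, (h2 _).1 (Or.inl (pow_eq_one_of_dvd h))⟩
  · intro hk
    obtain ⟨ζ, hζ⟩ := exists_irred_quadratic F
    have hab := aniso_of_irred hζ
    rw [← range_O hp (by simp) (QMinus_nondeg 3 F hab) (not_isPlus_QMinus hab)] at hk
    obtain ⟨g, rfl⟩ := hk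
    refine SpSpec.of (by simp) (isReal_O (QMinus_nondeg 3 F hab) g) fun n => ?_
    rw [hneg, or_self, ← orderOf_dvd_iff_pow_eq_one, orderOf_injective (toEnd _) toEnd_injective]

theorem range_Aff (hV : finrank F V = 2 * 4) (hQ : (polarBilin Q).Nondegenerate) (hm : ¬ IsPlus Q) :
    Set.range (orderOf : CL.Spec.Aff V (dickson hQ (Or.inr (by omega))).ker → ℕ) = Om p := by
  have : Finite V := Module.finite_of_finite F
  have := finite_O (Q := Q)
  have e : ∀ (a : CL.Spec.Aff V (dickson hQ (Or.inr (by omega))).ker) n, a ^ n = 1 ↔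
      (a.g.1 ^ n = 1 ∧ ∑ i ∈ Finset.range n, (a.g.1 ^ i).1 a.v = 0) := fun a n => by
    rw [CL.Spec.Aff.pow_eq, CL.Spec.Aff.ext_iff, and_comm, Subtype.ext_iff]; rfl
  refine Set.Subset.antisymm ?_ ?_
  · rintro _ ⟨a, rfl⟩
    obtain ⟨z, hz, h⟩ := exists_dvd_alt hp hV (isReal_O hQ a.g.1)
    refine ⟨z, hz, orderOf_dvd_of_pow_eq_one ((e _ _).2 ⟨toEnd_injective (by
      rw [map_pow, pow_eq_one_of_dvd h, map_one]), ?_⟩)⟩
    have h1 := finrank_moved_add_fixed a.g.1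
    have h2 := dsign_eq_one_iff.1 a.g.2
    have h3 := LinearMap.congr_fun (geom_eq_zero (fun h3 => by
      change finrank F (fixed a.g.1) = 1 at h3
      rw [Nat.even_iff] at h2
      omega) h) a.v
    simp only [LinearMap.sum_apply, ← map_pow, LinearMap.zero_apply] at h3
    exact h3
  · rintro k ⟨z, hz, h⟩
    obtain ⟨g, v, h1, h2⟩ := (has_L hp hV hQ hm z hz).2
    refine CL.Spec.mem_range_of_dvd ⟨⟨v, ⟨g, h1⟩⟩, ?_⟩ h
    exact eq_of_forall_pow_iff (fun n => orderOf_dvd_iff_pow_eq_one.symm) fun n => (e _ n).trans (h2 n)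

end Main

end CL.KSG.Sp8
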