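import Cfsg.Agent.KSG.GLnElemDiv

/-!
# Palindromic polynomials of degree eight over a finite field of characteristic two
-/

set_option autoImplicit false
set_option linter.unusedSectionVars false

namespace CL.KSG.Sp8

open Polynomial

section Roots

variable {K : Type*} [Field K] (φ : K →+* K)

open Classical in
/-- the type of an eigenvalue -/
noncomputable def ty (y : K) : ℕ :=
  if y = 1 then 0 else if φ^[1] y = y then 1 else if φ^[1] y = y⁻¹ then 2 else
  if φ^[2] y = y then 3 else if φ^[2] y = y⁻¹ then 4 else if φ^[3] y = y then 5 else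
  if φ^[3] y = y⁻¹ then 6 else if φ^[4] y = y then 7 else if φ^[4] y = y⁻¹ then 8 else 9

theorem it_inv (i : ℕ) (y : K) : φ^[i] y⁻¹ = (φ^[i] y)⁻¹ := by
  rw [← RingHom.coe_pow, map_inv₀]

theorem it_inj (i : ℕ) : Function.Injective φ^[i] := φ.injective.iterate i

theorem ty_inv (y : K) : ty φ y⁻¹ = ty φ y := by
  have h1 : ∀ i, φ^[i] y⁻¹ = y⁻¹ ↔ φ^[i] y = y := fun i => by rw [it_inv, inv_inj]
  have h2 : ∀ i, φ^[i] y⁻¹ = y⁻¹⁻¹ ↔ φ^[i] y = y⁻¹ := fun i => by rw [it_inv, inv_inj]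
  classical
  unfold ty
  simp only [inv_eq_one, h1, h2]

theorem ty_map (y : K) : ty φ (φ y) = ty φ y := by
  have h : ∀ i, φ^[i] (φ y) = φ (φ^[i] y) := fun i => by
    rw [← Function.iterate_succ_apply, Function.iterate_succ_apply']
  classical
  unfold ty
  simp only [h, ← map_inv₀, φ.injective.eq_iff, map_eq_one_iff φ φ.injective]

theorem ty_lt (y : K) : ty φ y < 10 := by
  unfold ty; split_ifs <;> omega

theorem ty_ne {y : K} {i : ℕ} (h0 : 0 < i) (h : 2 * i < ty φ y) : φ^[i] y ≠ y ∧ φ^[i] y ≠ y⁻¹ := by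
  have := ty_lt φ y
  have h1 : i = 1 ∨ i = 2 ∨ i = 3 ∨ i = 4 := by omega
  unfold ty at h
  rcases h1 with rfl | rfl | rfl | rfl <;>
    split_ifs at h <;> first | omega | exact ⟨by assumption, by assumption⟩

variable [CharP K 2] [DecidableEq K] {R : Multiset K}

theorem bound (h0 : 0 ∉ R) (h1 : R.map φ = R) (h2 : R.map (·⁻¹) = R) {x : K} (hx : x ∈ R) :
    (if ty φ x = 0 then 1 else 2 * ((ty φ x + 1) / 2)) * R.count x ≤ (R.map (ty φ)).count (ty φ x) := by
  have c1 : ∀ y, R.count (φ y) = R.count y := fun y => by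
    conv_lhs => rw [← h1]
    exact Multiset.count_map_eq_count' _ _ φ.injective _
  have c2 : ∀ y, R.count y⁻¹ = R.count y := fun y => by
    conv_lhs => rw [← h2]
    exact Multiset.count_map_eq_count' _ _ inv_injective _
  have key : ∀ S : Finset K, (∀ y ∈ S, R.count y = R.count x ∧ ty φ y = ty φ x) →
      S.card * R.count x ≤ (R.map (ty φ)).count (ty φ x) := by
    intro S hS
    have h3 : R.count x • S.val ≤ R.filter (fun y => ty φ x = ty φ y) := by
      rw [Multiset.le_iff_count]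
      intro y
      rw [Multiset.count_nsmul]
      by_cases hy : y ∈ S
      · rw [Multiset.count_eq_one_of_mem S.nodup hy, 
          Multiset.count_filter_of_pos (p := fun y => ty φ x = ty φ y) (hS y hy).2.symm,
          (hS y hy).1, mul_one]
      · rw [Multiset.count_eq_zero_of_notMem hy]; simp
    have := Multiset.card_le_card h3
    rwa [Multiset.card_nsmul, Finset.card_val, mul_comm, ← Multiset.count_map] at this
  split_ifs with h
  · simpa using key {x} (by simp)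
  set d := (ty φ x + 1) / 2 with hd
  have hx1 : x ≠ x⁻¹ := fun e => h (by
    have hx0 : x ≠ 0 := fun e => h0 (e ▸ hx)
    have h3 : (x - 1) ^ 2 = 0 := by
      rw [sub_pow_char, one_pow, pow_two]; nth_rewrite 2 [e]; rw [mul_inv_cancel₀ hx0, sub_self]
    rw [ty, if_pos (sub_eq_zero.1 (pow_eq_zero_iff two_ne_zero |>.1 h3))])
  have hne : ∀ i j, i < j → j < d → φ^[j] x ≠ φ^[i] x ∧ φ^[j] x ≠ (φ^[i] x)⁻¹ := by
    intro i j hij hj
    obtain ⟨k, rfl⟩ := Nat.exists_eq_add_of_lt hij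
    have := ty_ne φ (y := x) (i := k + 1) (by omega) (by omega)
    rw [add_assoc, Function.iterate_add_apply, ← it_inv]
    exact ⟨(it_inj φ i).ne this.1, (it_inj φ i).ne this.2⟩
  have hit : ∀ i, R.count (φ^[i] x) = R.count x ∧ ty φ (φ^[i] x) = ty φ x := by
    intro i
    induction i with
    | zero => exact ⟨rfl, rfl⟩
    | succ i ih => rw [Function.iterate_succ_apply', c1, ty_map]; exact ih
  let f : Fin d × Bool → K := fun z => if z.2 then φ^[z.1] x else (φ^[z.1] x)⁻¹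
  have hf : Function.Injective f := by
    rintro ⟨i, b⟩ ⟨j, c⟩ e
    have h4 : ∀ i, φ^[i] x ≠ (φ^[i] x)⁻¹ := fun i => by rw [← it_inv]; exact (it_inj φ i).ne hx1
    rcases lt_trichotomy i.val j.val with h3 | h3 | h3
    · have := hne _ _ h3 j.2
      cases b <;> cases c
      exacts [absurd (inv_injective e).symm this.1, absurd e.symm this.2,
        absurd (inv_eq_iff_eq_inv.1 e.symm) this.2, absurd e.symm this.1]
    · obtain rfl : i = j := Fin.ext h3
      cases b <;> cases c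
      exacts [rfl, absurd e.symm (h4 i), absurd e (h4 i), rfl]
    · have := hne _ _ h3 i.2
      cases b <;> cases c
      exacts [absurd (inv_injective e) this.1, absurd (inv_eq_iff_eq_inv.1 e) this.2,
        absurd e this.2, absurd e this.1]
  have := key (Finset.univ.map ⟨f, hf⟩) (by
    simp only [Finset.mem_map, Finset.mem_univ, true_and, Function.Embedding.coeFn_mk]
    rintro _ ⟨⟨i, b⟩, rfl⟩
    cases b
    · simp only [f, Bool.false_eq_true, if_false, c2, ty_inv]; exact hit i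
    · exact hit i)
  simpa [mul_comm] using this

end Roots

/-- The maximal element orders, with their even and odd parts; here `p + 1` is the order of the
field. -/
def L (p : ℕ) : List (ℕ × ℕ) :=
  [(1, (p + 1) ^ 4 + 1), (1, p * (p + 2) * ((p + 1) ^ 2 + 1)), (1, (p + 2) * (p ^ 2 + p + 1) * p),
    (1, p * (p ^ 2 + 3 * p + 3) * (p + 2)), (2, (p + 2) * (p ^ 2 + p + 1)), (2, p * (p ^ 2 + 3 * p + 3)),
    (2, ((p + 1) ^ 2 + 1) * (p + 2)), (2, ((p + 1) ^ 2 + 1) * p), (4, p * (p + 2)), (4, (p + 1) ^ 2 + 1),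
    (8, p + 2), (8, p)]

theorem exists_L {K : Type*} [Field K] [CharP K 2] [DecidableEq K] (φ : K →+* K) {p : ℕ}
    (hφ : ∀ y, φ y = y ^ (p + 1)) {R : Multiset K} (h0 : 0 ∉ R) (h1 : R.map φ = R)
    (h2 : R.map (·⁻¹) = R) (hc : R.card = 8) :
    ∃ z ∈ L p, ∀ y ∈ R, y ^ z.2 = 1 ∧ R.count y ≤ z.1 := by
  obtain ⟨N, hN⟩ : ∃ N : ℕ → ℕ, ∀ k, N k = (R.map (ty φ)).count k := ⟨_, fun _ => rfl⟩
  have hs : N 0 + N 1 + N 2 + N 3 + N 4 + N 5 + N 6 + N 7 + N 8 + N 9 = 8 := by
    have := Multiset.sum_count_eq_card (m := R.map (ty φ)) (s := Finset.range 10) (by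
      intro a ha
      obtain ⟨y, -, rfl⟩ := Multiset.mem_map.1 ha
      exact Finset.mem_range.2 (ty_lt φ y))
    simpa [Finset.sum_range_succ, ← hN, hc] using this
  have hb : ∀ y ∈ R, (if ty φ y = 0 then 1 else 2 * ((ty φ y + 1) / 2)) * R.count y ≤ N (ty φ y) :=
    fun y hy => hN _ ▸ bound φ h0 h1 h2 hy
  have hz : ∀ k, N k = 0 ∨ (if k = 0 then 1 else 2 * ((k + 1) / 2)) ≤ N k := fun k => by
    refine or_iff_not_imp_left.2 fun h => ?_
    rw [hN, Multiset.count_eq_zero, not_not] at h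
    obtain ⟨y, hy, rfl⟩ := Multiset.mem_map.1 h
    exact (Nat.le_mul_of_pos_right _ (Multiset.count_pos.2 hy)).trans (hb y hy)
  have hit : ∀ i y, φ^[i] y = y ^ (p + 1) ^ i := fun i y => by
    induction i with
    | zero => simp
    | succ i ih => rw [Function.iterate_succ_apply', ih, hφ, ← pow_mul, ← pow_succ]
  have e1 : ∀ {i m : ℕ} {y : K}, y ≠ 0 → m + 1 = (p + 1) ^ i → φ^[i] y = y → y ^ m = 1 :=
    fun hy hm h => mul_right_cancel₀ hy (by rw [← pow_succ, hm, ← hit, h, one_mul])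
  have e2 : ∀ {i m : ℕ} {y : K}, y ≠ 0 → m = (p + 1) ^ i + 1 → φ^[i] y = y⁻¹ → y ^ m = 1 :=
    fun hy hm h => by rw [hm, pow_succ, ← hit, h, inv_mul_cancel₀ hy]
  unfold L
  generalize ha : p + 2 = b at *
  generalize hc : (p + 1) ^ 2 + 1 = c at *
  generalize hd : p ^ 2 + 3 * p + 3 = d at *
  generalize he : p ^ 2 + p + 1 = e at *
  generalize hf : (p + 1) ^ 4 + 1 = f at *
  have key : ∀ a m : ℕ, (N 0 ≤ a ∧ (N 1 = 0 ∨ N 1 < 2 * (a + 1) ∧ p ∣ m) ∧
      (N 2 = 0 ∨ N 2 < 2 * (a + 1) ∧ b ∣ m) ∧ (N 3 = 0 ∨ N 3 < 4 * (a + 1) ∧ p * b ∣ m) ∧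
      (N 4 = 0 ∨ N 4 < 4 * (a + 1) ∧ c ∣ m) ∧ (N 5 = 0 ∨ N 5 < 6 * (a + 1) ∧ p * d ∣ m) ∧
      (N 6 = 0 ∨ N 6 < 6 * (a + 1) ∧ b * e ∣ m) ∧ (N 7 = 0 ∨ N 7 < 8 * (a + 1) ∧ p * b * c ∣ m) ∧
      (N 8 = 0 ∨ N 8 < 8 * (a + 1) ∧ f ∣ m)) → ∀ y ∈ R, y ^ m = 1 ∧ R.count y ≤ a := by
    rintro a m ⟨k0, k1, k2, k3, k4, k5, k6, k7, k8⟩ y hy
    have h3 := hb y hy
    have h4 := Multiset.count_pos.2 hy
    have hy0 : y ≠ 0 := fun e => h0 (e ▸ hy)
    have h5 : ∀ {n : ℕ}, y ^ n = 1 → n ∣ m → y ^ m = 1 := by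
      rintro n h ⟨k, rfl⟩; rw [pow_mul, h, one_pow]
    generalize hk : ty φ y = k at h3
    unfold ty at hk
    split_ifs at hk with t0 t1 t2 t3 t4 t5 t6 t7 t8 <;> subst hk <;> norm_num at h3
    · exact ⟨by rw [t0, one_pow], by omega⟩
    · exact ⟨h5 (e1 hy0 (by ring) t1) (k1.resolve_left (by omega)).2, by omega⟩
    · exact ⟨h5 (e2 hy0 (by rw [← ha]; ring) t2) (k2.resolve_left (by omega)).2, by omega⟩
    · exact ⟨h5 (e1 hy0 (by rw [← ha]; ring) t3) (k3.resolve_left (by omega)).2, by omega⟩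
    · exact ⟨h5 (e2 hy0 hc.symm t4) (k4.resolve_left (by omega)).2, by omega⟩
    · exact ⟨h5 (e1 hy0 (by rw [← hd]; ring) t5) (k5.resolve_left (by omega)).2, by omega⟩
    · exact ⟨h5 (e2 hy0 (by rw [← ha, ← he]; ring) t6) (k6.resolve_left (by omega)).2, by omega⟩
    · exact ⟨h5 (e1 hy0 (by rw [← ha, ← hc]; ring) t7) (k7.resolve_left (by omega)).2, by omega⟩
    · exact ⟨h5 (e2 hy0 hf.symm t8) (k8.resolve_left (by omega)).2, by omega⟩
    · omega
  have z1 := hz 1
  have z2 := hz 2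
  have z3 := hz 3
  have z4 := hz 4
  have z5 := hz 5
  have z6 := hz 6
  have z7 := hz 7
  have z8 := hz 8
  have z9 := hz 9
  norm_num at z1 z2 z3 z4 z5 z6 z7 z8 z9
  have d1 : p ∣ p * b * c := ⟨b * c, by ring⟩
  have d2 : b ∣ p * b * c := ⟨p * c, by ring⟩
  have d3 : p ∣ p * d * b := ⟨d * b, by ring⟩
  have d4 : b ∣ b * e * p := ⟨e * p, by ring⟩
  simp only [List.mem_cons, List.not_mem_nil, or_false, exists_eq_or_imp, exists_eq_left]
  by_cases t8 : N 8 ≠ 0
  · exact Or.inl (key _ _ (by simp only [dvd_rfl, and_true]; omega))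
  by_cases t7 : N 7 ≠ 0 ∨ (N 4 ≠ 0 ∧ (N 3 ≠ 0 ∨ N 1 ≠ 0 ∧ N 2 ≠ 0))
  · exact Or.inr (Or.inl (key _ _ (by
      simp only [dvd_rfl, d1, d2, dvd_mul_right, dvd_mul_left, and_true]; omega)))
  by_cases t6 : N 6 ≠ 0
  · by_cases t1 : N 1 ≠ 0
    · exact Or.inr (Or.inr (Or.inl (key _ _ (by
        simp only [dvd_mul_right, dvd_mul_left, and_true]; omega))))
    · exact Or.inr (Or.inr (Or.inr (Or.inr (Or.inl (key _ _ (by
        simp only [dvd_rfl, dvd_mul_right, and_true]; omega))))))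
  by_cases t5 : N 5 ≠ 0
  · by_cases t2 : N 2 ≠ 0
    · exact Or.inr (Or.inr (Or.inr (Or.inl (key _ _ (by
        simp only [dvd_mul_right, dvd_mul_left, and_true]; omega)))))
    · exact Or.inr (Or.inr (Or.inr (Or.inr (Or.inr (Or.inl (key _ _ (by
        simp only [dvd_rfl, dvd_mul_right, and_true]; omega)))))))
  refine Or.inr (Or.inr (Or.inr (Or.inr (Or.inr (Or.inr ?_)))))
  by_cases t4 : N 4 ≠ 0
  · by_cases t2 : N 2 ≠ 0
    · exact Or.inl (key _ _ (by simp only [dvd_mul_right, dvd_mul_left, and_true]; omega))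
    by_cases t1 : N 1 ≠ 0
    · exact Or.inr (Or.inl (key _ _ (by simp only [dvd_mul_right, dvd_mul_left, and_true]; omega)))
    · exact Or.inr (Or.inr (Or.inr (Or.inl (key _ _ (by simp only [dvd_rfl, and_true]; omega)))))
  by_cases t3 : N 3 ≠ 0 ∨ N 1 ≠ 0 ∧ N 2 ≠ 0
  · exact Or.inr (Or.inr (Or.inl (key _ _ (by
      simp only [dvd_rfl, dvd_mul_right, dvd_mul_left, and_true]; omega))))
  by_cases t1 : N 1 ≠ 0
  · exact Or.inr (Or.inr (Or.inr (Or.inr (Or.inr (key _ _ (by simp only [dvd_rfl, and_true]; omega))))))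
  · exact Or.inr (Or.inr (Or.inr (Or.inr (Or.inl (key _ _ (by simp only [dvd_rfl, and_true]; omega))))))

theorem roots_reverse_prod {K : Type*} [Field K] (R : Multiset K) (h0 : 0 ∉ R) :
    (R.map fun a => X - C a).prod.reverse.roots = R.map (·⁻¹) := by
  have h1 : (1 : K[X]).reverse = 1 := by rw [← C_1, reverse_C]
  induction R using Multiset.induction_on with
  | empty => simp [h1]
  | cons a R ih =>
    have ha : a ≠ 0 := fun e => h0 (by simp [e])
    have e : (X - C a).reverse = C (-a) * (X - C a⁻¹) := by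
      rw [sub_eq_add_neg, ← C_neg, reverse_add_C, natDegree_X, mul_sub, ← C_mul, neg_mul,
        mul_inv_cancel₀ ha, show (X : K[X]) = X * 1 by simp, reverse_X_mul]
      simp [add_comm, h1]
    have h1 : (R.map fun a => X - C a).prod.reverse ≠ 0 := by
      rw [Ne, reverse_eq_zero]
      exact (monic_multiset_prod_of_monic _ _ fun a _ => monic_X_sub_C a).ne_zero
    rw [Multiset.map_cons, Multiset.prod_cons, reverse_mul_of_domain, e, mul_assoc,
      roots_C_mul _ (neg_ne_zero.2 ha), roots_mul (mul_ne_zero (X_sub_C_ne_zero _) h1), roots_X_sub_C,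
      ih fun h => h0 (by simp [h]), Multiset.map_cons, Multiset.singleton_add]

variable {F : Type*} [Field F] [Fintype F] [CharP F 2]

theorem exists_dvd {p : ℕ} (hp : Fintype.card F = p + 1) {f : F[X]} (hf : f.Monic)
    (hd : f.natDegree = 8) (hr : f.reverse = f) : ∃ z ∈ L p, f ∣ X ^ (z.1 * z.2) - 1 := by
  classical
  let K := AlgebraicClosure F
  set g := f.map (algebraMap F K) with hg
  have hs : g.Splits := IsAlgClosed.splits _
  have e := hs.eq_prod_roots_of_monic (hf.map _)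
  obtain ⟨n, -, hn⟩ := FiniteField.card F 2
  have hφ : ∀ y : K, iterateFrobenius K 2 n y = y ^ (p + 1) := fun y => by
    rw [iterateFrobenius_def, ← hn, hp]
  have h0 : (0 : K) ∉ g.roots := fun h => by
    have h1 := (mem_roots (hf.map _).ne_zero).1 h
    rw [IsRoot.def, ← coeff_zero_eq_eval_zero, coeff_map, ← hr, coeff_zero_reverse, hf.leadingCoeff,
      map_one] at h1
    exact one_ne_zero h1
  obtain ⟨z, hz, h⟩ := exists_L (iterateFrobenius K 2 n) hφ h0 (by
    rw [← hs.roots_map, hg, Polynomial.map_map]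
    congr 2
    ext a
    rw [RingHom.comp_apply, hφ, ← map_pow, ← hp, FiniteField.pow_card]) (by
    rw [← roots_reverse_prod _ h0, ← e, hg]
    congr 1
    conv_rhs => rw [← hr]
    rw [reverse, reverse, natDegree_map, reflect_map]) (by
    rw [← hs.natDegree_eq_card_roots, hg, natDegree_map, hd])
  refine ⟨z, hz, (map_dvd_map' (algebraMap F K)).1 ?_⟩
  obtain ⟨a, ha⟩ : ∃ a, z.1 = 2 ^ a := by
    simp only [L, List.mem_cons, List.not_mem_nil, or_false] at hz
    rcases hz with rfl | rfl | rfl | rfl | rfl | rfl | rfl | rfl | rfl | rfl | rfl | rfl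
    exacts [⟨0, rfl⟩, ⟨0, rfl⟩, ⟨0, rfl⟩, ⟨0, rfl⟩, ⟨1, rfl⟩, ⟨1, rfl⟩, ⟨1, rfl⟩, ⟨1, rfl⟩, ⟨2, rfl⟩,
      ⟨2, rfl⟩, ⟨3, rfl⟩, ⟨3, rfl⟩]
  rw [Polynomial.map_sub, Polynomial.map_pow, map_X, Polynomial.map_one, mul_comm, pow_mul, ha,
    ← one_pow (M := K[X]) (2 ^ a), ← sub_pow_char_pow, ← hg]
  by_cases h1 : (X ^ z.2 - 1 : K[X]) = 0
  · rw [h1, zero_pow (by positivity)]; exact dvd_zero _
  rw [e, Multiset.prod_X_sub_C_dvd_iff_le_roots (pow_ne_zero _ h1), roots_pow, Multiset.le_iff_count]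
  intro y
  by_cases hy : y ∈ g.roots
  · rw [Multiset.count_nsmul, ← ha]
    exact (h y hy).2.trans (Nat.le_mul_of_pos_right _ (Multiset.count_pos.2
      ((mem_roots h1).2 (by simp [(h y hy).1]))))
  · simp [Multiset.count_eq_zero_of_notMem hy]

/-- If the fixed space does not have dimension one then geometric sums vanish. -/
theorem geom_eq_zero {F V : Type*} [Field F] [AddCommGroup V] [Module F V] [FiniteDimensional F V]
    {A : Module.End F V} (h1 : Module.finrank F (LinearMap.ker (A - 1)) ≠ 1) {N : ℕ}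
    (h : A.charpoly ∣ X ^ N - 1) : ∑ i ∈ Finset.range N, A ^ i = 0 := by
  classical
  obtain ⟨s, hs⟩ := CL.GLn.exists_hasED A
  have e : ∑ i ∈ Finset.range N, A ^ i = aeval A (∑ i ∈ Finset.range N, (X : F[X]) ^ i) := by simp
  rw [e, hs.aeval_eq_zero_iff]
  intro x hx
  rw [hs.charpoly_eq, ← geom_sum_mul, ← Multiset.cons_erase hx, Multiset.map_cons,
    Multiset.prod_cons] at h
  obtain ⟨x1, x2, x3⟩ := hs.1 x hx
  by_cases h2 : x.1 = X - C 1
  · have h3 := hs.kd_pow (monic_X_sub_C 1) (irreducible_X_sub_C 1) 1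
    rw [CL.GLn.kd, pow_one, natDegree_X_sub_C, mul_one, ← Multiset.cons_erase hx, Multiset.map_cons,
      Multiset.sum_cons, if_pos h2, min_eq_left x3] at h3
    obtain ⟨y, hy, hy1⟩ : ∃ y ∈ s.erase x, y.1 = X - C 1 := by
      by_contra h4
      push Not at h4
      rw [Multiset.sum_eq_zero (by
        intro k hk
        obtain ⟨y, hy, rfl⟩ := Multiset.mem_map.1 hk
        rw [if_neg (h4 y hy)])] at h3
      exact h1 (by rwa [C_1, map_sub, aeval_X, map_one] at h3)
    refine (mul_dvd_mul_iff_right (X_sub_C_ne_zero (1 : F))).1 ((mul_dvd_mul_left _ ?_).trans h)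
    rw [← hy1]
    exact (dvd_pow_self _ (hs.1 y (Multiset.mem_of_mem_erase hy)).2.2.ne').trans
      (Multiset.dvd_prod (Multiset.mem_map_of_mem (fun x : F[X] × ℕ => x.1 ^ x.2) hy))
  · exact (IsCoprime.pow_left (CL.GLn.isCoprime_of_monic_irreducible_ne x1 x2 (monic_X_sub_C 1)
      (irreducible_X_sub_C 1) h2)).dvd_of_dvd_mul_right ((dvd_mul_right _ _).trans h)

end CL.KSG.Sp8
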