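import Cfsg.Agent.KSG.WagNat

/-!
# Minimal degrees of representations of double covers of alternating groups
-/

set_option autoImplicit false

namespace CL.Wag

open Module Equiv Equiv.Perm CL.AltPres CL.Schur CL.AltCover CL.KSG

universe u v w

variable (K : Type w) [Field K]

/-- lower bound `d` for nontrivial representations in degree at least `r` -/
def P (e r d : ℕ) : Prop :=
  ∀ (α : Type) [Fintype α] [DecidableEq α] (Γ : Type u) [Group Γ] (σ : Γ →* alternatingGroup α),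
    DC e σ → r ≤ Fintype.card α → ∀ (V : Type v) [AddCommGroup V] [Module K V] [FiniteDimensional K V]
      (ρ : Γ →* End K V), fix σ ρ ≠ ⊤ → d + finrank K (fix σ ρ) ≤ finrank K V

/-- lower bound `n` for modules of the Clifford-type algebra on `m` generators -/
def Cl (m n : ℕ) : Prop :=
  ∀ (V : Type v) [AddCommGroup V] [Module K V] [FiniteDimensional K V] [Nontrivial V]
    (X : Fin m → End K V), (∀ i, X i * X i + X i + 1 = 0) →
      (∀ i j, i ≠ j → X i * X j + X j * X i + X i + X j + 1 = 0) → n ≤ finrank K V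

variable {K} {e r d m n : ℕ}

theorem P.mono {r' d' : ℕ} (h : P.{u, v} K e r d) (h1 : r ≤ r') (h2 : d' ≤ d) : P.{u, v} K e r' d' :=
  fun α _ _ Γ _ σ hσ hr V _ _ _ ρ h0 => (Nat.add_le_add_right h2 _).trans
    (h α Γ σ hσ (h1.trans hr) V ρ h0)

theorem Cl.mono {m' n' : ℕ} (h : Cl.{v} K m n) (h1 : m ≤ m') (h2 : n' ≤ n) : Cl.{v} K m' n' :=
  fun V _ _ _ _ X a b => h2.trans (h V (fun i => X (i.castLE h1)) (fun _ => a _)
    fun _ _ hij => b _ _ ((Fin.castLE_injective h1).ne hij))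

theorem cl_odd [IsAlgClosed K] (k : ℕ) (h2 : (2 : K) ≠ 0) (hm : (m + 2 : K) ≠ 0) (hk : 2 * k ≤ m) :
    Cl.{v} K m (2 ^ k) := fun V _ _ _ _ X a b =>
  clif_fam (fun i => X i + X i + 1) (a := -3) (b := -2) (fun i => by
      simp only [add_mul, mul_add, mul_one, one_mul]
      linear_combination (norm := module) (4 : K) • a i) (fun i j h => by
      simp only [add_mul, mul_add, mul_one, one_mul]
      linear_combination (norm := module) (4 : K) • b i j h)
    (fun h => h2 (mul_self_eq_zero.1 (by linear_combination -h)))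
    (fun h => mul_ne_zero h2 hm (by linear_combination -h)) hk

theorem u_rel {R : Type*} [Ring R] [Algebra K R] {X : Fin (m + 1) → R}
    (a : ∀ i, X i * X i + X i + 1 = 0)
    (b : ∀ i j, i ≠ j → X i * X j + X j * X i + X i + X j + 1 = 0) :
    (∀ i : Fin m, (X i.succ - X 0) * (X i.succ - X 0) = (-1 : K) • 1) ∧
      ∀ i j : Fin m, i ≠ j → (X i.succ - X 0) * (X j.succ - X 0) +
        (X j.succ - X 0) * (X i.succ - X 0) = (-1 : K) • 1 := by
  refine ⟨fun i => ?_, fun i j h => ?_⟩ <;> simp only [sub_mul, mul_sub]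
  · linear_combination (norm := module) a i.succ + a 0 - b _ _ i.succ_ne_zero
  · linear_combination (norm := module) b _ _ ((Fin.succ_injective _).ne h) - b _ _ i.succ_ne_zero -
      b _ _ j.succ_ne_zero + a 0 + a 0

theorem cl_u [IsAlgClosed K] (k : ℕ) (hm : (m + 1 : K) ≠ 0) (hk : 2 * k ≤ m) :
    Cl.{v} K (m + 1) (2 ^ k) := fun _ _ _ _ _ _ a b =>
  clif_fam _ (u_rel a b).1 (u_rel a b).2 (by norm_num) (fun h => hm (by linear_combination -h)) hk

theorem cl_two [IsAlgClosed K] (h2 : (2 : K) = 0) : Cl.{v} K 4 4 := by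
  intro V _ _ _ _ X a b
  obtain ⟨h1, h3⟩ := u_rel (K := K) a b
  have h4 : ∀ i : Fin 3, X 0 * (X i.succ - X 0) + (X i.succ - X 0) * X 0 = 1 + (X i.succ - X 0) := by
    intro i
    simp only [sub_mul, mul_sub]
    linear_combination (norm := module) b _ _ i.succ_ne_zero - a 0 - a 0 +
      h2 • (X 0 - X i.succ : End K V)
  generalize X 0 = x at *
  set u : Fin 3 → End K V := fun i => X i.succ - x
  replace h1 : ∀ i, u i * u i = (-1 : K) • 1 := h1
  replace h3 : ∀ i j, i ≠ j → u i * u j + u j * u i = (-1 : K) • 1 := h3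
  replace h4 : ∀ i, x * u i + u i * x = 1 + u i := h4
  clear_value u
  have s1 : (u 0 + u 1 + u 2) * (u 0 + u 1 + u 2) = 0 := by
    simp only [add_mul, mul_add]
    linear_combination (norm := module) h1 0 + h1 1 + h1 2 + h3 0 1 (by decide) + h3 0 2 (by decide) +
      h3 1 2 (by decide) - (3 * h2) • (1 : End K V)
  have s2 : x * (u 0 + u 1 + u 2) + (u 0 + u 1 + u 2) * x = 1 + (u 0 + u 1 + u 2) := by
    simp only [add_mul, mul_add]
    linear_combination (norm := module) h4 0 + h4 1 + h4 2 + h2 • (1 : End K V)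
  have s3 : ∀ i : Fin 2, (u 0 + u 1 + u 2) * u i.castSucc = -(u i.castSucc * (u 0 + u 1 + u 2)) := by
    simp only [add_mul, mul_add, Fin.forall_fin_two]
    constructor
    · change u 0 * u 0 + u 1 * u 0 + u 2 * u 0 = -(u 0 * u 0 + u 0 * u 1 + u 0 * u 2)
      linear_combination (norm := module) h1 0 + h1 0 + h3 0 1 (by decide) + h3 0 2 (by decide) -
        (2 * h2) • (1 : End K V)
    · change u 0 * u 1 + u 1 * u 1 + u 2 * u 1 = -(u 1 * u 0 + u 1 * u 1 + u 1 * u 2)
      linear_combination (norm := module) h1 1 + h1 1 + h3 0 1 (by decide) + h3 1 2 (by decide) -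
        (2 * h2) • (1 : End K V)
  generalize u 0 + u 1 + u 2 = s at *
  have h5 := half (f := x + x * s) s1 (by
    have := congrArg (· * s) s2
    simp only [add_mul, mul_add, mul_assoc, s1, mul_zero, one_mul] at this ⊢
    linear_combination (norm := module) s2 + this + h2 • s)
  have h6 : ∀ i : Fin 2, ∀ v ∈ LinearMap.ker s, u i.castSucc v ∈ LinearMap.ker s := fun i v hv => by
    rw [LinearMap.mem_ker, ← End.mul_apply, s3, LinearMap.neg_apply, End.mul_apply,
      LinearMap.mem_ker.1 hv, map_zero, neg_zero]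
  have : Nontrivial (LinearMap.ker s) := (finrank_pos_iff (R := K)).1 (by
    have := finrank_pos (R := K) (M := V); omega)
  have := clif_fam (k := 1) (fun i => (u i.castSucc).restrict (h6 i)) (a := -1) (b := -1)
    (fun i => LinearMap.ext fun v => Subtype.ext (LinearMap.congr_fun (h1 _) v))
    (fun i j h => LinearMap.ext fun v => Subtype.ext (LinearMap.congr_fun
      (h3 _ _ ((Fin.castSucc_injective _).ne h)) v)) (by norm_num)
    (fun h => one_ne_zero (α := K) (by push_cast at h; linear_combination -h - h2)) le_rfl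
  omega

section Gens

variable {Γ : Type u} [Group Γ] {σ : Γ →* alternatingGroup (Fin (m + 2))} {V : Type v}
  [AddCommGroup V] [Module K V] {ρ : Γ →* End K V} {x : Fin m → Γ}

theorem gen_D (hx : Equi σ x) (h3 : ∀ i, x i ^ 3 = 1) (i : Fin m) : x i ∈ D σ :=
  ⟨by rw [hx.lift]; exact genP_isThreeCycle i, h3 i⟩

theorem DC.nc (hσ : DC e σ) (hm : 3 ≤ m) (hx : Equi σ x) {i j : Fin m} (hij : i ≠ j)
    (h : Commute (ρ (x i)) (ρ (x j))) : fix σ ρ = ⊤ := by
  refine hσ.ker_big (by simp; omega) (g := x i * x j * (x j * x i)⁻¹) (fun h1 => ?_)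
    (by rw [map_mul, map_mul, h.eq, ← map_mul, ← map_mul, mul_inv_cancel, map_one])
  rw [map_mul, map_inv, mul_inv_eq_one, map_mul, map_mul, hx.lift, hx.lift] at h1
  have := congrArg (fun g : alternatingGroup _ => g.1 0) h1
  simp only [Subgroup.coe_mul, coe_gen, genP_mul_genP, Perm.mul_apply] at this
  rw [swap_apply_of_ne_of_ne Fin.zero_ne_one (Fin.succ_ne_zero _).symm,
    swap_apply_of_ne_of_ne Fin.zero_ne_one (Fin.succ_ne_zero _).symm, swap_apply_left,
    swap_apply_left] at this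
  exact succ_succ_ne hij this

theorem DC.honest (hσ : DC e σ) (hm : 3 ≤ m) (hx : Equi σ x) (h3 : ∀ i, x i ^ 3 = 1) {i j : Fin m}
    (hij : i ≠ j) (h : ρ ((x i * x j) ^ 2) = 1) :
    ∃ φ : alternatingGroup (Fin (m + 2)) →* End K V, ∀ y ∈ D σ, φ (σ y) = ρ y := by
  obtain ⟨ψ, hψ⟩ := exists_alt_hom m (fun i => ρ.toHomUnits (x i))
    (fun i => by rw [← map_pow, h3, map_one]) fun k l hkl => Units.ext (by
      rw [← map_mul, ← map_pow, ← hx.sq_eq hσ.cext hij hkl]; exact h)
  refine ⟨(Units.coeHom _).comp ψ, fun y hy => ?_⟩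
  have h1 : ∀ g ∈ Subgroup.closure (Set.range x), ψ (σ g) = ρ.toHomUnits g := fun g hg =>
    MonoidHom.eqOn_closure (f := ψ.comp σ) (by
      rintro _ ⟨k, rfl⟩
      simp only [MonoidHom.comp_apply, hx.lift, hψ]) hg
  obtain ⟨h, hh⟩ := isConj_iff.1 (alternatingGroup.isThreeCycle_isConj (by simp; omega)
    (gen_D hx h3 i).1 hy.1)
  obtain ⟨g, hg, rfl⟩ : h ∈ (Subgroup.closure (Set.range x)).map σ := by
    rw [MonoidHom.map_closure, ← Set.range_comp, show σ ∘ x = gen from funext hx.lift, closure_gen]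
    trivial
  rw [← hσ.eq (D.conj (gen_D hx h3 i) g).2 hy.2 (by simpa using hh), MonoidHom.comp_apply, h1 _
    (mul_mem (mul_mem hg (Subgroup.subset_closure ⟨i, rfl⟩)) (inv_mem hg))]
  rfl

theorem DC.fix_honest (hσ : DC e σ) {φ : alternatingGroup (Fin (m + 2)) →* End K V}
    (h : ∀ y ∈ D σ, φ (σ y) = ρ y) : fix (MonoidHom.id _) φ = fix σ ρ := by
  ext v
  simp only [mem_fix]
  refine ⟨fun H y hy => h y hy ▸ H _ ⟨hy.1, cube_of_three hy.1⟩, fun H c hc => ?_⟩
  obtain ⟨y, hy, rfl⟩ := hσ.exists_D (c := c) hc.1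
  rw [h y hy, H y hy]

theorem DC.t0 (hσ : DC e σ) (hm : 3 ≤ m) (hx : Equi σ x) (h3 : ∀ i, x i ^ 3 = 1) (h0 : fix σ ρ = ⊥)
    {y : Γ} (hy : y ∈ D σ) (hT : ρ y * ρ y + ρ y + 1 = 0) :
    (∀ i, ρ (x i) * ρ (x i) + ρ (x i) + 1 = 0) ∧ ∀ i j, i ≠ j → ρ ((x i * x j) ^ 2) = -1 ∧
      ρ (x i) * ρ (x j) + ρ (x j) * ρ (x i) + ρ (x i) + ρ (x j) + 1 = 0 := by
  have h1 : ∀ i, ρ (x i) * ρ (x i) + ρ (x i) + 1 = 0 := fun i => by
    obtain ⟨g, -, hg⟩ := hσ.conj (by simp; omega) hy (gen_D hx h3 i)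
    have := congrArg (fun a => ρ g * a * ρ g⁻¹) hT
    simp only [mul_add, add_mul, mul_zero, zero_mul, mul_one, ← map_mul, mul_inv_cancel, map_one] at this
    rw [← hg, ← map_mul, ← this]
    congr 3
    group
  have h2 : ∀ i j, ρ (x i) * ρ (x j) = ρ ((x i * x j) ^ 2) * ((1 + ρ (x j)) * (1 + ρ (x i))) := by
    intro i j
    have a := h1 i
    have b := h1 j
    rw [map_pow, map_mul]
    generalize ρ (x i) = A at *
    generalize ρ (x j) = B at *
    linear_combination (norm := noncomm_ring) A * B * a - A * B * A * b * (1 + A)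
  refine ⟨h1, fun i j hij => ?_⟩
  have hz := Subgroup.mem_center_iff.1 (sq_mem_center hσ.cext (hx.lift i) (hx.lift j) hij)
  have a := h2 i j
  have b := h2 j i
  rw [hx.sq_eq hσ.cext hij.symm hij] at b
  generalize (x i * x j) ^ 2 = z at *
  have hc : ∀ g, Commute (ρ g) (1 + ρ z) := fun g => (Commute.one_right _).add_right (by
    rw [Commute, SemiconjBy, ← map_mul, hz, map_mul])
  have hW : ∀ g, LinearMap.range (1 + ρ z) ≤ (LinearMap.range (1 + ρ z)).comap (ρ g) := by
    rintro g _ ⟨v, rfl⟩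
    exact ⟨ρ g v, LinearMap.congr_fun (hc g).eq.symm v⟩
  have h4 := hσ.nc (ρ := Representation.subrepresentation ρ _ hW) hm hx hij (LinearMap.ext (by
    rintro ⟨_, v, rfl⟩
    refine Subtype.ext (LinearMap.congr_fun (show ρ (x i) * ρ (x j) * (1 + ρ z) =
      ρ (x j) * ρ (x i) * (1 + ρ z) from ?_) v)
    rw [((hc _).mul_left (hc _)).eq, ((hc _).mul_left (hc _)).eq]
    linear_combination (norm := noncomm_ring) a - b))
  have h5 : ρ z = -1 := eq_neg_of_add_eq_zero_right (LinearMap.ext fun v => h0.le (mem_fix.2 fun y hy => by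
    have := mem_fix.1 (h4.ge (Submodule.mem_top (x := ⟨(1 + ρ z) v, v, rfl⟩))) y hy
    exact congrArg Subtype.val this))
  refine ⟨h5, ?_⟩
  rw [h5] at a
  linear_combination (norm := noncomm_ring) a

theorem DC.t0_of_two [FiniteDimensional K V] (hσ : DC e σ) (hm : 3 ≤ m) (hx : Equi σ x)
    (h3 : ∀ i, x i ^ 3 = 1) (h0 : fix σ ρ ≠ ⊤) (hV : finrank K V = 2) (i : Fin m) :
    ρ (x i) * ρ (x i) + ρ (x i) + 1 = 0 := by
  obtain ⟨j, hj⟩ : ∃ j, i ≠ j := by
    have : Nontrivial (Fin m) := Fin.nontrivial_iff_two_le.2 (by omega)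
    exact (exists_ne i).imp fun _ => Ne.symm
  have : Nontrivial V := (finrank_pos_iff (R := K)).1 (by omega)
  have h1 : ∀ s t : K, s • ρ (x i) = t • 1 → s = 0 ∧ t = 0 := fun s t h => by
    have : s = 0 := by_contra fun hs => h0 (hσ.nc hm hx hj (by
      rw [show ρ (x i) = (s⁻¹ * t) • 1 by rw [mul_smul, ← h, smul_smul, inv_mul_cancel₀ hs, one_smul]]
      exact (Commute.one_left _).smul_left _))
    rw [this, zero_smul, eq_comm, smul_eq_zero] at h
    exact ⟨this, h.resolve_right one_ne_zero⟩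
  have h2 := LinearMap.aeval_self_charpoly (ρ (x i))
  rw [Polynomial.aeval_eq_sum_range, LinearMap.charpoly_natDegree, hV] at h2
  have h4 := (LinearMap.charpoly_monic (ρ (x i))).coeff_natDegree
  rw [LinearMap.charpoly_natDegree, hV] at h4
  simp only [Finset.sum_range_succ, Finset.range_zero, Finset.sum_empty, h4, zero_add, pow_zero, pow_one,
    one_smul, pow_two] at h2
  generalize (ρ (x i)).charpoly.coeff 0 = b at h2
  generalize (ρ (x i)).charpoly.coeff 1 = a at h2
  obtain ⟨g, -, hg⟩ := hσ.conj (by simp; omega) (gen_D hx h3 i) (D.inv (gen_D hx h3 i))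
  have h5 := congrArg (fun c => ρ (x i) * ρ (x i) * (ρ g * c * ρ g⁻¹)) h2
  have h6 := congrArg (ρ (x i) * ·) h2
  have e1 : x i * x i * (g * (x i * x i) * g⁻¹) = 1 := by
    rw [← conj_mul, hg]; group
  have e2 : x i * (x i * x i) = 1 := by rw [← pow_three, h3]
  simp only [mul_add, add_mul, mul_smul_comm, smul_mul_assoc, mul_one, ← map_mul, hg, e1, e2, map_one,
    mul_inv_cancel, mul_inv_cancel_right, mul_zero, zero_mul] at h5 h6
  rw [map_mul] at h5 h6
  have h7 := h1 (b - a * a) (a * b - 1) (by linear_combination (norm := module) h6 - a • h2)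
  have h8 := h1 (a - a * b) (b * b - 1) (by linear_combination (norm := module) h5 - b • h2)
  obtain rfl : a = 1 := by linear_combination h8.1 + h7.2
  obtain rfl : b = 1 := by linear_combination h7.2
  linear_combination (norm := module) h2

end Gens

section Res

variable {α : Type} [Fintype α] [DecidableEq α] {Γ : Type u} [Group Γ] {σ : Γ →* alternatingGroup α}
  {V : Type v} [AddCommGroup V] [Module K V] {ρ : Γ →* End K V} {x : Γ}

theorem DC.exists_res (hσ : DC e σ) (s : Finset α) : ∃ (Γ' : Subgroup Γ) (σ' : Γ' →* alternatingGroup s),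
    DC e σ' ∧ (∀ g, g ∈ Γ' ↔ (σ g : Perm α).support ⊆ s) ∧ ∀ g : Γ', g ∈ D σ' ↔ g.1 ∈ D σ := by
  let ι := alternatingGroup.ofSubtype s
  let E := MonoidHom.ofInjective (f := ι) alternatingGroup.ofSubtype_injective
  let σ' := E.symm.toMonoidHom.comp (σ.subgroupComap ι.range)
  have h : ∀ g, ι (σ' g) = σ g := fun g =>
    MonoidHom.apply_ofInjective_symm alternatingGroup.ofSubtype_injective _
  have h1 : ∀ g, σ' g = 1 → σ g = 1 := fun g hg => by rw [← h, hg, map_one]
  refine ⟨_, σ', ⟨⟨E.symm.surjective.comp (σ.subgroupComap_surjective_of_surjective _ hσ.cext.surj),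
    fun g hg => Subgroup.mem_center_iff.2 fun k => Subtype.ext
      (Subgroup.mem_center_iff.1 (hσ.cext.central (h1 g hg)) k)⟩, hσ.dvd,
    fun k hk => Subtype.ext (hσ.pow k (h1 k hk))⟩,
    fun g => alternatingGroup.mem_range_ofSubtype_iff s _, fun g => and_congr ?_ Subtype.ext_iff⟩
  rw [← h, alternatingGroup.coe_ofSubtype, IsThreeCycle, IsThreeCycle, cycleType_ofSubtype]

variable (σ ρ x) in
/-- vectors fixed by the three-cycles disjoint from `x` -/
def fx : Submodule K V := ⨅ y ∈ D σ, ⨅ (_ : Perm.Disjoint (σ x : Perm α) (σ y)), LinearMap.ker (ρ y - 1)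

theorem mem_fx {v : V} : v ∈ fx σ ρ x ↔ ∀ y ∈ D σ, Perm.Disjoint (σ x : Perm α) (σ y) → ρ y v = v := by
  simp [fx, sub_eq_zero]

theorem fx_inv : fx σ ρ x⁻¹ = fx σ ρ x := by
  ext; simp [mem_fx]

theorem fx_conj (g : Γ) {v : V} (h : v ∈ fx σ ρ x) : ρ g v ∈ fx σ ρ (g * x * g⁻¹) :=
  mem_fx.2 fun y hy hd => by
    have := mem_fx.1 h _ (D.conj hy g⁻¹) (by simpa [mul_assoc] using hd.conj (σ g⁻¹ : Perm α))
    conv_rhs => rw [← this]
    simp only [← End.mul_apply, ← map_mul, inv_inv, ← mul_assoc, mul_inv_cancel, one_mul]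

theorem DC.exists_fx (hσ : DC e σ) (hx : x ∈ D σ) : ∃ (s : Finset α) (Γ' : Subgroup Γ)
    (σ' : Γ' →* alternatingGroup s), DC e σ' ∧ Fintype.card s + 3 = Fintype.card α ∧
      (∀ g : Γ', Commute x g) ∧ ∀ Q : Γ → Prop, (∀ y ∈ D σ', Q y) ↔
        ∀ y ∈ D σ, Perm.Disjoint (σ x : Perm α) (σ y) → Q y := by
  obtain ⟨Γ', σ', h1, h2, h3⟩ := hσ.exists_res (σ x : Perm α).supportᶜ
  have h4 : ∀ g, g ∈ Γ' ↔ Perm.Disjoint (σ x : Perm α) (σ g) := fun g => by
    rw [h2, disjoint_iff_disjoint_support, Finset.subset_compl_iff_disjoint_left]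
  refine ⟨_, Γ', σ', h1, ?_, fun g => hσ.commute ((h4 _).1 g.2), fun Q =>
    ⟨fun H y hy hd => H ⟨y, (h4 y).2 hd⟩ ((h3 _).2 hy), fun H y hy => H y ((h3 y).1 hy) ((h4 _).1 y.2)⟩⟩
  have := (σ x : Perm α).support.card_le_univ
  rw [Fintype.card_coe, Finset.card_compl]
  rw [hx.1.card_support] at *
  omega

theorem DC.fx_perfect (hσ : DC e σ) (h8 : 8 ≤ Fintype.card α) (hx : x ∈ D σ) {v : V}
    (h : ∀ y ∈ D σ, Perm.Disjoint (σ x : Perm α) (σ y) → ρ y v - v ∈ fx σ ρ x) : v ∈ fx σ ρ x := by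
  obtain ⟨s, Γ', σ', h1, h2, -, h3⟩ := hσ.exists_fx hx
  have h4 : ∀ v, v ∈ fx σ ρ x ↔ v ∈ fix σ' (ρ.comp Γ'.subtype) := fun v => by
    rw [mem_fx, mem_fix, ← h3]; rfl
  exact (h4 v).2 (h1.perfect (by omega) fun y hy => (h4 _).1 ((h3 _).2 h y hy))

theorem P.res [FiniteDimensional K V] (hP : P.{u, v} K e r d) (hσ : DC e σ)
    (hr : r + 3 ≤ Fintype.card α) (hx : x ∈ D σ) {W W₀ : Submodule K V}
    (hW : ∀ T, Commute (ρ x) T → W ≤ W.comap T) (h0 : W₀ ≤ W) (h1 : W₀ ≤ fx σ ρ x)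
    (h2 : ¬ W ≤ fx σ ρ x) : d + finrank K W₀ ≤ finrank K W := by
  obtain ⟨s, Γ', σ', h3, h4, h5, h6⟩ := hσ.exists_fx hx
  let ρ' := Representation.subrepresentation (ρ.comp Γ'.subtype) W fun g => hW _ ((h5 g).map ρ)
  have h7 : ∀ v : W, v ∈ fix σ' ρ' ↔ v.1 ∈ fx σ ρ x := fun v => by
    rw [mem_fx, mem_fix, ← h6]
    exact forall₂_congr fun _ _ => Subtype.ext_iff
  refine le_trans ?_ (hP s Γ' σ' h3 (by omega) W ρ' fun h => h2 fun v hv =>
    (h7 ⟨v, hv⟩).1 (h.ge trivial))
  rw [← (Submodule.comapSubtypeEquivOfLe h0).finrank_eq]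
  exact Nat.add_le_add_left (Submodule.finrank_mono fun v hv => (h7 v).2 (h1 hv)) _

end Res

theorem P.of (h5 : 5 ≤ r) (h : ∀ m, r ≤ m + 2 → ∀ (Γ : Type u) [Group Γ]
    (σ : Γ →* alternatingGroup (Fin (m + 2))), DC e σ → ∀ x, Equi σ x → (∀ i, x i ^ 3 = 1) →
      ∀ (V : Type v) [AddCommGroup V] [Module K V] [FiniteDimensional K V] [Nontrivial V]
        (ρ : Γ →* End K V), fix σ ρ = ⊥ → d ≤ finrank K V) : P.{u, v} K e r d := by
  intro α _ _ Γ _ σ hσ hr V _ _ _ ρ h0
  obtain ⟨m, hm⟩ : ∃ m, Fintype.card α = m + 2 := ⟨Fintype.card α - 2, by omega⟩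
  let E := Fintype.equivFinOfCardEq hm
  let σ' := E.altCongrHom.toMonoidHom.comp σ
  have h1 : ∀ g, σ' g = 1 → σ g = 1 := fun g => E.altCongrHom.map_eq_one_iff.1
  have hσ' : DC e σ' := ⟨⟨E.altCongrHom.surjective.comp hσ.cext.surj, fun g hg =>
    hσ.cext.central (h1 g hg)⟩, hσ.dvd, fun k hk => hσ.pow k (h1 k hk)⟩
  have h2 : D σ' = D σ := Set.ext fun y => and_congr_left' (by
    rw [← card_support_eq_three_iff, ← card_support_eq_three_iff, ← Finset.card_equiv E
      (s := (σ y : Perm α).support) fun a => by simp [σ', Equiv.altCongrHom_apply_coe]])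
  obtain ⟨x, hx, h3⟩ := exists_equi_of_coprime hσ'.cext (N := 2) (by decide) hσ'.sq
  have : Nontrivial (V ⧸ fix σ ρ) := Submodule.Quotient.nontrivial_iff.2 h0
  rw [← (fix σ ρ).finrank_quotient_add_finrank]
  refine Nat.add_le_add_right (h m (by omega) Γ σ' hσ' x hx h3 _
    (Representation.quotient ρ _ fix_le) (eq_bot_iff.2 fun v hv => ?_)) _
  obtain ⟨v, rfl⟩ := Submodule.Quotient.mk_surjective _ v
  exact (Submodule.Quotient.mk_eq_zero _).2 (hσ.perfect (by omega) fun y hy =>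
    (Submodule.Quotient.eq _).1 (mem_fix.1 hv y (h2 ▸ hy)))

theorem P_two : P.{u, v} K e 5 2 := P.of le_rfl fun m hm Γ _ σ hσ x hx _ V _ _ _ _ ρ h0 => by
  by_contra! h
  have h1 : finrank K V = 1 := le_antisymm (by omega) finrank_pos
  refine bot_ne_top (h0.symm.trans (hσ.nc (by omega) hx (i := ⟨0, by omega⟩) (j := ⟨1, by omega⟩)
    (by simp) ?_))
  obtain ⟨c, hc, -⟩ := LinearMap.existsUnique_eq_smul_id_of_finrank_eq_one h1 (ρ (x ⟨0, by omega⟩))
  rw [hc]
  exact (Commute.one_left _).smul_left _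

theorem P_three (hm : 3 ≤ m) (h : Cl.{v} K m 3 ∨ (e = 1 ∧ (2 : K) ≠ 0)) : P.{u, v} K e (m + 2) 3 :=
  P.of (by omega) fun n hn Γ _ σ hσ x hx h3 V _ _ _ _ ρ h0 => by
    have h1 : fix σ ρ ≠ ⊤ := h0 ▸ bot_ne_top
    have h2 := P_two _ Γ σ hσ (by simp; omega) V ρ h1
    by_contra! h4
    obtain ⟨h5, h6⟩ := hσ.t0 (by omega) hx h3 h0 (gen_D hx h3 ⟨0, by omega⟩)
      (hσ.t0_of_two (by omega) hx h3 h1 (by omega) _)
    rcases h with h | ⟨rfl, h⟩
    · exact h4.not_ge (h.mono (by omega) le_rfl V _ h5 fun i j hij => (h6 i j hij).2)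
    have hij : (⟨0, by omega⟩ : Fin n) ≠ ⟨1, by omega⟩ := by simp
    have h7 := (h6 _ _ hij).1
    rw [← pow_one (_ ^ 2), hσ.pow _ (by rw [map_pow, map_mul, hx.lift, hx.lift, gen_mul_gen_sq hij]),
      map_one] at h7
    exact h (smul_left_injective K (one_ne_zero (α := End K V)) (by
      linear_combination (norm := module) h7))

theorem supp_genP (i : Fin m) : (genP i).support ⊆ {0, 1, i.succ.succ} := fun a ha => by
  by_contra h
  simp only [Finset.mem_insert, Finset.mem_singleton, not_or] at h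
  exact mem_support.1 ha (by
    rw [genP, Perm.mul_apply, swap_apply_of_ne_of_ne h.1 h.2.1, swap_apply_of_ne_of_ne h.1 h.2.2])

theorem supp_gen {Γ : Type u} [Group Γ] {σ : Γ →* alternatingGroup (Fin (m + 2))} {x : Fin m → Γ}
    (hx : Equi σ x) (i j : Fin m) : ∃ s : Finset (Fin (m + 2)), s.card ≤ 4 ∧
      (σ (x i) : Perm (Fin (m + 2))).support ⊆ s ∧ (σ (x j) : Perm (Fin (m + 2))).support ⊆ s :=
  ⟨{0, 1, i.succ.succ, j.succ.succ}, Finset.card_le_four,
    by rw [hx.lift]; exact (supp_genP i).trans (by simp [Finset.subset_iff]),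
    by rw [hx.lift]; exact (supp_genP j).trans (by simp [Finset.subset_iff])⟩

theorem DC.nat {Γ : Type u} [Group Γ] {σ : Γ →* alternatingGroup (Fin (m + 2))} {V : Type v}
    [AddCommGroup V] [Module K V] [FiniteDimensional K V] [Nontrivial V] {ρ : Γ →* End K V}
    {x : Fin m → Γ} (p : ℕ) [CharP K p] (hσ : DC e σ) (hm : 6 ≤ m) (hx : Equi σ x)
    (h3 : ∀ i, x i ^ 3 = 1) (h0 : fix σ ρ = ⊥) {y : Γ} (hy : y ∈ D σ)
    (hU : LinearMap.range (ρ y - 1) ≤ fx σ ρ y) :
    m + 2 - 1 - (if p ∣ m + 2 then 1 else 0) ≤ finrank K V := by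
  have hc : Fintype.card (Fin (m + 2)) = m + 2 := Fintype.card_fin _
  have h1 : ∀ (g a : Γ) v, (ρ (g * a * g⁻¹) - 1) v = ρ g ((ρ a - 1) (ρ g⁻¹ v)) := fun g a v => by
    simp only [LinearMap.sub_apply, map_sub, ← End.mul_apply, ← map_mul, mul_assoc, one_mul,
      mul_inv_cancel, map_one]
  have hN : ∀ a ∈ D σ, ∀ b ∈ D σ, Perm.Disjoint (σ a : Perm (Fin (m + 2))) (σ b) →
      ∀ v, ρ b ((ρ a - 1) v) = (ρ a - 1) v := fun a ha b hb hd v => by
    obtain ⟨g, -, rfl⟩ := hσ.conj (by omega) hy ha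
    rw [h1]
    exact mem_fx.1 (fx_conj g (hU ⟨_, rfl⟩)) b hb hd
  have hij : (⟨0, by omega⟩ : Fin m) ≠ ⟨1, by omega⟩ := by simp
  generalize (⟨0, by omega⟩ : Fin m) = i at hij
  generalize (⟨1, by omega⟩ : Fin m) = j at hij
  have hz := Subgroup.mem_center_iff.1 (sq_mem_center hσ.cext (hx.lift i) (hx.lift j) hij)
  obtain ⟨s, hs, hi, hj⟩ := supp_gen hx i j
  obtain ⟨a, ha, h2⟩ := hσ.exists_disjoint (by omega) hy s (by omega)
  obtain ⟨φ, hφ⟩ := hσ.honest (ρ := ρ) (by omega) hx h3 hij (LinearMap.ext fun v => sub_eq_zero.1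
    (h0.le (mem_fix.2 fun b hb => by
      obtain ⟨g, -, rfl⟩ := hσ.conj (by omega) ha hb
      have h4 : ρ ((x i * x j) ^ 2) ((ρ (g * a * g⁻¹) - 1) v) = (ρ (g * a * g⁻¹) - 1) v := by
        rw [h1, ← End.mul_apply, ← map_mul, ← hz, map_mul, End.mul_apply]
        exact congrArg _ (pow_mem (S := stab ρ _) (mul_mem
          (hN a ha _ (gen_D hx h3 i) (disjoint_of_support hi h2).symm _)
          (hN a ha _ (gen_D hx h3 j) (disjoint_of_support hj h2).symm _)) 2)
      rw [LinearMap.sub_apply, map_sub, ← End.mul_apply, ← map_mul, ← hz, map_mul] at h4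
      rw [map_sub]
      linear_combination (norm := (simp only [End.mul_apply, End.one_apply]; abel)) h4)))
  have := natural p φ (by omega) (fun c d hc hd h => by
    obtain ⟨a, ha, rfl⟩ := hσ.exists_D hc
    obtain ⟨b, hb, rfl⟩ := hσ.exists_D hd
    rw [hφ a ha, hφ b hb]
    exact LinearMap.ext fun v => sub_eq_zero.2 (hN b hb a ha h.symm v))
    (by rw [hσ.fix_honest hφ, h0]; exact bot_ne_top)
  rwa [hc] at this

theorem step [IsAlgClosed K] (p : ℕ) [CharP K p] (h5 : 5 ≤ r) (hP : P.{u, v} K e r d)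
    (hn : n ≤ r + 3 - 1 - if p ∣ r + 3 then 1 else 0)
    (hc : n ≤ 2 * d ∨ (6 ≤ r ∧ n ≤ 3 * d ∧ ((3 : K) = 0 → n ≤ 2 * d + 3) ∧ Cl.{v} K (r + 1) n)) :
    P.{u, v} K e (r + 3) n := P.of (by omega) fun m hm Γ _ σ hσ x hx h3 V _ _ _ _ ρ h0 => by
  have hcard : Fintype.card (Fin (m + 2)) = m + 2 := Fintype.card_fin _
  have hy := gen_D hx h3 ⟨0, by omega⟩
  generalize x ⟨0, _⟩ = y at hy
  by_cases hU : LinearMap.range (ρ y - 1) ≤ fx σ ρ y
  · have := hσ.nat p (by omega) hx h3 h0 hy hU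
    rcases (show r + 3 ≤ m + 2 from hm).eq_or_lt with h | h
    · rw [← h] at this; omega
    · split_ifs at this hn <;> omega
  have hA : ρ y * (ρ y * ρ y) = 1 := by rw [← map_mul, ← map_mul, ← pow_three, hy.2, map_one]
  have hT : Cl.{v} K (r + 1) n → ρ y * ρ y + ρ y + 1 = 0 → n ≤ finrank K V := fun h h' => by
    obtain ⟨a, b⟩ := hσ.t0 (by omega) hx h3 h0 hy h'
    exact h.mono (by omega) le_rfl V _ a fun i j hij => (b i j hij).2
  have res := fun W W₀ => hP.res (ρ := ρ) hσ (by omega) hy (W := W) (W₀ := W₀)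
  have res0 := fun W hW h => (Nat.le_add_right d _).trans (res W ⊥ hW bot_le bot_le h)
  have hker : ∀ {B T : End K V}, Commute B T → LinearMap.ker B ≤ (LinearMap.ker B).comap T :=
    fun {B T} h v hv => by
      rw [Submodule.mem_comap, LinearMap.mem_ker, ← End.mul_apply, h.eq, End.mul_apply,
        LinearMap.mem_ker.1 hv, map_zero]
  have hrange : ∀ {B T : End K V}, Commute B T → LinearMap.range B ≤ (LinearMap.range B).comap T := by
    rintro B T h _ ⟨v, rfl⟩
    exact ⟨T v, LinearMap.congr_fun h.eq v⟩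
  have hN : ∀ {T}, Commute (ρ y) T → Commute (ρ y - 1) T := fun h => h.sub_left (Commute.one_left _)
  have hcm : ∀ b, Perm.Disjoint (σ y : Perm (Fin (m + 2))) (σ b) → Commute (ρ y) (ρ b) :=
    fun b h => (hσ.commute h).map ρ
  by_cases h3K : (3 : K) = 0
  · have e0 : ρ y * ρ y + ρ y + 1 = (ρ y - 1) * (ρ y - 1) := by
      simp only [sub_mul, mul_sub, mul_one, one_mul]
      linear_combination (norm := module) h3K • ρ y
    have e1 : (ρ y - 1) * ((ρ y - 1) * (ρ y - 1)) = 0 := by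
      rw [← e0]
      linear_combination (norm := noncomm_ring) hA
    generalize ρ y - 1 = N at *
    have l1 : LinearMap.range (N * N) ≤ LinearMap.range N ⊓ LinearMap.ker N := by
      rintro _ ⟨v, rfl⟩
      exact ⟨⟨_, rfl⟩, LinearMap.congr_fun e1 v⟩
    have hL : ∀ T, Commute (ρ y) T → LinearMap.range N ⊓ LinearMap.ker N ≤
        (LinearMap.range N ⊓ LinearMap.ker N).comap T :=
      fun T h v hv => ⟨hrange (hN h) hv.1, hker (hN h) hv.2⟩
    have l2 : ¬ LinearMap.range N ⊓ LinearMap.ker N ≤ fx σ ρ y := fun h => hU (by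
      rintro _ ⟨v, rfl⟩
      refine hσ.fx_perfect (by omega) hy fun b hb hd => h
        ⟨sub_mem (hrange (hN (hcm b hd)) ⟨v, rfl⟩) ⟨v, rfl⟩, ?_⟩
      rw [SetLike.mem_coe, LinearMap.mem_ker, map_sub, ← End.mul_apply, (hN (hcm b hd)).eq, sub_eq_zero]
      exact mem_fx.1 (h (l1 ⟨v, rfl⟩)) b hb hd)
    have d1 := LinearMap.finrank_range_add_finrank_ker N
    have d2 := LinearMap.finrank_range_add_finrank_ker (N.domRestrict (LinearMap.range N))
    rw [LinearMap.range_domRestrict, LinearMap.ker_domRestrict,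
      ← Submodule.finrank_map_subtype_eq (LinearMap.range N) (Submodule.comap _ _),
      Submodule.map_comap_subtype, ← LinearMap.range_comp] at d2
    change finrank K (LinearMap.range (N * N)) + _ = _ at d2
    have d3 := Submodule.finrank_mono (inf_le_right (a := LinearMap.range N) (b := LinearMap.ker N))
    have d4 := res0 _ hL l2
    rcases hc with hc | ⟨-, c1, c2, c3⟩
    · omega
    by_cases h : N * N = 0
    · exact hT c3 (e0.trans h)
    have d5 : finrank K (LinearMap.range (N * N)) ≠ 0 := by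
      rwa [Ne, Submodule.finrank_eq_zero, LinearMap.range_eq_bot]
    have := c2 h3K
    by_cases h' : LinearMap.range (N * N) ≤ fx σ ρ y
    · have := res _ _ hL l1 h' l2
      omega
    · have := res0 _ (fun T h => hrange ((hN h).mul_left (hN h))) h'
      omega
  obtain ⟨ω, hω⟩ := IsAlgClosed.exists_root (Polynomial.C (1 : K) * Polynomial.X ^ 2 +
    Polynomial.C 1 * Polynomial.X + Polynomial.C 1) (by
      rw [Polynomial.degree_quadratic one_ne_zero]; decide)
  simp only [Polynomial.IsRoot.def, Polynomial.eval_add, Polynomial.eval_mul, Polynomial.eval_C,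
    Polynomial.eval_pow, Polynomial.eval_X] at hω
  have hsym : ∀ a b : K, a * b = 1 → (ρ y).eigenspace a ≤ fx σ ρ y → (ρ y).eigenspace b ≤ fx σ ρ y := by
    intro a b hab h v hv
    obtain ⟨g, -, hg⟩ := hσ.conj (by omega) hy (D.inv hy)
    have h1 : ρ y⁻¹ v = a • v := inj ρ y (by
      rw [← End.mul_apply, ← map_mul, mul_inv_cancel, map_smul, End.mem_eigenspace_iff.1 hv, smul_smul,
        hab, one_smul, map_one, End.one_apply])
    have := fx_conj g (h (x := ρ g⁻¹ v) (End.mem_eigenspace_iff.2 (by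
      rw [← map_smul, ← h1, ← hg]
      simp only [← End.mul_apply, ← map_mul, ← mul_assoc, inv_mul_cancel, one_mul])))
    rwa [hg, fx_inv, ← End.mul_apply, ← map_mul, mul_inv_cancel, map_one] at this
  obtain ⟨η, h1, h2⟩ : ∃ η, ω * η = 1 ∧ ω + η = -1 := ⟨-1 - ω, by linear_combination -hω, by ring⟩
  have h4 : ω - η ≠ 0 := fun h => h3K (by
    linear_combination (ω + η - 1) * h2 - (ω - η) * h - 4 * h1)
  set T := ρ y * ρ y + ρ y + 1 with hTd
  have l1 : ∀ a b : K, a * b = 1 → a + b = -1 → (ρ y).eigenspace a ≤ LinearMap.ker T ∧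
      ∀ v ∈ LinearMap.ker T, ρ y v - b • v ∈ (ρ y).eigenspace a := fun a b h1 h2 =>
    ⟨fun v hv => by
      simp only [LinearMap.mem_ker, T, LinearMap.add_apply, End.mul_apply, End.mem_eigenspace_iff.1 hv,
        map_smul, End.one_apply]
      linear_combination (norm := module) (a * h2 - h1) • v, fun v hv => by
      simp only [LinearMap.mem_ker, T, LinearMap.add_apply, End.mul_apply, End.one_apply] at hv
      rw [End.mem_eigenspace_iff, map_sub, map_smul]
      linear_combination (norm := module) hv - h2 • ρ y v + h1 • v⟩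
  have a1 := l1 ω η h1 h2
  have a2 := l1 η ω (by rw [mul_comm, h1]) (by rw [add_comm, h2])
  have l2 : ¬ (ρ y).eigenspace ω ≤ fx σ ρ y := fun h => hU (by
    rintro _ ⟨v, rfl⟩
    have hv : (ρ y - 1) v ∈ LinearMap.ker T := LinearMap.congr_fun (show T * (ρ y - 1) = 0 by
      rw [hTd]; linear_combination (norm := noncomm_ring) hA) v
    refine (Submodule.smul_mem_iff _ h4).1 ?_
    convert sub_mem (h (a1.2 _ hv)) (hsym _ _ h1 h (a2.2 _ hv)) using 1
    module)
  have hE : ∀ (a : K) T, Commute (ρ y) T → (ρ y).eigenspace a ≤ ((ρ y).eigenspace a).comap T :=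
    fun a T h v hv => End.mem_eigenspace_iff.2 (by
      rw [← End.mul_apply, h.eq, End.mul_apply, End.mem_eigenspace_iff.1 hv, map_smul])
  have d1 := res0 _ (hE ω) l2
  have d2 := res0 _ (hE η) fun h => l2 (hsym _ _ (by rw [mul_comm, h1]) h)
  have d3 := Submodule.finrank_sup_add_finrank_inf_eq ((ρ y).eigenspace ω) ((ρ y).eigenspace η)
  rw [((ρ y).eigenspaces_iSupIndep.pairwiseDisjoint (sub_ne_zero.1 h4)).eq_bot, finrank_bot] at d3
  have d4 := Submodule.finrank_mono (sup_le a1.1 a2.1)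
  have d5 := Submodule.finrank_add_finrank_le_of_disjoint (s := LinearMap.ker (ρ y - 1))
    (t := LinearMap.ker T) (Submodule.disjoint_def.2 fun v hv hv' => by
      simp only [LinearMap.mem_ker, T, LinearMap.add_apply, End.mul_apply, End.one_apply,
        LinearMap.sub_apply, sub_eq_zero] at hv hv'
      rw [hv, hv] at hv'
      exact (smul_eq_zero.1 (by linear_combination (norm := module) hv')).resolve_left h3K)
  rcases hc with hc | ⟨c0, c1, -, c3⟩
  · omega
  by_cases h : LinearMap.ker (ρ y - 1) ≤ fx σ ρ y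
  · refine hT c3 (LinearMap.ext fun v => h0.le (mem_fix.2 fun b hb => ?_))
    have hv : T v ∈ LinearMap.ker (ρ y - 1) := LinearMap.congr_fun (show (ρ y - 1) * T = 0 by
      rw [hTd]; linear_combination (norm := noncomm_ring) hA) v
    obtain ⟨a, ha, h6⟩ := hσ.exists_disjoint (by omega) hy
      ((σ y : Perm (Fin (m + 2))).support ∪ (σ b : Perm (Fin (m + 2))).support) (by
        have := Finset.card_union_le (σ y : Perm (Fin (m + 2))).support (σ b : Perm (Fin (m + 2))).support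
        rw [hy.1.card_support, hb.1.card_support] at this
        omega)
    have h7 := mem_fx.1 (h hv) a ha (disjoint_of_support Finset.subset_union_left h6)
    obtain ⟨g, -, rfl⟩ := hσ.conj (by omega) hy ha
    have := fx_conj g (h (x := ρ g⁻¹ (T v)) (sub_eq_zero.2 (by
      conv_rhs => rw [← h7]
      simp only [← End.mul_apply, ← map_mul, ← mul_assoc, inv_mul_cancel, one_mul])))
    rw [← End.mul_apply, ← map_mul, mul_inv_cancel, map_one] at this
    exact mem_fx.1 this b hb (disjoint_of_support Finset.subset_union_right h6).symm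
  · have := res0 _ (fun T h => hker (hN h)) h
    omega

theorem P_nine_three [IsAlgClosed K] [CharP K 3] : P.{u, v} K 2 9 7 := by
  have h2 : (2 : K) ≠ 0 := fun h => absurd ((CharP.cast_eq_zero_iff K 3 2).1 (by simpa using h)) (by decide)
  have c8 : Cl.{v} K 6 (2 ^ 3) := cl_odd 3 h2
    (fun h => h2 (pow_eq_zero_iff three_ne_zero |>.1 (by push_cast at h; linear_combination h))) le_rfl
  have p1 : P.{0, v} K 1 9 7 := step 3 (r := 6) (by omega) ((P_three le_rfl (Or.inr ⟨rfl, h2⟩)).mono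
    (by omega) le_rfl) (by decide) (Or.inr ⟨le_rfl, by omega, by omega, c8.mono (by omega) (by omega)⟩)
  have p2 : P.{u, v} K 2 9 6 := step 3 (r := 6) (by omega) (P_two.mono (by omega) le_rfl) (by decide)
    (Or.inr ⟨le_rfl, by omega, by omega, c8.mono (by omega) (by omega)⟩)
  refine P.of (by omega) fun m hm Γ _ σ hσ x hx h3 V _ _ _ _ ρ h0 => ?_
  have hcard : Fintype.card (Fin (m + 2)) = m + 2 := Fintype.card_fin _
  have hij : (⟨0, by omega⟩ : Fin m) ≠ ⟨1, by omega⟩ := by simp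
  generalize (⟨0, by omega⟩ : Fin m) = i at hij
  generalize (⟨1, by omega⟩ : Fin m) = j at hij
  have hz := sq_mem_center hσ.cext (hx.lift i) (hx.lift j) hij
  have hz2 : ((x i * x j) ^ 2) ^ 2 = 1 :=
    hσ.sq _ (by rw [map_pow, map_mul, hx.lift, hx.lift, gen_mul_gen_sq hij])
  have hw := (tetra_word (by rw [h3]; exact one_mem _) (by rw [h3]; exact one_mem _) hz).1
  have hz' := sq_mul_comm_of_center hz
  by_cases hW : LinearMap.ker (ρ ((x i * x j) ^ 2) + 1) = ⊥
  · obtain ⟨φ, hφ⟩ := hσ.honest (ρ := ρ) (by omega) hx h3 hij (LinearMap.ext fun v => sub_eq_zero.1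
      (hW.le (LinearMap.congr_fun (show (ρ ((x i * x j) ^ 2) + 1) * (ρ ((x i * x j) ^ 2) - 1) = 0 by
        have := congrArg ρ hz2
        rw [map_pow, map_one] at this
        linear_combination (norm := noncomm_ring) this) v)))
    exact (Nat.le_add_right _ _).trans (p1 _ _ _ DC.id (by omega) V φ
      (by rw [hσ.fix_honest hφ, h0]; exact bot_ne_top))
  have hc := Subgroup.mem_center_iff.1 hz
  obtain ⟨s, hs, hi, hj⟩ := supp_gen hx i j
  obtain ⟨h, hh⟩ := exists_move s sᶜ (by rw [Finset.card_compl]; omega) (by omega)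
  obtain ⟨g, rfl⟩ := hσ.cext.surj h
  have sa : (σ (x i * x j) : Perm (Fin (m + 2))).support ⊆ s := by
    rw [map_mul]; exact (support_mul_le _ _).trans (sup_le hi hj)
  have sb : (σ (x j * x i) : Perm (Fin (m + 2))).support ⊆ s := by
    rw [map_mul]; exact (support_mul_le _ _).trans (sup_le hj hi)
  have cm : ∀ a b : Γ, (σ a : Perm (Fin (m + 2))).support ⊆ s → (σ b : Perm (Fin (m + 2))).support ⊆ s →
      Commute a (g * b * g⁻¹) := fun a b ha hb =>
    hσ.commute (disjoint_of_support ha (by simpa using hh _ hb))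
  have ha : (x i * x j) * (x i * x j) = (x i * x j) ^ 2 := (sq _).symm
  rw [sq] at hz'
  generalize (x i * x j) ^ 2 = z at *
  generalize x i * x j = a at *
  generalize x j * x i = b at *
  have hab : a * b = z * (b * a) := by
    rw [h3, h3, one_mul, one_mul, inv_pow, hz2, inv_one, one_mul, inv_eq_of_mul_eq_one_right
      ((sq z).symm.trans hz2)] at hw
    rw [← hw, commutatorElement_def]
    group
  have hinv : ∀ g, LinearMap.ker (ρ z + 1) ≤ (LinearMap.ker (ρ z + 1)).comap (ρ g) := fun g v hv => by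
    rw [Submodule.mem_comap, LinearMap.mem_ker, LinearMap.add_apply, ← End.mul_apply, ← map_mul, ← hc,
      map_mul, End.mul_apply, End.one_apply, ← map_add, show ρ z v + v = 0 from hv, map_zero]
  let ρ' := Representation.subrepresentation ρ _ hinv
  have hz1 : ρ' z = -1 := LinearMap.ext fun v => Subtype.ext (eq_neg_of_add_eq_zero_left v.2)
  have hg : g * z * g⁻¹ = z := by rw [hc, mul_inv_cancel_right]
  have d1 := four_dvd h2 (a := ρ' a) (b := ρ' b) (c := ρ' (g * a * g⁻¹)) (d := ρ' (g * b * g⁻¹))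
    (by rw [← map_mul, ha, hz1]) (by rw [← map_mul, hz', hz1])
    (by rw [← map_mul, hab, map_mul, hz1, map_mul]; rfl)
    (by rw [← map_mul, conj_mul, ha, hg, hz1]) (by rw [← map_mul, conj_mul, hz', hg, hz1])
    (by rw [← map_mul, conj_mul, hab, ← conj_mul, hg, ← conj_mul, map_mul, hz1, map_mul]; rfl)
    ((cm _ _ sa sa).map ρ') ((cm _ _ sb sa).map ρ') ((cm _ _ sa sb).map ρ') ((cm _ _ sb sb).map ρ')
  have d2 := p2 _ _ σ hσ (by omega) _ ρ' fun h => hW (eq_bot_iff.2 fun v hv =>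
    h0.le (mem_fix.2 fun y hy => by
      have := mem_fix.1 (h.ge (Submodule.mem_top (x := ⟨v, hv⟩))) y hy
      exact congrArg Subtype.val this))
  have d3 := (LinearMap.ker (ρ z + 1)).finrank_le
  omega

theorem P_main [IsAlgClosed K] (p : ℕ) [Fact p.Prime] [CharP K p] (r : ℕ) (hr : 9 ≤ r) :
    P.{u, v} K 2 r (r - 1 - if p ∣ r then 1 else 0) := by
  have hp : p.Prime := Fact.out
  have hc : ∀ n : ℕ, ¬ p ∣ n → (n : K) ≠ 0 := fun n h e => h ((CharP.cast_eq_zero_iff K p n).1 e)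
  have hq : ∀ q : ℕ, q.Prime → p ≠ q → ∀ k, ¬ p ∣ q ^ k := fun q h1 h2 k h =>
    h2 ((Nat.prime_dvd_prime_iff_eq hp h1).1 (hp.dvd_of_dvd_pow h))
  have k2 : p = 2 → (2 : K) = 0 := fun h => by exact_mod_cast h ▸ CharP.cast_eq_zero K p
  have n2 : p ≠ 2 → (2 : K) ≠ 0 := fun h => by exact_mod_cast hc _ (hq 2 Nat.prime_two h 1)
  have n3 : p ≠ 3 → (3 : K) ≠ 0 := fun h => by exact_mod_cast hc _ (hq 3 Nat.prime_three h 1)
  have p6 : p ≠ 3 → P.{u, v} K 2 6 3 := fun h => P_three (m := 4) (by omega) (Or.inl (by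
    by_cases h2 : p = 2
    · exact (cl_two (k2 h2)).mono le_rfl (by omega)
    · exact (cl_odd 2 (n2 h2) (fun e => mul_ne_zero (n2 h2) (n3 h) (by
        push_cast at e; linear_combination e)) le_rfl).mono le_rfl (by omega)))
  have p7 : P.{u, v} K 2 7 3 := by
    by_cases h : p = 3
    · exact P_three (m := 5) (by omega) (Or.inl ((cl_u (m := 4) 2 (by
        exact_mod_cast hc 5 (by rw [h]; decide)) le_rfl).mono le_rfl (by omega)))
    · exact (p6 h).mono (by omega) le_rfl
  have p8 : P.{u, v} K 2 8 4 := step p le_rfl P_two (by split_ifs <;> omega) (Or.inl le_rfl)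
  have c6 : p ≠ 2 → Cl.{v} K 6 (2 ^ 3) := fun h => cl_odd 3 (n2 h) (by
    exact_mod_cast hc _ (hq 2 Nat.prime_two h 3)) le_rfl
  have p9 : p ≠ 3 → P.{u, v} K 2 9 8 := fun h => step p (r := 6) (by omega) (p6 h)
    (by split_ifs with h'; exacts [absurd h' (hq 3 Nat.prime_three h 2), le_rfl]) (Or.inr ⟨le_rfl, by omega, by omega, by
      by_cases h2 : p = 2
      · exact cl_u (m := 6) 3 (by exact_mod_cast hc 7 (by rw [h2]; decide)) le_rfl
      · exact (c6 h2).mono (by omega) le_rfl⟩)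
  have c8 : ¬ p ∣ 10 → Cl.{v} K 8 (2 ^ 4) := fun h => cl_odd 4 (n2 (by rintro rfl; omega))
    (by exact_mod_cast hc _ h) le_rfl
  have p10 : ¬ p ∣ 10 → P.{u, v} K 2 10 9 := fun h => step p (r := 7) (by omega) p7 (by rw [if_neg h])
    (Or.inr ⟨by omega, by omega, by omega, (c8 h).mono le_rfl (by omega)⟩)
  induction r using Nat.strong_induction_on with
  | _ r ih =>
  obtain rfl | rfl | rfl | h : r = 9 ∨ r = 10 ∨ r = 11 ∨ 12 ≤ r := by omega
  · by_cases h : p = 3
    · subst h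
      exact P_nine_three
    · exact (p9 h).mono le_rfl (by omega)
  · split_ifs with h
    · exact (p9 (by rintro rfl; omega)).mono (by omega) le_rfl
    · exact p10 h
  · split_ifs with h
    · rw [Nat.prime_dvd_prime_iff_eq hp (by norm_num)] at h
      exact (p10 (by rw [h]; decide)).mono (by omega) le_rfl
    · refine step p (r := 8) (by omega) p8 (by rw [if_neg h]) (Or.inr ⟨by omega, by omega, by omega, ?_⟩)
      by_cases h3 : p = 3
      · exact (c8 (by rw [h3]; decide)).mono (by omega) (by omega)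
      · exact (cl_u (m := 8) 4 (by exact_mod_cast hc _ (hq 3 Nat.prime_three h3 2)) le_rfl).mono le_rfl
          (by omega)
  · obtain ⟨r, rfl⟩ : ∃ s, r = s + 3 := ⟨r - 3, by omega⟩
    exact step p (by omega) (ih r (by omega) (by omega)) le_rfl (Or.inl (by split_ifs <;> omega))

end CL.Wag
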