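import Cfsg.Agent.KSG.WagLin
import Cfsg.Agent.KSG.AltCover2

/-!
# Lifts of three-cycles in double covers of alternating groups; the deleted permutation module
-/

set_option autoImplicit false

namespace CL.Wag

open Module Equiv Equiv.Perm CL.AltPres CL.Schur CL.AltCover CL.KSG

variable {α : Type} [Fintype α] [DecidableEq α] {Γ : Type*} [Group Γ]
  {σ : Γ →* alternatingGroup α} {e : ℕ}

/-- lifts of order three of three-cycles -/
def D (σ : Γ →* alternatingGroup α) : Set Γ := {y | (σ y : Perm α).IsThreeCycle ∧ y ^ 3 = 1}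

/-- central extensions with kernel of exponent dividing two -/
structure DC (e : ℕ) (σ : Γ →* alternatingGroup α) : Prop where
  cext : IsCentralExt σ
  dvd : e ∣ 2
  pow : ∀ k, σ k = 1 → k ^ e = 1

theorem DC.sq (hσ : DC e σ) (k : Γ) (h : σ k = 1) : k ^ 2 = 1 := by
  obtain ⟨c, hc⟩ := hσ.dvd
  rw [hc, pow_mul, hσ.pow k h, one_pow]

theorem eq_one_of_two_three {M : Type*} [Monoid M] {a : M} (h2 : a ^ 2 = 1) (h3 : a ^ 3 = 1) :
    a = 1 := by rwa [pow_succ, h2, one_mul] at h3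

theorem DC.eq (hσ : DC e σ) {y y' : Γ} (h : y ^ 3 = 1) (h' : y' ^ 3 = 1) (e : σ y = σ y') : y = y' := by
  have e1 : σ (y * y'⁻¹) = 1 := by simp [e]
  have hc : Commute (y * y'⁻¹) y' :=
    (Subgroup.mem_center_iff.mp (mem_center_of_map_eq_one hσ.cext e1) _).symm
  have := hc.mul_pow 3
  rw [inv_mul_cancel_right, h, h', mul_one, eq_comm] at this
  exact mul_inv_eq_one.1 (eq_one_of_two_three (hσ.sq _ e1) this)

theorem cube_of_three {c : alternatingGroup α} (hc : (c : Perm α).IsThreeCycle) : c ^ 3 = 1 :=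
  Subtype.ext (by simpa [hc.orderOf] using pow_orderOf_eq_one (c : Perm α))

theorem DC.exists_D (hσ : DC e σ) {c : alternatingGroup α} (hc : (c : Perm α).IsThreeCycle) :
    ∃ y ∈ D σ, σ y = c := by
  obtain ⟨y, rfl⟩ := hσ.cext.surj c
  have h1 : σ (y ^ 4) = σ y := by rw [map_pow, pow_succ, cube_of_three hc, one_mul]
  refine ⟨y ^ 4, ⟨h1 ▸ hc, ?_⟩, h1⟩
  rw [← pow_mul, show 4 * 3 = 3 * 2 * 2 from rfl, pow_mul, pow_mul,
    hσ.sq (y ^ 3) (by rw [map_pow, cube_of_three hc]), one_pow]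

theorem D.conj {y : Γ} (hy : y ∈ D σ) (g : Γ) : g * y * g⁻¹ ∈ D σ :=
  ⟨by simpa [IsThreeCycle, cycleType_conj] using hy.1, by rw [conj_pow, hy.2, mul_one, mul_inv_cancel]⟩

theorem D.inv {y : Γ} (hy : y ∈ D σ) : y⁻¹ ∈ D σ :=
  ⟨by simpa using hy.1, by rw [inv_pow, hy.2, inv_one]⟩

theorem DC.exists_closure (hσ : DC e σ) (h : alternatingGroup α) :
    ∃ g ∈ Subgroup.closure (D σ), σ g = h :=
  mem_of_threeCycles ((Subgroup.closure (D σ)).map σ) (fun _ => True) (fun _ hc _ =>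
    (hσ.exists_D hc).imp fun _ hy => ⟨Subgroup.subset_closure hy.1, hy.2⟩) h fun _ _ => trivial

theorem DC.conj (hσ : DC e σ) (h5 : 5 ≤ Fintype.card α) {y y' : Γ} (hy : y ∈ D σ) (hy' : y' ∈ D σ) :
    ∃ g ∈ Subgroup.closure (D σ), g * y * g⁻¹ = y' := by
  obtain ⟨h, hh⟩ := isConj_iff.1 (alternatingGroup.isThreeCycle_isConj (by simpa using h5) hy.1 hy'.1)
  obtain ⟨g, hg, rfl⟩ := hσ.exists_closure h
  exact ⟨g, hg, hσ.eq (D.conj hy g).2 hy'.2 (by simpa using hh)⟩

theorem DC.commute (hσ : DC e σ) {a b : Γ} (h : Perm.Disjoint (σ a : Perm α) (σ b)) : Commute a b :=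
  commute_of_disjoint hσ.cext (N := 2) (by decide) hσ.sq h

theorem DC.id : DC 1 (MonoidHom.id (alternatingGroup α)) :=
  ⟨⟨Function.surjective_id, fun x h => by rw [show x = 1 from h]; exact one_mem _⟩, one_dvd _, fun _ h => by simpa using h⟩

theorem exists_move (s t : Finset α) (h1 : s.card ≤ t.card) (h2 : s.card + 2 ≤ Fintype.card α) :
    ∃ h : alternatingGroup α, ∀ g : Perm α, g.support ⊆ s → ((h : Perm α) * g * (h : Perm α)⁻¹).support ⊆ t := by
  obtain ⟨f, hf⟩ := Function.Embedding.exists_of_card_le_finset (α := s) (s := t) (by simpa using h1)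
  obtain ⟨h, hh, h3⟩ := exists_even_extending_pair (Subtype.val : s → α) f Subtype.val_injective
    f.injective (by simpa using h2)
  refine ⟨⟨h, hh⟩, fun g hg a ha => ?_⟩
  rw [support_conj, Finset.mem_map] at ha
  obtain ⟨b, hb, rfl⟩ := ha
  exact hf ⟨⟨b, hg hb⟩, (h3 ⟨b, hg hb⟩).symm⟩

theorem disjoint_of_support {f g : Perm α} {s : Finset α} (hf : f.support ⊆ s) (hg : g.support ⊆ sᶜ) :
    Perm.Disjoint f g :=
  disjoint_iff_disjoint_support.2 (disjoint_compl_right.mono hf hg)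

theorem DC.exists_disjoint (hσ : DC e σ) (h5 : 5 ≤ Fintype.card α) {x : Γ} (hx : x ∈ D σ) (s : Finset α)
    (h : s.card + 3 ≤ Fintype.card α) : ∃ y ∈ D σ, (σ y : Perm α).support ⊆ sᶜ := by
  obtain ⟨h, hh⟩ := exists_move (σ x : Perm α).support sᶜ
    (by rw [hx.1.card_support, Finset.card_compl]; omega) (by rw [hx.1.card_support]; omega)
  obtain ⟨g, rfl⟩ := hσ.cext.surj h
  exact ⟨_, D.conj hx g, by simpa using hh _ subset_rfl⟩

variable {K : Type*} [Field K] {V : Type*} [AddCommGroup V] [Module K V]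

theorem inj {G : Type*} [Group G] (ρ : G →* End K V) (g : G) : Function.Injective (ρ g) :=
  Function.LeftInverse.injective (g := ρ g⁻¹) fun v => by
    rw [← End.mul_apply, ← map_mul, inv_mul_cancel, map_one, End.one_apply]

/-- stabiliser of a vector -/
def stab {G : Type*} [Group G] (ρ : G →* End K V) (v : V) : Subgroup G where
  carrier := {g | ρ g v = v}
  one_mem' := by simp
  mul_mem' := fun {a b} ha hb => by
    change ρ (a * b) v = v
    rw [map_mul, End.mul_apply, hb, ha]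
  inv_mem' := fun {a} ha => inj ρ a (by
    rw [← End.mul_apply, ← map_mul, mul_inv_cancel, map_one, End.one_apply, ha])

variable (σ) in
/-- common fixed vectors of the three-cycles -/
def fix (ρ : Γ →* End K V) : Submodule K V := ⨅ y ∈ D σ, LinearMap.ker (ρ y - 1)

variable {ρ : Γ →* End K V}

theorem mem_fix {v : V} : v ∈ fix σ ρ ↔ ∀ y ∈ D σ, ρ y v = v := by
  simp [fix, sub_eq_zero]

theorem fix_le (g : Γ) : fix σ ρ ≤ (fix σ ρ).comap (ρ g) := fun v hv => mem_fix.2 fun y hy => by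
  have := mem_fix.1 hv _ (D.conj hy g⁻¹)
  conv_rhs => rw [← this]
  simp only [← End.mul_apply, ← map_mul, inv_inv, ← mul_assoc, mul_inv_cancel, one_mul]

theorem closure_fix {g : Γ} (hg : g ∈ Subgroup.closure (D σ)) {v : V} (hv : v ∈ fix σ ρ) :
    ρ g v = v := (Subgroup.closure_le (stab ρ v)).2 (mem_fix.1 hv) hg

theorem DC.perfect (hσ : DC e σ) (h5 : 5 ≤ Fintype.card α) {v : V}
    (h : ∀ y ∈ D σ, ρ y v - v ∈ fix σ ρ) : v ∈ fix σ ρ := by
  refine mem_fix.2 fun y hy => ?_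
  obtain ⟨g, hg, e⟩ := hσ.conj h5 hy (D.inv hy)
  have h1 := mem_fix.1 (h y hy) y hy
  have h2 := closure_fix hg (h y hy)
  have h3 : ρ y (ρ g (ρ y v)) = ρ g v := by
    simp only [← End.mul_apply, ← map_mul, mul_inv_eq_iff_eq_mul.1 e, mul_inv_cancel_left]
  have h4 : ρ y (ρ y (ρ y v)) = v := by
    simp only [← End.mul_apply, ← map_mul, ← pow_three, hy.2, map_one, End.one_apply]
  have h6 : ∀ g ∈ Subgroup.closure (D σ), ρ g v - v ∈ fix σ ρ := fun g hg => by
    induction hg using Subgroup.closure_induction with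
    | mem x hx => exact h x hx
    | one => simp
    | mul a b ha _ h1 h2 =>
      have := add_mem h1 h2
      rwa [← closure_fix ha h2, map_sub, sub_add_sub_cancel', ← End.mul_apply, ← map_mul] at this
    | inv a ha h1 =>
      have := neg_mem (show ρ a⁻¹ _ ∈ fix σ ρ from fix_le a⁻¹ h1)
      rwa [map_sub, ← End.mul_apply, ← map_mul, inv_mul_cancel, map_one, End.one_apply, neg_sub] at this
  have h7 := mem_fix.1 (h6 g hg) y hy
  have h8 := congrArg (ρ y) h1
  have h9 := congrArg (ρ y) h2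
  simp only [map_sub] at h1 h2 h7 h8 h9
  linear_combination (norm := abel) h4 - h8 - 2 • h1 - h3 + h9 + h7 + h1

theorem DC.ker_big (hσ : DC e σ) (h5 : 5 ≤ Fintype.card α) {g : Γ} (h1 : σ g ≠ 1) (h2 : ρ g = 1) :
    fix σ ρ = ⊤ := by
  have := alternatingGroup.isSimpleGroup (α := α) (by simpa using h5)
  have h3 := ((MonoidHom.normal_ker ρ).map σ hσ.cext.surj).eq_bot_or_eq_top.resolve_left
    fun h => h1 (h.le ⟨g, h2, rfl⟩)
  refine eq_top_iff.2 fun v _ => mem_fix.2 fun y hy => ?_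
  obtain ⟨k, hk, e⟩ := h3.ge (Subgroup.mem_top (σ y))
  have h4 : ρ (k⁻¹ * y) = ρ y := by rw [map_mul, (inv_mem hk : k⁻¹ ∈ ρ.ker), one_mul]
  rw [eq_one_of_two_three (a := ρ y) (by rw [← h4, ← map_pow, hσ.sq _ (by simp [e]), map_one])
    (by rw [← map_pow, hy.2, map_one]), End.one_apply]

theorem exists_cyc {a b c : α} (h1 : a ≠ b) (h2 : a ≠ c) (h3 : b ≠ c) : ∃ t : alternatingGroup α,
    (t : Perm α).IsThreeCycle ∧ t.1 a = b ∧ t.1 b = c ∧ t.1 c = a ∧
      ∀ x, x ≠ a → x ≠ b → x ≠ c → t.1 x = x :=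
  have h := isThreeCycle_swap_mul_swap_same h2 h1 h3.symm
  ⟨⟨_, h.mem_alternatingGroup⟩, h, by simp [swap_apply_def, h1.symm, h3], by simp,
    by simp [swap_apply_def, h2.symm, h3.symm], fun x a b c => by simp [swap_apply_def, a, b, c]⟩

theorem exists_nmem (l : List α) (h : l.length < Fintype.card α) : ∃ x, x ∉ l := by
  obtain ⟨x, hx⟩ := exists_notMem_of_card_lt l.toFinset ((List.toFinset_card_le l).trans_lt h)
  exact ⟨x, by simpa using hx⟩

theorem natural_vec (φ : alternatingGroup α →* End K V) (h8 : 8 ≤ Fintype.card α)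
    (hN : ∀ c d : alternatingGroup α, c.1.IsThreeCycle → d.1.IsThreeCycle → Perm.Disjoint c.1 d.1 →
      (φ c - 1) * (φ d - 1) = 0) (hnt : fix (MonoidHom.id _) φ ≠ ⊤) :
    ∃ w : α → α → V, (∀ x y, x ≠ y → w x y ≠ 0) ∧ (∀ h x y, φ h (w x y) = w (h.1 x) (h.1 y)) ∧
      ∀ x y z, w x y + w y z = w x z := by
  have F1 : ∀ t g : alternatingGroup α, t.1.IsThreeCycle → Perm.Disjoint g.1 t.1 →
      ∀ v, φ g ((φ t - 1) v) = (φ t - 1) v := fun t g ht hd v =>
    mem_of_threeCycles (stab φ ((φ t - 1) v)) (fun x => t.1 x = x) (fun c hc h => sub_eq_zero.1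
      (LinearMap.congr_fun (hN c t hc ht fun x => (em _).imp_right (h x)) v)) g
      fun x hx => (hd x).resolve_left hx
  obtain ⟨a, b, c, l, m, t1, t2, hd, ⟨h1, h2, h3, h4, h5⟩, ⟨h6, h7, -, -, h9⟩, h0⟩ :
      ∃ (a b c l m : α) (t1 t2 : alternatingGroup α), [a, b, c, l, m].Nodup ∧
      (t1.1.IsThreeCycle ∧ t1.1 a = b ∧ t1.1 b = c ∧ t1.1 c = a ∧
        ∀ x, x ≠ a → x ≠ b → x ≠ c → t1.1 x = x) ∧
      (t2.1.IsThreeCycle ∧ t2.1 c = l ∧ t2.1 l = m ∧ t2.1 m = c ∧
        ∀ x, x ≠ c → x ≠ l → x ≠ m → t2.1 x = x) ∧ (φ t2 - 1) * (φ t1 - 1) ≠ 0 := by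
    by_contra! H
    obtain ⟨m, -⟩ := exists_nmem ([] : List α) (by simp; omega)
    obtain ⟨l, hl⟩ := exists_nmem [m] (by simp; omega)
    obtain ⟨c, hc⟩ := exists_nmem [l, m] (by simp; omega)
    obtain ⟨b, hb⟩ := exists_nmem [c, l, m] (by simp; omega)
    obtain ⟨a, ha⟩ := exists_nmem [b, c, l, m] (by simp; omega)
    simp only [List.mem_cons, List.not_mem_nil, or_false, not_or] at hl hc hb ha
    obtain ⟨t1, h1⟩ := exists_cyc ha.1 ha.2.1 hb.1
    obtain ⟨t2, h2⟩ := exists_cyc hc.1 hc.2 hl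
    have e1 := H a b c l m t1 t2 (by simp [*]) h1 h2
    have e2 := H l m c a b t2 t1 (by simp; grind) ⟨h2.1, h2.2.2.1, h2.2.2.2.1, h2.2.1,
      fun x p q r => h2.2.2.2.2 x r p q⟩ ⟨h1.1, h1.2.2.2.1, h1.2.1, h1.2.2.1,
      fun x p q r => h1.2.2.2.2 x q r p⟩
    refine hnt (DC.id.ker_big (by omega) (g := t1 * t2 * (t2 * t1)⁻¹) (fun h => ?_) ?_)
    · have := congrArg (fun g : alternatingGroup α => g.1 c) (mul_inv_eq_one.1 h)
      simp only [Subgroup.coe_mul, Perm.mul_apply] at this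
      rw [h2.2.1, h1.2.2.2.1, h1.2.2.2.2 l, h2.2.2.2.2 a] at this <;> grind
    · have : φ (t1 * t2) = φ (t2 * t1) := by
        rw [map_mul, map_mul]
        linear_combination (norm := noncomm_ring) e2 - e1
      rw [map_mul, this, ← map_mul, mul_inv_cancel, map_one]
  obtain ⟨v0, hv0⟩ := DFunLike.ne_iff.1 h0
  simp only [List.nodup_cons, List.mem_cons, List.not_mem_nil, or_false, not_or] at hd
  set u := (φ t1 - 1) v0 with hu
  have F2 : ∀ g g' : alternatingGroup α, g.1 a = g'.1 a → g.1 b = g'.1 b → g.1 c = g'.1 c →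
      φ g u = φ g' u := fun g g' e1 e2 e3 => by
    have := F1 t1 (g'⁻¹ * g) h1 (fun x => by
      refine (em (t1.1 x = x)).symm.imp_left fun hx => ?_
      change g'.1⁻¹ (g.1 x) = x
      rw [Perm.inv_eq_iff_eq]
      by_contra h
      exact hx (h5 x (fun e => h (e ▸ e1)) (fun e => h (e ▸ e2)) fun e => h (e ▸ e3))) v0
    conv_rhs => rw [hu, ← this, ← End.mul_apply, ← map_mul, mul_inv_cancel_left]
  have F3 : ∀ g : alternatingGroup α, g.1 c = c → g.1 l = l →
      φ g (φ t2 u - u) = φ t2 u - u := fun g e1 e2 =>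
    mem_of_threeCycles (stab φ (φ t2 u - u)) (fun x => x ≠ c ∧ x ≠ l) (fun d hd' h => by
      obtain ⟨n, hn⟩ := exists_nmem ([a, b, c, l] ++ d.1.support.toList)
        (by simp [hd'.card_support]; omega)
      simp only [List.mem_append, List.mem_cons, List.not_mem_nil, or_false, not_or, Finset.mem_toList,
        mem_support, not_not] at hn
      obtain ⟨t3, k1, k2, -, -, k3⟩ := exists_cyc hd.2.2.1.1 (Ne.symm hn.1.2.2.1) (Ne.symm hn.1.2.2.2)
      change φ d _ = _
      rw [F2 t2 t3 (by grind) (by grind) (by grind)]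
      exact F1 t3 d k1 (fun x => by grind) u) g (by grind)
  have F4 : ∀ g g' : alternatingGroup α, g.1 c = g'.1 c → g.1 l = g'.1 l →
      φ g (φ t2 u - u) = φ g' (φ t2 u - u) := fun g g' e1 e2 => by
    have := F3 (g'⁻¹ * g) (by simp [e1]) (by simp [e2])
    conv_rhs => rw [← this, ← End.mul_apply, ← map_mul, mul_inv_cancel_left]
  have E2 : ∀ x y : α, x ≠ y → ∃ g : alternatingGroup α, g.1 c = x ∧ g.1 l = y := fun x y h => by
    obtain ⟨g, hg, e⟩ := exists_even_two (by omega) hd.2.2.1.1 h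
    exact ⟨⟨g, hg⟩, e⟩
  choose! γ hγ using E2
  let w : α → α → V := fun x y => if x = y then 0 else φ (γ x y) (φ t2 u - u)
  have W1 : ∀ g : alternatingGroup α, φ g (φ t2 u - u) = w (g.1 c) (g.1 l) := fun g => by
    have : g.1 c ≠ g.1 l := g.1.injective.ne hd.2.2.1.1
    simp only [w, this, if_false]
    exact F4 _ _ (hγ _ _ this).1.symm (hγ _ _ this).2.symm
  refine ⟨w, fun x y h => ?_, fun h x y => ?_, fun x y z => ?_⟩
  · simp only [w, h, if_false]
    exact fun e => hv0 (inj φ _ (e.trans (map_zero _).symm))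
  · by_cases e : x = y
    · simp [w, e]
    · have := W1 (h * γ x y)
      simp only [Subgroup.coe_mul, Perm.mul_apply, hγ x y e, map_mul, End.mul_apply] at this
      simp only [← this, w, e, if_false]
  · obtain ⟨i, hi⟩ := exists_nmem [x, y, z] (by simp; omega)
    obtain ⟨j, hj⟩ := exists_nmem [i, x, y, z] (by simp; omega)
    simp only [List.mem_cons, List.not_mem_nil, or_false, not_or] at hi hj
    have E3 : ∀ k, k ≠ i → k ≠ j → ∃ g : alternatingGroup α, g.1 a = i ∧ g.1 b = j ∧ g.1 c = k :=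
      fun k e1 e2 => by
        obtain ⟨g, hg, e⟩ := exists_even_three (by omega) hd.1.1 hd.1.2.1 hd.2.1.1 (Ne.symm hj.1)
          e1.symm e2.symm
        exact ⟨⟨g, hg⟩, e⟩
    choose! δ hδ using E3
    have W3 : ∀ x y, x ≠ i → x ≠ j → y ≠ i → y ≠ j → w x y = φ (δ y) u - φ (δ x) u := by
      intro x y e1 e2 e3 e4
      by_cases e : x = y
      · simp [w, e]
      obtain ⟨g, hg, e5⟩ := exists_even_extending_pair ![a, b, c, l] ![i, j, x, y]
        (by intro p q; fin_cases p <;> fin_cases q <;> simp <;> grind)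
        (by intro p q; fin_cases p <;> fin_cases q <;> simp <;> grind) (by simp; omega)
      have p0 : g a = i := e5 0
      have p1 : g b = j := e5 1
      have p2 : g c = x := e5 2
      have p3 : g l = y := e5 3
      have := W1 ⟨g, hg⟩
      rw [p2, p3, map_sub, ← End.mul_apply, ← map_mul] at this
      have q1 := hδ x e1 e2
      have q2 := hδ y e3 e4
      rw [← this, F2 _ (δ y), F2 ⟨g, hg⟩ (δ x)] <;> simp only [Subgroup.coe_mul, Perm.mul_apply] <;> grind
    rw [W3 x y, W3 y z, W3 x z, sub_add_sub_cancel'] <;> grind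

theorem natural [FiniteDimensional K V] (p : ℕ) [CharP K p] (φ : alternatingGroup α →* End K V)
    (h8 : 8 ≤ Fintype.card α)
    (hN : ∀ c d : alternatingGroup α, c.1.IsThreeCycle → d.1.IsThreeCycle → Perm.Disjoint c.1 d.1 →
      (φ c - 1) * (φ d - 1) = 0) (hnt : fix (MonoidHom.id _) φ ≠ ⊤) :
    Fintype.card α - 1 - (if p ∣ Fintype.card α then 1 else 0) ≤ finrank K V := by
  obtain ⟨w, h0, h1, h2⟩ := natural_vec φ h8 hN hnt
  obtain ⟨o, -⟩ := exists_nmem ([] : List α) (by simp; omega)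
  let s : (α → K) →ₗ[K] K := ∑ i, LinearMap.proj i
  have hs : ∀ c, s c = ∑ i, c i := fun c => by simp [s]
  let ψ := Fintype.linearCombination K (w o)
  have h3 : ∀ (h : alternatingGroup α) (c : α → K), s c = 0 ∧ ψ c = 0 →
      s (c ∘ h.1 - c) = 0 ∧ ψ (c ∘ h.1 - c) = 0 := fun h c hc => by
    rw [map_sub, map_sub, hc.1, hc.2, sub_zero, sub_zero, hs]
    refine ⟨(Equiv.sum_comp h.1 c).trans ((hs c).symm.trans hc.1), inj φ h ?_⟩
    have e1 := hc.1
    have e2 := hc.2
    simp only [ψ, hs, Fintype.linearCombination_apply, map_sum, map_smul, h1, map_zero,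
      Function.comp_apply] at e1 e2 ⊢
    rw [Equiv.sum_comp h.1 (fun i => c i • w (h.1 o) i)]
    simp only [fun i => eq_sub_of_add_eq' (h2 o (h.1 o) i), smul_sub, Finset.sum_sub_distrib,
      ← Finset.sum_smul, e1, e2, zero_smul, sub_zero]
  have h4 : ∀ c, s c = 0 ∧ ψ c = 0 → ∀ k n, c k = c n := fun c hc k n => by
    by_contra hkn
    have hkn' : k ≠ n := fun h => hkn (h ▸ rfl)
    obtain ⟨j, hj⟩ := exists_nmem [k, n] (by simp; omega)
    obtain ⟨i, hi⟩ := exists_nmem [j, k, n] (by simp; omega)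
    obtain ⟨l, hl⟩ := exists_nmem [i, j, k, n] (by simp; omega)
    simp only [List.mem_cons, List.not_mem_nil, or_false, not_or] at hi hj hl
    obtain ⟨t, -, a1, a2, a3, a4⟩ := exists_cyc hkn' (Ne.symm hj.1) (Ne.symm hj.2)
    obtain ⟨t', -, b1, b2, b3, b4⟩ := exists_cyc hi.2.1 (Ne.symm hl.1) (Ne.symm hl.2.2.1)
    have := (h3 t' _ (h3 t c hc)).2
    rw [show (c ∘ t.1 - c) ∘ t'.1 - (c ∘ t.1 - c) = (c n - c k) • (Pi.single i 1 - Pi.single k 1) from
      funext fun x => by
        simp only [Pi.sub_apply, Function.comp_apply, Pi.smul_apply, Pi.single_apply, smul_eq_mul]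
        have q1 := a4 i hi.2.1 hi.2.2 hi.1
        have q2 := a4 l hl.2.2.1 hl.2.2.2 hl.2.1
        rcases eq_or_ne x i with rfl | e1
        · simp [b1, a1, q1, hi.2.1]
        rcases eq_or_ne x k with rfl | e2
        · simp [b2, a1, q2, e1]
        rcases eq_or_ne x l with rfl | e3
        · simp [b3, q1, q2, e1, e2]
        simp [b4 x e1 e2 e3, e1, e2], map_smul, map_sub, Fintype.linearCombination_apply_single,
      Fintype.linearCombination_apply_single, ← h2 o k i] at this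
    simp only [one_smul, add_sub_cancel_left, smul_eq_zero, sub_eq_zero] at this
    exact this.elim (fun h => hkn h.symm) (h0 _ _ (Ne.symm hi.2.1))
  have h5 := LinearMap.finrank_range_add_finrank_ker s
  have h6 := (LinearMap.range s).finrank_le
  have h7 := LinearMap.finrank_range_add_finrank_ker (ψ.domRestrict (LinearMap.ker s))
  have h9 := (LinearMap.range (ψ.domRestrict (LinearMap.ker s))).finrank_le
  rw [finrank_self] at h6
  rw [finrank_fintype_fun_eq_card] at h5
  have : finrank K (LinearMap.ker (ψ.domRestrict (LinearMap.ker s))) ≤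
      if p ∣ Fintype.card α then 1 else 0 := by
    split_ifs with hp
    · refine (LinearMap.finrank_le_finrank_of_injective (f := (LinearMap.proj o : (α → K) →ₗ[K] K) ∘ₗ
        (Submodule.subtype _) ∘ₗ (Submodule.subtype _)) ((injective_iff_map_eq_zero _).2
        fun c hc => Subtype.ext (Subtype.ext (funext fun i => ?_)))).trans (finrank_self K).le
      exact (h4 _ ⟨c.1.2, c.2⟩ i o).trans hc
    · rw [Nat.le_zero, Submodule.finrank_eq_zero, eq_bot_iff]
      refine fun c hc => Subtype.ext (funext fun i => ?_)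
      have e := (hs c).symm.trans c.2
      rw [Finset.sum_congr rfl fun j _ => h4 _ ⟨c.2, hc⟩ j i, Finset.sum_const, nsmul_eq_mul] at e
      exact (mul_eq_zero.1 e).resolve_left fun h => hp ((CharP.cast_eq_zero_iff K p _).1 h)
  omega

end CL.Wag
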